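import Cfsg.Agent.H9.AH6
import Cfsg.Agent.H4.AL
import Cfsg.Agent.H6.AV3
import Cfsg.Agent.H2.AS5
import Cfsg.Agent.H2.AO3
import Cfsg.Agent.H6.AO4
import Cfsg.Agent.H7.AG7
import Cfsg.Agent.H8.AF4
import Cfsg.Agent.H2.AX4
import Cfsg.Agent.H6.AW1
import Cfsg.Agent.L0.AR.A
import Cfsg.Agent.L0.AR.B
import Cfsg.Agent.H6.AY1
import Cfsg.Agent.H8.AY1

/-! Assembly of the families. -/

set_option autoImplicit false

namespace Cfsg.Agent.H9.AH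

open Cfsg.Lie

theorem two_or (F : Type) [Field F] [Fintype F] : Fintype.card F = 2 ∨ 3 ≤ Fintype.card F := by
  have := Fintype.one_lt_card (α := F)
  omega

theorem good_lie {G : Type*} [Group G] (p : ℕ) [Fact p.Prime]
    (h7 : ∀ (F : Type) [Field F] [Fintype F] [CharP F p], Fintype.card F = 2 → Good p (chevE7.group F))
    (hG : IsLieTypeChar p G) : Good p G := by
  rcases hG with h | ⟨F, _, _, _, m, h1, -, ⟨e⟩⟩ | h | ⟨F, _, _, _, m, h1, h2, ⟨e⟩⟩ | ⟨F, _, _, _, m, h1, ⟨e⟩⟩ |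
    ⟨F, _, _, _, m, a, b, h1, h2, ⟨e⟩⟩ | ⟨F, _, _, _, ⟨h1, ⟨e⟩⟩ | ⟨⟨e⟩⟩ | ⟨⟨e⟩⟩ | ⟨⟨e⟩⟩ | ⟨⟨e⟩⟩⟩ |
    ⟨K, _, _, _, q, hq, ⟨h1, ⟨e⟩⟩ | ⟨h1, ⟨e⟩⟩⟩ | ⟨-, h⟩ | ⟨-, h⟩ | ⟨-, h⟩
  · exact H4.AL.good_of_isPSLChar h
  · exact (H2.AS.good_psp p m h1).congr e
  · exact H6.AV.good_of_isPSUChar h
  · exact (H6.AO.good_odd p m h1 h2).congr e
  · exact ((two_or F).elim (H2.AO.good_plus_two p m h1) (H6.AO.good_plus p m h1)).congr e
  · exact ((two_or F).elim (H2.AO.good_minus_two p m a b h1 h2) (H6.AO.good_minus p m a b h1 h2)).congr e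
  · exact (H7.AD.good_G2 p h1).congr e
  · exact ((two_or F).elim (H2.AX.good_F4_two p) (H8.AF.good_F4 p)).congr e
  · exact (((two_or F).elim H6.AY.noCP_E6_two noCP_E6).good p).congr e
  · exact ((two_or F).elim (h7 F) fun k => (noCP_E7 k).good p).congr e
  · exact (((two_or F).elim H6.AY.noCP_E8_two noCP_E8).good p).congr e
  · rcases hq.two_le.eq_or_lt with rfl | h2
    · exact ((H8.AY.noCP_2E6_two h1).good p).congr e
    · exact ((noCP_2E6 h1 h2).good p).congr e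
  · exact (H7.AD.good_3D4_all p h1).congr e
  · obtain ⟨F, _, _, m, hm, hF, e⟩ := id h
    have := H2.SzF.of_fintype hm hF
    exact (L0.AR.noCP_isoSz (F := F) (m := m) h).good p
  · exact (H6.AW.noCP_iso2F4 h).good p
  · obtain ⟨F, _, _, m, hm, hF, e⟩ := id h
    have := H2.ReeF.of_fintype hm hF
    exact (L0.AR.noCP_isoRee (K := F) (m := m) h).good p

end Cfsg.Agent.H9.AH
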