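import Cfsg.Agent.H9.CodeRA

/-! Two-stage certificates: a large transitive action and a smaller action of the point stabiliser. -/

set_option autoImplicit false

namespace Cfsg.Agent.H9

open Cfsg.Agent.L0 (ev ev_nil ev_cons ev_append ev_mem nthW nthW_mem nthW_eq map_ev ev_congr)

/-- the point `c` is the root or has a neighbour of smaller depth; `inf c` holds depth and letter -/
noncomputable def transB (T : ℕ → ℕ → ℕ) (β k : ℕ) (inf : ℕ → ℕ) (sh m c : ℕ) : Bool :=
  Bool.rec (motive := fun _ => Bool)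
    (Nat.rec (motive := fun _ => Bool) false (fun e _ =>
      Bool.rec (motive := fun _ => Bool)
        (Bool.rec (motive := fun _ => Bool) true false
          (Nat.ble (Nat.shiftRight e sh) (Nat.shiftRight (inf (T c (Nat.land e m))) sh)))
        false (Nat.ble k (Nat.land e m))) (Nat.succ (inf c)))
    true (Nat.beq c β)

/-- letters from `k` on are the words of the list -/
noncomputable def T2 (T : ℕ → ℕ → ℕ) (k : ℕ) (Wd : List (List ℕ)) (c s : ℕ) : ℕ :=
  Bool.rec (motive := fun _ => ℕ) (T c s) (tr T (nthW Wd (Nat.sub s k)) c) (Nat.ble k s)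

/-- the letter `s'` undoes the letter `s` at `c` -/
def invC (T : ℕ → ℕ → ℕ) (s s' c : ℕ) : Bool := Nat.beq (T (T c s) s') c

/-- two tables agree at `c` on the letters below `k` -/
noncomputable def eqTB (T0 T : ℕ → ℕ → ℕ) (k c : ℕ) : Bool := allLt k fun s => Nat.beq (T0 c s) (T c s)

/-- check of the point `c` of the smaller action -/
noncomputable def subB (T : ℕ → ℕ → ℕ) (u : ℕ → ℕ) (T' : ℕ → ℕ → ℕ) (Wh : List (List ℕ))
    (N M c : ℕ) : Bool :=
  Nat.rec (motive := fun _ => Bool) false (fun d _ =>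
    Nat.blt d N && (Nat.beq c 0 || Nat.blt (u (Nat.pred c)) d) &&
    List.rec (motive := fun _ => ℕ → Bool) (fun _ => true)
      (fun w _ ih s => Nat.rec (motive := fun _ => Bool) false (fun e _ =>
        Nat.blt e M && Nat.beq (u e) (tr T w d) && ih (Nat.succ s)) (Nat.succ (T' c s))) Wh 0)
    (Nat.succ (u c))

/-- `c` is moved or listed -/
noncomputable def fixB (X : ℕ → ℕ) (F : List ℕ) (c : ℕ) : Bool :=
  Bool.rec (motive := fun _ => Bool) true (anyL F fun d => Nat.beq d c) (Nat.beq (X c) c)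

/-- every letter of the list is a word in the letters obtained so far -/
noncomputable def genChk (T : ℕ → ℕ → ℕ) (k : ℕ) (B : List ℕ) (L : List (ℕ × List ℕ)) : ℕ → Bool :=
  List.rec (motive := fun _ => ℕ → Bool) (fun m => allLt k fun s => tb m s)
    (fun p _ ih m => Nat.blt p.1 k && ltB k p.2 && (allL p.2 fun y => tb m y) &&
      RA.agree B (tr T [p.1]) (tr T p.2) && ih (Nat.lor m (Nat.pow 2 p.1))) L

namespace RA

variable {G : Type*} [Group G] {N : ℕ} {A : RA G N} {g : ℕ → G} {k : ℕ} {T : ℕ → ℕ → ℕ}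

theorem trans_of (hT : A.Tab g k T) {β : ℕ} {inf : ℕ → ℕ} {sh m : ℕ}
    (h : ∀ c < N, transB T β k inf sh m c = true) :
    ∀ c < N, ∃ w : List ℕ, (∀ s ∈ w, s < k) ∧ A.act c (ev g w) = β := by
  suffices H : ∀ D, ∀ c < N, Nat.shiftRight (inf c) sh = D →
      ∃ w : List ℕ, (∀ s ∈ w, s < k) ∧ A.act c (ev g w) = β from fun c hc => H _ c hc rfl
  intro D
  induction D using Nat.strong_induction_on with
  | _ D ih =>
    intro c hc hD
    have h1 := h c hc
    have e : transB T β k inf sh m c = Bool.rec (motive := fun _ => Bool)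
      (Bool.rec (motive := fun _ => Bool) (Bool.rec (motive := fun _ => Bool) true false
          (Nat.ble (Nat.shiftRight (inf c) sh) (Nat.shiftRight (inf (T c (Nat.land (inf c) m))) sh)))
        false (Nat.ble k (Nat.land (inf c) m))) true (Nat.beq c β) := rfl
    rw [e] at h1
    cases h2 : Nat.beq c β with
    | true => exact ⟨[], by simp, by rw [ev_nil, A.one hc]; exact Nat.eq_of_beq_eq_true h2⟩
    | false =>
      rw [h2] at h1
      obtain ⟨h3, h4⟩ := L0.brec_false h1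
      have h5 := L0.CT.not_ble h3
      have h6 : Nat.shiftRight (inf (T c (Nat.land (inf c) m))) sh < D := by
        by_contra h7
        rw [hD, Nat.ble_eq_true_of_le (not_lt.mp h7)] at h4
        exact absurd h4 (by simp)
      have h8 := hT _ h5 c hc
      obtain ⟨w, h9, h10⟩ := ih _ h6 _ (h8 ▸ A.lt hc _) rfl
      exact ⟨_ :: w, lt_cons h5 h9, by rw [ev_cons, A.mul hc, ← h8, h10]⟩

theorem card_eq_mul_fix [Finite G] {β : ℕ} (hβ : β < N) (h : ∀ c < N, ∃ x, A.act c x = β) :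
    Nat.card G = N * Nat.card (A.Fix [β]) := by
  have := A.card_eq_orbit_mul ⊤ (A.Fix [β]) hβ fun x => by rw [A.mem_Fix_cons hβ, Fix_nil]
  rw [Subgroup.card_top] at this
  rw [this]
  congr 1
  refine Eq.trans ?_ (Set.ncard_Iio_nat N)
  congr 1
  ext c
  constructor
  · rintro ⟨x, -, rfl⟩; exact A.lt hβ x
  · intro hc
    obtain ⟨x, hx⟩ := h c hc
    exact ⟨x⁻¹, trivial, by rw [← hx, act_inv hc]⟩

theorem Tab.derive2 (hT : A.Tab g k T) {Wd : List (List ℕ)} (hW : allL Wd (ltB k) = true) (k' : ℕ) :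
    A.Tab (fun s => if s < k then g s else ev g (nthW Wd (s - k))) k' (T2 T k Wd) := by
  intro s _ c hc
  unfold T2
  beta_reduce
  by_cases hs : s < k
  · rw [L0.CT.ble_false hs, if_pos hs]; exact hT s hs c hc
  · rw [Nat.ble_eq_true_of_le (not_lt.mp hs), if_neg hs]
    refine hT.tr (w := nthW Wd (s - k)) (fun y hy => ?_) c hc
    rcases nthW_mem Wd (s - k) with h1 | h1
    · rw [h1] at hy; simp at hy
    · exact ltB_iff.mp ((allL_iff _ _).mp hW _ h1) y hy

theorem Tab.of_eq {T0 : ℕ → ℕ → ℕ} (hT : A.Tab g k T0) (h : ∀ c < N, eqTB T0 T k c = true) :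
    A.Tab g k T := fun s hs c hc => by
  rw [← Nat.eq_of_beq_eq_true ((allLt_iff _ _).mp (h c hc) s hs), hT s hs c hc]

theorem Tab.addInv (hT : A.Tab g k T) {s : ℕ} (hs : s < k) (h : ∀ c < N, invC T s k c = true) :
    ∃ g' : ℕ → G, A.Tab g' (k + 1) T ∧ ∀ s < k, g' s = g s := by
  refine ⟨Function.update g k (g s)⁻¹, fun y hy c hc => ?_,
    fun y hy => Function.update_of_ne hy.ne _ _⟩
  rcases Nat.lt_succ_iff_lt_or_eq.mp hy with h1 | rfl
  · rw [Function.update_of_ne h1.ne]; exact hT y h1 c hc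
  · rw [Function.update_self]
    have h2 := Nat.eq_of_beq_eq_true (h _ (A.lt hc (g s)⁻¹))
    have h3 := act_inv (A := A) hc (g s)⁻¹
    rw [inv_inv] at h3
    rwa [hT s hs _ (A.lt hc _), h3] at h2

theorem subB_spec {u : ℕ → ℕ} {T' : ℕ → ℕ → ℕ} {Wh : List (List ℕ)} {M c : ℕ}
    (h : subB T u T' Wh N M c = true) : (u c < N ∧ (c = 0 ∨ u (c - 1) < u c)) ∧
      ∀ s < Wh.length, T' c s < M ∧ u (T' c s) = H9.tr T (nthW Wh s) (u c) := by
  have h' : (Nat.blt (u c) N && (Nat.beq c 0 || Nat.blt (u (c - 1)) (u c)) &&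
    List.rec (motive := fun _ => ℕ → Bool) (fun _ => true)
      (fun w _ ih s => Nat.blt (T' c s) M && Nat.beq (u (T' c s)) (H9.tr T w (u c)) &&
        ih (Nat.succ s)) Wh 0) = true := h
  simp only [Bool.and_eq_true, Nat.blt_eq, Bool.or_eq_true, Nat.beq_eq] at h'
  refine ⟨h'.1, ?_⟩
  have key : ∀ (W : List (List ℕ)) (s0 : ℕ), List.rec (motive := fun _ => ℕ → Bool) (fun _ => true)
      (fun w _ ih s => Nat.blt (T' c s) M && Nat.beq (u (T' c s)) (H9.tr T w (u c)) &&
        ih (Nat.succ s)) W s0 = true → ∀ s < W.length,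
      T' c (s0 + s) < M ∧ u (T' c (s0 + s)) = H9.tr T (nthW W s) (u c) := by
    intro W
    induction W with
    | nil => intro _ _ s hs; simp at hs
    | cons w W ih =>
      intro s0 h s hs
      simp only [Bool.and_eq_true, Nat.blt_eq, Nat.beq_eq] at h
      cases s with
      | zero => exact h.1
      | succ s =>
        have := ih _ h.2 s (by simpa using hs)
        rwa [Nat.succ_add] at this
  intro s hs
  simpa using key Wh 0 h'.2 s hs

/-- the words fix the point `β` -/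
noncomputable def whB (T : ℕ → ℕ → ℕ) (k β : ℕ) (Wh : List (List ℕ)) : Bool :=
  allL Wh fun w => ltB k w && Nat.beq (H9.tr T w β) β

theorem whB_spec (hT : A.Tab g k T) {β : ℕ} {Wh : List (List ℕ)} (hW : whB T k β Wh = true) (s : ℕ) :
    (∀ y ∈ nthW Wh s, y < k) ∧ ev g (nthW Wh s) ∈ A.Fix [β] := by
  rcases nthW_mem Wh s with h1 | h1
  · rw [h1]; simp
  · have := (allL_iff _ _).mp hW _ h1
    simp only [Bool.and_eq_true, ltB_iff, Nat.beq_eq] at this
    refine ⟨this.1, fun b hb hN => ?_⟩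
    rw [List.mem_singleton.mp hb] at hN ⊢
    rw [← hT.tr this.1 _ hN, this.2]

theorem exists_sub (hT : A.Tab g k T) {β : ℕ} {Wh : List (List ℕ)} (hW : whB T k β Wh = true)
    {u : ℕ → ℕ} {T' : ℕ → ℕ → ℕ} {M : ℕ} (h : ∀ c < M, subB T u T' Wh N M c = true)
    (hfull : ∀ (K : Subgroup (A.Fix [β])) (A' : RA K M) (g0 : ℕ → K),
      A'.Tab g0 Wh.length T' → K = ⊤) :
    ∃ (A' : RA (A.Fix [β]) M) (h : ℕ → A.Fix [β]), A'.Tab h Wh.length T' ∧
      (∀ s, (h s : G) = ev g (nthW Wh s)) ∧ (∀ c < M, u c < N) ∧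
      ∀ x : A.Fix [β], ∀ c < M, u (A'.act c x) = A.act (u c) x := by
  have hu : ∀ c < M, u c < N := fun c hc => (subB_spec (h c hc)).1.1
  obtain ⟨A', h1, h2⟩ := exists_ra_hom (N := M) (k := Wh.length) (T := T')
    (fun (c : ℕ) (x : A.Fix [β]) => if c < N then A.act c x else c)
    (fun c => by split_ifs with hc; exacts [A.one hc, rfl])
    (fun c a b => by
      by_cases hc : c < N
      · simp only [if_pos hc, if_pos (A.lt hc _)]; exact A.mul hc _ _
      · simp only [if_neg hc]) (MonoidHom.id _) u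
    (inj_of_incr fun c hc => (subB_spec (h c hc)).1.2)
    (fun x hx c hc => by
      have : x = 1 := hx
      rw [this, if_pos (hu c hc)]; exact A.one (hu c hc))
    (fun s => ⟨_, (whB_spec hT hW s).2⟩)
    (fun s hs c hc => ⟨((subB_spec (h c hc)).2 s hs).1, by
      rw [if_pos (hu c hc), ((subB_spec (h c hc)).2 s hs).2, hT.tr (whB_spec hT hW s).1 _ (hu c hc)]⟩)
    hfull
  exact ⟨A', _, h1, fun _ => rfl, hu, fun x c hc => by
    have := h2 x c hc
    rwa [if_pos (hu c hc)] at this⟩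

theorem fixB_spec {x : G} {X : ℕ → ℕ} (hX : A.Fn x X) {F : List ℕ} {c : ℕ} (hc : c < N)
    (h : fixB X F c = true) (hx : A.act c x = c) : c ∈ F := by
  unfold fixB at h
  rw [hX c hc, hx, Nat.beq_refl] at h
  obtain ⟨d, hd, e⟩ := (anyL_iff _ _).mp h
  exact Nat.eq_of_beq_eq_true e ▸ hd

theorem genChk_spec (hT : A.Tab g k T) {B : List ℕ} (hB : A.IsBase B) {S : Subgroup G}
    {L : List (ℕ × List ℕ)} {m : ℕ} (h : genChk T k B L m = true)
    (hm : ∀ s, m.testBit s = true → g s ∈ S) : ∀ s < k, g s ∈ S := by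
  induction L generalizing m with
  | nil => intro s hs; exact hm s (by rw [← tb_eq]; exact (allLt_iff _ _).mp h s hs)
  | cons p L ih =>
    have h' : (Nat.blt p.1 k && ltB k p.2 && (allL p.2 fun y => tb m y) &&
      RA.agree B (H9.tr T [p.1]) (H9.tr T p.2) && genChk T k B L (m ||| 2 ^ p.1)) = true := h
    simp only [Bool.and_eq_true, Nat.blt_eq, ltB_iff, allL_iff, tb_eq] at h'
    obtain ⟨⟨⟨⟨h1, h2⟩, h3⟩, h4⟩, h5⟩ := h'
    refine ih h5 fun s hs => ?_
    rw [Nat.testBit_or, Bool.or_eq_true, Nat.testBit_two_pow, decide_eq_true_eq] at hs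
    rcases hs with hs | rfl
    · exact hm s hs
    · have := hB.eq (hT.tr (lt_one h1)) (hT.tr h2) h4
      rw [L0.ev_singleton] at this
      rw [this]
      exact ev_mem g _ fun y hy => hm y (h3 y hy)

/-- the facts proved in the point stabiliser -/
structure HOK (A : RA G N) (g : ℕ → G) (k0 : ℕ) (B : List ℕ) (ia : ℕ) (x : List ℕ)
    (ws : List (List ℕ)) (ys : List ℕ) (n : ℕ) : Prop where
  base : A.IsBase B
  card : Nat.card G = n
  top : ∀ S : Subgroup G, (∀ s < k0, g s ∈ S) → S = ⊤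
  ca : ∀ h, g ia * h = h * g ia → h ∈ Subgroup.zpowers (g ia)
  cb : ∀ h, ev g x * h = h * ev g x → h ∈ Subgroup.closure {z | ∃ w ∈ ws, z = ev g w}
  nc : ∀ y ∈ ys, ∀ h, ev g x * h ≠ h * g y

theorem hOK_of [Finite G] {g0 : ℕ → G} {k0 : ℕ} (hT0 : A.Tab g0 k0 T) {Ws : List (List ℕ)}
    (hW : slpW Ws k0 = true) (hslp : ∀ c < N, slpB T Ws k0 c = true) (hk : k0 + Ws.length = k)
    {La Lb : SLv} {Las Lbs : List SLv} {n : ℕ} (hle : Nat.card G ≤ n)
    (hca : ChainChk T N k ((La :: Las).map SLv.toLv) [])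
    (hna : chainOrd ((La :: Las).map SLv.toLv) = n)
    (hcb : ChainChk T N k ((Lb :: Lbs).map SLv.toLv) [])
    (hnb : chainOrd ((Lb :: Lbs).map SLv.toLv) = n)
    {B : List ℕ} (hB : ((La :: Las).map SLv.toLv).map Lv.β = B) {ia : ℕ} {x ys : List ℕ}
    {iv : ℕ → List ℕ}
    (hs : (invB T k B iv && Nat.blt ia k0 && ltB k0 x && ltB k0 ys &&
      allL (linkWs (Lb :: Lbs)) (ltB k0) &&
      statSB T k B [ia] (La :: Las) [] && statSB T k B x (Lb :: Lbs) [] &&
      linkA ia (La :: Las)) = true)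
    (ha0 : ∀ i < La.n, scanB T iv (H9.tr T [ia]) La Las [] i = true)
    (ha1 : centB T iv (H9.tr T [ia]) Las (genP (H9.tr T [ia]) [] La.xs La.β) = true)
    (hb0 : ∀ i < Lb.n, scanB T iv (H9.tr T x) Lb Lbs [] i = true)
    (hb1 : centB T iv (H9.tr T x) Lbs (genP (H9.tr T x) [] Lb.xs Lb.β) = true)
    (hnc : (allL ys fun y => emptyB T iv (Lb :: Lbs) (H9.tr T [y]) []) = true) :
    HOK A g0 k0 B ia x (linkWs (Lb :: Lbs)) ys n := by
  obtain ⟨g, hT, e0, e1⟩ := hT0.extend hW hslp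
  rw [hk] at hT e1
  have hk0 : k0 ≤ k := by omega
  simp only [Bool.and_eq_true, Nat.blt_eq, ltB_iff, allL_iff] at hs
  obtain ⟨⟨⟨⟨⟨⟨⟨s3, s4⟩, s5⟩, s1⟩, s2⟩, s6⟩, s7⟩, s8⟩ := hs
  obtain ⟨c1, c2⟩ := card_eq_of_chain hT hca (hna ▸ hle)
  obtain ⟨-, c3⟩ := card_eq_of_chain hT hcb (hnb ▸ hle)
  have hb : A.IsBase B := hB ▸ c2.isBase
  have hi := inv_of hT hb s3
  have ew : ∀ w : List ℕ, (∀ s ∈ w, s < k0) → ev g w = ev g0 w := fun w hw =>
    ev_congr fun y hy => e0 y (hw y hy)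
  have s5' : ∀ s ∈ x, s < k := fun s hs => (s5 s hs).trans_le hk0
  refine ⟨hb, c1.trans hna, fun S hS => ?_, fun z hz => ?_, fun z hz => ?_, fun y hy z hz => ?_⟩
  · have key : ∀ s < k, g s ∈ S := by
      intro s
      induction s using Nat.strong_induction_on with
      | _ s ih =>
        intro hs
        by_cases h1 : s < k0
        · rw [e0 s h1]; exact hS s h1
        · obtain ⟨h3, h4⟩ := e1 s (by omega) hs
          rw [h4]
          exact ev_mem g _ fun y hy => ih y (h3 y hy) ((h3 y hy).trans hs)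
    rw [eq_top_iff]
    intro z _
    exact c2.mem_closure hT (fun _ _ s hs _ => key s hs) (by rw [Fix_nil]; trivial)
  · rw [← e0 ia s4] at hz ⊢
    refine cent_le hT hb hi (ltB_iff.mpr (lt_one (s4.trans_le hk0))) c2 s6 ?_ ha0 ha1 z
      (by simpa using hz)
    have key : ∀ w ∈ linkWs (La :: Las), ev g w ∈ Subgroup.zpowers (g ia) := by
      intro w hw
      refine ev_mem g _ fun y hy => ?_
      rw [Nat.eq_of_beq_eq_true ((allL_iff _ _).mp ((allL_iff _ _).mp s8 w hw) y hy)]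
      exact Subgroup.mem_zpowers _
    have key2 : Subgroup.closure {x | ∃ w ∈ linkWs (La :: Las), x = ev g w} ≤
        Subgroup.zpowers (g ia) := by
      rw [Subgroup.closure_le]
      rintro _ ⟨w, hw, rfl⟩
      exact key w hw
    exact fun L hL => ⟨key2 (linkWs_mem _ L hL).1, fun q hq => key2 ((linkWs_mem _ L hL).2 q hq)⟩
  · rw [← ew x s5] at hz
    refine Subgroup.closure_mono ?_
      (cent_le hT hb hi (ltB_iff.mpr s5') c3 s7 (linkWs_mem _) hb0 hb1 z hz)
    rintro _ ⟨w, hw, rfl⟩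
    exact ⟨w, hw, ew w (s2 w hw)⟩
  · rw [← ew x s5, ← e0 y (s1 y hy)] at hz
    refine emptyB_spec hT hi (hT.tr s5') c3 (statSB_xs s7) _ _ []
      (hT.tr (lt_one ((s1 y hy).trans_le hk0))) ((allL_iff _ _).mp hnc y hy) z
      (by rw [Fix_nil]; trivial) (by simpa using hz) (fun p hp => by simp at hp)

/-- the static checks of the large stage -/
noncomputable def bigB (T : ℕ → ℕ → ℕ) (N k β : ℕ) (B : List ℕ) (D : OD) (Wh : List (List ℕ))
    (ia ib : ℕ) (ws : List (List ℕ)) (ys : List ℕ) (lk : List (ℕ × List ℕ))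
    (dead : List (ℕ × List ℕ × ℕ)) (gl : List (ℕ × List ℕ)) : Bool :=
  Nat.blt β N && Nat.blt D.ia k && Nat.blt D.ib k &&
  decide (nthW Wh ia = [D.ia]) && decide (nthW Wh ib = [D.ib]) &&
  (allL lk fun q => ltB k q.2 && Nat.beq (H9.tr T q.2 q.1) β &&
    agree B (H9.tr T (List.replicate D.i D.ib ++ q.2)) (H9.tr T (q.2 ++ List.replicate D.i D.ib))) &&
  (allL dead fun q => ltB k q.2.1 && Nat.beq (H9.tr T q.2.1 q.1) β && decide (q.2.2 ∈ ys) &&
    agree B (H9.tr T (List.replicate D.i D.ib ++ q.2.1)) (H9.tr T (q.2.1 ++ nthW Wh q.2.2))) &&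
  listB T N k B D.CL (ws.map (fun w => w.flatMap (nthW Wh)) ++ lk.map Prod.snd) &&
  genChk T k B gl (2 ^ D.ia ||| 2 ^ D.ib ||| 2 ^ D.it)

end RA

universe u

open RA in
theorem bigOK_of {G : Type u} [Group G] [Finite G] {N : ℕ} {A : RA G N} {g : ℕ → G} {k : ℕ}
    {T : ℕ → ℕ → ℕ} (hT : A.Tab g k T) {n' β : ℕ} (hle : Nat.card G ≤ N * n')
    {inf : ℕ → ℕ} {sh m : ℕ} (htr : ∀ c < N, transB T β k inf sh m c = true)
    {Wh : List (List ℕ)} (hW : whB T k β Wh = true) {u : ℕ → ℕ} {T' : ℕ → ℕ → ℕ} {M : ℕ}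
    (hsub : ∀ c < M, subB T u T' Wh N M c = true) {B' : List ℕ} {D : OD} {ia ib : ℕ}
    {ws : List (List ℕ)} {ys : List ℕ}
    (hH : ∀ (K : Type u) [Group K] [Finite K] (A' : RA K M) (g0 : ℕ → K), A'.Tab g0 Wh.length T' →
      Nat.card K ≤ n' → HOK A' g0 Wh.length B' ia (List.replicate D.i ib) ws ys n')
    {B : List ℕ} (hB : β :: B'.map u = B) {lk : List (ℕ × List ℕ)} {dead : List (ℕ × List ℕ × ℕ)}
    {gl : List (ℕ × List ℕ)} (hs : bigB T N k β B D Wh ia ib ws ys lk dead gl = true)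
    (hfa : ∀ c < N, fixB (tr T [D.ia]) [β] c = true)
    (hfb : ∀ c < N, fixB (tr T (List.replicate D.i D.ib))
      (β :: (lk.map Prod.fst ++ dead.map Prod.fst)) c = true) :
    OutOK A g k T B D (N * n') := by
  simp only [bigB, Bool.and_eq_true, Nat.blt_eq, decide_eq_true_eq, allL_iff, ltB_iff,
    Nat.beq_eq] at hs
  obtain ⟨⟨⟨⟨⟨⟨⟨⟨hβ, s1⟩, s2⟩, s3⟩, s4⟩, s5⟩, s6⟩, s7⟩, s8⟩ := hs
  have ht := trans_of hT htr
  have hc := card_eq_mul_fix hβ fun c hc => (ht c hc).elim fun w hw => ⟨_, hw.2⟩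
  have hle' : Nat.card (A.Fix [β]) ≤ n' := Nat.le_of_mul_le_mul_left (hc ▸ hle) (by omega)
  obtain ⟨A', h, h1, h2, h3, h4⟩ := exists_sub hT hW hsub fun K A' g0 hT' =>
    eq_top_of_card hle' fun hK => (hH K A' g0 hT' hK).card
  have H := hH _ A' h h1 hle'
  have mfix : ∀ x, x ∈ A.Fix [β] ↔ A.act β x = β := fun x => by
    rw [A.mem_Fix_cons hβ, Fix_nil]; simp
  have hb : A.IsBase B := by
    subst hB
    refine ⟨fun b hb => ?_, fun x hx => ?_⟩
    · rcases List.mem_cons.mp hb with rfl | hb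
      · exact hβ
      · obtain ⟨c, hc, rfl⟩ := List.mem_map.mp hb
        exact h3 c (H.base.1 c hc)
    · have hx1 : x ∈ A.Fix [β] := (mfix x).mpr (hx β List.mem_cons_self)
      have := H.base.2 ⟨x, hx1⟩ fun c hc => inj_of_incr (fun c hc => (subB_spec (hsub c hc)).1.2) _
        (A'.lt (H.base.1 c hc) _) _ (H.base.1 c hc) (by
          rw [h4 _ c (H.base.1 c hc)]
          exact hx _ (List.mem_cons_of_mem _ (List.mem_map_of_mem hc)))
      exact congrArg Subtype.val this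
  have ea : (h ia : G) = g D.ia := by rw [h2, s3, L0.ev_singleton]
  have eb : (h ib : G) = g D.ib := by rw [h2, s4, L0.ev_singleton]
  have ev' : ∀ w, ((ev h w : A.Fix [β]) : G) = ev g (w.flatMap (nthW Wh)) := fun w => by
    rw [L0.ev_flatMap]
    exact (map_ev h (A.Fix [β]).subtype w).trans (ev_congr fun y _ => h2 y)
  have ex : ((ev h (List.replicate D.i ib) : A.Fix [β]) : G) = g D.ib ^ D.i := by
    rw [ev_rep, Subgroup.coe_pow, eb]
  have hfix : ∀ {x z : G}, A.act β x = β → x * z = z * x → A.act (A.act β z) x = A.act β z := by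
    intro x z h5 h6
    rw [← A.mul hβ, ← h6, A.mul hβ, h5]
  refine ⟨hT, hb, by rw [hc, H.card], ?_, fun z hz => ?_, fun z hz => ?_⟩
  · have key := genChk_spec hT hb (S := Subgroup.closure {g D.ia, g D.ib, g D.it}) s8 (by
      intro s hs
      simp only [Nat.testBit_or, Bool.or_eq_true, Nat.testBit_two_pow, decide_eq_true_eq] at hs
      rcases hs with (rfl | rfl) | rfl <;> exact Subgroup.subset_closure (by simp))
    have h5 := H.top ((Subgroup.closure {g D.ia, g D.ib, g D.it}).comap (A.Fix [β]).subtype)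
      fun s _ => by
        rw [Subgroup.mem_comap, Subgroup.subtype_apply, h2]
        exact ev_mem g _ fun y hy => key y ((whB_spec hT hW s).1 y hy)
    rw [eq_top_iff]
    intro x _
    obtain ⟨w, h6, h7⟩ := ht _ (A.lt hβ x)
    have h8 : x * ev g w ∈ Subgroup.closure {g D.ia, g D.ib, g D.it} := by
      have : (⟨x * ev g w, (mfix _).mpr (by rw [A.mul hβ, h7])⟩ : A.Fix [β]) ∈
        (Subgroup.closure {g D.ia, g D.ib, g D.it}).comap (A.Fix [β]).subtype := by
        rw [h5]; trivial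
      exact this
    simpa using mul_mem h8 (inv_mem (ev_mem g _ fun y hy => key y (h6 y hy)))
  · have h5 : A.act β (g D.ia) = β := by rw [← ea]; exact (mfix _).mp (h ia).2
    have h6 := fixB_spec (hT.tr (lt_one s1)) (A.lt hβ z) (hfa _ (A.lt hβ z))
      (by rw [L0.ev_singleton]; exact hfix h5 hz)
    obtain ⟨j, hj⟩ := H.ca ⟨z, (mfix z).mpr (List.mem_singleton.mp h6)⟩
      (Subtype.ext (by simpa [ea] using hz))
    exact ⟨j, by simpa [ea] using congrArg Subtype.val hj⟩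
  · apply listB_spec hT hb s7
    have h5 : A.act β (g D.ib ^ D.i) = β := by rw [← ex]; exact (mfix _).mp (Subtype.prop _)
    have hin : ∀ z, A.act β z = β → g D.ib ^ D.i * z = z * g D.ib ^ D.i → z ∈ Subgroup.closure
        {x | ∃ w ∈ ws.map (fun w => w.flatMap (nthW Wh)) ++ lk.map Prod.snd, x = ev g w} := by
      intro z h6 h7
      have h8 := H.cb ⟨z, (mfix z).mpr h6⟩ (Subtype.ext (by simpa only [Subgroup.coe_mul, ex] using h7))
      have h9 := Subgroup.mem_map_of_mem (A.Fix [β]).subtype h8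
      rw [MonoidHom.map_closure] at h9
      refine Subgroup.closure_mono ?_ h9
      rintro _ ⟨_, ⟨w, hw, rfl⟩, rfl⟩
      exact ⟨_, List.mem_append_left _ (List.mem_map_of_mem hw), ev' w⟩
    have h6 := fixB_spec (hT.tr (lt_rep s2)) (A.lt hβ z) (hfb _ (A.lt hβ z))
      (by rw [ev_rep]; exact hfix h5 hz)
    rcases List.mem_cons.mp h6 with h7 | h7
    · exact hin z h7 hz
    rcases List.mem_append.mp h7 with h7 | h7
    · obtain ⟨q, hq, h8⟩ := List.mem_map.mp h7
      obtain ⟨⟨a1, a2⟩, a3⟩ := s5 q hq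
      have a4 := hb.eq (hT.tr (lt_append (lt_rep s2) a1)) (hT.tr (lt_append a1 (lt_rep s2))) a3
      simp only [ev_append, ev_rep] at a4
      have h9 := hin (z * ev g q.2) (by rw [A.mul hβ, ← h8, ← hT.tr a1 _ (h8 ▸ A.lt hβ z), a2])
        (by rw [← mul_assoc, hz, mul_assoc, a4, mul_assoc])
      have h10 : ev g q.2 ∈ Subgroup.closure
          {x | ∃ w ∈ ws.map (fun w => w.flatMap (nthW Wh)) ++ lk.map Prod.snd, x = ev g w} :=
        Subgroup.subset_closure ⟨_, List.mem_append_right _ (List.mem_map_of_mem hq), rfl⟩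
      simpa using mul_mem h9 (inv_mem h10)
    · exfalso
      obtain ⟨q, hq, h8⟩ := List.mem_map.mp h7
      obtain ⟨⟨⟨a1, a2⟩, a3⟩, a4⟩ := s6 q hq
      have a5 := hb.eq (hT.tr (lt_append (lt_rep s2) a1))
        (hT.tr (lt_append a1 (whB_spec hT hW _).1)) a4
      simp only [ev_append, ev_rep] at a5
      refine H.nc _ a3 ⟨z * ev g q.2.1, (mfix _).mpr
        (by rw [A.mul hβ, ← h8, ← hT.tr a1 _ (h8 ▸ A.lt hβ z), a2])⟩ (Subtype.ext ?_)
      simp only [Subgroup.coe_mul, ex, h2]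
      rw [← mul_assoc, hz, mul_assoc, a5, mul_assoc]

end Cfsg.Agent.H9
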