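import Cfsg.Agent.H9.Big

/-! New letters given by words or as inverses. -/

set_option autoImplicit false

namespace Cfsg.Agent.H9

open Cfsg.Agent.L0 (ev ev_nil ev_cons ev_append ev_mem nthW nthW_mem nthW_eq map_ev ev_congr)

/-- the letters from `s` on are words, or inverses of letters (empty word), at the point `c` -/
noncomputable def slp2B (T : ℕ → ℕ → ℕ) (L : List (ℕ × List ℕ)) (s c : ℕ) : Bool :=
  List.rec (motive := fun _ => ℕ → Bool) (fun _ => true)
    (fun p _ ih s => Bool.rec (motive := fun _ => Bool) false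
      (Nat.rec (motive := fun _ => Bool) false (fun s' _ => ih s') (Nat.succ (Nat.succ s)))
      (List.rec (motive := fun _ => Bool) (invC T p.1 s c)
        (fun _ _ _ => Nat.beq (T c s) (tr T p.2 c)) p.2)) L s

/-- only earlier letters are used -/
noncomputable def slp2W (L : List (ℕ × List ℕ)) : ℕ → Bool :=
  List.rec (motive := fun _ => ℕ → Bool) (fun _ => true)
    (fun p _ ih s => Nat.blt p.1 s && ltB s p.2 && ih (Nat.succ s)) L

namespace RA

variable {G : Type*} [Group G] {N : ℕ} {A : RA G N} {T : ℕ → ℕ → ℕ}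

theorem Tab.extend2 {L : List (ℕ × List ℕ)} : ∀ {g : ℕ → G} {k : ℕ}, A.Tab g k T →
    slp2W L k = true → (∀ c < N, slp2B T L k c = true) →
    ∃ g' : ℕ → G, A.Tab g' (k + L.length) T ∧ ∀ s < k, g' s = g s := by
  induction L with
  | nil => intro g k hT _ _; exact ⟨g, hT, fun _ _ => rfl⟩
  | cons p L ih =>
    intro g k hT hW h
    have e : slp2W (p :: L) k = (Nat.blt p.1 k && ltB k p.2 && slp2W L (k + 1)) := rfl
    rw [e, Bool.and_eq_true, Bool.and_eq_true, ltB_iff, Nat.blt_eq] at hW
    have h' : ∀ c < N, List.rec (motive := fun _ => Bool) (invC T p.1 k c)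
        (fun _ _ _ => Nat.beq (T c k) (H9.tr T p.2 c)) p.2 = true ∧ slp2B T L (k + 1) c = true :=
      fun c hc => L0.brec_true (h c hc)
    have h1 : ∃ g1 : ℕ → G, A.Tab g1 (k + 1) T ∧ ∀ s < k, g1 s = g s := by
      obtain ⟨j, w⟩ := p
      cases w with
      | nil => exact hT.addInv hW.1.1 fun c hc => (h' c hc).1
      | cons y w =>
        refine ⟨Function.update g k (ev g (y :: w)), fun s hs c hc => ?_,
          fun y hy => Function.update_of_ne hy.ne _ _⟩
        rcases Nat.lt_succ_iff_lt_or_eq.mp hs with h1 | rfl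
        · rw [Function.update_of_ne h1.ne]; exact hT s h1 c hc
        · rw [Function.update_self, Nat.eq_of_beq_eq_true (h' c hc).1]; exact hT.tr hW.1.2 c hc
    obtain ⟨g1, h2, h3⟩ := h1
    obtain ⟨g', h4, h5⟩ := ih h2 hW.2 fun c hc => (h' c hc).2
    exact ⟨g', by rwa [List.length_cons, ← Nat.add_assoc, Nat.add_right_comm],
      fun s hs => by rw [h5 s (by omega), h3 s hs]⟩

end RA

end Cfsg.Agent.H9
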