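import Cfsg.Agent.H9.PresAut

/-! Fixed points of an element of prime order in a rank three action; automorphisms induced by an
overgroup. -/

set_option autoImplicit false

namespace Cfsg.Agent.H9

open Cfsg.Agent.L0 (ev ev_nil ev_cons ev_append ev_mem nthW nthW_mem nthW_eq map_ev ev_congr)

/-- `c` is a listed point, one of the two roots, or has a neighbour of smaller depth -/
noncomputable def orb2B (T : ℕ → ℕ → ℕ) (β γ hm : ℕ) (inf u : ℕ → ℕ) (M c : ℕ) : Bool :=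
  force (inf c) (fun e => Bool.rec (motive := fun _ => Bool)
    (force (Nat.land (Nat.shiftRight e 1) 255) (fun s => Bool.rec (motive := fun _ => Bool)
      (Nat.beq c β || Nat.beq c γ) true
      (tb hm s && Nat.blt (Nat.shiftRight (inf (T c s)) 9) (Nat.shiftRight e 9))) false)
    (Nat.blt (Nat.shiftRight e 1) M && Nat.beq (u (Nat.shiftRight e 1)) c)
    (Nat.beq (Nat.land e 1) 1)) false

/-- the listed point is no root and is moved by the letter -/
noncomputable def faU (T' : ℕ → ℕ → ℕ) (β γ ia : ℕ) (u : ℕ → ℕ) (j : ℕ) : Bool :=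
  force (u j) (fun d => !(Nat.beq d β) && !(Nat.beq d γ) && !(Nat.beq (T' j ia) j)) false

theorem orb2B_spec {T : ℕ → ℕ → ℕ} {β γ hm : ℕ} {inf u : ℕ → ℕ} {M c : ℕ}
    (h : orb2B T β γ hm inf u M c = true) : c = β ∨ c = γ ∨ (∃ j < M, u j = c) ∨
      ∃ s, hm.testBit s = true ∧ Nat.shiftRight (inf (T c s)) 9 < Nat.shiftRight (inf c) 9 := by
  unfold orb2B at h
  simp only [force_eq] at h
  cases h1 : Nat.beq (Nat.land (inf c) 1) 1 with
  | true =>
    rw [h1] at h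
    simp only [Bool.and_eq_true, Nat.blt_eq, Nat.beq_eq] at h
    exact Or.inr (Or.inr (Or.inl ⟨_, h⟩))
  | false =>
    rw [h1] at h
    cases h2 : (tb hm (Nat.land (Nat.shiftRight (inf c) 1) 255) && Nat.blt (Nat.shiftRight
      (inf (T c (Nat.land (Nat.shiftRight (inf c) 1) 255))) 9) (Nat.shiftRight (inf c) 9)) with
    | true =>
      simp only [Bool.and_eq_true, Nat.blt_eq, tb_eq] at h2
      exact Or.inr (Or.inr (Or.inr ⟨_, h2⟩))
    | false =>
      rw [h2] at h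
      simp only [Bool.or_eq_true, Nat.beq_eq] at h
      exact h.elim Or.inl fun h => Or.inr (Or.inl h)

theorem beq_false {a b : ℕ} : Nat.beq a b = false ↔ a ≠ b := by
  rw [← Bool.not_eq_true, Nat.beq_eq]

universe u

open RA in
theorem fa_of {G : Type u} [Group G] [Finite G] {N : ℕ} {A : RA G N} {g : ℕ → G} {k : ℕ}
    {T : ℕ → ℕ → ℕ} (hT : A.Tab g k T) {n' β : ℕ} (hle : Nat.card G ≤ N * n')
    {inf : ℕ → ℕ} {sh m : ℕ} (htr : ∀ c < N, transB T β k inf sh m c = true)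
    {Wh : List (List ℕ)} (hW : whB T k β Wh = true) {u : ℕ → ℕ} {T' : ℕ → ℕ → ℕ} {M : ℕ}
    (hsub : ∀ c < M, subB T u T' Wh N M c = true) {B' : List ℕ} {ja ia : ℕ} {x : List ℕ}
    {ws : List (List ℕ)} {ys : List ℕ}
    (hH : ∀ (K : Type u) [Group K] [Finite K] (A' : RA K M) (g0 : ℕ → K), A'.Tab g0 Wh.length T' →
      Nat.card K ≤ n' → HOK A' g0 Wh.length B' ia x ws ys n')
    {γ hm p : ℕ} (hp : p.Prime) {inf2 : ℕ → ℕ}
    (hs : (Nat.blt β N && Nat.blt γ N && !(Nat.beq γ β) && Nat.blt 0 M && Nat.blt ja k &&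
      Nat.blt ia Wh.length && decide (nthW Wh ia = [ja]) && Nat.blt hm (2 ^ k) &&
      (allLt k fun s => !(tb hm s) || Nat.beq (T β s) β) &&
      agree B' (tr T' (List.replicate p ia)) (fun b => b) &&
      !(Nat.beq (n' % (p * (N - (M + 1)))) 0)) = true)
    (ho : ∀ c < N, orb2B T β γ hm inf2 u M c = true) (hU : ∀ j < M, faU T' β γ ia u j = true) :
    ∀ c < N, fixB (tr T [ja]) [β] c = true := by
  simp only [Bool.and_eq_true, Nat.blt_eq, decide_eq_true_eq, allLt_iff, Bool.not_eq_true',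
    Bool.or_eq_true, tb_eq, Nat.beq_eq, beq_false] at hs
  obtain ⟨⟨⟨⟨⟨⟨⟨⟨⟨⟨hβ, hγ⟩, hγβ⟩, hM⟩, s1⟩, s2⟩, s3⟩, s4⟩, s5⟩, s6⟩, s7⟩ := hs
  have ht := trans_of hT htr
  have hc := card_eq_mul_fix hβ fun c hc => (ht c hc).elim fun w hw => ⟨_, hw.2⟩
  have hle' : Nat.card (A.Fix [β]) ≤ n' := Nat.le_of_mul_le_mul_left (hc ▸ hle) (by omega)
  obtain ⟨A', h, h1, h2, h3, h4⟩ := exists_sub hT hW hsub fun K A' g0 hT' =>
    eq_top_of_card hle' fun hK => (hH K A' g0 hT' hK).card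
  have H := hH _ A' h h1 hle'
  have mfix : ∀ x, x ∈ A.Fix [β] ↔ A.act β x = β := fun x => by
    rw [A.mem_Fix_cons hβ, Fix_nil]; simp
  have uinj := inj_of_incr (fun c hc => (subB_spec (hsub c hc)).1.2)
  have hU' : ∀ j < M, (u j ≠ β ∧ u j ≠ γ) ∧ T' j ia ≠ j := fun j hj => by
    have := hU j hj
    simpa only [faU, force_eq, Bool.and_eq_true, Bool.not_eq_true', beq_false] using this
  have ea : (h ia : G) = g ja := by rw [h2, s3, L0.ev_singleton]
  have back : ∀ {c d : ℕ} {x : G}, c < N → A.act c x = d → A.act d x⁻¹ = c := fun hc e => by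
    rw [← e, act_inv hc]
  have c1 : ∀ D, ∀ c < N, Nat.shiftRight (inf2 c) 9 = D →
      c = β ∨ (∃ j < M, u j = c) ∨ ∃ x ∈ A.Fix [β], A.act γ x = c := by
    intro D
    induction D using Nat.strong_induction_on with
    | _ D ih =>
      intro c hc hD
      rcases orb2B_spec (ho c hc) with e | e | e | ⟨s, a1, a2⟩
      · exact Or.inl e
      · exact Or.inr (Or.inr ⟨1, one_mem _, by rw [A.one hγ, e]⟩)
      · exact Or.inr (Or.inl e)
      have a3 : s < k := by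
        by_contra hn
        rw [Nat.testBit_lt_two_pow (lt_of_lt_of_le s4
          (Nat.pow_le_pow_right (by norm_num) (by omega)))] at a1
        exact absurd a1 (by simp)
      have a4 : g s ∈ A.Fix [β] := (mfix _).mpr (by
        rw [← hT s a3 β hβ]; exact (s5 s a3).resolve_left (by simp [a1]))
      have a5 := hT s a3 c hc
      have a6 := back hc a5.symm
      rcases ih _ (hD ▸ a2) _ (a5 ▸ A.lt hc _) rfl with e | ⟨j, hj, e⟩ | ⟨y, hy, e⟩
      · left; rw [← a6, e]; exact (mfix _).mp (inv_mem a4)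
      · exact Or.inr (Or.inl ⟨_, A'.lt hj ⟨_, inv_mem a4⟩, by rw [h4 _ j hj, e, a6]⟩)
      · exact Or.inr (Or.inr ⟨_, mul_mem hy (inv_mem a4), by rw [A.mul hγ, e, a6]⟩)
  have c2 : {c | ∃ x ∈ A.Fix [β], A.act γ x = c} = Set.Iio N \ insert β (u '' Set.Iio M) := by
    ext c
    constructor
    · rintro ⟨y, hy, rfl⟩
      refine ⟨A.lt hγ _, ?_⟩
      rintro (e | ⟨j, hj, e⟩)
      · exact hγβ ((back hγ e).symm.trans ((mfix _).mp (inv_mem hy)))
      · exact (hU' _ (A'.lt hj ⟨_, inv_mem hy⟩)).1.2 (by rw [h4 _ j hj, e, act_inv hγ])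
    · rintro ⟨hc, hn⟩
      rcases c1 _ c hc rfl with e | ⟨j, hj, e⟩ | e
      · exact absurd (Or.inl e) hn
      · exact absurd (Or.inr ⟨j, hj, e⟩) hn
      · exact e
  have c3 : (Set.Iio N \ insert β (u '' Set.Iio M)).ncard = N - (M + 1) := by
    rw [Set.ncard_sdiff (by
      rintro c (rfl | ⟨j, hj, rfl⟩)
      exacts [hβ, h3 j hj]) (((Set.finite_Iio M).image u).insert β),
      Set.ncard_insert_of_notMem (by rintro ⟨j, hj, e⟩; exact (hU' j hj).1.1 e)
        ((Set.finite_Iio M).image u),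
      Set.InjOn.ncard_image (s := Set.Iio M) fun i hi j hj e => uinj i hi j hj e, Set.ncard_Iio_nat,
      Set.ncard_Iio_nat]
  have ord : orderOf (h ia) = p := by
    have := Fact.mk hp
    refine orderOf_eq_prime ?_ fun e => (hU' 0 hM).2 (by rw [h1 ia s2 0 hM, e, A'.one hM])
    rw [← ev_rep]
    exact H.base.eq (h1.tr (lt_rep s2)) fn_one s6
  intro c hc
  unfold fixB
  cases h5 : Nat.beq (tr T [ja] c) c with
  | false => rfl
  | true =>
    have h6 : A.act c (h ia) = c := by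
      rw [ea, ← Nat.eq_of_beq_eq_true h5, ← hT ja s1 _ (by rwa [Nat.eq_of_beq_eq_true h5]),
        Nat.eq_of_beq_eq_true h5]
      exact Nat.eq_of_beq_eq_true h5
    rcases c1 _ c hc rfl with e | ⟨j, hj, e⟩ | ⟨y, hy, e⟩
    · exact (anyL_iff _ _).mpr ⟨β, List.mem_singleton_self _, by rw [e, Nat.beq_refl]⟩
    · exact absurd (uinj _ (h1 ia s2 j hj ▸ A'.lt hj _) _ hj
        (by rw [h1 ia s2 j hj, h4 _ j hj, e, h6])) (hU' j hj).2
    exfalso
    have e1 := A.card_eq_orbit_mul (A.Fix [β]) (A.Fix [c, β]) hc fun x => A.mem_Fix_cons hc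
    have e2 : {d | ∃ x ∈ A.Fix [β], A.act c x = d} = {d | ∃ x ∈ A.Fix [β], A.act γ x = d} := by
      ext d
      constructor
      · rintro ⟨z, hz, rfl⟩
        exact ⟨_, mul_mem hy hz, by rw [A.mul hγ, e]⟩
      · rintro ⟨z, hz, rfl⟩
        exact ⟨_, mul_mem (inv_mem hy) hz, by rw [A.mul hc, back hγ e]⟩
    rw [e2, c2, c3, H.card] at e1
    have e3 : p ∣ Nat.card (A.Fix [c, β]) := by
      rw [← ord, ← Subgroup.orderOf_coe]
      exact Subgroup.orderOf_dvd_natCard _ ((A.mem_Fix_cons hc).mpr ⟨(h ia).2, h6⟩)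
    obtain ⟨q, hq⟩ := e3
    exact s7 (by rw [e1, hq, ← mul_assoc, mul_comm _ p, Nat.mul_mod_right])

/-- the automorphism induced by an involution of an overgroup -/
theorem RA.exists_aut_conj {Γ : Type*} [Group Γ] {S : Subgroup Γ} [S.Normal] {N : ℕ} {A0 : RA Γ N}
    {A : RA S N} (hA : ∀ c x, A.act c x = A0.act c x) {g : ℕ → S} {k : ℕ} {T : ℕ → ℕ → ℕ}
    (hT : A.Tab g k T) {B : List ℕ} (hB : A.IsBase B) {y : Γ} (hy : y * y = 1) {Y : ℕ → ℕ}
    (hY : A0.Fn y Y) {D : OD}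
    (h : (Nat.blt D.ia k && Nat.blt D.ib k && Nat.blt D.it k && ltB k D.a' && ltB k D.t' &&
      RA.agree B (fun c => Y (H9.tr T [D.ia] (Y c))) (H9.tr T D.a') &&
      RA.agree B (fun c => Y (H9.tr T [D.ib] (Y c))) (H9.tr T [D.ib]) &&
      RA.agree B (fun c => Y (H9.tr T [D.it] (Y c))) (H9.tr T D.t')) = true) :
    ∃ σ : MulAut S, σ (g D.ia) = ev g D.a' ∧ σ (g D.ib) = g D.ib ∧ σ (g D.it) = ev g D.t' := by
  simp only [Bool.and_eq_true, Nat.blt_eq, ltB_iff] at h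
  obtain ⟨⟨⟨⟨⟨⟨⟨ia, ib⟩, it⟩, ha⟩, ht⟩, h1⟩, h2⟩, h3⟩ := h
  have key : ∀ {i : ℕ}, i < k →
      A.Fn (MulAut.conjNormal y (g i)) fun c => Y (H9.tr T [i] (Y c)) := by
    intro i hi c hc
    have e := hT.tr (RA.lt_one hi) _ (hY.lt hc)
    show Y _ = _
    rw [hY _ ((hT.tr (RA.lt_one hi)).lt (hY.lt hc)), e, hY c hc, hA, hA, L0.ev_singleton,
      MulAut.conjNormal_apply, inv_eq_of_mul_eq_one_right hy, A0.mul hc, A0.mul hc]
  exact ⟨MulAut.conjNormal y, hB.eq (key ia) (hT.tr ha) h1,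
    (hB.eq (key ib) (hT.tr (RA.lt_one ib)) h2).trans (L0.ev_singleton _ _),
    hB.eq (key it) (hT.tr ht) h3⟩

end Cfsg.Agent.H9
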