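import Mathlib

/-! Small kernel-friendly bit utilities on `ℕ`. -/

set_option autoImplicit false

namespace Cfsg.Agent.H9

/-- bit `i` of `m` as a number -/
def bit (m i : ℕ) : ℕ := Nat.land (Nat.shiftRight m i) 1

/-- bit test, kernel friendly -/
def tb (m i : ℕ) : Bool := Nat.beq (Nat.land (Nat.shiftRight m i) 1) 1

theorem bit_eq (m i : ℕ) : bit m i = if m.testBit i then 1 else 0 := by
  unfold bit
  show (m >>> i) &&& 1 = _
  rw [Nat.and_one_is_mod, Nat.testBit_eq_decide_div_mod_eq, Nat.shiftRight_eq_div_pow]
  by_cases h : m / 2 ^ i % 2 = 1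
  · simp [h]
  · have : m / 2 ^ i % 2 = 0 := by omega
    simp [this]

theorem tb_eq (m i : ℕ) : tb m i = m.testBit i := by
  have h := bit_eq m i
  unfold bit at h
  unfold tb
  rw [h]
  cases m.testBit i <;> rfl

/-- entry `i` of a table packed with `w` bits per entry -/
def look (w t i : ℕ) : ℕ := Nat.mod (Nat.shiftRight t (Nat.mul w i)) (Nat.pow 2 w)

/-- `∀ i < n, P i` -/
noncomputable def allLt (n : ℕ) (P : ℕ → Bool) : Bool :=
  Nat.rec (motive := fun _ => Bool) true (fun i ih => Bool.rec (motive := fun _ => Bool) false ih (P i)) n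

theorem allLt_iff (n : ℕ) (P : ℕ → Bool) : allLt n P = true ↔ ∀ i < n, P i = true := by
  induction n with
  | zero => simp [allLt]
  | succ n ih =>
    have : allLt (n + 1) P = Bool.rec (motive := fun _ => Bool) false (allLt n P) (P n) := rfl
    rw [this]
    constructor
    · intro h i hi
      cases hp : P n with
      | false => rw [hp] at h; exact absurd h (by simp)
      | true =>
        rw [hp] at h
        rcases Nat.lt_succ_iff_lt_or_eq.mp hi with h1 | h1
        · exact ih.mp h i h1
        · rw [h1]; exact hp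
    · intro h
      rw [h n (Nat.lt_succ_self n)]
      exact ih.mpr fun i hi => h i (Nat.lt_succ_of_lt hi)

/-- `∀ x ∈ l, P x` -/
noncomputable def allL {α : Type} (l : List α) (P : α → Bool) : Bool :=
  List.rec (motive := fun _ => Bool) true (fun a _ ih => Bool.rec (motive := fun _ => Bool) false ih (P a)) l

theorem allL_iff {α : Type} (l : List α) (P : α → Bool) : allL l P = true ↔ ∀ x ∈ l, P x = true := by
  induction l with
  | nil => simp [allL]
  | cons a l ih =>
    have : allL (a :: l) P = Bool.rec (motive := fun _ => Bool) false (allL l P) (P a) := rfl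
    rw [this]
    cases hp : P a with
    | false => simp [hp]
    | true => simp [hp, ih]

/-- number of set bits among the first `n` -/
noncomputable def pop (m n : ℕ) : ℕ :=
  Nat.rec (motive := fun _ => ℕ) 0 (fun i ih => Nat.add ih (bit m i)) n

theorem pop_eq (m n : ℕ) : pop m n = ((Finset.range n).filter fun i => m.testBit i).card := by
  induction n with
  | zero => simp [pop]
  | succ n ih =>
    have : pop m (n + 1) = pop m n + bit m n := rfl
    rw [this, ih, Finset.range_add_one, Finset.filter_insert, bit_eq]
    split_ifs with h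
    · rw [Finset.card_insert_of_notMem (by simp)]
    · simp

/-- the mask whose bit `i < n` is `P i` -/
noncomputable def mkMask (n : ℕ) (P : ℕ → Bool) : ℕ :=
  Nat.rec (motive := fun _ => ℕ) 0
    (fun i ih => Bool.rec (motive := fun _ => ℕ) ih (Nat.lor ih (Nat.shiftLeft 1 i)) (P i)) n

theorem testBit_mkMask (n : ℕ) (P : ℕ → Bool) (j : ℕ) :
    (mkMask n P).testBit j = (decide (j < n) && P j) := by
  induction n with
  | zero => simp [mkMask]
  | succ n ih =>
    have : mkMask (n + 1) P = Bool.rec (motive := fun _ => ℕ) (mkMask n P)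
      ((mkMask n P) ||| (1 <<< n)) (P n) := rfl
    rw [this]
    cases hp : P n with
    | false =>
      simp only [ih]
      by_cases hj : j = n
      · subst hj; simp [hp]
      · have : (j < n + 1) ↔ j < n := by omega
        simp [this]
    | true =>
      simp only [Nat.testBit_or, ih, Nat.one_shiftLeft, Nat.testBit_two_pow]
      by_cases hj : j = n
      · subst hj; simp [hp]
      · have : (j < n + 1) ↔ j < n := by omega
        have h2 : ¬ n = j := fun h => hj h.symm
        simp [this, h2]

theorem mkMask_lt (n : ℕ) (P : ℕ → Bool) : mkMask n P < 2 ^ n := by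
  apply Nat.lt_pow_two_of_testBit
  intro i hi
  rw [testBit_mkMask]
  have : ¬ i < n := by omega
  simp [this]

/-- `m` is a xor of members of the list -/
def InSpan : List ℕ → ℕ → Prop
  | [], m => m = 0
  | b :: bs, m => InSpan bs m ∨ InSpan bs (m ^^^ b)

theorem InSpan.zero (bs : List ℕ) : InSpan bs 0 := by
  induction bs with
  | nil => rfl
  | cons b bs ih => exact Or.inl ih

theorem InSpan.xor {bs : List ℕ} {a c : ℕ} (ha : InSpan bs a) (hc : InSpan bs c) :
    InSpan bs (a ^^^ c) := by
  induction bs generalizing a c with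
  | nil => simp only [InSpan] at *; simp [ha, hc]
  | cons b bs ih =>
    rcases ha with ha | ha <;> rcases hc with hc | hc
    · exact Or.inl (ih ha hc)
    · right; have := ih ha hc; rwa [← Nat.xor_assoc] at this
    · right; have := ih ha hc
      rwa [Nat.xor_assoc, Nat.xor_comm b c, ← Nat.xor_assoc] at this
    · left; have := ih ha hc
      rwa [Nat.xor_assoc, Nat.xor_comm c b, ← Nat.xor_assoc b b, Nat.xor_self, Nat.zero_xor] at this

theorem InSpan.of_mem {bs : List ℕ} {a : ℕ} (ha : a ∈ bs) : InSpan bs a := by
  induction bs with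
  | nil => simp at ha
  | cons b bs ih =>
    rcases List.mem_cons.mp ha with h | h
    · right; rw [h, Nat.xor_self]; exact InSpan.zero bs
    · left; exact ih h

theorem InSpan.induction {bs : List ℕ} {P : ℕ → Prop} (h0 : P 0) (hb : ∀ b ∈ bs, P b)
    (hx : ∀ a c, P a → P c → P (a ^^^ c)) {m : ℕ} (hm : InSpan bs m) : P m := by
  induction bs generalizing m with
  | nil => simp only [InSpan] at hm; rw [hm]; exact h0
  | cons b bs ih =>
    have hb' : ∀ c ∈ bs, P c := fun c hc => hb c (List.mem_cons_of_mem _ hc)
    rcases hm with hm | hm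
    · exact ih hb' hm
    · have := hx _ _ (ih hb' hm) (hb b List.mem_cons_self)
      rwa [Nat.xor_assoc, Nat.xor_self, Nat.xor_zero] at this

/-- test `P` on all `acc ^^^ m`, `m` in the span -/
noncomputable def allSpan (P : ℕ → Bool) (bs : List ℕ) : ℕ → Bool :=
  List.rec (motive := fun _ => ℕ → Bool) P
    (fun b _ ih acc => Bool.rec (motive := fun _ => Bool) false (ih (Nat.xor acc b)) (ih acc)) bs

theorem allSpan_spec (P : ℕ → Bool) (bs : List ℕ) (acc : ℕ) (h : allSpan P bs acc = true)
    {m : ℕ} (hm : InSpan bs m) : P (acc ^^^ m) = true := by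
  induction bs generalizing acc m with
  | nil => simp only [InSpan] at hm; rw [hm, Nat.xor_zero]; exact h
  | cons b bs ih =>
    have e : allSpan P (b :: bs) acc = Bool.rec (motive := fun _ => Bool) false
      (allSpan P bs (acc ^^^ b)) (allSpan P bs acc) := rfl
    rw [e] at h
    cases h1 : allSpan P bs acc with
    | false => rw [h1] at h; exact absurd h (by simp)
    | true =>
      rw [h1] at h
      rcases hm with hm | hm
      · exact ih acc h1 hm
      · have := ih _ h hm
        rwa [Nat.xor_assoc, Nat.xor_comm m b, ← Nat.xor_assoc b b, Nat.xor_self, Nat.zero_xor] at this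

theorem allSpan_spec' (P : ℕ → Bool) (bs : List ℕ) (h : allSpan P bs 0 = true)
    {m : ℕ} (hm : InSpan bs m) : P m = true := by
  have := allSpan_spec P bs 0 h hm
  rwa [Nat.zero_xor] at this

/-- Gaussian reduction: entry `(k, b)` xors `b` when bit `k` is set -/
noncomputable def reduceBy (bs : List (ℕ × ℕ)) : ℕ → ℕ :=
  List.rec (motive := fun _ => ℕ → ℕ) (fun m => m)
    (fun kb _ ih m => Bool.rec (motive := fun _ => ℕ) (ih m) (ih (Nat.xor m kb.2)) (tb m kb.1)) bs

theorem inSpan_of_reduceBy (bs : List (ℕ × ℕ)) (m : ℕ) (h : reduceBy bs m = 0) :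
    InSpan (bs.map Prod.snd) m := by
  induction bs generalizing m with
  | nil => exact h
  | cons kb bs ih =>
    have e : reduceBy (kb :: bs) m = Bool.rec (motive := fun _ => ℕ) (reduceBy bs m)
      (reduceBy bs (m ^^^ kb.2)) (tb m kb.1) := rfl
    rw [e] at h
    cases h1 : tb m kb.1 with
    | false => rw [h1] at h; exact Or.inl (ih _ h)
    | true => rw [h1] at h; exact Or.inr (ih _ h)

/-- a finite orbit and a finite stabiliser bound the order -/
theorem card_le_of_orbit {G X : Type*} [Group G] [MulAction G X] (H : Subgroup G) (b : X)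
    (C : Finset X) (hC : ∀ g ∈ H, g • b ∈ C) [Finite ↥(H ⊓ MulAction.stabilizer G b)] :
    Finite H ∧ Nat.card H ≤ C.card * Nat.card ↥(H ⊓ MulAction.stabilizer G b) := by
  have e := MulAction.orbitProdStabilizerEquivGroup H b
  have hsub : MulAction.orbit H b ⊆ (C : Set X) := by
    rintro x ⟨g, rfl⟩
    exact hC g g.2
  have hfin : (MulAction.orbit H b).Finite := Set.Finite.subset C.finite_toSet hsub
  have e2 : MulAction.stabilizer H b ≃ ↥(H ⊓ MulAction.stabilizer G b) :=
    { toFun := fun x => ⟨x.1.1, ⟨x.1.2, x.2⟩⟩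
      invFun := fun x => ⟨⟨x.1, x.2.1⟩, x.2.2⟩
      left_inv := fun x => rfl
      right_inv := fun x => rfl }
  have : Finite (MulAction.stabilizer H b) := Finite.of_equiv _ e2.symm
  have : Finite (MulAction.orbit H b) := hfin
  refine ⟨Finite.of_equiv _ e, ?_⟩
  rw [← Nat.card_congr e, Nat.card_prod, Nat.card_congr e2]
  apply Nat.mul_le_mul_right
  have := Set.ncard_le_ncard hsub C.finite_toSet
  rw [Set.ncard_coe_finset] at this
  exact this

end Cfsg.Agent.H9
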