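import Cfsg.Agent.H9.MinCountVals

/-! Upper bounds for the orders of the Conway groups, McL and HS; the centre of `Co0`. -/

set_option autoImplicit false

namespace Cfsg.Agent.H9

open Cfsg Cfsg.Spor Finset
open scoped Pointwise

theorem dot_e8 (x : GolayPt → ℤ) (j : GolayPt) : dotInt x (e8 j : GolayPt → ℤ) = 8 * x j := by
  simp only [dotInt, e8_apply]
  rw [sum_eq_single j (fun b _ hb => by simp [hb]) (by simp)]; simp [mul_comm]

/-- `4 e_i - 4 e_k` -/
def d4 (i k : GolayPt) : leechLattice :=
  ⟨(4 : ℤ) • (Pi.single i 1 - Pi.single k 1), mem_leechLattice_iff.mpr (lam_four_smul (by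
    simp only [Pi.sub_apply, sum_sub_distrib, sum_pi_single', mem_univ, if_true]; rfl))⟩

theorem e8_eq (i k : GolayPt) : e8 i = e8 k + (d4 i k + d4 i k) := by
  apply Subtype.ext
  funext p
  simp only [e8, d4, AddSubgroup.coe_add, Pi.add_apply, Pi.smul_apply, Pi.sub_apply, smul_eq_mul]
  ring

theorem sqNorm_d4 {i k : GolayPt} (h : i ≠ k) : sqNorm (d4 i k : GolayPt → ℤ) = 32 := by
  have h1 := sqNorm_e8 i
  rw [e8_eq i k, AddSubgroup.coe_add, AddSubgroup.coe_add, sqNorm_add, sqNorm_add, sqNorm_e8] at h1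
  have h2 : dotInt (d4 i k : GolayPt → ℤ) (d4 i k) = sqNorm (d4 i k : GolayPt → ℤ) := by
    simp [dotInt, sqNorm, sq]
  have h3 : dotInt (e8 k : GolayPt → ℤ) ((d4 i k : GolayPt → ℤ) + d4 i k) = -64 := by
    have := dot_e8 ((d4 i k : GolayPt → ℤ) + d4 i k) k
    simp only [dotInt, mul_comm] at this ⊢
    rw [this]
    simp [d4, h.symm]
  omega

/-- an automorphism sending one frame vector to a frame vector permutes the frame up to signs -/
theorem frame_of_fix {f : Equiv.Perm leechLattice} (hf : f ∈ Co0) {k l : GolayPt}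
    (hk : f (e8 k) = e8 l) (i : GolayPt) : ∃ j, f (e8 i) = e8 j ∨ f (e8 i) = -e8 j := by
  by_cases hi : i = k
  · exact ⟨l, Or.inl (by rw [hi, hk])⟩
  have e := e8_eq i k
  set z := f (d4 i k) with hz
  have e2 : f (e8 i) = e8 l + (z + z) := by rw [e, Co0_add hf, Co0_add hf, hk]
  have hn : sqNorm (z : GolayPt → ℤ) = 32 := by rw [Co0_norm hf, sqNorm_d4 hi]
  have hzl : (z : GolayPt → ℤ) l = -4 := by
    have := Co0_dot hf (d4 i k) (e8 k)
    rw [hk, dot_e8, dot_e8] at this
    have h2 : (d4 i k : GolayPt → ℤ) k = -4 := by simp [d4, Ne.symm hi]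
    rw [h2] at this
    rw [← hz] at this
    omega
  have key : ∀ b, b ≠ l → ((z : GolayPt → ℤ) b = 4 ∨ (z : GolayPt → ℤ) b = -4) →
      (∀ p, p ≠ l → p ≠ b → (z : GolayPt → ℤ) p = 0) →
      ∃ j, f (e8 i) = e8 j ∨ f (e8 i) = -e8 j := by
    intro b hb h4 h0
    refine ⟨b, ?_⟩
    rw [e2]
    rcases h4 with h4 | h4
    · left
      apply Subtype.ext; funext p
      simp only [AddSubgroup.coe_add, Pi.add_apply, e8_apply]
      by_cases h1 : p = l
      · subst h1; simp [hzl, hb.symm]
      · by_cases h2 : p = b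
        · subst h2; simp [h4, h1]
        · simp [h1, h2, h0 p h1 h2]
    · right
      apply Subtype.ext; funext p
      simp only [AddSubgroup.coe_add, Pi.add_apply, e8_apply, AddSubgroup.coe_neg, Pi.neg_apply]
      by_cases h1 : p = l
      · subst h1; simp [hzl, hb.symm]
      · by_cases h2 : p = b
        · subst h2; simp [h4, h1]
        · simp [h1, h2, h0 p h1 h2]
  rcases (mem_leechLattice_iff.mp z.2).shape hn with ⟨a, b, hab, ha, hb, h0⟩ | ⟨O, -, -, h2, h0, -⟩ |
      ⟨c, -, j, hj, h0⟩
  · by_cases h1 : l = a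
    · subst h1; exact key b hab.symm hb h0
    · by_cases h2 : l = b
      · subst h2; exact key a hab ha fun p h1 h2 => h0 p h2 h1
      · rw [h0 l h1 h2] at hzl; omega
  · by_cases h1 : l ∈ O
    · have := h2 l h1; omega
    · rw [h0 l h1] at hzl; omega
  · by_cases h1 : l = j
    · subst h1; rw [hj] at hzl; split_ifs at hzl <;> omega
    · rw [h0 l h1] at hzl; split_ifs at hzl <;> omega

theorem e8_injective : Function.Injective e8 := by
  intro a b h
  have := congrFun (congrArg Subtype.val h) a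
  rw [e8_apply, e8_apply] at this
  by_contra hc
  simp [hc] at this

/-- a coordinate permutation preserving the lattice lies in `M24` -/
theorem perm_mem_M24 {f : Equiv.Perm leechLattice} (hf : f ∈ Co0) {σ : Equiv.Perm GolayPt}
    (h : ∀ i, f (e8 i) = e8 (σ i)) :
    (∀ (x : leechLattice) i, ((f x : leechLattice) : GolayPt → ℤ) (σ i) = (x : GolayPt → ℤ) i) ∧
      σ ∈ M24 := by
  have h1 : ∀ (x : leechLattice) i, ((f x : leechLattice) : GolayPt → ℤ) (σ i) = (x : GolayPt → ℤ) i := by
    intro x i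
    have := Co0_dot hf x (e8 i)
    rw [h, dot_e8, dot_e8] at this
    omega
  refine ⟨h1, mem_M24_iff.mpr fun b hb => ?_⟩
  rw [← lam_twoInd, ← mem_leechLattice_iff]
  have e : twoInd (σ • b) = (f ⟨twoInd b, mem_leechLattice_iff.mpr (lam_twoInd.mpr hb)⟩ : leechLattice) := by
    funext p
    obtain ⟨q, rfl⟩ := σ.surjective p
    rw [h1]
    simp only [twoInd, mem_smul_finset_iff, Equiv.Perm.coe_inv, Equiv.symm_apply_apply]
  rw [e]
  exact Subtype.prop _

theorem U_add_U' : leechU + leechU' = e8 none := by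
  apply Subtype.ext; funext p; rw [e8_apply]; revert p; decide +kernel

theorem U_eq : leechU = leechU' + e8 (some 0) := by
  apply Subtype.ext; funext p; rw [AddSubgroup.coe_add, Pi.add_apply, e8_apply]; revert p
  decide +kernel

theorem exists_M22 {f : Equiv.Perm leechLattice} (hf : f ∈ Co0) (hU : f leechU = leechU)
    (hU' : f leechU' = leechU') (hV : f leechV = leechV) :
    ∃ σ ∈ M22, ∀ i, f (e8 i) = e8 (σ i) := by
  have h1 : f (e8 none) = e8 none := by rw [← U_add_U', Co0_add hf, hU, hU']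
  have h2 : f (e8 (some 0)) = e8 (some 0) := by
    have := hU
    rw [U_eq, Co0_add hf, hU'] at this
    exact add_left_cancel this
  have h3 : ∀ i, ∃ j, f (e8 i) = e8 j := by
    intro i
    obtain ⟨j, hj | hj⟩ := frame_of_fix hf h1 i
    · exact ⟨j, hj⟩
    · exfalso
      have := Co0_dot hf leechV (e8 i)
      rw [hV, hj, dot_e8] at this
      have h4 : dotInt (leechV : GolayPt → ℤ) ((-e8 j : leechLattice) : GolayPt → ℤ) =
          -(8 * (leechV : GolayPt → ℤ) j) := by
        rw [← dot_e8]; simp [dotInt]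
      rw [h4] at this
      have h5 : ∀ p, (leechV : GolayPt → ℤ) p < 0 := by decide +kernel
      have := h5 i; have := h5 j
      omega
  choose s hs using h3
  have hinj : Function.Injective s := by
    intro a b hab
    apply e8_injective
    apply f.injective
    rw [hs, hs, hab]
  let σ : Equiv.Perm GolayPt := Equiv.ofBijective s (Finite.injective_iff_bijective.mp hinj)
  have hσ : ∀ i, f (e8 i) = e8 (σ i) := hs
  refine ⟨σ, ⟨⟨(perm_mem_M24 hf hσ).2, ?_⟩, ?_⟩, hσ⟩
  · apply e8_injective; exact (hσ none).symm.trans h1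
  · apply e8_injective; exact (hσ (some 0)).symm.trans h2

theorem card_le_M22 (H : Subgroup (Equiv.Perm leechLattice))
    (h : ∀ f ∈ H, f ∈ Co0 ∧ f leechU = leechU ∧ f leechU' = leechU' ∧ f leechV = leechV) :
    Finite H ∧ Nat.card H ≤ 443520 := by
  have : ∀ f : H, ∃ σ : M22, ∀ i, f.1 (e8 i) = e8 (σ.1 i) := by
    intro f
    obtain ⟨h1, h2, h3, h4⟩ := h f f.2
    obtain ⟨σ, h5, h6⟩ := exists_M22 h1 h2 h3 h4
    exact ⟨⟨σ, h5⟩, h6⟩
  choose F hF using this
  have hinj : Function.Injective F := by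
    intro a b hab
    apply Subtype.ext
    apply Co0_ext (h a a.2).1 (h b b.2).1
    intro j
    rw [hF, hF, hab]
  exact ⟨Finite.of_injective F hinj, (Nat.card_le_card_of_injective F hinj).trans card_M22_le⟩

theorem dot_U (x : GolayPt → ℤ) : dotInt x (leechU : GolayPt → ℤ) = 4 * x none + 4 * x (some 0) := by
  have : ∀ p, (leechU : GolayPt → ℤ) p = (if p = none then 4 else 0) + if p = some 0 then 4 else 0 := by
    decide +kernel
  simp only [dotInt, this, mul_add, sum_add_distrib, mul_ite, mul_zero, sum_ite_eq', mem_univ, if_true]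
  ring

theorem dot_U' (x : GolayPt → ℤ) : dotInt x (leechU' : GolayPt → ℤ) = 4 * x none - 4 * x (some 0) := by
  have : ∀ p, (leechU' : GolayPt → ℤ) p = (if p = none then 4 else 0) + if p = some 0 then -4 else 0 := by
    decide +kernel
  simp only [dotInt, this, mul_add, sum_add_distrib, mul_ite, mul_zero, sum_ite_eq', mem_univ, if_true]
  ring

theorem dot_V (x : GolayPt → ℤ) : dotInt x (leechV : GolayPt → ℤ) = -4 * x none - ∑ i, x i := by
  have : ∀ p, (leechV : GolayPt → ℤ) p = (if p = none then -4 else 0) + -1 := by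
    decide +kernel
  simp only [dotInt, this, mul_add, sum_add_distrib, mul_ite, mul_zero, sum_ite_eq', mem_univ, if_true,
    mul_neg, mul_one, sum_neg_distrib]
  ring

theorem finite_card_McL : Finite McL ∧ Nat.card McL ≤ 898128000 := by
  obtain ⟨S, hS, hS'⟩ := covers_min qMcL cnt1_mcl cnt2_mcl cnt3_mcl
  obtain ⟨hfin, hc⟩ := card_le_M22 (McL ⊓ MulAction.stabilizer _ leechU')
    fun f hf => ⟨hf.1.1.1, hf.1.2, hf.2, hf.1.1.2⟩
  have := card_le_of_orbit McL leechU' S (by
    intro f hf
    apply hS' _ ((Co0_norm hf.1.1 _).trans sqNorm_U')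
    rintro a b s ⟨h1, h2, h3⟩
    have e1 := Co0_dot hf.1.1 leechU' leechU
    have e2 := Co0_dot hf.1.1 leechU' leechV
    rw [show f leechU = leechU from hf.2, dot_U, show dotInt _ _ = 0 by decide +kernel] at e1
    rw [show f leechV = leechV from hf.1.2, dot_V, show dotInt _ _ = -16 by decide +kernel] at e2
    have a1 : a + b = 8 := by omega
    have a2 : 4 * a + s = 64 := by omega
    show Bool.rec (motive := fun _ => Bool) false (Nat.beq (4 * a + s) 64) (Nat.beq (a + b) 8) = true
    rw [a1, a2]; rfl)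
  refine ⟨this.1, this.2.trans ?_⟩
  calc _ ≤ 2025 * 443520 := Nat.mul_le_mul hS hc
    _ = _ := by norm_num

instance finite_McL : Finite McL := finite_card_McL.1
theorem card_McL_le : Nat.card McL ≤ 898128000 := finite_card_McL.2

theorem finite_card_HS : Finite HS ∧ Nat.card HS ≤ 44352000 := by
  obtain ⟨S, hS, hS'⟩ := covers_min qHS cnt1_hs cnt2_hs cnt3_hs
  obtain ⟨hfin, hc⟩ := card_le_M22 (HS ⊓ MulAction.stabilizer _ leechU)
    fun f hf => ⟨hf.1.1.1, hf.2, hf.1.2, hf.1.1.2⟩
  have := card_le_of_orbit HS leechU S (by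
    intro f hf
    apply hS' _ ((Co0_norm hf.1.1 _).trans sqNorm_U)
    rintro a b s ⟨h1, h2, h3⟩
    have e1 := Co0_dot hf.1.1 leechU leechU'
    have e2 := Co0_dot hf.1.1 leechU leechV
    rw [show f leechU' = leechU' from hf.2, dot_U', show dotInt _ _ = 0 by decide +kernel] at e1
    rw [show f leechV = leechV from hf.1.2, dot_V, show dotInt _ _ = -24 by decide +kernel] at e2
    have a1 : a = b := by omega
    have a2 : 4 * a + s = 72 := by omega
    show Bool.rec (motive := fun _ => Bool) false (Nat.beq (4 * a + s) 72) (Nat.beq a b) = true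
    rw [a2, a1, Nat.beq_refl b]; rfl)
  refine ⟨this.1, this.2.trans ?_⟩
  calc _ ≤ 100 * 443520 := Nat.mul_le_mul hS hc
    _ = _ := by norm_num

instance finite_HS : Finite HS := finite_card_HS.1
theorem card_HS_le : Nat.card HS ≤ 44352000 := finite_card_HS.2

theorem finite_card_Co3 : Finite Co3 ∧ Nat.card Co3 ≤ 495766656000 := by
  obtain ⟨S, hS, hS'⟩ := covers_min qCo3 cnt1_co3 cnt2_co3 cnt3_co3
  have : Finite ↥(Co3 ⊓ MulAction.stabilizer (Equiv.Perm leechLattice) leechU) := finite_McL
  have := card_le_of_orbit Co3 leechU S (by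
    intro f hf
    apply hS' _ ((Co0_norm hf.1 _).trans sqNorm_U)
    rintro a b s ⟨h1, h2, h3⟩
    have e2 := Co0_dot hf.1 leechU leechV
    rw [show f leechV = leechV from hf.2, dot_V, show dotInt _ _ = -24 by decide +kernel] at e2
    have a2 : 4 * a + s = 72 := by omega
    show Nat.beq (4 * a + s) 72 = true
    rw [a2]; rfl)
  refine ⟨this.1, this.2.trans ?_⟩
  calc _ ≤ 552 * 898128000 := Nat.mul_le_mul hS card_McL_le
    _ = _ := by norm_num

instance finite_Co3 : Finite Co3 := finite_card_Co3.1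
theorem card_Co3_le : Nat.card Co3 ≤ 495766656000 := finite_card_Co3.2

theorem finite_card_Co2 : Finite Co2 ∧ Nat.card Co2 ≤ 42305421312000 := by
  obtain ⟨S, hS, hS'⟩ := covers_min qCo2 cnt1_co2 cnt2_co2 cnt3_co2
  have hle : Co2 ⊓ MulAction.stabilizer (Equiv.Perm leechLattice) (-(leechU + leechV)) ≤ McL := by
    intro f hf
    refine ⟨⟨hf.1.1, ?_⟩, hf.1.2⟩
    have h1 : co0Hom hf.1.1 (-(leechU + leechV)) = -(leechU + leechV) := hf.2
    have h2 : co0Hom hf.1.1 leechU = leechU := hf.1.2
    rw [map_neg, map_add, h2, neg_inj, add_right_inj] at h1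
    exact h1
  have hinj := Subgroup.inclusion_injective hle
  have : Finite ↥(Co2 ⊓ MulAction.stabilizer (Equiv.Perm leechLattice) (-(leechU + leechV))) :=
    Finite.of_injective _ hinj
  have := card_le_of_orbit Co2 (-(leechU + leechV)) S (by
    intro f hf
    apply hS' _ ((Co0_norm hf.1 _).trans (by decide +kernel))
    rintro a b s ⟨h1, h2, h3⟩
    have e2 := Co0_dot hf.1 (-(leechU + leechV)) leechU
    rw [show f leechU = leechU from hf.2, dot_U, show dotInt _ _ = -8 by decide +kernel] at e2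
    have a2 : a + b = 6 := by omega
    show Nat.beq (a + b) 6 = true
    rw [a2]; rfl)
  refine ⟨this.1, this.2.trans ?_⟩
  calc _ ≤ 47104 * 898128000 :=
        Nat.mul_le_mul hS ((Nat.card_le_card_of_injective _ hinj).trans card_McL_le)
    _ = _ := by norm_num

instance finite_Co2 : Finite Co2 := finite_card_Co2.1
theorem card_Co2_le : Nat.card Co2 ≤ 42305421312000 := finite_card_Co2.2

theorem finite_card_Co0 : Finite Co0 ∧ Nat.card Co0 ≤ 8315553613086720000 := by
  obtain ⟨S, hS, hS'⟩ := covers_min qAll cnt1_all cnt2_all cnt3_all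
  have : Finite ↥(Co0 ⊓ MulAction.stabilizer (Equiv.Perm leechLattice) leechU) := finite_Co2
  have := card_le_of_orbit Co0 leechU S (by
    intro f hf
    exact hS' _ ((Co0_norm hf _).trans sqNorm_U) fun _ _ _ _ => rfl)
  refine ⟨this.1, this.2.trans ?_⟩
  calc _ ≤ 196560 * 42305421312000 := Nat.mul_le_mul hS card_Co2_le
    _ = _ := by norm_num

instance finite_Co0 : Finite Co0 := finite_card_Co0.1
theorem card_Co0_le : Nat.card Co0 ≤ 8315553613086720000 := finite_card_Co0.2

/-- negation -/
def negOne : Co0 := ⟨Equiv.neg leechLattice, ⟨fun v w => neg_add v w, fun v => by simp [sqNorm]⟩⟩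

theorem negOne_apply (x : leechLattice) : (negOne : Equiv.Perm leechLattice) x = -x := rfl

theorem negOne_mem_center : negOne ∈ Subgroup.center Co0 := by
  rw [Subgroup.mem_center_iff]
  intro g
  apply Subtype.ext
  apply Equiv.ext
  intro x
  exact map_neg (co0Hom g.2) x

theorem negOne_ne_one : negOne ≠ 1 := by
  intro h
  have := congrFun (congrArg Subtype.val (congrArg (fun g : Co0 => g.1 (e8 none)) h)) none
  simp [negOne_apply, e8_apply] at this

theorem negOne_mul_self : negOne * negOne = 1 := by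
  apply Subtype.ext; apply Equiv.ext; intro x; exact neg_neg x

theorem card_Co1_le : Nat.card Co1 ≤ 4157776806543360000 := by
  have h1 := Subgroup.card_eq_card_quotient_mul_card_subgroup (Subgroup.center Co0)
  have h2 : 2 ≤ Nat.card (Subgroup.center Co0) := by
    have : Nontrivial (Subgroup.center Co0) :=
      ⟨⟨⟨negOne, negOne_mem_center⟩, 1, fun h => negOne_ne_one (congrArg Subtype.val h)⟩⟩
    exact Finite.one_lt_card
  have h3 := card_Co0_le
  change Nat.card Co0 = Nat.card Co1 * _ at h1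
  nlinarith

end Cfsg.Agent.H9
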