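import Cfsg.Agent.H9.Pack

/-! Packed matrices over the integers modulo `p`, with a fast kernel product, representing matrices over
any commutative semiring of characteristic `p` (entries are polynomials of degree `< d` in an element `ω`). -/

set_option autoImplicit false

namespace Cfsg.Agent.H9

open Finset

/-- codes for the elements of a monoid, with a computable product -/
structure Model (G : Type*) [Monoid G] where
  mul : ℕ → ℕ → ℕ
  one : ℕ
  Rep : ℕ → G → Prop
  rep_one : Rep one 1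
  rep_mul : ∀ {a b : ℕ} {g h : G}, Rep a g → Rep b h → Rep (mul a b) (g * h)
  rep_unique : ∀ {a : ℕ} {g h : G}, Rep a g → Rep a h → g = h

/-- product of a list of codes -/
noncomputable def evalL (mul : ℕ → ℕ → ℕ) (c : ℕ → ℕ) (w : List ℕ) : ℕ → ℕ :=
  List.rec (motive := fun _ => ℕ → ℕ) (fun acc => acc) (fun a _ ih acc => ih (mul acc (c a))) w

theorem Model.rep_evalL {G : Type*} [Monoid G] (M : Model G) (c : ℕ → ℕ) (g : ℕ → G) (w : List ℕ)
    (h : ∀ a ∈ w, M.Rep (c a) (g a)) {acc : ℕ} {x : G} (hx : M.Rep acc x) :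
    M.Rep (evalL M.mul c w acc) (x * (w.map g).prod) := by
  induction w generalizing acc x with
  | nil => rw [List.map_nil, List.prod_nil, mul_one]; exact hx
  | cons a w ih =>
    have e : evalL M.mul c (a :: w) acc = evalL M.mul c w (M.mul acc (c a)) := rfl
    rw [e, List.map_cons, List.prod_cons, ← mul_assoc]
    exact ih (fun b hb => h b (List.mem_cons_of_mem _ hb)) (M.rep_mul hx (h a List.mem_cons_self))

theorem Model.prod_eq_one {G : Type*} [Monoid G] (M : Model G) (c : ℕ → ℕ) (g : ℕ → G) (w : List ℕ)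
    (h : ∀ a ∈ w, M.Rep (c a) (g a)) (he : Nat.beq (evalL M.mul c w M.one) M.one = true) :
    (w.map g).prod = 1 := by
  have := M.rep_evalL c g w h M.rep_one
  rw [Nat.eq_of_beq_eq_true he, one_mul] at this
  exact M.rep_unique this M.rep_one

/-- pull a model back along an injective homomorphism -/
def Model.comap {G H : Type*} [Monoid G] [Monoid H] (M : Model G) (f : H →* G)
    (hf : Function.Injective f) : Model H where
  mul := M.mul
  one := M.one
  Rep a h := M.Rep a (f h)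
  rep_one := by rw [map_one]; exact M.rep_one
  rep_mul ha hb := by rw [map_mul]; exact M.rep_mul ha hb
  rep_unique ha hb := hf (M.rep_unique ha hb)

/-- push a model forward along a homomorphism -/
def Model.map {G H : Type*} [Monoid G] [Monoid H] (M : Model G) (f : G →* H) : Model H where
  mul := M.mul
  one := M.one
  Rep a h := ∃ g, M.Rep a g ∧ f g = h
  rep_one := ⟨1, M.rep_one, map_one f⟩
  rep_mul := by
    rintro a b _ _ ⟨g, hg, rfl⟩ ⟨h, hh, rfl⟩
    exact ⟨g * h, M.rep_mul hg hh, map_mul f g h⟩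
  rep_unique := by
    rintro a _ _ ⟨g, hg, rfl⟩ ⟨h, hh, rfl⟩
    rw [M.rep_unique hg hh]

/-- parameters of the packed format: size, digit width, modulus, Barrett constants, masks, identity -/
structure PM where
  N : ℕ
  w : ℕ
  p : ℕ
  bm : ℕ
  bs : ℕ
  colMask : ℕ
  redMask : ℕ
  one : ℕ

namespace PM

variable (P : PM)

/-- entry `(i, j)` -/
def ent (X i j : ℕ) : ℕ := look P.w X (P.N * i + j)

/-- digitwise reduction modulo `p` -/
def red (Z : ℕ) : ℕ :=
  Nat.sub Z (Nat.mul (Nat.land (Nat.shiftRight (Nat.mul Z P.bm) P.bs) P.redMask) P.p)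

/-- the exact product over the naturals (partial sums) -/
noncomputable def mulRaw (X Y k : ℕ) : ℕ :=
  Nat.rec (motive := fun _ => ℕ) 0
    (fun k ih => Nat.add ih (Nat.mul (Nat.land (Nat.shiftRight X (Nat.mul P.w k)) P.colMask)
      (look (Nat.mul P.w P.N) Y k))) k

/-- the product modulo `p` -/
noncomputable def mul (X Y : ℕ) : ℕ := P.red (P.mulRaw X Y P.N)

/-- `X` is a reduced packed matrix -/
def Valid (X : ℕ) : Prop := X < 2 ^ (P.w * (P.N * P.N)) ∧ ∀ q, look P.w X q < P.p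

/-- test for `Valid` -/
noncomputable def valid (X : ℕ) : Bool :=
  Nat.blt X (2 ^ (P.w * (P.N * P.N))) && allLt (P.N * P.N) fun q => Nat.blt (look P.w X q) P.p

/-- the parameters are consistent -/
noncomputable def ok : Bool :=
  Nat.blt 0 P.w && Nat.blt 1 P.p && Nat.ble P.bs P.w && Nat.blt 0 P.bm &&
  Nat.blt (P.N * (P.p - 1) ^ 2 * P.bm) (2 ^ P.w) &&
  allLt (P.N * (P.p - 1) ^ 2 + 1) (fun z => Nat.beq ((z * P.bm) >>> P.bs) (z / P.p)) &&
  Nat.beq P.colMask (repl (P.w * P.N) P.N (2 ^ P.w - 1)) &&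
  Nat.beq P.redMask (repl P.w (P.N * P.N) (2 ^ (P.w - P.bs) - 1)) &&
  P.valid P.one &&
  allLt P.N fun i => allLt P.N fun j => Nat.beq (P.ent P.one i j) (if i = j then 1 else 0)

structure OK : Prop where
  hw : 0 < P.w
  hp : 1 < P.p
  hs : P.bs ≤ P.w
  hm : 0 < P.bm
  hb : P.N * (P.p - 1) ^ 2 * P.bm < 2 ^ P.w
  hq : ∀ z ≤ P.N * (P.p - 1) ^ 2, (z * P.bm) >>> P.bs = z / P.p
  hc : P.colMask = pack (P.w * P.N) P.N fun _ => 2 ^ P.w - 1
  hr : P.redMask = pack P.w (P.N * P.N) fun _ => 2 ^ (P.w - P.bs) - 1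
  hv : P.Valid P.one
  h1 : ∀ i < P.N, ∀ j < P.N, P.ent P.one i j = if i = j then 1 else 0

variable {P}

theorem valid_of (hp : 0 < P.p) {X : ℕ} (h : P.valid X = true) : P.Valid X := by
  simp only [valid, Bool.and_eq_true, Nat.blt_eq, allLt_iff] at h
  refine ⟨h.1, fun q => ?_⟩
  by_cases hq : q < P.N * P.N
  · exact h.2 q hq
  · have : look P.w X q = 0 := by
      rw [look_eq, Nat.shiftRight_eq_div_pow, Nat.div_eq_of_lt, Nat.zero_mod]
      exact lt_of_lt_of_le h.1 (Nat.pow_le_pow_right (by norm_num) (Nat.mul_le_mul_left _ (by omega)))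
    omega

theorem ok_of (h : P.ok = true) : P.OK := by
  simp only [ok, Bool.and_eq_true, Nat.blt_eq, Nat.ble_eq, allLt_iff, Nat.beq_eq, repl_eq] at h
  obtain ⟨⟨⟨⟨⟨⟨⟨⟨⟨h1, h2⟩, h3⟩, h3'⟩, h4⟩, h5⟩, h6⟩, h7⟩, h8⟩, h9⟩ := h
  exact ⟨h1, h2, h3, h3', h4, fun z hz => h5 z (by omega), h6, h7, valid_of (by omega) h8, h9⟩

theorem col_eq (h : P.OK) (X : ℕ) {k : ℕ} (hk : k < P.N) :
    (X >>> (P.w * k)) &&& P.colMask = pack (P.w * P.N) P.N fun i => P.ent X i k := by
  have hN : P.w ≤ P.w * P.N := Nat.le_mul_of_pos_right _ (by omega)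
  have hpw : 2 ^ P.w ≤ 2 ^ (P.w * P.N) := Nat.pow_le_pow_right (by norm_num) hN
  rw [h.hc]
  apply eq_of_testBit_blocks (w := P.w * P.N) (lt_of_lt_of_le h.hw hN)
  intro i r hr
  rw [Nat.testBit_and, testBit_pack (fun _ _ => lt_of_lt_of_le
      (Nat.sub_one_lt (Nat.two_pow_pos _).ne') hpw) i r hr,
    testBit_pack (g := fun i => P.ent X i k) (fun _ _ => lt_of_lt_of_le (look_lt _ _ _) hpw) i r hr, ent, testBit_look,
    Nat.testBit_shiftRight, Nat.testBit_two_pow_sub_one]
  have e : P.w * k + (P.w * P.N * i + r) = P.w * (P.N * i + k) + r := by ring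
  rw [e]
  cases decide (i < P.N) <;> cases decide (r < P.w) <;> simp

theorem row_eq (h : P.OK) (Y k : ℕ) :
    look (P.w * P.N) Y k = pack P.w P.N fun j => P.ent Y k j := by
  rw [← pack_look h.hw (look_lt (P.w * P.N) Y k)]
  apply pack_congr
  intro j hj
  apply Nat.eq_of_testBit_eq
  intro r
  rw [ent, testBit_look, testBit_look, testBit_look]
  by_cases hr : r < P.w
  · have : P.w * j + r < P.w * P.N := by
      have : P.w * (j + 1) ≤ P.w * P.N := Nat.mul_le_mul_left _ hj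
      rw [Nat.mul_succ] at this; omega
    have e : P.w * P.N * k + (P.w * j + r) = P.w * (P.N * k + j) + r := by ring
    simp [this, e]
  · simp [hr]

theorem mulRaw_eq (h : P.OK) (X Y : ℕ) {k : ℕ} (hk : k ≤ P.N) :
    P.mulRaw X Y k = pack P.w (P.N * P.N) fun q =>
      ∑ l ∈ range k, P.ent X (q / P.N) l * P.ent Y l (q % P.N) := by
  induction k with
  | zero => simp [mulRaw, pack]
  | succ k ih =>
    have e : P.mulRaw X Y (k + 1) = P.mulRaw X Y k +
      ((X >>> (P.w * k)) &&& P.colMask) * look (P.w * P.N) Y k := rfl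
    rw [e, ih (by omega), col_eq h X (by omega), row_eq h, pack_mul]
    simp only [sum_range_succ]
    rw [← pack_add]
    congr 1
    rw [pack_pack]
    apply pack_congr
    intro i _
    rw [mul_comm, pack_mul]
    apply pack_congr
    intro j hj
    have hN : 0 < P.N := by omega
    rw [Nat.mul_add_div hN, Nat.div_eq_of_lt hj, Nat.mul_add_mod, Nat.mod_eq_of_lt hj, add_zero,
      mul_comm]

theorem red_pack (h : P.OK) (g : ℕ → ℕ) (hg : ∀ q, g q ≤ P.N * (P.p - 1) ^ 2) :
    P.red (pack P.w (P.N * P.N) g) = pack P.w (P.N * P.N) fun q => g q % P.p := by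
  have e : P.red (pack P.w (P.N * P.N) g) = pack P.w (P.N * P.N) g -
    ((((pack P.w (P.N * P.N) g) * P.bm) >>> P.bs) &&& P.redMask) * P.p := rfl
  rw [e, pack_mul, h.hr, shift_mask_pack h.hw h.hs (fun q _ =>
    lt_of_le_of_lt (Nat.mul_le_mul_right _ (hg q)) h.hb), pack_mul, pack_sub]
  · apply pack_congr
    intro q _
    rw [h.hq _ (hg q), Nat.mod_def, mul_comm]
  · intro q _
    rw [h.hq _ (hg q)]
    exact Nat.div_mul_le_self _ _

theorem p_le (h : P.OK) (hN : 0 < P.N) : P.p ≤ 2 ^ P.w := by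
  have h1 := h.hb
  have h2 := h.hm
  have h3 := h.hp
  have h4 : (P.p - 1) ^ 2 ≤ P.N * (P.p - 1) ^ 2 * P.bm := by
    calc (P.p - 1) ^ 2 = 1 * (P.p - 1) ^ 2 * 1 := by ring
      _ ≤ _ := Nat.mul_le_mul (Nat.mul_le_mul_right _ hN) h2
  have h5 : P.p - 1 ≤ (P.p - 1) ^ 2 := by rw [sq]; exact Nat.le_mul_self _
  omega

theorem mul_eq (h : P.OK) {X Y : ℕ} (hX : P.Valid X) (hY : P.Valid Y) :
    P.mul X Y = pack P.w (P.N * P.N) fun q =>
      (∑ l ∈ range P.N, P.ent X (q / P.N) l * P.ent Y l (q % P.N)) % P.p := by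
  rw [mul, mulRaw_eq h X Y le_rfl, red_pack h]
  intro q
  calc _ ≤ ∑ _l ∈ range P.N, (P.p - 1) ^ 2 := by
        apply sum_le_sum
        intro l _
        rw [sq]
        exact Nat.mul_le_mul (Nat.le_sub_one_of_lt (hX.2 _)) (Nat.le_sub_one_of_lt (hY.2 _))
    _ = _ := by simp

theorem valid_pack (h : P.OK) (g : ℕ → ℕ) (hg : ∀ q, g q < P.p) :
    P.Valid (pack P.w (P.N * P.N) g) := by
  by_cases hN : P.N = 0
  · rw [hN]; refine ⟨by simp [pack], fun q => ?_⟩
    have := h.hp
    simp [pack, look_eq]; omega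
  have hb : ∀ q < P.N * P.N, g q < 2 ^ P.w := fun q _ =>
    lt_of_lt_of_le (hg q) (p_le h (by omega))
  refine ⟨pack_lt hb, fun q => ?_⟩
  by_cases hq : q < P.N * P.N
  · rw [look_pack hb hq]; exact hg q
  · have : look P.w (pack P.w (P.N * P.N) g) q = 0 := by
      rw [look_eq, Nat.shiftRight_eq_div_pow, Nat.div_eq_of_lt, Nat.zero_mod]
      exact lt_of_lt_of_le (pack_lt hb)
        (Nat.pow_le_pow_right (by norm_num) (Nat.mul_le_mul_left _ (by omega)))
    have := h.hp
    omega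

theorem valid_mul (h : P.OK) {X Y : ℕ} (hX : P.Valid X) (hY : P.Valid Y) : P.Valid (P.mul X Y) := by
  rw [mul_eq h hX hY]
  exact valid_pack h _ fun q => Nat.mod_lt _ (by have := h.hp; omega)

theorem ent_mul (h : P.OK) {X Y : ℕ} (hX : P.Valid X) (hY : P.Valid Y) {i j : ℕ} (hi : i < P.N)
    (hj : j < P.N) :
    P.ent (P.mul X Y) i j = (∑ l ∈ range P.N, P.ent X i l * P.ent Y l j) % P.p := by
  have hN : 0 < P.N := by omega
  have hq : P.N * i + j < P.N * P.N := by
    have : P.N * (i + 1) ≤ P.N * P.N := Nat.mul_le_mul_left _ hi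
    rw [Nat.mul_succ] at this; omega
  rw [mul_eq h hX hY, ent, look_pack (fun q _ => lt_of_lt_of_le
    (Nat.mod_lt _ (by have := h.hp; omega)) (p_le h hN)) hq,
    Nat.mul_add_div hN, Nat.div_eq_of_lt hj, Nat.mul_add_mod, Nat.mod_eq_of_lt hj, add_zero]

theorem eq_of_ent (h : P.OK) {X Y : ℕ} (hX : P.Valid X) (hY : P.Valid Y)
    (H : ∀ i < P.N, ∀ j < P.N, P.ent X i j = P.ent Y i j) : X = Y := by
  rw [← pack_look h.hw hX.1, ← pack_look h.hw hY.1]
  apply pack_congr
  intro q hq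
  have hN : 0 < P.N := by
    rcases Nat.eq_zero_or_pos P.N with h0 | h0
    · rw [h0] at hq; omega
    · exact h0
  have := H (q / P.N) (Nat.div_lt_of_lt_mul hq) (q % P.N) (Nat.mod_lt _ hN)
  rwa [ent, ent, Nat.div_add_mod] at this

section Rep

variable {R : Type*} [CommSemiring R] {ι : Type*} [Fintype ι] [DecidableEq ι]

/-- the element of `R` coded by row `r`, block column `j` -/
def blockVal (P : PM) (ω : R) (d X r j : ℕ) : R :=
  ∑ u ∈ range d, (P.ent X r (d * j + u) : R) * ω ^ u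

/-- `X` codes the matrix `M`: row `d * i + t` holds the coefficients of `ω ^ t` times row `i` -/
def Rep (P : PM) {n : ℕ} (e : ι ≃ Fin n) (ω : R) (d : ℕ) (X : ℕ) (M : Matrix ι ι R) : Prop :=
  P.Valid X ∧ ∀ i j, ∀ t < d, P.blockVal ω d X (d * e i + t) (e j) = ω ^ t * M i j

theorem sum_range_mul' {A : Type*} [AddCommMonoid A] (d n : ℕ) (f : ℕ → A) :
    ∑ l ∈ range (d * n), f l = ∑ k ∈ range n, ∑ s ∈ range d, f (d * k + s) := by
  induction n with
  | zero => simp
  | succ n ih => rw [Nat.mul_succ, sum_range_add, ih, sum_range_succ]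

theorem blk_lt {d n i t : ℕ} (hi : i < n) (ht : t < d) : d * i + t < d * n := by
  have : d * (i + 1) ≤ d * n := Nat.mul_le_mul_left _ hi
  rw [Nat.mul_succ] at this; omega

omit [DecidableEq ι] in
theorem Rep.mul (h : P.OK) {n d : ℕ} {e : ι ≃ Fin n} {ω : R} (hN : P.N = d * n)
    (hp : (P.p : R) = 0) {X Y : ℕ} {A B : Matrix ι ι R} (hA : P.Rep e ω d X A)
    (hB : P.Rep e ω d Y B) : P.Rep e ω d (P.mul X Y) (A * B) := by
  refine ⟨valid_mul h hA.1 hB.1, fun i j t ht => ?_⟩
  have hcast : ∀ z : ℕ, ((z % P.p : ℕ) : R) = z := fun z => by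
    conv_rhs => rw [← Nat.div_add_mod z P.p]
    push_cast; rw [hp]; simp
  have e1 : P.blockVal ω d (P.mul X Y) (d * e i + t) (e j) =
      ∑ l ∈ range P.N, (P.ent X (d * e i + t) l : R) * P.blockVal ω d Y l (e j) := by
    unfold blockVal
    simp only [mul_sum]
    rw [sum_comm]
    apply sum_congr rfl
    intro u hu
    rw [ent_mul h hA.1 hB.1 (by rw [hN]; exact blk_lt (e i).2 ht)
      (by rw [hN]; exact blk_lt (e j).2 (mem_range.mp hu)), hcast]
    push_cast
    rw [sum_mul]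
    apply sum_congr rfl
    intro l _; ring
  rw [e1, hN, sum_range_mul', Matrix.mul_apply, mul_sum, ← Fin.sum_univ_eq_sum_range
    (fun k => ∑ s ∈ range d, (P.ent X (d * e i + t) (d * k + s) : R) *
      P.blockVal ω d Y (d * k + s) (e j)), ← e.sum_comp]
  apply sum_congr rfl
  intro k _
  rw [← mul_assoc, ← hA.2 i k t ht, blockVal, sum_mul]
  apply sum_congr rfl
  intro s hs
  rw [hB.2 k j s (mem_range.mp hs)]; ring

omit [Fintype ι] in
theorem Rep.one (h : P.OK) {n d : ℕ} (e : ι ≃ Fin n) (ω : R) (hN : P.N = d * n) :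
    P.Rep e ω d P.one (1 : Matrix ι ι R) := by
  refine ⟨h.hv, fun i j t ht => ?_⟩
  unfold blockVal
  have : ∀ u ∈ range d, (P.ent P.one (d * e i + t) (d * e j + u) : R) * ω ^ u =
      if u = t then ω ^ t * (1 : Matrix ι ι R) i j else 0 := by
    intro u hu
    have hu' := mem_range.mp hu
    rw [h.h1 _ (by rw [hN]; exact blk_lt (e i).2 ht) _ (by rw [hN]; exact blk_lt (e j).2 hu'),
      Matrix.one_apply]
    by_cases hij : i = j
    · subst hij
      by_cases hut : u = t
      · simp [hut]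
      · have : ¬ t = u := fun h => hut h.symm
        simp [hut, this]
    · have : ¬ d * e i + t = d * e j + u := by
        intro h2
        apply hij
        apply e.injective
        apply Fin.ext
        have : (d * e i + t) / d = (d * e j + u) / d := by rw [h2]
        rwa [Nat.mul_add_div (by omega), Nat.mul_add_div (by omega), Nat.div_eq_of_lt ht,
          Nat.div_eq_of_lt hu', add_zero, add_zero] at this
      simp [this, hij]
  rw [sum_congr rfl this, sum_ite_eq' (range d) t]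
  simp [ht]

omit [Fintype ι] [DecidableEq ι] in
theorem Rep.unique {n d : ℕ} {e : ι ≃ Fin n} {ω : R} (hd : 0 < d) {X : ℕ} {A B : Matrix ι ι R}
    (hA : P.Rep e ω d X A) (hB : P.Rep e ω d X B) : A = B := by
  ext i j
  have h1 := hA.2 i j 0 hd
  have h2 := hB.2 i j 0 hd
  rw [pow_zero, one_mul] at h1 h2
  rw [← h1, h2]

/-- the powers `ω ^ u`, `u < d`, are independent over the residues modulo `p` -/
def Indep (p : ℕ) (ω : R) (d : ℕ) : Prop :=
  ∀ a b : ℕ → ℕ, (∀ u, a u < p) → (∀ u, b u < p) →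
    ∑ u ∈ range d, (a u : R) * ω ^ u = ∑ u ∈ range d, (b u : R) * ω ^ u → ∀ u < d, a u = b u

omit [Fintype ι] [DecidableEq ι] in
theorem Rep.code_unique (h : P.OK) {n d : ℕ} {e : ι ≃ Fin n} {ω : R} (hN : P.N = d * n)
    (hi : Indep P.p ω d) {X Y : ℕ} {A : Matrix ι ι R}
    (hX : P.Rep e ω d X A) (hY : P.Rep e ω d Y A) : X = Y := by
  apply eq_of_ent h hX.1 hY.1
  intro r hr c hc
  rw [hN] at hr hc
  have hd : 0 < d := by
    rcases Nat.eq_zero_or_pos d with h0 | h0
    · rw [h0] at hr; omega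
    · exact h0
  have h1 := hX.2 (e.symm ⟨r / d, Nat.div_lt_of_lt_mul hr⟩) (e.symm ⟨c / d, Nat.div_lt_of_lt_mul hc⟩)
    (r % d) (Nat.mod_lt _ hd)
  have h2 := hY.2 (e.symm ⟨r / d, Nat.div_lt_of_lt_mul hr⟩) (e.symm ⟨c / d, Nat.div_lt_of_lt_mul hc⟩)
    (r % d) (Nat.mod_lt _ hd)
  rw [← h2] at h1
  simp only [Equiv.apply_symm_apply, Nat.div_add_mod] at h1
  have := hi _ _ (fun u => hX.1.2 _) (fun u => hY.1.2 _) h1 (c % d) (Nat.mod_lt _ hd)
  simpa only [ent, Nat.div_add_mod] using this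

/-- the model of the matrix monoid -/
noncomputable def model (h : P.OK) {n d : ℕ} (e : ι ≃ Fin n) (ω : R) (hN : P.N = d * n)
    (hd : 0 < d) (hp : (P.p : R) = 0) : Model (Matrix ι ι R) where
  mul := P.mul
  one := P.one
  Rep := P.Rep e ω d
  rep_one := Rep.one h e ω hN
  rep_mul := Rep.mul h hN hp
  rep_unique := Rep.unique hd

/-- the matrix read off a code -/
def toMat (P : PM) {n : ℕ} (e : ι ≃ Fin n) (ω : R) (d X : ℕ) : Matrix ι ι R :=
  Matrix.of fun i j => P.blockVal ω d X (d * e i) (e j)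

omit [Fintype ι] [DecidableEq ι] in
theorem rep_toMat_one {n : ℕ} (e : ι ≃ Fin n) (ω : R) {X : ℕ} (hX : P.Valid X) :
    P.Rep e ω 1 X (P.toMat e ω 1 X) := by
  refine ⟨hX, fun i j t ht => ?_⟩
  have : t = 0 := by omega
  subst this
  simp [toMat]

end Rep

end PM

end Cfsg.Agent.H9
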