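import Cfsg.Agent.H9.Leech
import Cfsg.Agent.H9.PMat

/-! Elements of `Co0` from integer matrices; a faithful model of `Co0` by matrices modulo 3. -/

set_option autoImplicit false

namespace Cfsg.Agent.H9

open Cfsg Cfsg.Spor Finset

/-- the points as `Fin 24` -/
def idxE : GolayPt ≃ Fin 24 where
  toFun p := ⟨idx p, idx_lt p⟩
  invFun i := pt i
  left_inv p := pt_idx p
  right_inv i := Fin.ext (idx_pt i.2)

theorem sum_idx {A : Type*} [AddCommMonoid A] (f : ℕ → A) :
    ∑ p : GolayPt, f (idx p) = ∑ i ∈ range 24, f i := by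
  rw [← Fin.sum_univ_eq_sum_range, ← idxE.sum_comp]; rfl

/-- integer sum over `i < n` -/
noncomputable def sumI (n : ℕ) (f : ℕ → ℤ) : ℤ :=
  Nat.rec (motive := fun _ => ℤ) 0 (fun i ih => Int.add ih (f i)) n

theorem sumI_eq (n : ℕ) (f : ℕ → ℤ) : sumI n f = ∑ i ∈ range n, f i := by
  induction n with
  | zero => rfl
  | succ n ih => rw [sum_range_succ, ← ih]; rfl

/-- natural sum over `i < n` -/
noncomputable def sumN (n : ℕ) (f : ℕ → ℕ) : ℕ :=
  Nat.rec (motive := fun _ => ℕ) 0 (fun i ih => Nat.add ih (f i)) n

theorem sumN_eq (n : ℕ) (f : ℕ → ℕ) : sumN n f = ∑ i ∈ range n, f i := by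
  induction n with
  | zero => rfl
  | succ n ih => rw [sum_range_succ, ← ih]; rfl

/-- lattice membership test -/
noncomputable def lamB (y : ℕ → ℤ) : Bool :=
  allLt 24 (fun i => decide (y i % 2 = y 0 % 2)) && decide (sumI 24 y % 8 = (4 * y 0) % 8) &&
    isCode (mkMask 24 fun i => decide (2 ≤ y i % 4))

theorem lam_of_lamB {y : ℕ → ℤ} (h : lamB y = true) : Lam fun p => y (idx p) := by
  simp only [lamB, Bool.and_eq_true, allLt_iff, decide_eq_true_eq] at h
  obtain ⟨⟨h1, h2⟩, h3⟩ := h
  refine ⟨y 0, fun i => h1 _ (idx_lt i), by rw [sum_idx, ← sumI_eq]; exact h2, ?_⟩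
  refine mem_gSupports.mpr ⟨_, isCode_of h3, ?_⟩
  ext p
  rw [mem_hiSet, mem_setOf, testBit_mkMask]
  simp [idx_lt p]

/-- generators of the lattice -/
def genVec (k i : ℕ) : ℤ :=
  if k < 24 then (if i = k then 4 else 0) + (if i = 23 then 4 else 0)
  else if k < 36 then (if tb (gBasis.getD (k - 24) 0) i then 2 else 0)
  else if i = 23 then -3 else 1

theorem four_smul_mem {A : AddSubgroup (GolayPt → ℤ)}
    (hA : ∀ k < 37, (fun p => genVec k (idx p)) ∈ A) {y : GolayPt → ℤ} (hy : (∑ i, y i) % 2 = 0) :
    (4 : ℤ) • y ∈ A := by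
  have hg : ∀ j : GolayPt, (fun p => (if p = j then (4 : ℤ) else 0) + (if p = none then 4 else 0)) ∈ A := by
    intro j
    have := hA (idx j) (by have := idx_lt j; omega)
    convert this using 2 with p
    have h1 : idx p = idx j ↔ p = j := idx_injective.eq_iff
    have h2 : idx p = 23 ↔ p = none := idx_injective.eq_iff (b := none)
    simp only [genVec, idx_lt j, if_true, h1, h2]
  obtain ⟨s, hs⟩ : ∃ s, ∑ i, y i = 2 * s := ⟨(∑ i, y i) / 2, by omega⟩
  have e : (4 : ℤ) • y = ∑ j, y j • (fun p => (if p = j then (4 : ℤ) else 0) + (if p = none then 4 else 0))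
      - s • (fun p => (if p = none then (4 : ℤ) else 0) + (if p = none then 4 else 0)) := by
    funext p
    simp only [Pi.smul_apply, smul_eq_mul, Pi.sub_apply, Finset.sum_apply, mul_add, sum_add_distrib,
      ← sum_mul, hs]
    rw [sum_eq_single p (fun b _ hb => by simp [hb.symm]) (by simp)]
    simp only [if_true]
    ring
  rw [e]
  exact A.sub_mem (A.sum_mem fun j _ => A.zsmul_mem (hg j) _) (A.zsmul_mem (hg none) _)

theorem twoInd_mem {A : AddSubgroup (GolayPt → ℤ)}
    (hA : ∀ k < 37, (fun p => genVec k (idx p)) ∈ A) {c : Finset GolayPt} (hc : c ∈ gSupports) :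
    twoInd c ∈ A := by
  obtain ⟨m, hm, rfl⟩ := mem_gSupports.mp hc
  have := InSpan.induction (P := fun m => IsCode m ∧ twoInd (setOf m) ∈ A) ?_ ?_ ?_ hm
  · exact this.2
  · refine ⟨IsCode.zero, ?_⟩
    have : twoInd (setOf 0) = 0 := by funext p; simp [twoInd]
    rw [this]; exact A.zero_mem
  · intro b hb
    refine ⟨InSpan.of_mem hb, ?_⟩
    have : ∃ k < 12, b = gBasis.getD k 0 := by revert b; decide +kernel
    obtain ⟨k, hk, rfl⟩ := this
    have := hA (k + 24) (by omega)
    convert this using 2 with p
    have h1 : ¬ k + 24 < 24 := by omega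
    have h2 : k + 24 < 36 := by omega
    simp only [genVec, h1, h2, if_true, if_false, twoInd, mem_setOf, tb_eq, Nat.add_sub_cancel]
  · rintro a b ⟨ha, ha'⟩ ⟨hb, hb'⟩
    refine ⟨ha.xor hb, ?_⟩
    have e : twoInd (setOf (a ^^^ b)) = twoInd (setOf a) + twoInd (setOf b) -
        (4 : ℤ) • fun p => if p ∈ setOf a ∩ setOf b then 1 else 0 := by
      funext p
      simp only [twoInd, mem_setOf, Nat.testBit_xor, Pi.sub_apply, Pi.add_apply, Pi.smul_apply,
        mem_inter, smul_eq_mul]
      cases a.testBit (idx p) <;> cases b.testBit (idx p) <;> simp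
    rw [e]
    refine A.sub_mem (A.add_mem ha' hb') (four_smul_mem hA ?_)
    have h1 := congrArg (fun v : GolayPt → ℤ => ∑ i, v i) e
    simp only [twoInd, Pi.sub_apply, Pi.add_apply, Pi.smul_apply, smul_eq_mul, sum_sub_distrib,
      sum_add_distrib, ← mul_sum] at h1
    rw [sum_ite_mem', sum_ite_mem', sum_ite_mem'] at h1
    have w1 := card_of_mem_gSupports (mem_gSupports.mpr ⟨_, ha, rfl⟩)
    have w2 := card_of_mem_gSupports (mem_gSupports.mpr ⟨_, hb, rfl⟩)
    have w3 := card_of_mem_gSupports (mem_gSupports.mpr ⟨_, ha.xor hb, rfl⟩)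
    omega

theorem mem_of_genVec {A : AddSubgroup (GolayPt → ℤ)}
    (hA : ∀ k < 37, (fun p => genVec k (idx p)) ∈ A) {x : GolayPt → ℤ} (hx : Lam x) : x ∈ A := by
  have even : ∀ x : GolayPt → ℤ, Lam x → (∀ i, x i % 2 = 0) → x ∈ A := by
    rintro x ⟨m, h1, h2, h3⟩ h0
    have hm : m % 2 = 0 := by have := h1 none; have := h0 none; omega
    have e : x = twoInd (hiSet x) + (4 : ℤ) • fun p => x p / 4 := by
      funext p
      have := h0 p
      simp only [twoInd, mem_hiSet, Pi.add_apply, Pi.smul_apply, smul_eq_mul]
      split_ifs <;> omega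
    have h4 := congrArg (fun v : GolayPt → ℤ => ∑ i, v i) e
    simp only [twoInd, Pi.add_apply, Pi.smul_apply, smul_eq_mul, sum_add_distrib, ← mul_sum] at h4
    rw [sum_ite_mem'] at h4
    have w := card_of_mem_gSupports h3
    rw [e]
    exact A.add_mem (twoInd_mem hA h3) (four_smul_mem hA (by omega))
  have hv : Lam fun p => genVec 36 (idx p) := lam_of_lamB (by decide +kernel)
  have hv2 : ∀ p, genVec 36 (idx p) % 2 = 1 := by decide +kernel
  by_cases h0 : x none % 2 = 0
  · apply even x hx
    obtain ⟨m, h1, -⟩ := hx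
    intro i; have := h1 i; have := h1 none; omega
  · have := even _ (hx.add hv.neg) (by
      obtain ⟨m, h1, -⟩ := hx
      intro i; have := h1 i; have := h1 none; have := hv2 i
      simp only [Pi.add_apply, Pi.neg_apply]; omega)
    have e : x = (x + -fun p => genVec 36 (idx p)) + fun p => genVec 36 (idx p) := by simp
    rw [e]
    exact A.add_mem this (hA 36 (by norm_num))

/-- entries of a packed integer matrix (5 bits per entry, offset 8) -/
def mI (X i j : ℕ) : ℤ := Int.subNatNat (look 5 X (Nat.add (Nat.mul 24 i) j)) 8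

/-- matrix times vector -/
noncomputable def appI (X : ℕ) (y : ℕ → ℤ) (i : ℕ) : ℤ := sumI 24 fun j => Int.mul (mI X i j) (y j)

/-- the matrix is 8 times an orthogonal matrix that maps the lattice into itself -/
noncomputable def checkCo0 (X : ℕ) : Bool :=
  allLt 24 (fun i => allLt 24 fun j =>
    decide (sumI 24 (fun l => Int.mul (mI X l i) (mI X l j)) = if i = j then 64 else 0)) &&
  allLt 37 fun k => allLt 24 (fun i => decide (appI X (genVec k) i % 8 = 0)) &&
    lamB fun i => appI X (genVec k) i / 8

/-- `f` acts by one eighth of the matrix `X` -/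
def IsMat (f : Equiv.Perm leechLattice) (X : ℕ) : Prop :=
  ∀ (x : leechLattice) (i : GolayPt), 8 * ((f x : leechLattice) : GolayPt → ℤ) i =
    ∑ j, mI X (idx i) (idx j) * (x : GolayPt → ℤ) j

theorem finite_shell (n : ℤ) : {x : leechLattice | sqNorm (x : GolayPt → ℤ) = n}.Finite := by
  apply Set.Finite.of_finite_image (f := Subtype.val) _ Subtype.val_injective.injOn
  apply (Set.Finite.pi' (fun _ : GolayPt => Set.finite_Icc (-n) n)).subset
  rintro _ ⟨x, hx, rfl⟩ i
  have h1 : (x : GolayPt → ℤ) i ^ 2 ≤ sqNorm (x : GolayPt → ℤ) :=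
    single_le_sum (f := fun i => (x : GolayPt → ℤ) i ^ 2) (fun i _ => sq_nonneg _) (mem_univ i)
  rw [Set.mem_setOf_eq] at hx
  rw [hx] at h1
  constructor <;> nlinarith [sq_nonneg ((x : GolayPt → ℤ) i - 1), sq_nonneg ((x : GolayPt → ℤ) i + 1)]

theorem exists_co0_of_add (F : leechLattice → leechLattice) (hadd : ∀ x y, F (x + y) = F x + F y)
    (hn : ∀ x, sqNorm ((F x : leechLattice) : GolayPt → ℤ) = sqNorm (x : GolayPt → ℤ)) :
    ∃ f ∈ Co0, ∀ x, f x = F x := by
  have hinj : Function.Injective F := by
    have : Function.Injective (AddMonoidHom.mk' F hadd) := by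
      rw [injective_iff_map_eq_zero]
      intro x hx
      have h1 := hn x
      have hx' : F x = 0 := hx
      rw [hx'] at h1
      apply Subtype.ext
      apply eq_zero_of_sqNorm
      rw [← h1]; simp [sqNorm]
    exact this
  have hsurj : Function.Surjective F := by
    intro y
    have hm : Set.MapsTo F {x : leechLattice | sqNorm (x : GolayPt → ℤ) = sqNorm (y : GolayPt → ℤ)}
        {x : leechLattice | sqNorm (x : GolayPt → ℤ) = sqNorm (y : GolayPt → ℤ)} := by
      intro x hx; exact (hn x).trans hx
    obtain ⟨x, -, hx⟩ := (((finite_shell _).injOn_iff_bijOn_of_mapsTo hm).mp hinj.injOn).surjOn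
      (show y ∈ _ from rfl)
    exact ⟨x, hx⟩
  exact ⟨Equiv.ofBijective F ⟨hinj, hsurj⟩, ⟨hadd, hn⟩, fun x => rfl⟩

theorem exists_co0 {X : ℕ} (h : checkCo0 X = true) : ∃ f ∈ Co0, IsMat f X := by
  simp only [checkCo0, Bool.and_eq_true, allLt_iff, decide_eq_true_eq] at h
  obtain ⟨h1, h2⟩ := h
  let T : (GolayPt → ℤ) → GolayPt → ℤ := fun x i => ∑ j, mI X (idx i) (idx j) * x j
  have Tadd : ∀ x y, T (x + y) = T x + T y := by
    intro x y; funext i; simp only [T, Pi.add_apply, mul_add, sum_add_distrib]
  let A : AddSubgroup (GolayPt → ℤ) :=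
    { carrier := {x | ∃ y : leechLattice, ∀ i, 8 * (y : GolayPt → ℤ) i = T x i}
      zero_mem' := ⟨0, by simp [T]⟩
      add_mem' := by
        rintro a b ⟨y, hy⟩ ⟨z, hz⟩
        exact ⟨y + z, fun i => by rw [Tadd]; simp [mul_add, hy, hz]⟩
      neg_mem' := by
        rintro a ⟨y, hy⟩
        exact ⟨-y, fun i => by
          simp only [AddSubgroup.coe_neg, Pi.neg_apply, mul_neg, hy, T, sum_neg_distrib]⟩ }
  have hA : ∀ x : leechLattice, (x : GolayPt → ℤ) ∈ A := by
    intro x
    apply mem_of_genVec _ (mem_leechLattice_iff.mp x.2)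
    intro k hk
    refine ⟨⟨_, mem_leechLattice_iff.mpr (lam_of_lamB (h2 k hk).2)⟩, fun i => ?_⟩
    have h3 := (h2 k hk).1 _ (idx_lt i)
    have e : T (fun p => genVec k (idx p)) i = appI X (genVec k) (idx i) := by
      rw [appI, sumI_eq, ← sum_idx]; rfl
    rw [e]
    show 8 * (appI X (genVec k) (idx i) / 8) = _
    omega
  choose F hF using hA
  have horth : ∀ i j : GolayPt, ∑ l : GolayPt, mI X (idx l) (idx i) * mI X (idx l) (idx j) =
      if i = j then 64 else 0 := by
    intro i j
    have := h1 _ (idx_lt i) _ (idx_lt j)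
    rw [sumI_eq, ← sum_idx] at this
    simp only [idx_injective.eq_iff] at this
    exact this
  obtain ⟨f, hf, hfF⟩ := exists_co0_of_add F (by
    intro x y
    apply Subtype.ext
    funext i
    have a := hF (x + y) i
    have b := hF x i
    have c := hF y i
    rw [AddSubgroup.coe_add, Tadd, Pi.add_apply] at a
    rw [AddSubgroup.coe_add, Pi.add_apply]
    omega) (by
    intro x
    have : 64 * sqNorm ((F x : leechLattice) : GolayPt → ℤ) = 64 * sqNorm (x : GolayPt → ℤ) := by
      calc 64 * sqNorm ((F x : leechLattice) : GolayPt → ℤ) = ∑ l, (T x l) ^ 2 := by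
            simp only [sqNorm, mul_sum, ← hF]; apply sum_congr rfl; intro i _; ring
        _ = ∑ l, ∑ i, ∑ j, (x : GolayPt → ℤ) i * (x : GolayPt → ℤ) j *
              (mI X (idx l) (idx i) * mI X (idx l) (idx j)) := by
            apply sum_congr rfl; intro l _
            simp only [T, sq, sum_mul_sum]
            apply sum_congr rfl; intro i _; apply sum_congr rfl; intro j _; ring
        _ = ∑ i, ∑ j, (x : GolayPt → ℤ) i * (x : GolayPt → ℤ) j * (if i = j then 64 else 0) := by
            rw [sum_comm]; apply sum_congr rfl; intro i _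
            rw [sum_comm]; apply sum_congr rfl; intro j _
            rw [← mul_sum, horth]
        _ = _ := by
            simp only [sqNorm, mul_sum, mul_ite, mul_zero, sum_ite_eq, mem_univ, if_true]
            apply sum_congr rfl; intro i _; ring
    omega)
  exact ⟨f, hf, fun x i => by rw [hfF, hF]⟩

/-- the element of `Co0` with matrix `X / 8` -/
noncomputable def co0Of (X : ℕ) (h : checkCo0 X = true) : Equiv.Perm leechLattice :=
  (exists_co0 h).choose

theorem co0Of_mem (X : ℕ) (h : checkCo0 X = true) : co0Of X h ∈ Co0 := (exists_co0 h).choose_spec.1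
theorem co0Of_isMat (X : ℕ) (h : checkCo0 X = true) : IsMat (co0Of X h) X :=
  (exists_co0 h).choose_spec.2

/-- packed 24 × 24 matrices modulo 3 -/
def P3 : PM := ⟨24, 13, 3, 43, 7, 0x1fff000000000000000000000000000000000000000000000000000000000000000000000000001fff000000000000000000000000000000000000000000000000000000000000000000000000001fff000000000000000000000000000000000000000000000000000000000000000000000000001fff000000000000000000000000000000000000000000000000000000000000000000000000001fff000000000000000000000000000000000000000000000000000000000000000000000000001fff000000000000000000000000000000000000000000000000000000000000000000000000001fff000000000000000000000000000000000000000000000000000000000000000000000000001fff000000000000000000000000000000000000000000000000000000000000000000000000001fff000000000000000000000000000000000000000000000000000000000000000000000000001fff000000000000000000000000000000000000000000000000000000000000000000000000001fff000000000000000000000000000000000000000000000000000000000000000000000000001ff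f000000000000000000000000000000000000000000000000000000000000000000000000001fff000000000000000000000000000000000000000000000000000000000000000000000000001fff000000000000000000000000000000000000000000000000000000000000000000000000001fff000000000000000000000000000000000000000000000000000000000000000000000000001fff000000000000000000000000000000000000000000000000000000000000000000000000001fff000000000000000000000000000000000000000000000000000000000000000000000000001fff000000000000000000000000000000000000000000000000000000000000000000000000001fff000000000000000000000000000000000000000000000000000000000000000000000000001fff000000000000000000000000000000000000000000000000000000000000000000000000001fff000000000000000000000000000000000000000000000000000000000000000000000000001fff000000000000000000000000000000000000000000000000000000000000000000000000001fff000000000000000000000000000000000000000000000000000000000000000000000000001fff, 0x1f80fc07e03f01f80fc07e03f01f80fc07e03f01f80fc07e03f01f80fc07e03f01f80fc07e03f01f80fc07e03f01f80fc07e03f01f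80fc07e03f01f80fc07e03f01f80fc07e03f01f80fc07e03f01f80fc07e03f01f80fc07e03f01f80fc07e03f01f80fc07e03f01f80fc07e03f01f80fc07e03f01f80fc07e03f01f80fc07e03f01f80fc07e03f01f80fc07e03f01f80fc07e03f01f80fc07e03f01f80fc07e03f01f80fc07e03f01f80fc07e03f01f80fc07e03f01f80fc07e03f01f80fc07e03f01f80fc07e03f01f80fc07e03f01f80fc07e03f01f80fc07e03f01f80fc07e03f01f80fc07e03f01f80fc07e03f01f80fc07e03f01f80fc07e03f01f80fc07e03f01f80fc07e03f01f80fc07e03f01f80fc07e03f01f80fc07e03f01f80fc07e03f01f80fc07e03f01f80fc07e03f01f80fc07e03f01f80fc07e03f01f80fc07e03f01f80fc07e03f01f80fc07e03f01f80fc07e03f01f80fc07e03f01f80fc07e03f01f80fc07e03f01f80fc07e03f01f80fc07e03f01f80fc07e03f01f80fc07e03f01f80fc07e03f01f80fc07e03f01f80fc07e03f01f80fc07e03f01f80fc07e03f01f80fc07e03f01f80fc07e03f01f80fc07e03f01f80fc07e03f01f80fc07e03f01f80fc07e03f01f80fc07e03f01f80fc07e03f01f80fc07e03f01f80fc07e03f01f80fc07e03f01f80fc07e03f01f80fc07e03f01f80fc07e03f01f80fc07e03f01f80fc07e03f01f80fc07e03f01f80fc07e03f01f80fc07e03f01f80fc07e03f01f80fc07e03f01f80fc07e03f01f80fc07e03f01f80fc07e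03f01f80fc07e03f01f80fc07e03f01f80fc07e03f01f80fc07e03f01f80fc07e03f01f80fc07e03f01f80fc07e03f01f80fc07e03f01f80fc07e03f01f80fc07e03f01f80fc07e03f01f80fc07e03f01f80fc07e03f01f80fc07e03f01f80fc07e03f01f80fc07e03f01f80fc07e03f01f80fc07e03f01f80fc07e03f01f80fc07e03f01f80fc07e03f01f80fc07e03f01f80fc07e03f01f80fc07e03f01f80fc07e03f01f80fc07e03f01f80fc07e03f01f80fc07e03f01f80fc07e03f01f80fc07e03f01f80fc07e03f01f80fc07e03f01f80fc07e03f01f80fc07e03f01f80fc07e03f01f80fc07e03f01f80fc07e03f01f80fc07e03f01f80fc07e03f01f80fc07e03f01f80fc07e03f01f80fc07e03f01f80fc07e03f01f80fc07e03f01f80fc07e03f01f80fc07e03f01f80fc07e03f01f80fc07e03f01f80fc07e03f01f80fc07e03f01f80fc07e03f01f80fc07e03f01f80fc07e03f01f80fc07e03f01f80fc07e03f, 0x8000000000000000000000000000000000000000000000000000000000000000000000000000000004000000000000000000000000000000000000000000000000000000000000000000000000000000002000000000000000000000000000000000000000000000000000000000000000000000000000000001000000000000000000000000000000000000000000000000000000000000000000000000000000000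80000000000000000000000000000000000000000000000000000000000000000000000000000000040000000000000000000000000000000000000000000000000000000000000000000000000000000020000000000000000000000000000000000000000000000000000000000000000000000000000000010000000000000000000000000000000000000000000000000000000000000000000000000000000008000000000000000000000000000000000000000000000000000000000000000000000000000000004000000000000000000000000000000000000000000000000000000000000000000000000000000002000000000000000000000000000000000000000000000000000000000000000000000000000000001000000000000000000000000000000000000000000000000000000000000000000000000000000000800000000000000000000000000000000000000000000000000000000000000000000000000000000400000000000000000000000000000000000000000000000000000000000000000000000000000000200000000000000000000000000000000000000000000000000000000000000000000000000000000100000000000000000000000000000000000000000000000000000000000000000000000000000000080000000000000000000000000000000000000000000000000000000000000000000000000000000040000000000000000000000000000000000000000000000000000000000000000000000000000000020000000000000000000000000000000000000000000000000000000000000000000000000000000010000000000000000000000000000000000000000000000000000000000000000000000000000000008000000000000000000000000000000000000000000000000000000000000000000000000000000004000000000000000000000000000000000000000000000000000000000000000000000000000000002000000000000000000000000000000000000000000000000000000000000000000000000000000001⟩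

theorem P3_ok : P3.OK := PM.ok_of (by decide +kernel)

/-- the code `a` (a matrix modulo 3) describes the element `f` of `Co0` -/
def LRep (a : ℕ) (f : Equiv.Perm leechLattice) : Prop :=
  f ∈ Co0 ∧ P3.Valid a ∧ ∀ (x : leechLattice) (i : GolayPt),
    ((((f x : leechLattice) : GolayPt → ℤ) i : ℤ) : ZMod 3) =
      ∑ j, (P3.ent a (idx i) (idx j) : ZMod 3) * (((x : GolayPt → ℤ) j : ℤ) : ZMod 3)

theorem LRep.mul {a b : ℕ} {f g : Equiv.Perm leechLattice} (hf : LRep a f) (hg : LRep b g) :
    LRep (P3.mul a b) (f * g) := by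
  refine ⟨Co0.mul_mem hf.1 hg.1, PM.valid_mul P3_ok hf.2.1 hg.2.1, fun x i => ?_⟩
  rw [Equiv.Perm.mul_apply, hf.2.2]
  simp only [hg.2.2, mul_sum]
  rw [sum_comm]
  apply sum_congr rfl
  intro j _
  rw [PM.ent_mul P3_ok hf.2.1 hg.2.1 (idx_lt i) (idx_lt j)]
  have e1 : P3.p = 3 := rfl
  have e2 : P3.N = 24 := rfl
  rw [e1, e2, ZMod.natCast_mod, ← sum_idx]
  push_cast
  rw [sum_mul]
  apply sum_congr rfl
  intro l _; ring

theorem LRep.one : LRep P3.one 1 := by
  refine ⟨Co0.one_mem, P3_ok.hv, fun x i => ?_⟩
  rw [sum_eq_single i]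
  · rw [P3_ok.h1 _ (idx_lt i) _ (idx_lt i)]; simp
  · intro b _ hb
    rw [P3_ok.h1 _ (idx_lt i) _ (idx_lt b), if_neg (fun h => hb (idx_injective h).symm)]; simp
  · simp

theorem LRep.unique {a : ℕ} {f g : Equiv.Perm leechLattice} (hf : LRep a f) (hg : LRep a g) :
    f = g := by
  apply Co0_ext hf.1 hg.1
  intro j
  apply eq_of_mod_three
  · rw [Co0_norm hf.1, sqNorm_e8]
  · rw [Co0_norm hg.1, sqNorm_e8]
  · intro i; rw [hf.2.2, hg.2.2]

theorem LRep.code_unique {a b : ℕ} {f : Equiv.Perm leechLattice} (ha : LRep a f) (hb : LRep b f) :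
    a = b := by
  apply PM.eq_of_ent P3_ok ha.2.1 hb.2.1
  intro i hi j hj
  have h1 := ha.2.2 (e8 (pt j)) (pt i)
  rw [hb.2.2] at h1
  simp only [e8_apply] at h1
  rw [sum_eq_single (pt j) (fun b _ hb => by simp [hb]) (by simp),
    sum_eq_single (pt j) (fun b _ hb => by simp [hb]) (by simp), idx_pt hi, idx_pt hj] at h1
  have h2 : P3.ent a i j < 3 := ha.2.1.2 _
  have h3 : P3.ent b i j < 3 := hb.2.1.2 _
  simp only [if_true] at h1
  generalize P3.ent a i j = u at *
  generalize P3.ent b i j = v at *
  interval_cases u <;> interval_cases v <;> first | rfl | exact absurd h1 (by decide)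

/-- the model of the lattice permutations lying in `Co0` -/
noncomputable def leechModel : Model (Equiv.Perm leechLattice) where
  mul := P3.mul
  one := P3.one
  Rep := LRep
  rep_one := LRep.one
  rep_mul := LRep.mul
  rep_unique := LRep.unique

/-- the code `a` is the reduction of `X / 8` modulo 3 -/
noncomputable def checkRed (X a : ℕ) : Bool :=
  P3.valid a && allLt 24 fun i => allLt 24 fun j =>
    Nat.beq ((P3.ent a i j + look 5 X (Nat.add (Nat.mul 24 i) j)) % 3) 2

theorem IsMat.lrep {f : Equiv.Perm leechLattice} {X a : ℕ} (hf : f ∈ Co0) (h : IsMat f X)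
    (hc : checkRed X a = true) : LRep a f := by
  simp only [checkRed, Bool.and_eq_true, allLt_iff, Nat.beq_eq] at hc
  refine ⟨hf, PM.valid_of (by decide) hc.1, fun x i => ?_⟩
  have h1 := congrArg (Int.cast : ℤ → ZMod 3) (h x i)
  push_cast at h1
  have h8 : (8 : ZMod 3) = -1 := by decide
  rw [h8, neg_one_mul, neg_eq_iff_eq_neg] at h1
  rw [h1, ← sum_neg_distrib]
  apply sum_congr rfl
  intro j _
  rw [← neg_mul]
  congr 1
  have h2 := hc.2 _ (idx_lt i) _ (idx_lt j)
  have h3 := congrArg (Nat.cast : ℕ → ZMod 3) h2
  rw [ZMod.natCast_mod] at h3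
  push_cast at h3
  rw [mI, Int.subNatNat_eq_coe]
  push_cast
  rw [h8]
  have h4 : (2 : ZMod 3) = -1 := by decide
  rw [h4] at h3
  linear_combination -h3

theorem lrep_co0Of {X a : ℕ} (h : checkCo0 X = true) (hc : checkRed X a = true) :
    LRep a (co0Of X h) := (co0Of_isMat X h).lrep (co0Of_mem X h) hc

/-- the code maps the residues `y` to the residues `z` -/
noncomputable def mapsVec (a : ℕ) (y z : ℕ → ℕ) : Bool :=
  allLt 24 fun i => Nat.beq (sumN 24 (fun j => P3.ent a i j * y j) % 3) (z i % 3)

theorem LRep.apply_eq {a : ℕ} {f : Equiv.Perm leechLattice} (hf : LRep a f) {u v : leechLattice}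
    (hu : sqNorm (u : GolayPt → ℤ) ≤ 64) (hv : sqNorm (v : GolayPt → ℤ) ≤ 64) {y z : ℕ → ℕ}
    (hy : ∀ p, (((u : GolayPt → ℤ) p : ℤ) : ZMod 3) = y (idx p))
    (hz : ∀ p, (((v : GolayPt → ℤ) p : ℤ) : ZMod 3) = z (idx p))
    (h : mapsVec a y z = true) : f u = v := by
  apply eq_of_mod_three (by rw [Co0_norm hf.1]; exact hu) hv
  intro i
  have h1 := (allLt_iff _ _).mp h _ (idx_lt i)
  rw [Nat.beq_eq, sumN_eq, ← sum_idx] at h1
  have h3 := congrArg (Nat.cast : ℕ → ZMod 3) h1
  rw [ZMod.natCast_mod, ZMod.natCast_mod] at h3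
  push_cast at h3
  rw [hf.2.2, hz, ← h3]
  simp only [hy]

/-- residues of (4, 4, 0^22) -/
def resU (i : ℕ) : ℕ := if i = 23 ∨ i = 0 then 1 else 0
/-- residues of (-5, -1^23) -/
def resV (i : ℕ) : ℕ := if i = 23 then 1 else 2
/-- residues of (4, -4, 0^22) -/
def resU' (i : ℕ) : ℕ := if i = 23 then 1 else if i = 0 then 2 else 0

theorem sqNorm_U : sqNorm (leechU : GolayPt → ℤ) = 32 := by decide +kernel
theorem sqNorm_V : sqNorm (leechV : GolayPt → ℤ) = 48 := by decide +kernel
theorem sqNorm_U' : sqNorm (leechU' : GolayPt → ℤ) = 32 := by decide +kernel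

theorem LRep.fixU {a : ℕ} {f : Equiv.Perm leechLattice} (hf : LRep a f)
    (h : mapsVec a resU resU = true) : f leechU = leechU :=
  hf.apply_eq (by rw [sqNorm_U]; norm_num) (by rw [sqNorm_U]; norm_num) (by decide +kernel)
    (by decide +kernel) h

theorem LRep.fixV {a : ℕ} {f : Equiv.Perm leechLattice} (hf : LRep a f)
    (h : mapsVec a resV resV = true) : f leechV = leechV :=
  hf.apply_eq (by rw [sqNorm_V]; norm_num) (by rw [sqNorm_V]; norm_num) (by decide +kernel)
    (by decide +kernel) h

theorem LRep.fixU' {a : ℕ} {f : Equiv.Perm leechLattice} (hf : LRep a f)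
    (h : mapsVec a resU' resU' = true) : f leechU' = leechU' :=
  hf.apply_eq (by rw [sqNorm_U']; norm_num) (by rw [sqNorm_U']; norm_num) (by decide +kernel)
    (by decide +kernel) h

theorem LRep.mem_Co2 {a : ℕ} {f : Equiv.Perm leechLattice} (hf : LRep a f)
    (h : mapsVec a resU resU = true) : f ∈ Co2 := ⟨hf.1, hf.fixU h⟩

theorem LRep.mem_Co3 {a : ℕ} {f : Equiv.Perm leechLattice} (hf : LRep a f)
    (h : mapsVec a resV resV = true) : f ∈ Co3 := ⟨hf.1, hf.fixV h⟩

theorem LRep.mem_McL {a : ℕ} {f : Equiv.Perm leechLattice} (hf : LRep a f)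
    (h : mapsVec a resV resV = true) (h' : mapsVec a resU resU = true) : f ∈ McL :=
  ⟨hf.mem_Co3 h, hf.fixU h'⟩

theorem LRep.mem_HS {a : ℕ} {f : Equiv.Perm leechLattice} (hf : LRep a f)
    (h : mapsVec a resV resV = true) (h' : mapsVec a resU' resU' = true) : f ∈ HS :=
  ⟨hf.mem_Co3 h, hf.fixU' h'⟩

end Cfsg.Agent.H9
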