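import Cfsg.Agent.H9.PMat

/-! Reading matrices off packed codes; models of `GL`. -/

set_option autoImplicit false

namespace Cfsg.Agent.H9

open Finset

namespace PM

variable {P : PM} {R : Type*} [CommRing R] {ι : Type*} [Fintype ι] [DecidableEq ι]

/-- rows `d * i + t + 1` are `ω` times rows `d * i + t`, where `ω ^ d = ∑ c u * ω ^ u` -/
noncomputable def shiftOK (P : PM) (n d : ℕ) (c : ℕ → ℕ) (X : ℕ) : Bool :=
  P.valid X && allLt n fun i => allLt (d - 1) fun t => allLt n fun j => allLt d fun u =>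
    Nat.beq (P.ent X (d * i + (t + 1)) (d * j + u))
      (((if u = 0 then 0 else P.ent X (d * i + t) (d * j + (u - 1))) +
        c u * P.ent X (d * i + t) (d * j + (d - 1))) % P.p)

omit [Fintype ι] [DecidableEq ι] in
theorem rep_toMat (h : P.OK) {n d : ℕ} (e : ι ≃ Fin n) {ω : R} (hp : (P.p : R) = 0) {c : ℕ → ℕ}
    (hω : ω ^ d = ∑ u ∈ range d, (c u : R) * ω ^ u) {X : ℕ} (hX : P.shiftOK n d c X = true) :
    P.Rep e ω d X (P.toMat e ω d X) := by
  simp only [shiftOK, Bool.and_eq_true, allLt_iff, Nat.beq_eq] at hX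
  refine ⟨valid_of (by have := h.hp; omega) hX.1, fun i j t ht => ?_⟩
  have hcast : ∀ z : ℕ, ((z % P.p : ℕ) : R) = z := fun z => by
    conv_rhs => rw [← Nat.div_add_mod z P.p]
    push_cast; rw [hp]; simp
  induction t with
  | zero => simp [toMat]
  | succ t ih =>
    rw [pow_succ', mul_assoc, ← ih (by omega)]
    obtain ⟨d, rfl⟩ : ∃ d', d = d' + 1 := ⟨d - 1, by omega⟩
    have H := hX.2 (e i) (e i).2 t (by omega) (e j) (e j).2
    unfold blockVal
    rw [sum_congr rfl fun u hu => by rw [H u (mem_range.mp hu), hcast]]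
    generalize (d + 1) * (e i : ℕ) = I at *
    generalize (d + 1) * (e j : ℕ) = J at *
    push_cast
    simp only [add_mul, sum_add_distrib, Nat.add_sub_cancel]
    rw [sum_range_succ' (fun u => (if u = 0 then (0 : R) else
      (P.ent X (I + t) (J + (u - 1)) : R)) * ω ^ u), mul_sum,
      sum_range_succ (fun u => ω * ((P.ent X (I + t) (J + u) : R) * ω ^ u))]
    have e1 : ω * ((P.ent X (I + t) (J + d) : R) * ω ^ d) =
        ∑ u ∈ range (d + 1), (c u : R) * (P.ent X (I + t) (J + d) : R) * ω ^ u := by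
      rw [show ω * ((P.ent X (I + t) (J + d) : R) * ω ^ d) =
        (P.ent X (I + t) (J + d) : R) * ω ^ (d + 1) by ring, hω, mul_sum]
      apply sum_congr rfl; intro u _; ring
    rw [e1]
    simp only [Nat.add_eq_zero_iff, one_ne_zero, and_false, if_false, if_true, zero_mul, add_zero,
      Nat.add_sub_cancel, add_left_inj]
    apply sum_congr rfl; intro u _; ring

/-- the model of the general linear group -/
noncomputable def glModel (h : P.OK) {n d : ℕ} (e : ι ≃ Fin n) (ω : R) (hN : P.N = d * n)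
    (hd : 0 < d) (hp : (P.p : R) = 0) : Model (Matrix.GeneralLinearGroup ι R) :=
  (P.model h e ω hN hd hp).comap (Units.coeHom _) Units.val_injective

/-- the invertible matrix with code `X` and inverse code `Y` -/
noncomputable def glOf (h : P.OK) {n d : ℕ} {e : ι ≃ Fin n} {ω : R} (hN : P.N = d * n)
    (hd : 0 < d) (hp : (P.p : R) = 0) {X Y : ℕ} {A B : Matrix ι ι R} (hA : P.Rep e ω d X A)
    (hB : P.Rep e ω d Y B) (hXY : Nat.beq (P.mul X Y) P.one = true) :
    Matrix.GeneralLinearGroup ι R :=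
  have h1 : A * B = 1 := by
    have := Rep.mul h hN hp hA hB
    rw [Nat.eq_of_beq_eq_true hXY] at this
    exact Rep.unique hd this (Rep.one h e ω hN)
  ⟨A, B, h1, mul_eq_one_comm.mp h1⟩

theorem isUnit_of_rep (h : P.OK) {n d : ℕ} {e : ι ≃ Fin n} {ω : R} (hN : P.N = d * n)
    (hd : 0 < d) (hp : (P.p : R) = 0) {X Y : ℕ} {A B : Matrix ι ι R} (hA : P.Rep e ω d X A)
    (hB : P.Rep e ω d Y B) (hXY : Nat.beq (P.mul X Y) P.one = true) : IsUnit A :=
  ⟨glOf h hN hd hp hA hB hXY, rfl⟩

omit [Fintype ι] [DecidableEq ι] in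
/-- prime field case: entrywise comparison -/
theorem rep_one_of {n : ℕ} (e : ι ≃ Fin n) (ω : R) {X : ℕ} (hX : P.Valid X) {A : Matrix ι ι R}
    (hA : ∀ i j, (P.ent X (e i) (e j) : R) = A i j) : P.Rep e ω 1 X A := by
  refine ⟨hX, fun i j t ht => ?_⟩
  have : t = 0 := by omega
  subst this
  simp [blockVal, hA]

theorem indep_one (p : ℕ) [CharP R p] (ω : R) : Indep p ω 1 := by
  intro a b ha hb h u hu
  have : u = 0 := by omega
  subst this
  simp only [range_one, sum_singleton, pow_zero, mul_one] at h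
  have := (CharP.natCast_eq_natCast R p).mp h
  exact Nat.ModEq.eq_of_lt_of_lt this (ha 0) (hb 0)

/-- in a field, `1, ω` are independent over the prime field when `ω` is not in it -/
theorem indep_two {F : Type*} [Field F] (p : ℕ) [Fact p.Prime] [CharP F p] {ω : F}
    (hω : ω ^ p ≠ ω) : Indep p ω 2 := by
  intro a b ha hb h
  simp only [sum_range_succ, range_zero, sum_empty, zero_add, pow_zero, mul_one, pow_one] at h
  have hfix : ∀ z : ℕ, (z : F) ^ p = z := fun z => by
    have := map_natCast (frobenius F p) z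
    rwa [frobenius_def] at this
  have h1 : (a 1 : F) = b 1 := by
    by_contra hc
    apply hω
    have e : ω = ((b 0 : F) - a 0) / ((a 1 : F) - b 1) := by
      rw [eq_div_iff (sub_ne_zero.mpr hc)]; linear_combination h
    conv_lhs => rw [e, div_pow, sub_pow_char, sub_pow_char, hfix, hfix, hfix, hfix]
    exact e.symm
  have h0 : (a 0 : F) = b 0 := by rw [h1] at h; exact add_right_cancel h
  intro u hu
  interval_cases u
  · exact Nat.ModEq.eq_of_lt_of_lt ((CharP.natCast_eq_natCast F p).mp h0) (ha 0) (hb 0)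
  · exact Nat.ModEq.eq_of_lt_of_lt ((CharP.natCast_eq_natCast F p).mp h1) (ha 1) (hb 1)

end PM

end Cfsg.Agent.H9
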