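import Cfsg.Agent.H9.OutChk
import Cfsg.Agent.H9.PMat2

/-! Numbered actions obtained from a finite invariant family of points; adapters. -/

set_option autoImplicit false

namespace Cfsg.Agent.H9

open Cfsg.Agent.L0 (ev)

/-- a family of points invariant under the letters gives an action of the image group -/
theorem exists_ra_hom {Γ G X : Type*} [Group Γ] [Group G] {N k : ℕ} (r : X → Γ → X)
    (r1 : ∀ x, r x 1 = x) (rm : ∀ x a b, r x (a * b) = r (r x a) b) (f : Γ →* G) (v : ℕ → X)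
    (hinj : ∀ c < N, ∀ d < N, v c = v d → c = d)
    (hker : ∀ x, f x = 1 → ∀ c < N, r (v c) x = v c) (g : ℕ → Γ) {T : ℕ → ℕ → ℕ}
    (hT : ∀ s < k, ∀ c < N, T c s < N ∧ r (v c) (g s) = v (T c s))
    (hfull : ∀ (H : Subgroup G) (A : RA H N) (g0 : ℕ → H), A.Tab g0 k T → H = ⊤) :
    ∃ A : RA G N, A.Tab (fun s => f (g s)) k T ∧
      ∀ x : Γ, ∀ c < N, v (A.act c (f x)) = r (v c) x := by
  classical
  have rinv : ∀ x a, r (r x a) a⁻¹ = x := fun x a => by rw [← rm, mul_inv_cancel, r1]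
  let S : Subgroup Γ :=
    { carrier := {x | ∀ c < N, ∃ d < N, r (v c) x = v d}
      one_mem' := fun c hc => ⟨c, hc, r1 _⟩
      mul_mem' := by
        intro x y hx hy c hc
        obtain ⟨d, hd, h1⟩ := hx c hc
        obtain ⟨e, he, h2⟩ := hy d hd
        exact ⟨e, he, by rw [rm, h1, h2]⟩
      inv_mem' := by
        intro x hx
        choose F hF1 hF2 using hx
        let F' : Fin N → Fin N := fun c => ⟨F c.1 c.2, hF1 _ _⟩
        have hF : Function.Injective F' := by
          intro a b h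
          have h' : F a.1 a.2 = F b.1 b.2 := congrArg Fin.val h
          refine Fin.ext (hinj _ a.2 _ b.2 ?_)
          rw [← rinv (v a) x, hF2 a.1 a.2, h', ← hF2 b.1 b.2, rinv]
        intro c hc
        obtain ⟨d, hd⟩ := Finite.surjective_of_injective hF ⟨c, hc⟩
        have h' : F d.1 d.2 = c := congrArg Fin.val hd
        exact ⟨d.1, d.2, by rw [← h', ← hF2, rinv]⟩ }
  have hwd : ∀ x x', f x = f x' → ∀ c < N, r (v c) x = r (v c) x' := by
    intro x x' h c hc
    rw [← inv_mul_cancel_right x x', rm, hker _ (by simp [h]) c hc]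
  have hex : ∀ y : S.map f, ∀ c < N, ∃ d < N, ∀ x, f x = y → r (v c) x = v d := by
    rintro ⟨_, x, hx, rfl⟩ c hc
    obtain ⟨d, hd, h⟩ := hx c hc
    exact ⟨d, hd, fun x' hx' => (hwd _ _ hx' c hc).trans h⟩
  choose F hF1 hF2 using hex
  let A : RA (S.map f) N :=
    { act := fun c y => if h : c < N then F y c h else c
      lt := fun hc y => by rw [dif_pos hc]; exact hF1 _ _ _
      one := fun hc => by
        rw [dif_pos hc]
        exact hinj _ (hF1 _ _ _) _ hc (by rw [← hF2 1 _ hc 1 (by simp), r1])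
      mul := by
        intro c hc y z
        obtain ⟨x, -, hx⟩ := y.2
        obtain ⟨x', -, hx'⟩ := z.2
        rw [dif_pos hc, dif_pos hc, dif_pos (hF1 _ _ _)]
        refine hinj _ (hF1 _ _ _) _ (hF1 _ _ _) ?_
        rw [← hF2 _ _ hc (x * x') (by simp [hx, hx']), rm, hF2 y _ hc x hx, hF2 z _ _ x' hx'] }
  have hg : ∀ s < k, g s ∈ S := fun s hs c hc => ⟨_, (hT s hs c hc).1, (hT s hs c hc).2⟩
  have htop := hfull _ A (fun s => if h : s < k then ⟨f (g s), g s, hg s h, rfl⟩ else 1) (by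
    intro s hs c hc
    show _ = dite _ _ _
    rw [dif_pos hc]
    refine hinj _ (hT s hs c hc).1 _ (hF1 _ _ _) ?_
    rw [← (hT s hs c hc).2]
    exact hF2 _ _ hc (g s) (by simp [hs]))
  have hm : ∀ y, y ∈ S.map f := fun y => htop ▸ Subgroup.mem_top y
  have key : ∀ x : Γ, ∀ c < N, v (A.act c ⟨f x, hm _⟩) = r (v c) x := by
    intro x c hc
    show v (dite _ _ _) = _
    rw [dif_pos hc]
    exact (hF2 ⟨f x, hm _⟩ _ hc x rfl).symm
  refine ⟨⟨fun c y => A.act c ⟨y, hm y⟩, fun hc y => A.lt hc _, fun hc => A.one hc,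
    fun hc x y => A.mul hc ⟨x, hm x⟩ ⟨y, hm y⟩⟩, fun s hs c hc => ?_, key⟩
  exact hinj _ (hT s hs c hc).1 _ (A.lt hc _) (by rw [key _ c hc, (hT s hs c hc).2])

theorem eq_top_of_card {G : Type*} [Group G] [Finite G] {n : ℕ} (hle : Nat.card G ≤ n)
    {H : Subgroup G} (h : Nat.card H ≤ n → Nat.card H = n) : H = ⊤ :=
  Subgroup.eq_top_of_le_card _ (hle.trans (h ((Subgroup.card_le_card_group H).trans hle)).ge)

/-- a strictly increasing sequence is injective -/
theorem inj_of_incr {V : ℕ → ℕ} {N : ℕ} (h : ∀ c < N, c = 0 ∨ V (c - 1) < V c) :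
    ∀ c < N, ∀ d < N, V c = V d → c = d := by
  have hmono : ∀ j < N, ∀ i < j, V i < V j := by
    intro j
    induction j with
    | zero => intro _ i hi; omega
    | succ j ih =>
      intro hj i hi
      have := h _ hj
      simp only [Nat.add_eq_zero_iff, one_ne_zero, and_false, Nat.add_sub_cancel, false_or] at this
      rcases Nat.lt_succ_iff_lt_or_eq.mp hi with h4 | rfl
      · exact (ih (by omega) i h4).trans this
      · exact this
  intro c hc d hd e
  rcases lt_trichotomy c d with h4 | h4 | h4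
  · have := hmono d hd c h4; omega
  · exact h4
  · have := hmono c hc d h4; omega

/-- a centre is determined by a centreless quotient -/
theorem center_eq_of {Γ : Type*} [Group Γ] {Z : Subgroup Γ} [Z.Normal] (h : Z ≤ Subgroup.center Γ)
    (h' : Subgroup.center (Γ ⧸ Z) = ⊥) : Subgroup.center Γ = Z := by
  refine le_antisymm (fun x hx => ?_) h
  rw [← QuotientGroup.eq_one_iff, ← Subgroup.mem_bot, ← h', Subgroup.mem_center_iff]
  intro y
  obtain ⟨y, rfl⟩ := QuotientGroup.mk_surjective y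
  rw [← QuotientGroup.mk_mul, ← QuotientGroup.mk_mul, Subgroup.mem_center_iff.mp hx y]

namespace RA

variable {G : Type*} [Group G] {N : ℕ} {A : RA G N} {g : ℕ → G} {k : ℕ} {T : ℕ → ℕ → ℕ}

theorem OutOK.center_eq_bot [Finite G] {B : List ℕ} {D : OD} {n : ℕ} (H : OutOK A g k T B D n)
    (hp1 : 1 < D.p) (h : D.chk T k n B = true) : Subgroup.center G = ⊥ := by
  simp only [OD.chk, Bool.and_eq_true, Nat.blt_eq, ltB_iff, Bool.not_eq_true', allLt_iff,
    anyL_iff, List.mem_range, Nat.beq_eq] at h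
  obtain ⟨⟨⟨⟨⟨⟨⟨⟨⟨⟨⟨⟨⟨ha, hb⟩, -⟩, -⟩, -⟩, h1⟩, -⟩, -⟩, h4⟩, h5⟩, -⟩, -⟩, -⟩, -⟩ := h
  have a1 := H.base.eq (H.tab.tr (lt_rep ha)) fn_one h1
  have a4 := H.base.eq (H.tab.tr (lt_cons ha (lt_one hb))) (H.tab.tr (lt_cons hb (lt_rep ha))) h4
  simp only [L0.ev_cons, L0.ev_nil, mul_one, ev_rep] at a1 a4
  rw [eq_bot_iff]
  intro z hz
  have hz' := Subgroup.mem_center_iff.mp hz
  have h2 := H.ca z (hz' _)
  classical
  rw [mem_zpowers_iff_mem_range_orderOf] at h2
  obtain ⟨m, -, rfl⟩ := Finset.mem_image.mp h2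
  set a := g D.ia
  set b := g D.ib
  have hpow : ∀ n : ℕ, a ^ (n % D.p) = a ^ n := fun n => by
    conv_rhs => rw [← Nat.div_add_mod n D.p, pow_add, pow_mul, a1, one_pow, one_mul]
  have h3 : (a ^ m) ^ D.r = a ^ m := by
    have := conj_pow (a := b⁻¹) (b := a) (i := m)
    rw [inv_inv, mul_assoc b⁻¹ a b, a4, inv_mul_cancel_left, mul_assoc, ← hz' b,
      inv_mul_cancel_left] at this
    rw [← pow_mul, mul_comm, pow_mul, this]
  obtain ⟨n, -, hn⟩ := h5 1 hp1
  have h6 : (a ^ m) ^ (1 + n * D.r) = (a ^ m) ^ n := by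
    rw [← pow_mul, ← pow_mul, mul_comm m, mul_comm m, pow_mul, pow_mul, ← hpow (1 + _), hn, hpow]
  rw [pow_add, mul_comm n, pow_mul, h3, pow_one] at h6
  exact mul_eq_right.mp h6

/-- the same action in the format of the lead's library -/
def toRAct (A : RA G N) : L0.RAct G N where
  act := A.act
  lt x hc := A.lt hc x
  one := A.one
  mul x y hc := A.mul hc x y

/-- an action in the format of the lead's library -/
def ofRAct (A : L0.RAct G N) : RA G N where
  act := A.act
  lt hc x := A.lt x hc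
  one := A.one
  mul hc x y := A.mul x y hc

theorem Tab.toRAct (h : A.Tab g k T) : A.toRAct.Tab g k T := fun i hi c hc => (h i hi c hc).symm

theorem Tab.ofRAct {A : L0.RAct G N} (h : A.Tab g k T) : (ofRAct A).Tab g k T :=
  fun i hi c hc => (h i hi c hc).symm

theorem IsBase.toRAct {B : List ℕ} (h : A.IsBase B) : A.toRAct.IsBase B :=
  fun x hx => h.2 x fun b hb => hx b hb (h.1 b hb)

theorem OutOK.pub {B : List ℕ} {D : OD} {n : ℕ} (H : OutOK A g k T B D n) :
    A.toRAct.Tab g k T ∧ A.toRAct.IsBase B ∧ Nat.card G = n ∧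
      Subgroup.closure {g D.ia, g D.ib, g D.it} = ⊤ :=
  ⟨H.tab.toRAct, H.base.toRAct, H.card, H.gen⟩

end RA

theorem look_land (w a b q : ℕ) : look w (a &&& b) q = look w a q &&& look w b q := by
  apply Nat.eq_of_testBit_eq
  intro r
  simp only [testBit_look, Nat.testBit_and]
  cases decide (r < w) <;> simp

namespace PM

variable {P : PM}

/-- a quick validity test: the digits are bounded by the mask `m` and reduced -/
theorem valid_of_mask (h : P.OK) {m V : ℕ} (hm : m < 2 ^ (P.w * (P.N * P.N)))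
    (hm' : ∀ q, look P.w m q ≤ P.N * (P.p - 1) ^ 2) (h1 : V &&& m = V) (h2 : P.red V = V) :
    P.Valid V := by
  have hV : V < 2 ^ (P.w * (P.N * P.N)) := lt_of_le_of_lt (h1 ▸ Nat.and_le_right) hm
  have h3 : ∀ q, look P.w V q ≤ P.N * (P.p - 1) ^ 2 := fun q => by
    rw [← h1, look_land]; exact Nat.and_le_right.trans (hm' q)
  have h4 := red_pack h _ h3
  rw [pack_look h.hw hV, h2] at h4
  rw [h4]
  exact valid_pack h _ fun q => Nat.mod_lt _ (by have := h.hp; omega)

theorem look_le_of_lt {w m n b : ℕ} (h1 : m < 2 ^ (w * n)) (h2 : ∀ q < n, look w m q ≤ b) (q : ℕ) :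
    look w m q ≤ b := by
  by_cases hq : q < n
  · exact h2 q hq
  · rw [look_eq, Nat.shiftRight_eq_div_pow, Nat.div_eq_of_lt, Nat.zero_mod]
    · exact Nat.zero_le _
    · exact lt_of_lt_of_le h1 (Nat.pow_le_pow_right (by norm_num) (Nat.mul_le_mul_left _ (by omega)))

/-- `U + c V`, reduced -/
def lin (P : PM) (U c V : ℕ) : ℕ := P.red (Nat.add U (Nat.mul V c))

theorem lin_eq (h : P.OK) {U c V : ℕ} (hc : (P.p - 1) * (c + 1) ≤ P.N * (P.p - 1) ^ 2)
    (hU : P.Valid U) (hV : P.Valid V) :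
    P.lin U c V = pack P.w (P.N * P.N) fun q => (look P.w U q + look P.w V q * c) % P.p := by
  have e : P.lin U c V = P.red (U + V * c) := rfl
  rw [e, ← red_pack h]
  · rw [← pack_add, ← pack_mul, pack_look h.hw hU.1, pack_look h.hw hV.1]
  · intro q
    have h1 := Nat.le_sub_one_of_lt (hU.2 q)
    have h2 := Nat.mul_le_mul_right c (Nat.le_sub_one_of_lt (hV.2 q))
    rw [mul_add, mul_one] at hc
    omega

theorem valid_lin (h : P.OK) {U c V : ℕ} (hc : (P.p - 1) * (c + 1) ≤ P.N * (P.p - 1) ^ 2)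
    (hU : P.Valid U) (hV : P.Valid V) : P.Valid (P.lin U c V) := by
  rw [lin_eq h hc hU hV]
  exact valid_pack h _ fun q => Nat.mod_lt _ (by have := h.hp; omega)

theorem ent_lin (h : P.OK) {U c V : ℕ} (hc : (P.p - 1) * (c + 1) ≤ P.N * (P.p - 1) ^ 2)
    (hU : P.Valid U) (hV : P.Valid V) {i j : ℕ} (hi : i < P.N) (hj : j < P.N) :
    P.ent (P.lin U c V) i j = (P.ent U i j + P.ent V i j * c) % P.p := by
  have hq : P.N * i + j < P.N * P.N := by
    have : P.N * (i + 1) ≤ P.N * P.N := Nat.mul_le_mul_left _ hi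
    rw [Nat.mul_succ] at this; omega
  rw [lin_eq h hc hU hV, ent, look_pack (fun q _ => lt_of_lt_of_le
    (Nat.mod_lt _ (by have := h.hp; omega)) (p_le h (by omega))) hq]
  rfl

end PM

end Cfsg.Agent.H9
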