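import Cfsg.Agent.H9.DX

/-! Centralisers in a group covered by double cosets. -/

set_option autoImplicit false

namespace Cfsg.Agent.H9

open Cfsg.Agent.L0 (ev ev_nil ev_cons ev_append ev_mem nthW nthW_mem map_ev ev_congr)

/-- two words agree on the base -/
noncomputable def eqW (T : ℕ → ℕ → ℕ) (k : ℕ) (B u v : List ℕ) : Bool :=
  ltB k u && ltB k v && RA.agree B (tr T u) (tr T v)

/-- two words differ on the base -/
noncomputable def neW (T : ℕ → ℕ → ℕ) (k : ℕ) (B u v : List ℕ) : Bool :=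
  ltB k u && ltB k v && !(RA.agree B (tr T u) (tr T v))

/-- substitute words -/
noncomputable def fm (W : List (List ℕ)) (w : List ℕ) : List ℕ :=
  List.rec (motive := fun _ => List ℕ) [] (fun j _ ih => nthW W j ++ ih) w

/-- power of a word -/
noncomputable def rp (m : ℕ) (w : List ℕ) : List ℕ :=
  Nat.rec (motive := fun _ => List ℕ) [] (fun _ ih => w ++ ih) m

/-- run through two lists -/
noncomputable def all2 {α β : Type} (l : List α) (P : α → β → Bool) : List β → Bool :=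
  List.rec (motive := fun _ => List β → Bool) (fun _ => true)
    (fun a _ ih m => List.rec (motive := fun _ => Bool) false
      (fun b m' _ => Bool.rec (motive := fun _ => Bool) false (ih m') (P a b)) m) l

/-- no repetitions -/
noncomputable def nodupB (l : List ℕ) : Bool :=
  List.rec (motive := fun _ => Bool) true (fun a t ih => (allL t fun b => !(Nat.beq a b)) && ih) l

/-- four cases -/
noncomputable def sel (n : ℕ) (a b c d : Bool) : Bool :=
  Nat.rec (motive := fun _ => Bool) a (fun n _ => Nat.rec (motive := fun _ => Bool) b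
    (fun n _ => Nat.rec (motive := fun _ => Bool) c (fun _ _ => d) n) n) n

theorem sel_spec {n : ℕ} {a b c d : Bool} (h : sel n a b c d = true) :
    a = true ∨ b = true ∨ c = true ∨ d = true := by
  rcases n with _ | _ | _ | n
  exacts [Or.inl h, Or.inr (Or.inl h), Or.inr (Or.inr (Or.inl h)), Or.inr (Or.inr (Or.inr h))]

theorem all2_spec {α β : Type} {l : List α} {P : α → β → Bool} {m : List β} (h : all2 l P m = true) :
    ∀ a ∈ l, ∃ b ∈ m, P a b = true := by
  induction l generalizing m with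
  | nil => simp
  | cons a l ih =>
    cases m with
    | nil => exact absurd h (by simp [all2])
    | cons b m =>
      obtain ⟨h1, h2⟩ := L0.brec_true (show Bool.rec (motive := fun _ => Bool) false (all2 l P m)
        (P a b) = true from h)
      intro x hx
      rcases List.mem_cons.mp hx with rfl | hx
      · exact ⟨b, List.mem_cons_self, h1⟩
      · obtain ⟨y, hy, h3⟩ := ih h2 x hx
        exact ⟨y, List.mem_cons_of_mem _ hy, h3⟩

theorem nodupB_spec {l : List ℕ} (h : nodupB l = true) : l.Nodup := by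
  induction l with
  | nil => simp
  | cons a l ih =>
    have e : nodupB (a :: l) = ((allL l fun b => !(Nat.beq a b)) && nodupB l) := rfl
    rw [e, Bool.and_eq_true, allL_iff] at h
    refine List.nodup_cons.mpr ⟨fun ha => ?_, ih h.2⟩
    simpa using h.1 a ha

section
variable {G : Type*} [Group G] {N : ℕ} {A : RA G N} {g : ℕ → G} {k : ℕ} {T : ℕ → ℕ → ℕ}

theorem eqW_spec (hT : A.Tab g k T) {B : List ℕ} (hB : A.IsBase B) {u v : List ℕ}
    (h : eqW T k B u v = true) : ev g u = ev g v := by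
  simp only [eqW, Bool.and_eq_true, ltB_iff] at h
  exact hB.eq (hT.tr h.1.1) (hT.tr h.1.2) h.2

theorem neW_spec (hT : A.Tab g k T) {B : List ℕ} (hB : A.IsBase B) {u v : List ℕ}
    (h : neW T k B u v = true) : ev g u ≠ ev g v := by
  simp only [neW, Bool.and_eq_true, ltB_iff, Bool.not_eq_true'] at h
  exact hB.ne (hT.tr h.1.1) (hT.tr h.1.2) h.2

theorem nthW_clW (W : List (List ℕ)) (j : ℕ) : ev g (nthW W j) ∈ clW g W := by
  rcases nthW_mem W j with h | h
  · rw [h]; exact one_mem _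
  · exact mem_clW g h

theorem ev_fm (W : List (List ℕ)) (w : List ℕ) : ev g (fm W w) = ev (fun j => ev g (nthW W j)) w := by
  induction w with
  | nil => rfl
  | cons j w ih => rw [ev_cons, ← ih, ← ev_append]; rfl

theorem fm_mem (W : List (List ℕ)) (w : List ℕ) : ev g (fm W w) ∈ clW g W := by
  rw [ev_fm]; exact ev_mem _ _ fun j _ => nthW_clW W j

theorem ev_rp (m : ℕ) (w : List ℕ) : ev g (rp m w) = ev g w ^ m := by
  induction m with
  | zero => simp [rp]
  | succ m ih => rw [pow_succ', ← ih, ← ev_append]; rfl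

theorem code_congr {B : List ℕ} {X Y : ℕ → ℕ} (h : ∀ b ∈ B, X b = Y b) : code N B X = code N B Y := by
  induction B with
  | nil => rfl
  | cons b B ih =>
    show code N B X * N + X b = code N B Y * N + Y b
    rw [h b List.mem_cons_self, ih fun c hc => h c (List.mem_cons_of_mem _ hc)]

/-- a subgroup given by the list of its elements -/
theorem card_of_list [Finite G] (hT : A.Tab g k T) {B : List ℕ} (hB : A.IsBase B)
    {CL : List (ℕ × List ℕ)} {ws : List (List ℕ)} (h : listB T N k B CL ws = true)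
    (h1 : ∀ c ∈ CL, ev g c.2 ∈ clW g ws) (h2 : nodupB (CL.map Prod.fst) = true) :
    Nat.card (clW g ws) = CL.length := by
  classical
  have h3 := RA.listB_spec hT hB h
  simp only [listB, Bool.and_eq_true, allL_iff, ltB_iff, Nat.beq_eq] at h
  have h4 : (CL.map fun c => ev g c.2).Nodup := by
    have h5 := nodupB_spec h2
    have h7 := List.Nodup.of_map _ h5
    rw [List.nodup_map_iff_inj_on h7] at h5 ⊢
    intro c hc d hd e
    apply h5 c hc d hd
    rw [(h.1.1 c hc).2, (h.1.1 d hd).2]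
    exact code_congr fun b hb => by
      rw [hT.tr (h.1.1 c hc).1 b (hB.1 b hb), hT.tr (h.1.1 d hd).1 b (hB.1 b hb), e]
  have h6 : (clW g ws : Set G) = ((CL.map fun c => ev g c.2).toFinset : Set G) := by
    ext x
    simp only [List.coe_toFinset, List.mem_map, Set.mem_setOf_eq, SetLike.mem_coe]
    exact ⟨fun hx => by obtain ⟨c, hc, e⟩ := h3 x hx; exact ⟨c, hc, e.symm⟩,
      fun ⟨c, hc, e⟩ => e ▸ h1 c hc⟩
  rw [← SetLike.coe_sort_coe, Nat.card_coe_set_eq, h6, Set.ncard_coe_finset,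
    List.toFinset_card_of_nodup h4, List.length_map]

theorem conj_into [Finite G] {P T : Subgroup G} (hP : P ≤ T) {p : ℕ} (hp : p.Prime)
    (h : ¬ p ∣ Nat.card T / Nat.card P) {x : G} (hx : x ∈ T) (he : x ^ p = 1) :
    ∃ s ∈ T, s⁻¹ * x * s ∈ P := by
  haveI := Fact.mk hp
  have h1 : IsPGroup p (Subgroup.zpowers (⟨x, hx⟩ : T)) := by
    rintro ⟨_, n, rfl⟩
    refine ⟨1, Subtype.ext (Subtype.ext ?_)⟩
    show (x ^ n) ^ p ^ 1 = 1
    rw [pow_one, ← zpow_natCast, ← zpow_mul, mul_comm, zpow_mul, zpow_natCast, he, one_zpow]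
  have h2 : Nat.card (T ⧸ P.subgroupOf T) = Nat.card T / Nat.card P := by
    rw [← (P.subgroupOf T).index_mul_card, Nat.card_congr (Subgroup.subgroupOfEquivOfLe hP).toEquiv,
      Nat.mul_div_cancel _ Nat.card_pos]
    rfl
  obtain ⟨q, hq⟩ := h1.nonempty_fixed_point_of_prime_not_dvd_card (T ⧸ P.subgroupOf T) (h2 ▸ h)
  obtain ⟨s, rfl⟩ := QuotientGroup.mk_surjective q
  have h3 := hq ⟨_, Subgroup.mem_zpowers _⟩
  have h4 : (QuotientGroup.mk (⟨x, hx⟩ * s) : T ⧸ P.subgroupOf T) = QuotientGroup.mk s := h3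
  rw [eq_comm, QuotientGroup.eq, Subgroup.mem_subgroupOf] at h4
  exact ⟨s, s.2, by simpa [mul_assoc] using h4⟩

/-- the top level of a search for a conjugating element -/
theorem RA.empty_top (hT : A.Tab g k T) {iv : ℕ → List ℕ} (hi : RA.Inv g k iv) {B x y : List ℕ}
    (hx : ltB k x = true) (hy : ltB k y = true) {L : SLv} {Ls : List SLv}
    (hG : A.Good g k T ((L :: Ls).map SLv.toLv) []) (hs : statSB T k B x (L :: Ls) [] = true)
    (h0 : ∀ i < L.n, force (L.pts i) (fun δ => cand T iv L (emptyB T iv Ls) (H9.tr T y)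
      (genP (H9.tr T y) [] L.xs δ) δ) false = true) : ∀ h, ev g x * h ≠ h * ev g y := by
  intro h hc
  rw [ltB_iff] at hx hy
  have hxs := RA.statSB_xs hs
  have hh : h ∈ A.Fix [] := by rw [RA.Fix_nil]; trivial
  obtain ⟨i, hi', e'⟩ := hG.2.1 h hh
  exact RA.cand_spec hT hi hG.1 hG.2.1 (RA.emptyB_spec hT hi (hT.tr hx) hG.2.2
    fun L' hL' => hxs L' (List.mem_cons_of_mem _ hL')) (hT.tr hy) (h0 i hi') hh hc
    (RA.Resp.genP (hT.tr hx) (hT.tr hy) hc (fun p hp => by simp at hp) hG.1.hβ e'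
      (hxs L List.mem_cons_self)) e'

end

/-- the data of a centraliser computation -/
structure CD where
  b : List ℕ
  y : List ℕ
  m : ℕ
  p : ℕ
  kg : List ℕ
  cl : List (List ℕ)
  sch : List (List (List ℕ × ℕ))
  DH : List (List ℕ)
  DG : List (List ℕ)
  rho : List (List ℕ)

/-- a certificate -/
structure TC where
  mode : ℕ
  j : ℕ
  u : List ℕ
  v : List ℕ

/-- a class representative with its tests -/
structure RP where
  e : List ℕ
  x : List ℕ
  ts : List TC

/-- the data for one double coset -/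
structure CC where
  ws : List (List ℕ)
  PL : List (ℕ × List ℕ)
  ec : List TC
  reps : List RP

namespace CD

variable (D : CD) (e : Env) (X : List ℕ)

/-- the checks in the subgroup -/
noncomputable def hB : Bool :=
  eqW e.T e.k e.B (rp D.m D.b) D.y && eqW e.T e.k e.B (rp D.p D.y) [] && neW e.T e.k e.B D.y [] &&
  ltB e.k D.b && (allL D.DH fun w => ltB e.k w && eqW e.T e.k e.B (D.b ++ w) (w ++ D.b)) &&
  (allL D.cl fun c => neW e.T e.k e.B (D.b ++ c) (c ++ D.b)) &&
  all2 ([] :: D.cl) (fun c => all2 D.kg fun s q =>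
    eqW e.T e.k e.B (c ++ [s]) (fm D.DH q.1 ++ nthW ([] :: D.cl) q.2)) D.sch

/-- the checks in the group -/
noncomputable def gB : Bool := allL D.DG fun w => eqW e.U e.K X (D.b ++ w) (w ++ D.b)

/-- the links are words in the generators of the centraliser -/
noncomputable def linkB (Ls : List SLv) : Bool :=
  allL (linkWs Ls) fun w => allL w fun s => anyL D.kg fun y => Nat.beq y s

/-- one test -/
noncomputable def tstB (d : DCo) (u0 : List ℕ) (q : TC) : Bool :=
  ltB e.k u0 && ltB e.k q.u && sel q.mode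
    (eqW e.T e.k e.B (D.b ++ u0) (u0 ++ q.u) && !(e.inT d q.u))
    (eqW e.U e.K X (u0 ++ (d.w ++ q.u)) (fm (D.DH ++ D.DG) q.v))
    (eqW e.U e.K X (D.b ++ (u0 ++ d.w)) (u0 ++ (d.w ++ q.u)) &&
      eqW e.T e.k e.B (rp D.m q.u ++ q.v) (q.v ++ nthW D.rho q.j))
    (eqW e.U e.K X (D.b ++ (u0 ++ d.w)) (u0 ++ (d.w ++ q.u)) &&
      eqW e.T e.k e.B (q.v ++ rp D.m q.u) (D.y ++ q.v) &&
      allL ([] :: D.cl) fun c => neW e.T e.k e.B (c ++ (q.v ++ q.u)) (D.b ++ (c ++ q.v)))

/-- the tests of a representative -/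
noncomputable def repB (d : DCo) (r : RP) : Bool :=
  eqW e.T e.k e.B (D.y ++ r.x) (r.x ++ r.e) &&
    all2 ([] :: D.cl) (fun c => D.tstB e X d (c ++ r.x)) r.ts

/-- the list of the elements -/
noncomputable def pl (c : CC) : List (ℕ × List ℕ) := c.PL.map fun q => (q.1, fm c.ws q.2)

/-- the elements of a Sylow subgroup -/
noncomputable def sylB (d : DCo) (c : CC) : Bool :=
  (allL c.ws fun w => ltB e.k w && e.inT d w) && listB e.T e.N e.k e.B (pl c) c.ws &&
  nodupB (c.PL.map Prod.fst) && !(Nat.beq (d.s / c.PL.length % D.p) 0) &&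
  all2 (pl c) (fun x q => sel q.mode
    (neW e.T e.k e.B (rp D.p x.2) [])
    (eqW e.T e.k e.B (x.2 ++ q.u) (q.u ++ nthW D.rho q.j))
    (ltB e.k q.u && e.inT d q.u && Nat.blt q.j c.reps.length &&
      eqW e.T e.k e.B (x.2 ++ q.u) (q.u ++ nthW (c.reps.map RP.e) q.j)) false) c.ec

end CD

/-- the facts from the searches in the subgroup -/
structure CH {H : Type*} [Group H] (g : ℕ → H) (D : CD) : Prop where
  c0 : ∀ h, ev g D.y * h = h * ev g D.y → h ∈ clW g (Env.sing D.kg)
  nc : ∀ r ∈ D.rho, ∀ h, ev g D.y * h ≠ h * ev g r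

namespace Ctx

variable {H G : Type*} [Group H] [Group G] {e : Env} {A : RA H e.N} {g : ℕ → H} {V : RA G e.M}
  {γ : ℕ → G} {φ : H →* G} {Wd : List DCo}

theorem ch_of (C : Ctx e A g V γ φ Wd) {D : CD} {iv : ℕ → List ℕ} {L : SLv} {Ls : List SLv}
    (hG : A.Good g e.k e.T ((L :: Ls).map SLv.toLv) [])
    (hs : (invB e.T e.k e.B iv && ltB e.k D.y && statSB e.T e.k e.B D.y (L :: Ls) [] &&
      D.linkB (L :: Ls) && centB e.T iv (tr e.T D.y) Ls (genP (tr e.T D.y) [] L.xs L.β) &&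
      allL D.rho (ltB e.k)) = true)
    (h0 : ∀ i < L.n, scanB e.T iv (tr e.T D.y) L Ls [] i = true)
    (h1 : ∀ r ∈ D.rho, ∀ i < L.n, force (L.pts i) (fun δ => cand e.T iv L (emptyB e.T iv Ls)
      (tr e.T r) (genP (tr e.T r) [] L.xs δ) δ) false = true) : CH g D := by
  simp only [Bool.and_eq_true, allL_iff] at hs
  obtain ⟨⟨⟨⟨⟨s1, s2⟩, s3⟩, s4⟩, s5⟩, s6⟩ := hs
  have hi := RA.inv_of C.tab C.base s1
  refine ⟨RA.cent_le C.tab C.base hi s2 hG s3 ?_ h0 s5,
    fun r hr => RA.empty_top C.tab hi s2 (s6 r hr) hG s3 (h1 r hr)⟩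
  have key : Subgroup.closure {x | ∃ w ∈ linkWs (L :: Ls), x = ev g w} ≤ clW g (Env.sing D.kg) := by
    refine clW_le fun w hw => ev_mem g _ fun s hs => ?_
    simp only [CD.linkB, allL_iff, anyL_iff, Nat.beq_eq] at s4
    obtain ⟨y, hy, rfl⟩ := s4 w hw s hs
    simpa using mem_clW g (S := Env.sing D.kg) (List.mem_map_of_mem hy)
  exact fun L' hL' => ⟨key (RA.linkWs_mem _ L' hL').1, fun q hq => key ((RA.linkWs_mem _ L' hL').2 q hq)⟩

/-- the centraliser theorem -/
theorem cent [Finite H] [Finite G] (C : Ctx e A g V γ φ Wd) {X : List ℕ} (hX : V.IsBase X)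
    (hφ : Function.Injective φ) (hs : ∀ d ∈ Wd, Nat.card (TT φ (ev γ d.w)) = d.s) {D : CD}
    (hp : D.p.Prime) (hD : CH g D) (h1 : D.hB e = true) (h2 : D.gB e X = true)
    (h3 : ∀ d ∈ Wd, ∃ c : CC, D.sylB e d c = true ∧ ∀ r ∈ c.reps, D.repB e X d r = true) :
    ∀ x, ev γ D.b * x = x * ev γ D.b → x ∈ clW γ (D.DH ++ D.DG) := by
  simp only [CD.hB, Bool.and_eq_true, allL_iff, ltB_iff] at h1
  obtain ⟨⟨⟨⟨⟨⟨a1, a2⟩, a3⟩, a4⟩, a5⟩, a6⟩, a7⟩ := h1
  have eH := fun {u v} => eqW_spec C.tab C.base (u := u) (v := v)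
  have nH := fun {u v} => neW_spec C.tab C.base (u := u) (v := v)
  have eG := fun {u v} => eqW_spec C.tabG hX (u := u) (v := v)
  have b1 := eH a1
  have b2 := eH a2
  have b3 := nH a3
  rw [ev_rp] at b1 b2
  rw [ev_nil] at b2 b3
  rw [C.ev_map a4]
  set b := ev g D.b with hb
  set y := ev g D.y with hy
  have nc : ∀ j h, y * h ≠ h * ev g (nthW D.rho j) := fun j h hc => by
    rcases nthW_mem D.rho j with h1 | h1
    · rw [h1] at hc; exact b3 (by simpa using hc)
    · exact hD.nc _ h1 h hc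
  have dH : ∀ d ∈ clW g D.DH, b * d = d * b ∧ φ d ∈ clW γ (D.DH ++ D.DG) := by
    intro d hd
    have : clW g D.DH ≤ Subgroup.centralizer {b} ⊓ (clW γ (D.DH ++ D.DG)).comap φ :=
      clW_le fun w hw => ⟨Subgroup.mem_centralizer_singleton_iff.mpr (by
        have := eH (a5 w hw).2
        simpa using this.symm), by
        show φ _ ∈ clW γ _
        rw [← C.ev_map (a5 w hw).1]
        exact mem_clW γ (List.mem_append_left _ hw)⟩
    exact ⟨(Subgroup.mem_centralizer_singleton_iff.mp (this hd).1).symm, (this hd).2⟩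
  have dG : ∀ d ∈ clW γ (D.DH ++ D.DG), φ b * d = d * φ b := by
    intro d hd
    have : clW γ (D.DH ++ D.DG) ≤ Subgroup.centralizer {φ b} := clW_le fun w hw => by
      rw [Subgroup.mem_centralizer_singleton_iff]
      rcases List.mem_append.mp hw with hw | hw
      · rw [C.ev_map (a5 w hw).1, ← map_mul, ← map_mul, (dH _ (mem_clW g hw)).1]
      · have := eG ((allL_iff _ _).mp h2 w hw)
        rw [ev_append, ev_append, C.ev_map a4] at this
        exact this.symm
    exact (Subgroup.mem_centralizer_singleton_iff.mp (this hd)).symm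
  have sch : ∀ t, y * t = t * y → ∃ d ∈ clW g D.DH, ∃ c ∈ [] :: D.cl, t = d * ev g c := by
    intro t ht
    refine closure_sub_of_closed (C := {t | ∃ d ∈ clW g D.DH, ∃ c ∈ [] :: D.cl, t = d * ev g c})
      ⟨1, one_mem _, [], List.mem_cons_self, by simp⟩ ?_ t (hD.c0 t ht)
    rintro _ ⟨w, hw, rfl⟩ _ ⟨d, hd, c, hc, rfl⟩
    obtain ⟨s, hs, rfl⟩ := List.mem_map.mp hw
    obtain ⟨_, -, h4⟩ := all2_spec a7 c hc
    obtain ⟨q, -, h5⟩ := all2_spec h4 s hs
    have h6 := eH h5
    rw [ev_append, ev_append] at h6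
    refine ⟨d * ev g (fm D.DH q.1), mul_mem hd (fm_mem _ _), nthW ([] :: D.cl) q.2, ?_, by
      rw [mul_assoc, h6, mul_assoc]⟩
    rcases nthW_mem ([] :: D.cl) q.2 with h7 | h7
    · rw [h7]; exact List.mem_cons_self
    · exact h7
  have cy : ∀ {t u}, b * t = t * u → y * t = t * u ^ D.m := fun {t u} ht => by
    rw [← b1]; exact (SemiconjBy.pow_right (a := t) ht.symm D.m).symm
  have c0 : ∀ t, φ b * φ t = φ t * φ b → φ t ∈ clW γ (D.DH ++ D.DG) := by
    intro t ht
    rw [← map_mul, ← map_mul] at ht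
    have ht := hφ ht
    obtain ⟨d, hd, c, hc, rfl⟩ := sch t (by rw [cy ht, b1])
    rcases List.mem_cons.mp hc with rfl | hc
    · simpa using (dH d hd).2
    · refine absurd ?_ (nH (a6 c hc))
      rw [← mul_assoc, (dH d hd).1, mul_assoc, mul_assoc] at ht
      simpa using mul_left_cancel ht
  intro x hx
  rcases C.cover x with ⟨t, rfl⟩ | ⟨d, hd, u, v, rfl⟩
  · exact c0 t hx
  obtain ⟨c, c1, c2⟩ := h3 d hd
  set w := ev γ d.w with hw
  have mT : ∀ u v, φ b * (φ u * w * φ v) = φ u * w * φ v * φ b → u⁻¹ * b * u ∈ TT φ w := by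
    intro u v h
    refine ⟨v * b * v⁻¹, ?_⟩
    simp only [map_mul, map_inv]
    have : φ b = φ u * w * φ v * φ b * (φ u * w * φ v)⁻¹ := by rw [← h]; group
    conv_rhs => rw [this]
    group
  -- moving inside the stabiliser
  have mv : ∀ u v s, s ∈ TT φ w → ∃ v', φ u * w * φ v = φ (u * s) * w * φ v' := by
    intro u v s ⟨r, hr⟩
    refine ⟨r⁻¹ * v, ?_⟩
    rw [map_mul, map_mul, map_inv, hr]; group
  simp only [CD.sylB, Bool.and_eq_true, allL_iff, ltB_iff, Bool.not_eq_true'] at c1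
  obtain ⟨⟨⟨⟨s1, s2⟩, s3⟩, s4⟩, s5⟩ := c1
  have hP : clW g c.ws ≤ TT φ w := clW_le fun q hq => (C.inT_iff hd (s1 q hq).1).mp (s1 q hq).2
  have hc := card_of_list C.tab C.base s2 (fun q hq => by
    obtain ⟨q, -, rfl⟩ := List.mem_map.mp hq
    exact fm_mem _ _) (by rwa [CD.pl, List.map_map])
  rw [CD.pl, List.length_map] at hc
  have hy1 : u⁻¹ * y * u = (u⁻¹ * b * u) ^ D.m := by
    rw [mul_assoc, cy (t := u) (u := u⁻¹ * b * u) (by group)]; group
  have hp1 : ∀ u : H, (u⁻¹ * y * u) ^ D.p = 1 := fun u => by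
    have := conj_pow (a := u⁻¹) (b := y) (i := D.p)
    rw [inv_inv, b2] at this
    rw [this]; group
  obtain ⟨s, hs1, hs2⟩ := conj_into hP hp (by
    rw [hs d hd, hc]
    exact fun h => Nat.ne_of_beq_eq_false s4 (Nat.mod_eq_zero_of_dvd h))
    (hy1 ▸ pow_mem (mT u v hx) D.m) (hp1 u)
  obtain ⟨q, hq, hq1⟩ := RA.listB_spec C.tab C.base s2 _ hs2
  obtain ⟨t, -, ht⟩ := all2_spec s5 q hq
  have hq2 : y * (u * s) = u * s * ev g q.2 := by rw [← hq1]; group
  rcases sel_spec ht with ht | ht | ht | ht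
  · refine absurd ?_ (nH ht)
    rw [ev_rp, ← hq1, ev_nil, ← hp1 (u * s)]
    congr 1; group
  · have := eH ht
    rw [ev_append, ev_append] at this
    exact absurd (by rw [← mul_assoc, hq2, mul_assoc, this, ← mul_assoc]) (nc t.j (u * s * ev g t.u))
  swap
  · exact absurd ht (by simp)
  simp only [Bool.and_eq_true, ltB_iff, Nat.blt_eq] at ht
  have h4 := eH ht.2
  have h5 := (C.inT_iff hd ht.1.1.1).mp ht.1.1.2
  have hj := ht.1.2
  have h6 : nthW (c.reps.map RP.e) t.j = (c.reps[t.j]'hj).e := by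
    clear ht
    rw [L0.nthW_eq, List.getD_eq_getElem _ _ (by simpa using hj), List.getElem_map]
  rw [ev_append, ev_append, h6] at h4
  have h7 := c2 _ (List.getElem_mem hj)
  generalize c.reps[t.j]'hj = r at h4 h7
  simp only [CD.repB, Bool.and_eq_true] at h7
  have h8 := eH h7.1
  rw [ev_append, ev_append, ← hy] at h8
  obtain ⟨d0, hd0, c0', hc0, h9⟩ := sch (u * (s * ev g t.u) * (ev g r.x)⁻¹) (by
    have e1 : y * (u * (s * ev g t.u)) = u * (s * ev g t.u) * ev g r.e := by
      rw [← mul_assoc u, ← mul_assoc y, hq2, mul_assoc, h4, ← mul_assoc]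
    have e2 : ev g r.e * (ev g r.x)⁻¹ = (ev g r.x)⁻¹ * y := by
      rw [eq_inv_mul_iff_mul_eq, ← mul_assoc, ← h8]; group
    rw [← mul_assoc, e1, mul_assoc, e2, ← mul_assoc])
  obtain ⟨v', hv'⟩ := mv u v _ (mul_mem hs1 h5)
  obtain ⟨q', -, h10⟩ := all2_spec h7.2 c0' hc0
  have h11 : u * (s * ev g t.u) = d0 * ev g (c0' ++ r.x) := by
    rw [ev_append, ← mul_assoc d0, ← h9]; group
  generalize c0' ++ r.x = u0 at h10 h11
  rw [hv', h11, map_mul, mul_assoc, mul_assoc] at hx ⊢
  refine mul_mem (dH d0 hd0).2 ?_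
  rw [← mul_assoc (φ b), dG _ (dH d0 hd0).2, mul_assoc, mul_assoc (φ d0), ← mul_assoc (φ (ev g u0))] at hx
  have hx := mul_left_cancel hx
  simp only [CD.tstB, Bool.and_eq_true, ltB_iff] at h10
  obtain ⟨⟨t1, t2⟩, t3⟩ := h10
  have hcj : eqW e.U e.K X (D.b ++ (u0 ++ d.w)) (u0 ++ (d.w ++ q'.u)) = true →
      ev g q'.u * v' = v' * b := fun h => by
    have := eG h
    simp only [ev_append, C.ev_map a4, C.ev_map t1, C.ev_map t2, ← hb, ← hw] at this
    apply hφ
    rw [← mul_assoc (φ b), this, mul_assoc, mul_assoc, mul_assoc, mul_assoc] at hx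
    simpa using mul_left_cancel (mul_left_cancel hx)
  have hcy : ev g q'.u * v' = v' * b → ev g q'.u ^ D.m * v' = v' * y := fun h => by
    rw [← b1]; exact (SemiconjBy.pow_right (a := v') h.symm D.m).symm
  rcases sel_spec t3 with t3 | t3 | t3 | t3
  · simp only [Bool.and_eq_true, Bool.not_eq_true'] at t3
    have e1 := eH t3.1
    rw [ev_append, ev_append, ← hb] at e1
    have e2 := mT _ _ hx
    rw [mul_assoc, e1, inv_mul_cancel_left, ← C.inT_iff hd t2, t3.2] at e2
    exact absurd e2 (by simp)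
  · have e1 := eG t3
    simp only [ev_append, C.ev_map t1, C.ev_map t2, ← hw] at e1
    have e2 := fm_mem (g := γ) (D.DH ++ D.DG) q'.v
    rw [← e1] at e2
    have e3 : φ (ev g u0) * w * φ v' = φ (ev g u0) * (w * φ (ev g q'.u)) * φ ((ev g q'.u)⁻¹ * v') := by
      rw [map_mul, map_inv]; group
    rw [← mul_assoc, e3]
    rw [e3, ← mul_assoc, dG _ e2, mul_assoc, mul_assoc _ (φ (_ * v'))] at hx
    exact mul_mem e2 (c0 _ (mul_left_cancel hx))
  · simp only [Bool.and_eq_true] at t3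
    have e1 := hcy (hcj t3.1)
    have e2 := eH t3.2
    rw [ev_append, ev_append, ev_rp] at e2
    refine absurd ?_ (nc q'.j (v'⁻¹ * ev g q'.v))
    rw [mul_assoc v'⁻¹, ← e2, eq_inv_mul_iff_mul_eq, ← mul_assoc, ← e1]; group
  · simp only [Bool.and_eq_true, allL_iff] at t3
    have e0 := hcj t3.1.1
    have e1 := hcy e0
    have e2 := eH t3.1.2
    rw [ev_append, ev_append, ev_rp, ← hy] at e2
    obtain ⟨d1, hd1, c1, hc1, e3⟩ := sch (ev g q'.v * v')⁻¹ (by
      rw [eq_comm, inv_mul_eq_iff_eq_mul, ← mul_assoc, mul_assoc _ v', ← e1, ← mul_assoc, e2]; group)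
    refine absurd ?_ (nH (t3.2 c1 hc1))
    simp only [ev_append, ← hb]
    have e4 : ev g c1 * ev g q'.v = d1⁻¹ * v'⁻¹ := by
      rw [eq_inv_mul_iff_mul_eq, ← mul_assoc, ← e3]; group
    have e5 : d1⁻¹ * b = b * d1⁻¹ := by
      rw [inv_mul_eq_iff_eq_mul, ← mul_assoc, ← (dH d1 hd1).1]; group
    have e6 : v'⁻¹ * ev g q'.u = b * v'⁻¹ := by
      rw [inv_mul_eq_iff_eq_mul, ← mul_assoc, ← e0]; group
    rw [← mul_assoc, e4, mul_assoc, e6, ← mul_assoc, e5, mul_assoc]

end Ctx

end Cfsg.Agent.H9
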