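import Cfsg.Agent.H9.DC

/-! Automorphisms of a group with a base on vectors. -/

set_option autoImplicit false

namespace Cfsg.Agent.H9

open Cfsg.Agent.L0 (ev ev_nil ev_cons ev_append ev_mem nthW nthW_mem map_ev ev_congr)

theorem forall_chunks {α : Type} {l : List α} {P : α → Prop} (n m : ℕ)
    (h : ∀ j < m, ∀ a ∈ (l.drop (j * n)).take n, P a) (hl : l.length ≤ m * n) : ∀ a ∈ l, P a := by
  intro a ha
  obtain ⟨i, hi, rfl⟩ := List.getElem_of_mem ha
  have hn : 0 < n := Nat.pos_of_ne_zero fun h0 => by rw [h0] at hl; omega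
  refine h (i / n) ((Nat.div_lt_iff_lt_mul hn).mpr (by omega)) _ ?_
  have e := Nat.div_add_mod' i n
  have h1 := Nat.mod_lt i hn
  refine List.mem_iff_getElem.mpr ⟨i % n, by simp; omega, ?_⟩
  simp only [List.getElem_take, List.getElem_drop, e]

theorem all2_ex {α β : Type} {l : List α} {P : α → β → Bool} {m : List β} (h : all2 l P m = true) :
    ∀ a ∈ l, ∃ b, P a b = true := fun a ha => (all2_spec h a ha).imp fun _ h => h.2

section
variable (U : ℕ → ℕ → ℕ) (K : ℕ) (X : List ℕ)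

/-- the products of `c` with the generators are in the list -/
noncomputable def clE (CL S : List (List ℕ)) (c : List ℕ) : List ℕ → Bool :=
  all2 S fun s j => c ++ s == nthW CL j || eqW U K X (c ++ s) (nthW CL j)

/-- the candidate is killed by a relator or conjugate to a known solution -/
noncomputable def stgB (F Z rels : List (List ℕ)) (t t1 : List ℕ) (al al1 : Bool) (c : List ℕ)
    (q : TC) : Bool :=
  sel q.mode (neW U K X (fm ((c ++ t) :: F) (nthW rels q.j)) [])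
    (al && (allL Z fun z => eqW U K X (z ++ q.u) (q.u ++ z)) && eqW U K X (c ++ (t ++ q.u)) (q.u ++ t))
    (al1 && (allL Z fun z => eqW U K X (z ++ q.u) (q.u ++ z)) &&
      eqW U K X (c ++ (t ++ q.u)) (q.u ++ t1)) false

/-- the relators hold -/
noncomputable def relsB (F rels : List (List ℕ)) : Bool := allL rels fun R => eqW U K X (fm F R) []

/-- the checks for the first two elements -/
noncomputable def abB (a b : List ℕ) (p r n : ℕ) (reps : List (ℕ × List ℕ)) (rels : List (List ℕ)) :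
    Bool :=
  eqW U K X (rp p a) [] && neW U K X a [] && !(Nat.beq (n % p ^ 2) 0) &&
  eqW U K X (a ++ b) (b ++ rp r a) && relsB U K X [b] rels &&
  (allL reps fun q => eqW U K X (rp q.1 a) q.2) &&
  allLt p fun e => Nat.beq e 0 ||
    anyL (List.range p) fun m => anyL reps fun y => Nat.beq (e * r ^ m % p) y.1

end

section
variable {G : Type*} [Group G] {N : ℕ} {V : RA G N} {γ : ℕ → G} {K : ℕ} {U : ℕ → ℕ → ℕ} {X : List ℕ}

theorem list_of_clE [Finite G] (hT : V.Tab γ K U) (hX : V.IsBase X) {CL S : List (List ℕ)}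
    (h : ∀ c ∈ [] :: CL, ∃ q, clE U K X ([] :: CL) S c q = true) :
    ∀ x ∈ clW γ S, ∃ c ∈ [] :: CL, x = ev γ c := by
  refine closure_sub_of_closed (C := {x | ∃ c ∈ [] :: CL, x = ev γ c})
    ⟨[], List.mem_cons_self, rfl⟩ ?_
  rintro _ ⟨s, hs, rfl⟩ _ ⟨c, hc, rfl⟩
  obtain ⟨q, hq⟩ := h c hc
  obtain ⟨j, -, hj⟩ := all2_spec hq s hs
  refine ⟨nthW ([] :: CL) j, (nthW_mem _ j).elim (fun h => by rw [h]; exact List.mem_cons_self) id, ?_⟩
  rw [← ev_append]
  rcases Bool.or_eq_true_iff.mp hj with h1 | h1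
  · rw [beq_iff_eq.mp h1]
  · exact eqW_spec hT hX h1

/-- the automorphism maps the first list of words to the second one -/
def Mp (γ : ℕ → G) (α : MulAut G) (F F' : List (List ℕ)) : Prop :=
  ∀ j, α (ev γ (nthW F j)) = ev γ (nthW F' j)

theorem Mp.nil {α : MulAut G} : Mp γ α [] [] := fun _ => map_one α

theorem Mp.cons {α : MulAut G} {F F' : List (List ℕ)} {t t' : List ℕ} (h : α (ev γ t) = ev γ t')
    (h' : Mp γ α F F') : Mp γ α (t :: F) (t' :: F') := fun j => by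
  cases j with
  | zero => exact h
  | succ j => exact h' j

theorem Mp.fix {α : MulAut G} {F : List (List ℕ)} (h : Mp γ α F F) : ∀ w ∈ F, α (ev γ w) = ev γ w := by
  intro w hw
  obtain ⟨i, hi, rfl⟩ := List.getElem_of_mem hw
  have := h i
  rwa [L0.nthW_eq, List.getD_eq_getElem _ _ hi] at this

theorem stage (hT : V.Tab γ K U) (hX : V.IsBase X) {α : MulAut G} {F F' Z rels : List (List ℕ)}
    {t t1 c : List ℕ} {al al1 : Bool} {q : TC} (hM : Mp γ α F F') (hc : α (ev γ t) = ev γ c * ev γ t)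
    (hr : relsB U K X (t :: F) rels = true) (h : stgB U K X F' Z rels t t1 al al1 c q = true) :
    ∃ u, (∀ z ∈ Z, ev γ z * u = u * ev γ z) ∧ ((al = true ∧ α (ev γ t) * u = u * ev γ t) ∨
      (al1 = true ∧ α (ev γ t) * u = u * ev γ t1)) := by
  have eG := fun {u v} => eqW_spec hT hX (u := u) (v := v)
  rcases sel_spec h with h | h | h | h
  · refine absurd ?_ (neW_spec hT hX h)
    have h1 : ev γ (fm (t :: F) (nthW rels q.j)) = 1 := by
      rcases nthW_mem rels q.j with h2 | h2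
      · rw [h2]; rfl
      · exact eG ((allL_iff _ _).mp hr _ h2)
    have h2 := congrArg α h1
    rw [map_one, ev_fm, map_ev] at h2
    rw [ev_fm, ev_nil, ← h2]
    exact ev_congr fun j _ => (Mp.cons (by rw [ev_append, hc]) hM j).symm
  · simp only [Bool.and_eq_true, allL_iff] at h
    refine ⟨ev γ q.u, fun z hz => by simpa using eG (h.1.2 z hz), Or.inl ⟨h.1.1, ?_⟩⟩
    simpa [hc, mul_assoc] using eG h.2
  · simp only [Bool.and_eq_true, allL_iff] at h
    refine ⟨ev γ q.u, fun z hz => by simpa using eG (h.1.2 z hz), Or.inr ⟨h.1.1, ?_⟩⟩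
    simpa [hc, mul_assoc] using eG h.2
  · exact absurd h (by simp)

/-- inner automorphisms -/
def Inn (α : MulAut G) : Prop := α ∈ (MulAut.conj : G →* MulAut G).range

theorem Inn.of_conj {α : MulAut G} {u : G} (h : Inn (MulAut.conj u⁻¹ * α)) : Inn α := by
  have := (MulAut.conj : G →* MulAut G).range.mul_mem ⟨u, rfl⟩ h
  rwa [← mul_assoc, ← map_mul, mul_inv_cancel, map_one, one_mul] at this

/-- the automorphisms mapping the first list to the second one are inner -/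
def Rig (γ : ℕ → G) (F F' : List (List ℕ)) : Prop := ∀ β, Mp γ β F F' → Inn β

theorem rig_gen {F : List (List ℕ)} (h : clW γ F = ⊤) : Rig γ F F := by
  intro β hβ
  have : β = 1 := by
    apply MulEquiv.toMonoidHom_injective
    apply MonoidHom.eq_of_eqOn_dense h
    rintro _ ⟨w, hw, rfl⟩
    exact hβ.fix w hw
  rw [this]; exact one_mem _

theorem rig_step (hT : V.Tab γ K U) (hX : V.IsBase X) {b t : List ℕ} {F F' CL rels : List (List ℕ)}
    {j i : ℕ} (hC : ∀ x, ev γ b * x = x * ev γ b → ∃ c ∈ CL, x = ev γ c)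
    (h0 : (nthW F i == b && nthW F' i == b && eqW U K X (b ++ t) (t ++ rp j b) &&
      relsB U K X (t :: F) rels) = true)
    (h : ∀ c ∈ CL, ∃ q, stgB U K X F' F' rels t t (F' == F) false c q = true)
    (hR : Rig γ (t :: F) (t :: F)) : Rig γ F F' := by
  intro β hβ
  simp only [Bool.and_eq_true, beq_iff_eq] at h0
  obtain ⟨⟨⟨h1, h2⟩, h3⟩, h4⟩ := h0
  have h5 := hβ i
  rw [h1, h2] at h5
  have h6 := eqW_spec hT hX h3
  rw [ev_append, ev_append, ev_rp] at h6
  obtain ⟨c, hc, h7⟩ := hC (β (ev γ t) * (ev γ t)⁻¹) (by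
    have h1 := congrArg β h6
    simp only [map_mul, map_pow, h5] at h1
    have h2 : (ev γ t)⁻¹ * ev γ b = ev γ b ^ j * (ev γ t)⁻¹ := by
      rw [inv_mul_eq_iff_eq_mul, ← mul_assoc, ← h6]; group
    rw [← mul_assoc, h1, mul_assoc, mul_assoc, h2])
  obtain ⟨q, hq⟩ := h c hc
  obtain ⟨u, h8, ⟨h9, h10⟩ | ⟨h9, -⟩⟩ := stage hT hX hβ (by rw [← h7]; group) h4 hq
  · rw [beq_iff_eq] at h9
    subst h9
    refine Inn.of_conj (u := u) (hR _ (Mp.cons ?_ fun j => ?_))
    · simp [mul_assoc, h10]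
    · rcases nthW_mem F' j with h11 | h11
      · simp [h11]
      · simp [mul_assoc, hβ j, h8 _ h11]
  · exact absurd h9 (by simp)

theorem aut_ab [Finite G] (hT : V.Tab γ K U) (hX : V.IsBase X) {a b b1 : List ℕ} {p r n : ℕ}
    {reps : List (ℕ × List ℕ)} {rels CL : List (List ℕ)} {al : Bool} (hp : p.Prime)
    (hn : Nat.card G ∣ n) (hC : ∀ x, ev γ a * x = x * ev γ a → ∃ c ∈ CL, x = ev γ c)
    (h0 : abB U K X a b p r n reps rels = true)
    (h : ∀ c ∈ CL, ∃ q, stgB U K X [] [a] rels b b1 true al c q = true) (α : MulAut G) :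
    ∃ u, ∃ q ∈ reps, (MulAut.conj u⁻¹ * α : MulAut G) (ev γ a) = ev γ q.2 ∧ ev γ q.2 = ev γ a ^ q.1 ∧
      ((MulAut.conj u⁻¹ * α : MulAut G) (ev γ b) = ev γ b ∨
        (al = true ∧ (MulAut.conj u⁻¹ * α : MulAut G) (ev γ b) = ev γ b1)) := by
  simp only [abB, Bool.and_eq_true, Bool.not_eq_true', allL_iff, allLt_iff, Bool.or_eq_true,
    anyL_iff, Nat.beq_eq, List.mem_range] at h0
  obtain ⟨⟨⟨⟨⟨⟨h1, h2⟩, h3⟩, h4⟩, h5⟩, h6⟩, h7⟩ := h0
  haveI := Fact.mk hp
  have a1 := eqW_spec hT hX h1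
  have a2 := neW_spec hT hX h2
  have hab := eqW_spec hT hX h4
  simp only [ev_append, ev_rp, ev_nil] at a1 a2 hab
  have ha := orderOf_eq_prime a1 a2
  have hp2 : ¬ p ^ 2 ∣ Nat.card G := fun hd =>
    Nat.ne_of_beq_eq_false h3 (Nat.mod_eq_zero_of_dvd (hd.trans hn))
  generalize hA : ev γ a = A at *
  have hpow : ∀ n : ℕ, A ^ (n % p) = A ^ n := fun n => by rw [← ha, pow_mod_orderOf]
  obtain ⟨g1, k, hk⟩ := aut_sylow hp ha hp2 α
  have hne : ∀ (ψ : MulAut G) (k : ℕ), ψ A = A ^ k → k % p ≠ 0 := by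
    intro ψ k h h0
    rw [← hpow, h0, pow_zero, MulEquiv.map_eq_one_iff] at h
    exact a2 h
  obtain ⟨m, -, q, hq, hm⟩ := (h7 (k % p) (Nat.mod_lt _ hp.pos)).resolve_left
    (hne (MulAut.conj g1⁻¹ * α) k (by simpa using hk))
  let ψ : MulAut G := MulAut.conj (g1 * ev γ b ^ m)⁻¹ * α
  have hψa : ψ A = A ^ q.1 := by
    have h9 := conj_pow (a := (ev γ b ^ m)⁻¹) (b := A) (i := k)
    rw [inv_inv, conj_pow_of hab, ← hk] at h9
    have : ψ A = (ev γ b ^ m)⁻¹ * (g1⁻¹ * α A * g1) * ev γ b ^ m := by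
      simp only [ψ, MulAut.mul_apply, MulAut.conj_apply]; group
    rw [this, ← h9, ← pow_mul, mul_comm, ← hm, ← hpow (k * r ^ m), Nat.mod_mul_mod]
  have hcop : Nat.Coprime q.1 (orderOf A) := by
    rw [ha, Nat.coprime_comm, hp.coprime_iff_not_dvd]
    exact fun h => hne ψ _ hψa (Nat.mod_eq_zero_of_dvd h)
  obtain ⟨k', hk'⟩ := exists_pow_eq_self_of_coprime hcop
  have h2 : A * ψ (ev γ b) = ψ (ev γ b) * A ^ r := by
    have h3 := congrArg ψ hab
    rw [map_mul, map_mul, map_pow, hψa] at h3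
    have h4 := conj_pow_of h3 1
    rw [pow_one, pow_one] at h4
    have h5 := conj_pow (a := (ψ (ev γ b))⁻¹) (b := A ^ q.1) (i := k')
    rw [inv_inv, h4, hk', ← pow_mul, ← pow_mul, mul_comm r k', ← mul_assoc, pow_mul, pow_mul, hk'] at h5
    rw [h5]; group
  obtain ⟨c, hc, h8⟩ := hC (ψ (ev γ b) * (ev γ b)⁻¹) (by
    have : (ev γ b)⁻¹ * A = A ^ r * (ev γ b)⁻¹ := by
      rw [inv_mul_eq_iff_eq_mul, ← mul_assoc, ← hab]; group
    rw [← mul_assoc, h2, mul_assoc, mul_assoc, this])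
  obtain ⟨q', hq'⟩ := h c hc
  obtain ⟨u, h9, h10⟩ := stage (α := ψ) hT hX Mp.nil (by rw [← h8]; group) h5 hq'
  have h11 := h9 a List.mem_cons_self
  rw [hA] at h11
  have e : ∀ x, (MulAut.conj (g1 * ev γ b ^ m * u)⁻¹ * α : MulAut G) x = u⁻¹ * (ψ x * u) :=
    fun x => by simp only [ψ, MulAut.mul_apply, MulAut.conj_apply]; group
  have h12 := eqW_spec hT hX (h6 q hq)
  rw [ev_rp, hA] at h12
  refine ⟨g1 * ev γ b ^ m * u, q, hq, ?_, h12.symm, ?_⟩
  · rw [e, hψa, ← h12, (Commute.pow_left h11 q.1).eq, inv_mul_cancel_left]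
  · rcases h10 with ⟨-, h10⟩ | ⟨h13, h10⟩
    · exact Or.inl (by rw [e, h10, inv_mul_cancel_left])
    · exact Or.inr ⟨h13, by rw [e, h10, inv_mul_cancel_left]⟩

theorem out_one_of [Finite G] (hT : V.Tab γ K U) (hX : V.IsBase X) {a b : List ℕ} {p r n : ℕ}
    {reps : List (ℕ × List ℕ)} {rels CL : List (List ℕ)} (hp : p.Prime)
    (hn : Nat.card G ∣ n) (hC : ∀ x, ev γ a * x = x * ev γ a → ∃ c ∈ CL, x = ev γ c)
    (h0 : abB U K X a b p r n reps rels = true)
    (h : ∀ c ∈ CL, ∃ q, stgB U K X [] [a] rels b b true false c q = true)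
    (hR : ∀ q ∈ reps, Rig γ [b, a] [b, q.2]) : Nat.card (Cfsg.Out G) = 1 := by
  rw [Nat.card_eq_one_iff_exists]
  refine ⟨1, fun y => ?_⟩
  obtain ⟨α, rfl⟩ := QuotientGroup.mk_surjective y
  obtain ⟨u, q, hq, h1, -, h2 | ⟨h2, -⟩⟩ := aut_ab hT hX hp hn hC h0 h α
  · exact (QuotientGroup.eq_one_iff _).mpr (hR q hq _ (Mp.cons h2 (Mp.cons h1 Mp.nil))).of_conj
  · exact absurd h2 (by simp)

theorem out_two_of [Finite G] (hT : V.Tab γ K U) (hX : V.IsBase X) {a b b1 : List ℕ} {p r n : ℕ}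
    {reps : List (ℕ × List ℕ)} {rels CL : List (List ℕ)} (hp : p.Prime)
    (hn : Nat.card G ∣ n) (hC : ∀ x, ev γ a * x = x * ev γ a → ∃ c ∈ CL, x = ev γ c)
    (h0 : abB U K X a b p r n reps rels = true)
    (h : ∀ c ∈ CL, ∃ q, stgB U K X [] [a] rels b b1 true true c q = true)
    (hR : ∀ q ∈ reps, Rig γ [b, a] [b, q.2]) {σ : MulAut G} (s1 : σ (ev γ a) = ev γ a)
    (s2 : σ (ev γ b) = ev γ b1)
    (s3 : (allL CL fun c => neW U K X (c ++ b) (b1 ++ c)) = true) : Nat.card (Cfsg.Out G) = 2 := by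
  rw [Nat.card_eq_two_iff]
  refine ⟨1, QuotientGroup.mk σ, fun he => ?_, ?_⟩
  · obtain ⟨u, hu⟩ := (QuotientGroup.eq_one_iff _).mp he.symm
    rw [← hu] at s1 s2
    obtain ⟨c, hc, rfl⟩ := hC u (by
      rw [MulAut.conj_apply, mul_inv_eq_iff_eq_mul] at s1; exact s1.symm)
    apply neW_spec hT hX ((allL_iff _ _).mp s3 c hc)
    simp [← s2]
  · rw [Set.eq_univ_iff_forall]
    intro y
    obtain ⟨α, rfl⟩ := QuotientGroup.mk_surjective y
    obtain ⟨u, q, hq, h1, h3, h2 | ⟨-, h2⟩⟩ := aut_ab hT hX hp hn hC h0 h α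
    · exact Or.inl ((QuotientGroup.eq_one_iff _).mpr
        (hR q hq _ (Mp.cons h2 (Mp.cons h1 Mp.nil))).of_conj)
    · right
      have h4 : Inn (σ⁻¹ * (MulAut.conj u⁻¹ * α)) := by
        refine hR q hq _ (Mp.cons ?_ (Mp.cons ?_ Mp.nil))
        · rw [MulAut.mul_apply, h2, ← s2]; simp
        · rw [MulAut.mul_apply, h1, h3]
          conv_lhs => rw [← s1, ← map_pow]
          simp
      have h5 : (QuotientGroup.mk (MulAut.conj u⁻¹) : Cfsg.Out G) = 1 :=
        (QuotientGroup.eq_one_iff _).mpr ⟨u⁻¹, rfl⟩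
      have h6 : (QuotientGroup.mk σ : Cfsg.Out G) = QuotientGroup.mk (MulAut.conj u⁻¹ * α) :=
        QuotientGroup.eq.mpr h4
      rw [Set.mem_singleton_iff, h6, QuotientGroup.mk_mul, h5, one_mul]

/-- an automorphism from a presentation -/
theorem exists_sigma [Finite G] (hT : V.Tab γ K U) (hX : V.IsBase X) {x : ℕ → G} {n : ℕ}
    {R : List (List ℕ)} (hp : L0.IsPres x n R) {S Y Pre : List (List ℕ)}
    (hx : ∀ i < n, x i = ev γ (nthW S i)) (h1 : ∀ r ∈ R, eqW U K X (fm Y r) [] = true)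
    (h2 : (allLt n fun i => ltB n (nthW Pre i) && eqW U K X (fm Y (nthW Pre i)) (nthW S i)) = true)
    {a b b1 aw bw : List ℕ} (h3 : (ltB n aw && ltB n bw && eqW U K X (fm S aw) a &&
      eqW U K X (fm Y aw) a && eqW U K X (fm S bw) b && eqW U K X (fm Y bw) b1) = true) :
    ∃ σ : MulAut G, σ (ev γ a) = ev γ a ∧ σ (ev γ b) = ev γ b1 := by
  have eG := fun {u v} => eqW_spec hT hX (u := u) (v := v)
  obtain ⟨f, hf⟩ := hp.exists_hom (fun i => ev γ (nthW Y i)) fun r hr => by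
    rw [← ev_fm]; exact eG (h1 r hr)
  have key : ∀ w, (∀ i ∈ w, i < n) → f (ev γ (fm S w)) = ev γ (fm Y w) := fun w hw => by
    rw [ev_fm, ev_fm, map_ev]
    exact ev_congr fun i hi => by rw [← hx i (hw i hi), hf i (hw i hi)]
  simp only [allLt_iff, Bool.and_eq_true, ltB_iff] at h2 h3
  have hs : Function.Surjective f := by
    rw [← MonoidHom.range_eq_top, eq_top_iff, ← hp.gen_top]
    refine L0.genL_le fun i hi => ?_
    have hi := List.mem_range.mp hi
    exact ⟨_, by rw [key _ (h2 i hi).1, eG (h2 i hi).2, hx i hi]⟩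
  obtain ⟨⟨⟨⟨⟨a1, a2⟩, a3⟩, a4⟩, a5⟩, a6⟩ := h3
  refine ⟨MulEquiv.ofBijective f (Finite.surjective_iff_bijective.mp hs), ?_, ?_⟩
  · show f _ = _
    rw [← eG a3, key _ a1, eG a4, eG a3]
  · show f _ = _
    rw [← eG a5, key _ a2, eG a6]

end

/-- the letters in the mask are words in the given words, and so is the last generator -/
noncomputable def Env.genB (e : Env) (X : List ℕ) (F : List (List ℕ)) (m : ℕ) (Ls : List Lv)
    (zw : List ℕ) (h : ℕ) (u v : List ℕ) : Bool :=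
  subM e.k m Ls &&
  (allLt e.k fun s => !(tb m s) || ((anyL F fun w => w == [s]) || Nat.beq s h) ||
    (Nat.ble e.k0 s && allL (e.Df s) fun y => tb m y)) &&
  eqW e.U e.K X [e.k] zw && (allL zw fun s => Nat.blt s e.k || anyL F fun w => w == [s]) &&
  eqW e.U e.K X (h :: v) u && (allL u fun s => anyL F fun w => w == [s]) &&
  allL v fun s => anyL F fun w => w == [s]

theorem Ctx.gen_top {H G : Type*} [Group H] [Group G] {e : Env} {A : RA H e.N} {g : ℕ → H}
    {V : RA G e.M} {γ : ℕ → G} {φ : H →* G} {Wd : List DCo} (C : Ctx e A g V γ φ Wd) {X : List ℕ}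
    (hX : V.IsBase X) {F : List (List ℕ)} {m : ℕ} {Ls : List Lv} {zw : List ℕ} {j : ℕ} {u v : List ℕ}
    (hG : A.Good g e.k e.T Ls []) (h : e.genB X F m Ls zw j u v = true) : clW γ F = ⊤ := by
  simp only [Env.genB, Bool.and_eq_true, allLt_iff, Bool.or_eq_true, Bool.not_eq_true', tb_eq,
    anyL_iff, beq_iff_eq, Nat.ble_eq, allL_iff, Nat.blt_eq, Nat.beq_eq] at h
  obtain ⟨⟨⟨⟨⟨⟨h1, h2⟩, h3⟩, h4⟩, k1⟩, k2⟩, k3⟩ := h
  have hF : ∀ s, (∃ w ∈ F, w = [s]) → γ s ∈ clW γ F := by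
    rintro s ⟨w, hw, rfl⟩
    simpa using mem_clW γ hw
  have hj : γ j ∈ clW γ F := by
    have k4 := eqW_spec C.tabG hX k1
    rw [ev_cons, ← eq_mul_inv_iff_mul_eq] at k4
    rw [k4]
    exact mul_mem (ev_mem γ _ fun s hs => hF s (k2 s hs))
      (inv_mem (ev_mem γ _ fun s hs => hF s (k3 s hs)))
  have h5 : (clW γ F).comap φ = ⊤ := by
    refine hG.eq_top C.tab h1 fun s => ?_
    induction s using Nat.strong_induction_on with
    | _ s ih =>
      intro hs hm
      rcases h2 s hs with (h5 | h5 | h5) | ⟨h5, h6⟩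
      · rw [hm] at h5; exact absurd h5 (by simp)
      · rw [Subgroup.mem_comap, ← C.map s hs]; exact hF s h5
      · rw [Subgroup.mem_comap, ← C.map s hs, h5]; exact hj
      · obtain ⟨h7, h8⟩ := C.dfH s h5 hs
        rw [h8]
        exact ev_mem g _ fun y hy => ih y (h7 y hy) ((h7 y hy).trans hs) (h6 y hy)
  have h6 : ∀ y, φ y ∈ clW γ F := fun y => (h5 ▸ Subgroup.mem_top y : y ∈ (clW γ F).comap φ)
  refine C.gen _ h6 ?_
  have h7 := eqW_spec C.tabG hX h3
  rw [L0.ev_singleton] at h7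
  rw [h7]
  refine ev_mem γ _ fun s hs => (h4 s hs).elim (fun h => ?_) (hF s)
  rw [C.map s h]; exact h6 _

end Cfsg.Agent.H9
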