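import Cfsg.Agent.H9.Out

/-! Kernel checks for outer automorphism groups. -/

set_option autoImplicit false

namespace Cfsg.Agent.H9

open Cfsg.Agent.L0 (ev ev_nil ev_cons ev_append ev_mem nthW nthW_mem nthW_eq map_ev ev_congr)

/-- the letters from `s` on are given by the words of the list, at the point `c` -/
noncomputable def slpB (T : ℕ → ℕ → ℕ) (Ws : List (List ℕ)) (s c : ℕ) : Bool :=
  List.rec (motive := fun _ => ℕ → Bool) (fun _ => true)
    (fun w _ ih s => Bool.rec (motive := fun _ => Bool) false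
      (Nat.rec (motive := fun _ => Bool) false (fun s' _ => ih s') (Nat.succ (Nat.succ s)))
      (Nat.beq (T c s) (tr T w c))) Ws s

/-- every word only uses earlier letters -/
noncomputable def slpW (Ws : List (List ℕ)) : ℕ → Bool :=
  List.rec (motive := fun _ => ℕ → Bool) (fun _ => true)
    (fun w _ ih s => ltB s w && ih (Nat.succ s)) Ws

/-- the letters in the mask `m` are words in the three letters -/
noncomputable def inHB (k0 k : ℕ) (Ws : List (List ℕ)) (m ia ib it : ℕ) : Bool :=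
  allLt k fun s => !(tb m s) || Nat.beq s ia || Nat.beq s ib || Nat.beq s it ||
    (Nat.ble k0 s && allL (nthW Ws (s - k0)) fun y => tb m y)

/-- the masks of the levels are contained in `m` -/
noncomputable def subM (k m : ℕ) (Ls : List Lv) : Bool :=
  allL Ls fun L => allLt k fun s => !(tb L.sm s) || tb m s

/-- the images of the points of `B`, packed -/
noncomputable def code (N : ℕ) (B : List ℕ) (X : ℕ → ℕ) : ℕ :=
  List.rec (motive := fun _ => ℕ) 0 (fun b _ ih => Nat.add (Nat.mul ih N) (X b)) B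

theorem code_inj {N : ℕ} {B : List ℕ} {X Y : ℕ → ℕ} (hX : ∀ b ∈ B, X b < N) (hY : ∀ b ∈ B, Y b < N)
    (h : code N B X = code N B Y) : RA.agree B X Y = true := by
  rw [RA.agree, allL_iff]
  induction B with
  | nil => simp
  | cons b B ih =>
    have h' : code N B X * N + X b = code N B Y * N + Y b := h
    have h1 := hX b List.mem_cons_self
    have h2 := hY b List.mem_cons_self
    have h3 : X b = Y b := by
      have := congrArg (· % N) h'
      simpa [Nat.mod_eq_of_lt h1, Nat.mod_eq_of_lt h2] using this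
    have h4 : code N B X = code N B Y := by
      rw [h3] at h'
      exact Nat.eq_of_mul_eq_mul_right (by omega) (Nat.add_right_cancel h')
    intro x hx
    rcases List.mem_cons.mp hx with rfl | hx
    · simpa using h3
    · exact ih (fun b hb => hX b (List.mem_cons_of_mem _ hb))
        (fun b hb => hY b (List.mem_cons_of_mem _ hb)) h4 x hx

/-- the link words of the levels -/
def linkWs (Ls : List SLv) : List (List ℕ) := Ls.flatMap fun L => L.z :: L.sp.map Prod.snd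

/-- the list of coded words contains the empty word and is closed under the words `ws` -/
noncomputable def listB (T : ℕ → ℕ → ℕ) (N k : ℕ) (B : List ℕ) (CL : List (ℕ × List ℕ))
    (ws : List (List ℕ)) : Bool :=
  (allL CL fun c => ltB k c.2 && Nat.beq c.1 (code N B (tr T c.2))) &&
  (anyL CL fun c => Nat.beq c.1 (code N B fun b => b)) &&
  allL ws fun w => ltB k w && allL CL fun c => Nat.rec (motive := fun _ => Bool) false
    (fun κ _ => anyL CL fun c' => Nat.beq c'.1 κ) (Nat.succ (code N B (tr T (c.2 ++ w))))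

/-- table of three words -/
noncomputable def T3 (T : ℕ → ℕ → ℕ) (u v w : List ℕ) (c s : ℕ) : ℕ :=
  Nat.rec (motive := fun _ => ℕ) (tr T u c)
    (fun s' _ => Nat.rec (motive := fun _ => ℕ) (tr T v c) (fun _ _ => tr T w c) s') s

/-- three elements as an alphabet -/
def g3 {G : Type*} (u v w : G) : ℕ → G
  | 0 => u
  | 1 => v
  | _ + 2 => w

/-- the small data of an outer automorphism computation -/
structure OD where
  ia : ℕ
  ib : ℕ
  it : ℕ
  p : ℕ
  r : ℕ
  i : ℕ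
  j : ℕ
  reps : List ℕ
  CL : List (ℕ × List ℕ)
  rels : List (List ℕ)
  sv0 : List (List ℕ)
  sv1 : List (List ℕ)
  a' : List ℕ
  t' : List ℕ

namespace OD

variable (D : OD) (T : ℕ → ℕ → ℕ) (k n : ℕ) (B : List ℕ)

/-- `u` conjugates the triple `(x, b, y)` to `(x', b, y')` -/
noncomputable def conjB (x y x' y' u : List ℕ) : Bool :=
  ltB k u && RA.agree B (tr T (x ++ u)) (tr T (u ++ x')) &&
    RA.agree B (tr T (D.ib :: u)) (tr T (u ++ [D.ib])) && RA.agree B (tr T (y ++ u)) (tr T (u ++ y'))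

/-- the candidate is killed by a relator or conjugate to a known triple -/
noncomputable def candB (e : ℕ) (c : List ℕ) : Bool :=
  (anyL D.rels fun R => !(RA.agree B (tr (T3 T (List.replicate e D.ia) [D.ib] (c ++ [D.it])) R)
    fun b => b)) ||
  (anyL D.sv0 fun u => D.conjB T k B (List.replicate e D.ia) (c ++ [D.it]) [D.ia] [D.it] u) ||
  (anyL D.sv1 fun u => D.conjB T k B (List.replicate e D.ia) (c ++ [D.it]) D.a' D.t' u)

/-- the small checks -/
noncomputable def chk : Bool :=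
  Nat.blt D.ia k && Nat.blt D.ib k && Nat.blt D.it k && ltB k D.a' && ltB k D.t' &&
  RA.agree B (tr T (List.replicate D.p D.ia)) (fun b => b) &&
  !(RA.agree B (tr T [D.ia]) fun b => b) &&
  !(Nat.beq (n % D.p ^ 2) 0) &&
  RA.agree B (tr T [D.ia, D.ib]) (tr T (D.ib :: List.replicate D.r D.ia)) &&
  (allLt D.p fun u => anyL (List.range D.p) fun m => Nat.beq ((u + m * D.r) % D.p) (m % D.p)) &&
  RA.agree B (tr T (List.replicate D.i D.ib ++ [D.it])) (tr T (D.it :: List.replicate D.j D.ib)) &&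
  (allLt D.p fun e => Nat.beq e 0 ||
    anyL (List.range D.p) fun m => anyL D.reps fun y => Nat.beq (e * D.r ^ m % D.p) y) &&
  (allL D.rels fun R => RA.agree B (tr (T3 T [D.ia] [D.ib] [D.it]) R) fun b => b) &&
  allL D.reps fun e => allL D.CL fun c => ltB k c.2 && D.candB T k B e c.2

/-- no element of the list induces the second triple -/
noncomputable def outerB : Bool :=
  allL D.CL fun c => !(RA.agree B (tr T (c.2 ++ [D.ia])) (tr T (D.a' ++ c.2))) ||
    !(RA.agree B (tr T (c.2 ++ [D.it])) (tr T (D.t' ++ c.2)))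

/-- the permutation `π` intertwines the two triples at the point `c` -/
noncomputable def permB (N : ℕ) (π πi : ℕ → ℕ) (c : ℕ) : Bool :=
  Nat.rec (motive := fun _ => Bool) false (fun d _ =>
    Nat.blt d N && Nat.beq (πi d) c && Nat.beq (π (T c D.ia)) (tr T D.a' d) &&
      Nat.beq (π (T c D.ib)) (T d D.ib) && Nat.beq (π (T c D.it)) (tr T D.t' d)) (Nat.succ (π c))

end OD

namespace RA

variable {G : Type*} [Group G] {N : ℕ} {A : RA G N} {g : ℕ → G} {k : ℕ} {T : ℕ → ℕ → ℕ}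

theorem Tab.extend {Ws : List (List ℕ)} : ∀ {g : ℕ → G} {k : ℕ}, A.Tab g k T → slpW Ws k = true →
    (∀ c < N, slpB T Ws k c = true) →
    ∃ g' : ℕ → G, A.Tab g' (k + Ws.length) T ∧ (∀ s < k, g' s = g s) ∧
      ∀ s, k ≤ s → s < k + Ws.length →
        (∀ y ∈ nthW Ws (s - k), y < s) ∧ g' s = ev g' (nthW Ws (s - k)) := by
  induction Ws with
  | nil => intro g k hT _ _; exact ⟨g, hT, fun _ _ => rfl, fun s h1 h2 => by simp at h2; omega⟩
  | cons w Ws ih =>
    intro g k hT hW h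
    have e : slpW (w :: Ws) k = (ltB k w && slpW Ws (k + 1)) := rfl
    rw [e, Bool.and_eq_true, ltB_iff] at hW
    have h' : ∀ c < N, T c k = H9.tr T w c ∧ slpB T Ws (k + 1) c = true := by
      intro c hc
      have e : slpB T (w :: Ws) k c = Bool.rec (motive := fun _ => Bool) false
        (slpB T Ws (k + 1) c) (Nat.beq (T c k) (H9.tr T w c)) := rfl
      have h1 := h c hc
      rw [e] at h1
      obtain ⟨h2, h3⟩ := L0.brec_true h1
      exact ⟨Nat.eq_of_beq_eq_true h2, h3⟩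
    have hT1 : A.Tab (Function.update g k (ev g w)) (k + 1) T := by
      intro s hs c hc
      rcases Nat.lt_succ_iff_lt_or_eq.mp hs with h1 | rfl
      · rw [Function.update_of_ne h1.ne]; exact hT s h1 c hc
      · rw [Function.update_self, (h' c hc).1]; exact hT.tr hW.1 c hc
    obtain ⟨g', h1, h2, h3⟩ := ih hT1 hW.2 fun c hc => (h' c hc).2
    have h4 : ∀ s < k, g' s = g s := fun s hs => by
      rw [h2 s (by omega), Function.update_of_ne hs.ne]
    refine ⟨g', by rwa [List.length_cons, ← Nat.add_assoc, Nat.add_right_comm], h4, ?_⟩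
    intro s h5 h6
    rcases h5.eq_or_lt with rfl | h7
    · rw [Nat.sub_self]
      refine ⟨hW.1, ?_⟩
      rw [h2 _ (by omega), Function.update_self]
      exact ev_congr fun y hy => (h4 y (hW.1 y hy)).symm
    · have e2 : nthW (w :: Ws) (s - k) = nthW Ws (s - (k + 1)) := by
        obtain ⟨d, rfl⟩ := Nat.exists_eq_add_of_lt h7
        rw [show k + d + 1 - k = d + 1 by omega, show k + d + 1 - (k + 1) = d by omega]
        rfl
      rw [e2]
      exact h3 s h7 (by rw [List.length_cons] at h6; omega)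

theorem mem_of_inH {k0 : ℕ} {Ws : List (List ℕ)} {m ia ib it : ℕ}
    (hW : ∀ s, k0 ≤ s → s < k → (∀ y ∈ nthW Ws (s - k0), y < s) ∧ g s = ev g (nthW Ws (s - k0)))
    (h : inHB k0 k Ws m ia ib it = true) :
    ∀ s < k, m.testBit s = true → g s ∈ Subgroup.closure {g ia, g ib, g it} := by
  simp only [inHB, allLt_iff, Bool.or_eq_true, Bool.not_eq_true', tb_eq, Nat.beq_eq,
    Bool.and_eq_true, Nat.ble_eq, allL_iff] at h
  intro s
  induction s using Nat.strong_induction_on with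
  | _ s ih =>
    intro hs hm
    rcases h s hs with (((h1 | rfl) | rfl) | rfl) | ⟨h1, h2⟩
    · rw [hm] at h1; exact absurd h1 (by simp)
    · exact Subgroup.subset_closure (by simp)
    · exact Subgroup.subset_closure (by simp)
    · exact Subgroup.subset_closure (by simp)
    · obtain ⟨h3, h4⟩ := hW s h1 hs
      rw [h4]
      exact ev_mem g _ fun y hy => ih y (h3 y hy) ((h3 y hy).trans hs) (h2 y hy)

theorem Good.eq_top (hT : A.Tab g k T) {Ls : List Lv} (h : A.Good g k T Ls []) {m : ℕ}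
    (hm : subM k m Ls = true) {H : Subgroup G} (hH : ∀ s < k, m.testBit s = true → g s ∈ H) :
    H = ⊤ := by
  simp only [subM, allL_iff, allLt_iff, Bool.or_eq_true, Bool.not_eq_true', tb_eq] at hm
  rw [eq_top_iff]
  intro x _
  refine h.mem_closure hT (fun L hL s hs h1 => hH s hs ?_) (by rw [Fix_nil]; trivial)
  rcases hm L hL s hs with h2 | h2
  · rw [h1] at h2; exact absurd h2 (by simp)
  · exact h2

theorem IsBase.code_eq {B : List ℕ} (hB : A.IsBase B) {x y : G} {X Y : ℕ → ℕ} (hx : A.Fn x X)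
    (hy : A.Fn y Y) (h : code N B X = code N B Y) : x = y :=
  hB.eq hx hy (code_inj (fun b hb => hx.lt (hB.1 b hb)) (fun b hb => hy.lt (hB.1 b hb)) h)

theorem lt_append {k : ℕ} {u v : List ℕ} (hu : ∀ s ∈ u, s < k) (hv : ∀ s ∈ v, s < k) :
    ∀ s ∈ u ++ v, s < k := fun s hs => (List.mem_append.mp hs).elim (hu s) (hv s)

theorem lt_cons {k a : ℕ} {v : List ℕ} (hu : a < k) (hv : ∀ s ∈ v, s < k) :
    ∀ s ∈ a :: v, s < k := fun s hs => (List.mem_cons.mp hs).elim (fun h => h ▸ hu) (hv s)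

theorem lt_one {k a : ℕ} (hu : a < k) : ∀ s ∈ [a], s < k := lt_cons hu (by simp)

theorem lt_rep {k a n : ℕ} (hu : a < k) : ∀ s ∈ List.replicate n a, s < k :=
  fun s hs => (List.eq_of_mem_replicate hs) ▸ hu

theorem ev_rep (a n : ℕ) : ev g (List.replicate n a) = g a ^ n := by simp [ev]

theorem listB_spec [Finite G] (hT : A.Tab g k T) {B : List ℕ} (hB : A.IsBase B)
    {CL : List (ℕ × List ℕ)} {ws : List (List ℕ)} (h : listB T N k B CL ws = true) :
    ∀ x ∈ Subgroup.closure {x | ∃ w ∈ ws, x = ev g w}, ∃ c ∈ CL, x = ev g c.2 := by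
  simp only [listB, Bool.and_eq_true, allL_iff, anyL_iff, ltB_iff, Nat.beq_eq] at h
  obtain ⟨⟨h1, c0, h2, h3⟩, h4⟩ := h
  apply closure_sub_of_closed (C := {x | ∃ c ∈ CL, x = ev g c.2})
  · exact ⟨c0, h2, hB.code_eq fn_one (hT.tr (h1 c0 h2).1) (by rw [← h3, (h1 c0 h2).2])⟩
  · rintro _ ⟨w, hw, rfl⟩ _ ⟨c, hc, rfl⟩
    obtain ⟨c', h6, h7⟩ := (h4 w hw).2 c hc
    refine ⟨c', h6, ?_⟩
    rw [← ev_append]
    exact hB.code_eq (hT.tr (lt_append (h1 c hc).1 (h4 w hw).1)) (hT.tr (h1 c' h6).1)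
      (by rw [← h7, (h1 c' h6).2])

theorem linkWs_mem (Ls : List SLv) : ∀ L ∈ Ls,
    ev g L.z ∈ Subgroup.closure {x | ∃ w ∈ linkWs Ls, x = ev g w} ∧
    ∀ q ∈ L.sp, ev g q.2 ∈ Subgroup.closure {x | ∃ w ∈ linkWs Ls, x = ev g w} := by
  intro L hL
  refine ⟨Subgroup.subset_closure ⟨_, List.mem_flatMap.mpr ⟨L, hL, List.mem_cons_self⟩, rfl⟩,
    fun q hq => Subgroup.subset_closure ⟨_, List.mem_flatMap.mpr ⟨L, hL,
      List.mem_cons_of_mem _ (List.mem_map_of_mem hq)⟩, rfl⟩⟩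

theorem Tab.T3 (hT : A.Tab g k T) {u v w : List ℕ} (hu : ∀ s ∈ u, s < k) (hv : ∀ s ∈ v, s < k)
    (hw : ∀ s ∈ w, s < k) (R : List ℕ) :
    A.Fn (ev (g3 (ev g u) (ev g v) (ev g w)) R) (H9.tr (T3 T u v w) R) := by
  have : A.Tab (g3 (ev g u) (ev g v) (ev g w)) (R.sum + 1) (H9.T3 T u v w) := by
    intro s _ c hc
    rcases s with _ | _ | s
    · exact hT.tr hu c hc
    · exact hT.tr hv c hc
    · exact hT.tr hw c hc
  exact this.tr fun _ hy => Nat.lt_succ_of_le (List.single_le_sum (fun _ _ => Nat.zero_le _) _ hy)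

theorem IsBase.ne {B : List ℕ} (hB : A.IsBase B) {x y : G} {X Y : ℕ → ℕ} (hx : A.Fn x X)
    (hy : A.Fn y Y) (h : agree B X Y = false) : x ≠ y := by
  rintro rfl
  have : agree B X Y = true := by
    rw [agree, allL_iff]
    intro b hb
    rw [hx b (hB.1 b hb), hy b (hB.1 b hb)]; simp
  rw [h] at this; exact absurd this (by simp)

theorem conjB_spec (hT : A.Tab g k T) {B : List ℕ} (hB : A.IsBase B) {D : OD} (hb : D.ib < k)
    {x y x' y' u : List ℕ} (hx : ∀ s ∈ x, s < k) (hy : ∀ s ∈ y, s < k) (hx' : ∀ s ∈ x', s < k)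
    (hy' : ∀ s ∈ y', s < k) (h : D.conjB T k B x y x' y' u = true) :
    (ev g u)⁻¹ * ev g x * ev g u = ev g x' ∧ (ev g u)⁻¹ * g D.ib * ev g u = g D.ib ∧
      (ev g u)⁻¹ * ev g y * ev g u = ev g y' := by
  simp only [OD.conjB, Bool.and_eq_true, ltB_iff] at h
  obtain ⟨⟨⟨hu, h1⟩, h2⟩, h3⟩ := h
  have a1 := hB.eq (hT.tr (lt_append hx hu)) (hT.tr (lt_append hu hx')) h1
  have a2 := hB.eq (hT.tr (lt_cons hb hu)) (hT.tr (lt_append hu (lt_one hb))) h2
  have a3 := hB.eq (hT.tr (lt_append hy hu)) (hT.tr (lt_append hu hy')) h3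
  simp only [ev_append, ev_cons, ev_nil, mul_one] at a1 a2 a3
  refine ⟨?_, ?_, ?_⟩ <;> rw [mul_assoc]
  · rw [a1]; group
  · rw [a2]; group
  · rw [a3]; group

/-- every automorphism is, up to inner ones, given by one of the two triples -/
theorem aut_cases [Finite G] (hT : A.Tab g k T) {B : List ℕ} (hB : A.IsBase B) {D : OD} {n : ℕ}
    (hn : Nat.card G = n) (hp : D.p.Prime) (h : D.chk T k n B = true)
    (hCa : ∀ x, g D.ia * x = x * g D.ia → x ∈ Subgroup.zpowers (g D.ia))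
    (hCb : ∀ x, g D.ib ^ D.i * x = x * g D.ib ^ D.i → ∃ c ∈ D.CL, x = ev g c.2) (φ : MulAut G) :
    ∃ u : G, (u⁻¹ * φ (g D.ia) * u = g D.ia ∧ u⁻¹ * φ (g D.ib) * u = g D.ib ∧
        u⁻¹ * φ (g D.it) * u = g D.it) ∨
      (D.sv1 ≠ [] ∧ u⁻¹ * φ (g D.ia) * u = ev g D.a' ∧ u⁻¹ * φ (g D.ib) * u = g D.ib ∧
        u⁻¹ * φ (g D.it) * u = ev g D.t') := by
  simp only [OD.chk, Bool.and_eq_true, Nat.blt_eq, ltB_iff, Bool.not_eq_true', allLt_iff, allL_iff,
    anyL_iff, List.mem_range, Nat.beq_eq, Bool.or_eq_true] at h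
  obtain ⟨⟨⟨⟨⟨⟨⟨⟨⟨⟨⟨⟨⟨ha, hb⟩, ht⟩, ha'⟩, ht'⟩, h1⟩, h2⟩, h3⟩, h4⟩, h5⟩, h6⟩, h7⟩, h8⟩, h9⟩ := h
  haveI := Fact.mk hp
  have a1 := hB.eq (hT.tr (lt_rep ha)) fn_one h1
  have a2 := hB.ne (hT.tr (lt_one ha)) fn_one h2
  have a4 := hB.eq (hT.tr (lt_cons ha (lt_one hb))) (hT.tr (lt_cons hb (lt_rep ha))) h4
  have a6 := hB.eq (hT.tr (lt_append (lt_rep hb) (lt_one ht))) (hT.tr (lt_cons ht (lt_rep hb))) h6
  simp only [ev_append, ev_cons, ev_nil, mul_one, ev_rep] at a1 a2 a4 a6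
  obtain ⟨u, e, he, c, hc, b1, b2, b3⟩ := aut_nf hp (orderOf_eq_prime a1 a2)
    (by
      rw [hn]
      intro hd
      exact absurd (Nat.mod_eq_zero_of_dvd hd) (Nat.ne_of_beq_eq_false h3)) hCa a4 h5 a6
    (reps := D.reps) (fun e he he0 => by
      rcases h7 e he with h | ⟨m, hm, y, hy, h⟩
      · exact absurd h he0
      · exact ⟨m, hm, h ▸ hy⟩) φ
  obtain ⟨w, hw, rfl⟩ := hCb c hc
  obtain ⟨hwk, hcand⟩ := h9 e he w hw
  have c1 : ∀ s ∈ List.replicate e D.ia, s < k := lt_rep ha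
  have c2 : ∀ s ∈ w.2 ++ [D.it], s < k := lt_append hwk (lt_one ht)
  have fin : ∀ {x' y' v : List ℕ}, (∀ s ∈ x', s < k) → (∀ s ∈ y', s < k) →
      D.conjB T k B (List.replicate e D.ia) (w.2 ++ [D.it]) x' y' v = true →
      (u * ev g v)⁻¹ * φ (g D.ia) * (u * ev g v) = ev g x' ∧
      (u * ev g v)⁻¹ * φ (g D.ib) * (u * ev g v) = g D.ib ∧
      (u * ev g v)⁻¹ * φ (g D.it) * (u * ev g v) = ev g y' := by
    intro x' y' v hx' hy' hv
    obtain ⟨d1, d2, d3⟩ := conjB_spec hT hB hb c1 c2 hx' hy' hv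
    simp only [ev_append, ev_cons, ev_nil, mul_one, ev_rep] at d1 d3
    refine ⟨?_, ?_, ?_⟩
    · rw [← d1, ← b1]; group
    · conv_rhs => rw [← d2, ← b2]
      group
    · rw [← d3, ← b3]; group
  simp only [OD.candB, Bool.or_eq_true, anyL_iff, Bool.not_eq_true'] at hcand
  rcases hcand with (⟨R, hR, hk⟩ | ⟨v, _, hv⟩) | ⟨v, hv0, hv⟩
  · exfalso
    have d1 := hB.eq (hT.T3 (lt_one ha) (lt_one hb) (lt_one ht) R) fn_one (h8 R hR)
    have d2 := hB.ne (hT.T3 c1 (lt_one hb) c2 R) fn_one hk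
    apply d2
    have d3 := congrArg (MulAut.conj u⁻¹ * φ : MulAut G) d1
    rw [map_one, map_ev] at d3
    rw [← d3]
    apply ev_congr
    intro y _
    rcases y with _ | _ | y <;> simp [g3, ev_rep, b1, b2, b3]
  · have := fin (lt_one ha) (lt_one ht) hv
    simp only [ev_cons, ev_nil, mul_one] at this
    exact ⟨_, Or.inl this⟩
  · exact ⟨_, Or.inr ⟨List.ne_nil_of_mem hv0, fin ha' ht' hv⟩⟩

/-- a permutation of the points intertwining two triples gives an automorphism -/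
theorem exists_aut [Finite G] {B : List ℕ} (hB : A.IsBase B) {S : Set G}
    (hS : Subgroup.closure S = ⊤) {π πi : ℕ → ℕ} (h1 : ∀ c < N, π c < N ∧ πi (π c) = c)
    (h2 : ∀ x ∈ S, ∃ y, ∀ c < N, π (A.act c x) = A.act (π c) y) :
    ∃ σ : MulAut G, ∀ x y, (∀ c < N, π (A.act c x) = A.act (π c) y) → σ x = y := by
  have hinj : ∀ c < N, ∀ d < N, π c = π d → c = d := fun c hc d hd h => by
    rw [← (h1 c hc).2, h, (h1 d hd).2]
  have hsurj : ∀ d < N, ∃ c < N, π c = d := by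
    let F : Fin N → Fin N := fun c => ⟨π c, (h1 c c.2).1⟩
    have hF : Function.Injective F := fun a b h => Fin.ext (hinj _ a.2 _ b.2 (congrArg Fin.val h))
    intro d hd
    obtain ⟨c, hc⟩ := Finite.surjective_of_injective hF ⟨d, hd⟩
    exact ⟨c, c.2, congrArg Fin.val hc⟩
  have hex : ∀ x, ∃ y, ∀ c < N, π (A.act c x) = A.act (π c) y := by
    intro x
    have hx : x ∈ Subgroup.closure S := hS ▸ Subgroup.mem_top x
    induction hx using Subgroup.closure_induction with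
    | mem x hx => exact h2 x hx
    | one => exact ⟨1, fun c hc => by rw [A.one hc, A.one (h1 c hc).1]⟩
    | mul x y _ _ hx hy =>
      obtain ⟨x', hx⟩ := hx
      obtain ⟨y', hy⟩ := hy
      exact ⟨x' * y', fun c hc => by
        rw [A.mul hc, hy _ (A.lt hc x), hx c hc, A.mul (h1 c hc).1]⟩
    | inv x _ hx =>
      obtain ⟨x', hx⟩ := hx
      refine ⟨x'⁻¹, fun c hc => ?_⟩
      have h3 := hx _ (A.lt hc x⁻¹)
      have h4 := act_inv (A := A) hc x⁻¹
      rw [inv_inv] at h4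
      rw [h4] at h3
      rw [h3, act_inv (h1 _ (A.lt hc _)).1]
  have huniq : ∀ x y y', (∀ c < N, π (A.act c x) = A.act (π c) y) →
      (∀ c < N, π (A.act c x) = A.act (π c) y') → y = y' := by
    intro x y y' h h'
    rw [← mul_inv_eq_one]
    apply hB.2
    intro b hb
    obtain ⟨c, hc, rfl⟩ := hsurj b (hB.1 b hb)
    rw [A.mul (h1 c hc).1, ← h c hc, h' c hc, act_inv (h1 c hc).1]
  choose f hf using hex
  let F : G →* G := MonoidHom.mk' f fun x y => huniq (x * y) _ _ (hf _) fun c hc => by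
    rw [A.mul hc, hf _ _ (A.lt hc x), hf _ c hc, A.mul (h1 c hc).1]
  have hF : Function.Injective F := by
    rw [injective_iff_map_eq_one]
    intro x hx
    apply hB.2
    intro b hb
    have h3 := hf x b (hB.1 b hb)
    have hx' : f x = 1 := hx
    rw [hx', A.one (h1 b (hB.1 b hb)).1] at h3
    exact hinj _ (A.lt (hB.1 b hb) x) _ (hB.1 b hb) h3
  exact ⟨MulEquiv.ofBijective F (Finite.injective_iff_bijective.mp hF),
    fun x y h => huniq x _ _ (hf x) h⟩

theorem exists_aut_perm [Finite G] (hT : A.Tab g k T) {B : List ℕ} (hB : A.IsBase B) {D : OD}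
    {n : ℕ} (h : D.chk T k n B = true) (hgen : Subgroup.closure {g D.ia, g D.ib, g D.it} = ⊤)
    {π πi : ℕ → ℕ} (hπ : ∀ c < N, D.permB T N π πi c = true) :
    ∃ σ : MulAut G, σ (g D.ia) = ev g D.a' ∧ σ (g D.ib) = g D.ib ∧ σ (g D.it) = ev g D.t' := by
  simp only [OD.chk, Bool.and_eq_true, Nat.blt_eq, ltB_iff] at h
  obtain ⟨⟨⟨⟨⟨⟨⟨⟨⟨⟨⟨⟨⟨ha, hb⟩, ht⟩, ha'⟩, ht'⟩, -⟩, -⟩, -⟩, -⟩, -⟩, -⟩, -⟩, -⟩, -⟩ := h
  have hπ' : ∀ c < N, (((π c < N ∧ πi (π c) = c) ∧ π (T c D.ia) = H9.tr T D.a' (π c)) ∧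
      π (T c D.ib) = T (π c) D.ib) ∧ π (T c D.it) = H9.tr T D.t' (π c) := by
    intro c hc
    have : (Nat.blt (π c) N && Nat.beq (πi (π c)) c && Nat.beq (π (T c D.ia)) (H9.tr T D.a' (π c)) &&
      Nat.beq (π (T c D.ib)) (T (π c) D.ib) &&
      Nat.beq (π (T c D.it)) (H9.tr T D.t' (π c))) = true := hπ c hc
    simpa only [Bool.and_eq_true, Nat.blt_eq, Nat.beq_eq] using this
  have a1 : ∀ c < N, π (A.act c (g D.ia)) = A.act (π c) (ev g D.a') := fun c hc => by
    rw [← hT _ ha c hc, (hπ' c hc).1.1.2, hT.tr ha' _ (hπ' c hc).1.1.1.1]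
  have a2 : ∀ c < N, π (A.act c (g D.ib)) = A.act (π c) (g D.ib) := fun c hc => by
    rw [← hT _ hb c hc, (hπ' c hc).1.2, hT _ hb _ (hπ' c hc).1.1.1.1]
  have a3 : ∀ c < N, π (A.act c (g D.it)) = A.act (π c) (ev g D.t') := fun c hc => by
    rw [← hT _ ht c hc, (hπ' c hc).2, hT.tr ht' _ (hπ' c hc).1.1.1.1]
  obtain ⟨σ, hσ⟩ := exists_aut hB hgen (fun c hc => (hπ' c hc).1.1.1) (by
    rintro x (rfl | rfl | rfl)
    exacts [⟨_, a1⟩, ⟨_, a2⟩, ⟨_, a3⟩])
  exact ⟨σ, hσ _ _ a1, hσ _ _ a2, hσ _ _ a3⟩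

/-- the facts needed for the outer automorphism group -/
structure OutOK (A : RA G N) (g : ℕ → G) (k : ℕ) (T : ℕ → ℕ → ℕ) (B : List ℕ) (D : OD) (n : ℕ) :
    Prop where
  tab : A.Tab g k T
  base : A.IsBase B
  card : Nat.card G = n
  gen : Subgroup.closure {g D.ia, g D.ib, g D.it} = ⊤
  ca : ∀ x, g D.ia * x = x * g D.ia → x ∈ Subgroup.zpowers (g D.ia)
  cb : ∀ x, g D.ib ^ D.i * x = x * g D.ib ^ D.i → ∃ c ∈ D.CL, x = ev g c.2

theorem OutOK.out_one [Finite G] {B : List ℕ} {D : OD} {n : ℕ} (H : OutOK A g k T B D n)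
    (hp : D.p.Prime) (h : D.chk T k n B = true) (h1 : D.sv1 = []) : Nat.card (Cfsg.Out G) = 1 := by
  refine card_out_eq_one H.gen fun φ => ?_
  obtain ⟨u, h2 | h2⟩ := aut_cases H.tab H.base H.card hp h H.ca H.cb φ
  · exact ⟨u, h2⟩
  · exact absurd h1 h2.1

theorem OutOK.out_two [Finite G] {B : List ℕ} {D : OD} {n : ℕ} (H : OutOK A g k T B D n)
    (hp : D.p.Prime) (h : D.chk T k n B = true) (ho : D.outerB T B = true)
    (hσ : ∃ σ : MulAut G, σ (g D.ia) = ev g D.a' ∧ σ (g D.ib) = g D.ib ∧ σ (g D.it) = ev g D.t') :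
    Nat.card (Cfsg.Out G) = 2 := by
  obtain ⟨σ, s1, s2, s3⟩ := hσ
  refine card_out_eq_two H.gen σ (fun u h1 h2 h3 => ?_) fun φ => ?_
  · rw [s2] at h1
    obtain ⟨c, hc, rfl⟩ := H.cb u (Commute.pow_left h1.symm D.i)
    simp only [OD.chk, Bool.and_eq_true, Nat.blt_eq, ltB_iff, allL_iff, allLt_iff, Bool.or_eq_true,
      Nat.beq_eq, anyL_iff] at h
    obtain ⟨⟨⟨⟨⟨⟨⟨⟨⟨⟨⟨⟨⟨ha, -⟩, ht⟩, ha'⟩, ht'⟩, -⟩, -⟩, -⟩, -⟩, -⟩, -⟩, h7⟩, -⟩, h9⟩ := h
    have hck : ∀ s ∈ c.2, s < k := by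
      rcases h7 1 hp.one_lt with h | ⟨m, -, y, hy, -⟩
      · exact absurd h one_ne_zero
      · exact (h9 y hy c hc).1
    have := (allL_iff _ _).mp ho c hc
    simp only [Bool.or_eq_true, Bool.not_eq_true'] at this
    rcases this with h4 | h4
    · apply H.base.ne (H.tab.tr (lt_append hck (lt_one ha))) (H.tab.tr (lt_append ha' hck)) h4
      simpa [s1] using h2
    · apply H.base.ne (H.tab.tr (lt_append hck (lt_one ht))) (H.tab.tr (lt_append ht' hck)) h4
      simpa [s3] using h3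
  · obtain ⟨u, h2 | h2⟩ := aut_cases H.tab H.base H.card hp h H.ca H.cb φ
    · exact ⟨u, Or.inl h2⟩
    · exact ⟨u, Or.inr (by rw [s1, s2, s3]; exact h2.2)⟩

/-- the links of the search for the centraliser of `a` are powers of `a` -/
noncomputable def linkA (ia : ℕ) (Ls : List SLv) : Bool :=
  allL (linkWs Ls) fun w => allL w fun s => Nat.beq s ia

/-- assemble the facts from the checks -/
theorem outOK_of [Finite G] {g0 : ℕ → G} {k0 : ℕ} (hT0 : A.Tab g0 k0 T) {Ws : List (List ℕ)}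
    (hW : slpW Ws k0 = true) (hslp : ∀ c < N, slpB T Ws k0 c = true) (hk : k0 + Ws.length = k)
    {La Lb : SLv} {Las Lbs : List SLv} {n : ℕ} (hle : Nat.card G ≤ n)
    (hca : ChainChk T N k ((La :: Las).map SLv.toLv) [])
    (hna : chainOrd ((La :: Las).map SLv.toLv) = n)
    (hcb : ChainChk T N k ((Lb :: Lbs).map SLv.toLv) [])
    (hnb : chainOrd ((Lb :: Lbs).map SLv.toLv) = n)
    {B : List ℕ} (hB : ((La :: Las).map SLv.toLv).map Lv.β = B) {D : OD} {m : ℕ} {iv : ℕ → List ℕ}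
    (hs : (inHB k0 k Ws m D.ia D.ib D.it && subM k m ((Lb :: Lbs).map SLv.toLv) && invB T k B iv &&
      Nat.blt D.ia k && Nat.blt D.ib k &&
      statSB T k B [D.ia] (La :: Las) [] && statSB T k B (List.replicate D.i D.ib) (Lb :: Lbs) [] &&
      linkA D.ia (La :: Las) && listB T N k B D.CL (linkWs (Lb :: Lbs))) = true)
    (ha0 : ∀ i < La.n, scanB T iv (H9.tr T [D.ia]) La Las [] i = true)
    (ha1 : centB T iv (H9.tr T [D.ia]) Las (genP (H9.tr T [D.ia]) [] La.xs La.β) = true)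
    (hb0 : ∀ i < Lb.n, scanB T iv (H9.tr T (List.replicate D.i D.ib)) Lb Lbs [] i = true)
    (hb1 : centB T iv (H9.tr T (List.replicate D.i D.ib)) Lbs
      (genP (H9.tr T (List.replicate D.i D.ib)) [] Lb.xs Lb.β) = true) :
    ∃ g : ℕ → G, (∀ s < k0, g s = g0 s) ∧ OutOK A g k T B D n := by
  obtain ⟨g, hT, e0, e1⟩ := hT0.extend hW hslp
  rw [hk] at hT e1
  simp only [Bool.and_eq_true, Nat.blt_eq] at hs
  obtain ⟨⟨⟨⟨⟨⟨⟨⟨s1, s2⟩, s3⟩, s4⟩, s5⟩, s6⟩, s7⟩, s8⟩, s9⟩ := hs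
  obtain ⟨c1, c2⟩ := card_eq_of_chain hT hca (hna ▸ hle)
  obtain ⟨-, c3⟩ := card_eq_of_chain hT hcb (hnb ▸ hle)
  have hb : A.IsBase B := hB ▸ c2.isBase
  have hi := inv_of hT hb s3
  refine ⟨g, e0, hT, hb, c1.trans hna, c3.eq_top hT s2 (mem_of_inH e1 s1), fun x hx => ?_,
    fun x hx => ?_⟩
  · refine cent_le hT hb hi (ltB_iff.mpr (lt_one s4)) c2 s6 ?_ ha0 ha1 x (by simpa using hx)
    have key : ∀ w ∈ linkWs (La :: Las), ev g w ∈ Subgroup.zpowers (g D.ia) := by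
      intro w hw
      refine ev_mem g _ fun y hy => ?_
      rw [Nat.eq_of_beq_eq_true ((allL_iff _ _).mp ((allL_iff _ _).mp s8 w hw) y hy)]
      exact Subgroup.mem_zpowers _
    have key2 : Subgroup.closure {x | ∃ w ∈ linkWs (La :: Las), x = ev g w} ≤
        Subgroup.zpowers (g D.ia) := by
      rw [Subgroup.closure_le]
      rintro _ ⟨w, hw, rfl⟩
      exact key w hw
    exact fun L hL => ⟨key2 (linkWs_mem _ L hL).1, fun q hq => key2 ((linkWs_mem _ L hL).2 q hq)⟩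
  · exact listB_spec hT hb s9 x (cent_le hT hb hi (ltB_iff.mpr (lt_rep s5)) c3 s7 (linkWs_mem _)
      hb0 hb1 x (by simpa [ev_rep] using hx))

end RA

end Cfsg.Agent.H9
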