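import Cfsg.Agent.H9.VM
import Cfsg.Agent.H9.OutChk
import Cfsg.Agent.L0.Bridge9

/-! Groups covered by double cosets of a subgroup, with an action on vectors: orders and a base. -/

set_option autoImplicit false

namespace Cfsg.Agent.H9

open Cfsg.Agent.L0 (ev ev_nil ev_cons ev_append ev_mem nthW nthW_mem map_ev ev_congr RAct ofRA LvP levT)

/-- the tables -/
structure Env where
  N : ℕ
  k0 : ℕ
  k : ℕ
  T : ℕ → ℕ → ℕ
  B : List ℕ
  M : ℕ
  K : ℕ
  U : ℕ → ℕ → ℕ
  E : ℕ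
  inW : ℕ → Bool
  Df : ℕ → List ℕ

/-- a double coset: word, preimage of the block, order of the stabiliser -/
structure DCo where
  w : List ℕ
  E : ℕ
  s : ℕ

/-- the stabiliser of a coset -/
def TT {H G : Type*} [Group H] [Group G] (φ : H →* G) (w : G) : Subgroup H where
  carrier := {y | w⁻¹ * φ y * w ∈ φ.range}
  one_mem' := ⟨1, by simp⟩
  mul_mem' := fun {x y} hx hy => by
    have := φ.range.mul_mem hx hy
    simpa [mul_assoc] using this
  inv_mem' := fun {x} hx => by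
    have := φ.range.inv_mem hx
    simpa [mul_assoc] using this

theorem mem_TT {H G : Type*} [Group H] [Group G] {φ : H →* G} {w : G} {y : H} :
    y ∈ TT φ w ↔ w⁻¹ * φ y * w ∈ φ.range := Iff.rfl

/-- the values of a list of words -/
def clW {G : Type*} [Group G] (γ : ℕ → G) (S : List (List ℕ)) : Subgroup G :=
  Subgroup.closure {x | ∃ w ∈ S, x = ev γ w}

theorem mem_clW {G : Type*} [Group G] (γ : ℕ → G) {S : List (List ℕ)} {w : List ℕ} (h : w ∈ S) :
    ev γ w ∈ clW γ S := Subgroup.subset_closure ⟨w, h, rfl⟩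

theorem clW_le {G : Type*} [Group G] {γ : ℕ → G} {S : List (List ℕ)} {K : Subgroup G}
    (h : ∀ w ∈ S, ev γ w ∈ K) : clW γ S ≤ K := by
  rw [clW, Subgroup.closure_le]; rintro _ ⟨w, hw, rfl⟩; exact h w hw

/-- a chain with recorded base points -/
def ChB {H : Type*} [Group H] {N : ℕ} (A : RAct H N) (K : Subgroup H) (pre B : List ℕ) (n : ℕ) : Prop :=
  ∃ l, A.Chain K pre l ∧ l.map Prod.fst = B ∧ RAct.chainProd l = n

theorem chB_nil {H : Type*} [Group H] {N : ℕ} {A : RAct H N} {K : Subgroup H} {pre : List ℕ} :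
    ChB A K pre [] 1 := ⟨[], trivial, rfl, rfl⟩

theorem chB_cons {H : Type*} [Group H] {N : ℕ} {A : RAct H N} {K : Subgroup H} {pre B : List ℕ}
    {β m n : ℕ} {s : Finset ℕ} (h : A.Lev K pre β s ∧ s.card = m) (h' : ChB A K (β :: pre) B n) :
    ChB A K pre (β :: B) (m * n) := by
  obtain ⟨l, h1, h2, h3⟩ := h'
  exact ⟨(β, s) :: l, ⟨h.1, h1⟩, by simp [h2], by rw [← h3, ← h.2]; simp [RAct.chainProd]⟩

theorem ChB.le {H : Type*} [Group H] [Finite H] {N : ℕ} {A : RAct H N} {K : Subgroup H} {B : List ℕ}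
    {n : ℕ} (h : ChB A K [] B n) : n ≤ Nat.card K := by
  obtain ⟨l, h1, -, rfl⟩ := h
  exact h1.prod_le_card

theorem chain_lt {H : Type*} [Group H] {N : ℕ} {A : RAct H N} {K : Subgroup H}
    {l : List (ℕ × Finset ℕ)} : ∀ {pre : List ℕ}, A.Chain K pre l → ∀ b ∈ l.map Prod.fst, b < N := by
  induction l with
  | nil => simp
  | cons p l ih =>
    intro pre h b hb
    rcases List.mem_cons.mp hb with rfl | hb
    · exact h.1.1
    · exact ih h.2 b hb

theorem sum_eq_of_le {α : Type} {f g : α → ℕ} {l : List α} (h : ∀ d ∈ l, f d ≤ g d)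
    (h' : (l.map g).sum ≤ (l.map f).sum) : ∀ d ∈ l, f d = g d := by
  induction l with
  | nil => simp
  | cons a l ih =>
    have h1 := h a List.mem_cons_self
    have h2 := fun d hd => h d (List.mem_cons_of_mem a hd)
    have h3 : (l.map f).sum ≤ (l.map g).sum := List.sum_le_sum h2
    simp only [List.map_cons, List.sum_cons] at h'
    intro d hd
    rcases List.mem_cons.mp hd with rfl | hd
    · omega
    · exact ih h2 (by omega) d hd

namespace Env

variable (e : Env)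

/-- the word lies in the stabiliser of the coset -/
noncomputable def inT (d : DCo) (y : List ℕ) : Bool := e.inW (tr e.U (y ++ d.w) d.E)

/-- the data of the double coset are consistent -/
noncomputable def dcB (d : DCo) : Bool :=
  ltB e.K d.w && Nat.blt d.E e.M && Nat.beq (tr e.U d.w d.E) e.E

/-- the listed points are permuted by the words -/
noncomputable def cloB (S : List (List ℕ)) (row : ℕ → ℕ) (L : LvP) (tg : ℕ → ℕ) (tw t : ℕ) : Bool :=
  Nat.ble L.n t || force (Nat.land (row t) L.pm) (fun c => List.rec (motive := fun _ => ℕ → Bool)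
    (fun _ => true) (fun w _ ih r => force (Nat.mod r tw) (fun j => Nat.blt j L.n &&
      Nat.beq (L0.tr e.U w c) (Nat.land (row j) L.pm) && force (Nat.div r tw) ih false) false)
    S (tg t)) false

/-- the checks for one point of an orbit -/
noncomputable def orbB (S : List (List ℕ)) (row : ℕ → ℕ) (L : LvP) (tg : ℕ → ℕ) (tw t : ℕ) : Bool :=
  levT e.U S row L e.M t && e.cloB S row L tg tw t

/-- one-letter words -/
def sing (S : List ℕ) : List (List ℕ) := S.map fun s => [s]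

/-- the letters of `S'` are words in the letters of `S` and fix `β` -/
noncomputable def subB (S S' : List ℕ) (β : ℕ) : Bool :=
  allL S' fun s => Nat.blt s e.K && Nat.beq (e.U β s) β && ((anyL S fun y => Nat.beq y s) ||
    (Nat.ble (e.k + 2) s && allL (e.Df s) fun x => anyL S fun y => Nat.beq y x))

end Env

/-- the setting -/
structure Ctx {H G : Type*} [Group H] [Group G] (e : Env) (A : RA H e.N) (g : ℕ → H) (V : RA G e.M)
    (γ : ℕ → G) (φ : H →* G) (Wd : List DCo) : Prop where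
  tab : A.Tab g e.k e.T
  base : A.IsBase e.B
  tabG : V.Tab γ e.K e.U
  le : e.k + 2 ≤ e.K
  map : ∀ s < e.k, γ s = φ (g s)
  dfH : ∀ s, e.k0 ≤ s → s < e.k → (∀ y ∈ e.Df s, y < s) ∧ g s = ev g (e.Df s)
  df : ∀ s, e.k + 2 ≤ s → s < e.K → γ s = ev γ (e.Df s)
  hE : e.E < e.M
  mem : ∀ x, e.inW (V.act e.E x) = true ↔ x ∈ φ.range
  cover : ∀ x, x ∈ φ.range ∨ ∃ d ∈ Wd, ∃ a b, x = φ a * ev γ d.w * φ b
  dc : ∀ d ∈ Wd, e.dcB d = true
  gen : ∀ S : Subgroup G, (∀ x, φ x ∈ S) → γ e.k ∈ S → S = ⊤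

namespace Ctx

variable {H G : Type*} [Group H] [Group G] {e : Env} {A : RA H e.N} {g : ℕ → H} {V : RA G e.M}
  {γ : ℕ → G} {φ : H →* G} {Wd : List DCo}

theorem ev_map (C : Ctx e A g V γ φ Wd) {w : List ℕ} (hw : ∀ s ∈ w, s < e.k) :
    ev γ w = φ (ev g w) := by
  rw [map_ev]; exact ev_congr fun s hs => C.map s (hw s hs)

theorem ltK (C : Ctx e A g V γ φ Wd) {w : List ℕ} (hw : ∀ s ∈ w, s < e.k) : ∀ s ∈ w, s < e.K :=
  fun s hs => lt_of_lt_of_le (hw s hs) (le_trans (Nat.le_add_right _ _) C.le)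

theorem dc' (C : Ctx e A g V γ φ Wd) {d : DCo} (hd : d ∈ Wd) :
    (∀ s ∈ d.w, s < e.K) ∧ d.E < e.M ∧ V.act d.E (ev γ d.w) = e.E := by
  have := C.dc d hd
  simp only [Env.dcB, Bool.and_eq_true, ltB_iff, Nat.blt_eq, Nat.beq_eq] at this
  exact ⟨this.1.1, this.1.2, by rw [← C.tabG.tr this.1.1 _ this.1.2, this.2]⟩

theorem mem_T (C : Ctx e A g V γ φ Wd) {d : DCo} (hd : d ∈ Wd) (y : H) :
    e.inW (V.act d.E (φ y * ev γ d.w)) = true ↔ y ∈ TT φ (ev γ d.w) := by
  obtain ⟨-, h2, h3⟩ := C.dc' hd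
  rw [mem_TT, ← C.mem, mul_assoc, V.mul C.hE, ← h3, RA.act_inv h2]

theorem inT_iff (C : Ctx e A g V γ φ Wd) {d : DCo} (hd : d ∈ Wd) {y : List ℕ}
    (hy : ∀ s ∈ y, s < e.k) : e.inT d y = true ↔ ev g y ∈ TT φ (ev γ d.w) := by
  obtain ⟨h1, h2, -⟩ := C.dc' hd
  rw [← C.mem_T hd, Env.inT, C.tabG.tr (RA.lt_append (C.ltK hy) h1) _ h2, ev_append, C.ev_map hy]

theorem tabV (C : Ctx e A g V γ φ Wd) : ((ofRA V).comap φ).Tab g e.k e.U := fun s hs c hc => by
  show V.act c (φ (g s)) = _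
  rw [← C.map s hs, C.tabG s (lt_of_lt_of_le hs (le_trans (Nat.le_add_right _ _) C.le)) c hc]

/-- a level of a chain in the stabiliser of a coset -/
theorem lev (C : Ctx e A g V γ φ Wd) {d : DCo} (hd : d ∈ Wd) {N : ℕ} {A' : RAct H N}
    {T : ℕ → ℕ → ℕ} (hT : A'.Tab g e.k T) {S : List (List ℕ)} (h1 : allL S (e.inT d) = true)
    {pre : List ℕ} {row : ℕ → ℕ} {L : LvP} {M : ℕ}
    (hs : (L0.lettersB e.k S && RAct.fixB T S pre && Nat.blt L.β N && Nat.ble L.n M) = true)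
    (hchk : ∀ t < M, levT T S row L N t = true) :
    A'.Lev (TT φ (ev γ d.w)) pre L.β (RAct.lvSet row L) ∧ (RAct.lvSet row L).card = L.n := by
  refine L0.Dce.lev_treeK hT (fun w hw => ?_) hs hchk
  simp only [Bool.and_eq_true] at hs
  exact (C.inT_iff hd (L0.lettersB_spec hs.1.1.1 w hw)).mp ((allL_iff _ _).mp h1 w hw)

theorem index_le [Finite H] [Finite G] (C : Ctx e A g V γ φ Wd) :
    φ.range.index ≤ 1 + (Wd.map fun d => (TT φ (ev γ d.w)).index).sum := by
  let O : G → Set (G ⧸ φ.range) := fun w => Set.range fun a : H => QuotientGroup.mk (φ a * w)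
  have h1 : ∀ w, (O w).ncard ≤ (TT φ w).index := by
    intro w
    let f : H ⧸ TT φ w → G ⧸ φ.range := Quotient.lift (fun a : H => QuotientGroup.mk (φ a * w))
      fun a b hab => by
        have : a⁻¹ * b ∈ TT φ w := QuotientGroup.leftRel_apply.mp hab
        rw [QuotientGroup.eq]
        simpa [mem_TT, mul_assoc] using this
    have : O w = f '' Set.univ := by
      ext q
      constructor
      · rintro ⟨a, rfl⟩; exact ⟨QuotientGroup.mk a, trivial, rfl⟩
      · rintro ⟨a, -, rfl⟩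
        obtain ⟨a, rfl⟩ := QuotientGroup.mk_surjective a
        exact ⟨a, rfl⟩
    rw [this]
    exact (Set.ncard_image_le Set.finite_univ).trans (Set.ncard_univ _).le
  have h2 : ∀ l : List DCo, {q | ∃ d ∈ l, q ∈ O (ev γ d.w)}.ncard ≤
      (l.map fun d => (TT φ (ev γ d.w)).index).sum := by
    intro l
    induction l with
    | nil => simp
    | cons a l ih =>
      have : {q | ∃ d ∈ a :: l, q ∈ O (ev γ d.w)} = O (ev γ a.w) ∪ {q | ∃ d ∈ l, q ∈ O (ev γ d.w)} := by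
        ext q; simp
      rw [this, List.map_cons, List.sum_cons]
      exact (Set.ncard_union_le _ _).trans (Nat.add_le_add (h1 _) ih)
  have h3 : (Set.univ : Set (G ⧸ φ.range)) =
      {QuotientGroup.mk 1} ∪ {q | ∃ d ∈ Wd, q ∈ O (ev γ d.w)} := by
    symm
    rw [Set.eq_univ_iff_forall]
    intro q
    obtain ⟨x, rfl⟩ := QuotientGroup.mk_surjective q
    rcases C.cover x with h | ⟨d, hd, a, b, rfl⟩
    · left
      rw [Set.mem_singleton_iff, QuotientGroup.eq]
      simpa using h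
    · right
      refine ⟨d, hd, a, ?_⟩
      rw [QuotientGroup.eq]
      exact ⟨b, by group⟩
  rw [Subgroup.index, ← Set.ncard_univ, h3]
  exact (Set.ncard_union_le _ _).trans (Nat.add_le_add (Set.ncard_singleton _).le (h2 _))

/-- the orders -/
theorem orders [Finite H] [Finite G] (C : Ctx e A g V γ φ Wd) {h n D : ℕ} (hh : Nat.card H = h)
    (hs : ∀ d ∈ Wd, d.s ≤ Nat.card (TT φ (ev γ d.w))) (hD : D ∣ Nat.card G)
    (hc : ((allL Wd fun d => Nat.beq (d.s * (h / d.s)) h) &&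
      Nat.beq (1 + (Wd.map fun d => h / d.s).sum) n && Nat.beq (D / Nat.gcd D h % n) 0) = true) :
    Nat.card G ∣ n * h ∧ ∀ d ∈ Wd, Nat.card (TT φ (ev γ d.w)) = d.s := by
  simp only [Bool.and_eq_true, allL_iff, Nat.beq_eq] at hc
  obtain ⟨⟨c1, c2⟩, c3⟩ := hc
  have hpos : 0 < h := hh ▸ Nat.card_pos
  have h1 : Nat.card G ∣ φ.range.index * h := by
    rw [← φ.range.index_mul_card, ← hh]
    exact Nat.mul_dvd_mul_left _ (Subgroup.card_dvd_of_surjective _ φ.rangeRestrict_surjective)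
  have h2 : n ∣ φ.range.index := by
    have hg : 0 < Nat.gcd D h := Nat.gcd_pos_of_pos_right _ hpos
    refine (Nat.dvd_of_mod_eq_zero c3).trans
      ((Nat.coprime_div_gcd_div_gcd hg).dvd_of_dvd_mul_right ?_)
    apply Nat.dvd_of_mul_dvd_mul_right hg
    rw [mul_assoc, Nat.div_mul_cancel (Nat.gcd_dvd_left _ _), Nat.div_mul_cancel (Nat.gcd_dvd_right _ _)]
    exact hD.trans h1
  have h3 : ∀ d ∈ Wd, (TT φ (ev γ d.w)).index * Nat.card (TT φ (ev γ d.w)) = h := fun d _ => by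
    rw [Subgroup.index_mul_card, hh]
  have h4 : ∀ d ∈ Wd, (TT φ (ev γ d.w)).index ≤ h / d.s := fun d hd => by
    have h5 : 0 < d.s := Nat.pos_of_ne_zero fun h0 => by have := c1 d hd; rw [h0] at this; omega
    rw [Nat.le_div_iff_mul_le h5, ← h3 d hd]
    exact Nat.mul_le_mul_left _ (hs d hd)
  have h5 := Nat.le_of_dvd (Nat.pos_of_ne_zero φ.range.index_ne_zero_of_finite) h2
  have h6 := C.index_le
  have h7 : (Wd.map fun d => (TT φ (ev γ d.w)).index).sum ≤ (Wd.map fun d => h / d.s).sum :=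
    List.sum_le_sum h4
  refine ⟨by rwa [show n = φ.range.index by omega], fun d hd => ?_⟩
  have h8 := sum_eq_of_le h4 (by omega) d hd
  have h9 := h3 d hd
  have h10 := c1 d hd
  rw [h8, mul_comm] at h9
  refine Nat.eq_of_mul_eq_mul_right (Nat.pos_of_ne_zero fun h0 => ?_) (h9.trans h10.symm)
  rw [h0] at h10; omega

/-- a base for the action on vectors -/
theorem isBase [Finite H] (C : Ctx e A g V γ φ Wd) {d : DCo} (hd : d ∈ Wd)
    (hs : Nat.card (TT φ (ev γ d.w)) = d.s) {B : List ℕ}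
    (h : ChB ((ofRA V).comap φ) (TT φ (ev γ d.w)) [] B d.s) :
    V.IsBase (B ++ [e.E, d.E]) ∧ Function.Injective φ := by
  obtain ⟨l, h1, rfl, h3⟩ := h
  obtain ⟨-, h4, h5⟩ := C.dc' hd
  have key : ∀ y, (∀ b ∈ l.map Prod.fst ++ [e.E, d.E], V.act b (φ y) = b) → y = 1 := by
    intro y hy
    refine h1.base (by rw [RAct.fixL_nil, inf_top_eq, hs, h3]) ?_ (by rw [RAct.fixL_nil]; trivial)
      fun b hb _ => hy b (List.mem_append_left _ hb)
    rw [← C.mem_T hd, V.mul h4, hy _ (by simp), h5]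
    have := (C.mem 1).mpr (one_mem _)
    rwa [V.one C.hE] at this
  have hlt : ∀ b ∈ l.map Prod.fst ++ [e.E, d.E], b < e.M := by
    intro b hb
    rcases List.mem_append.mp hb with hb | hb
    · exact chain_lt h1 b hb
    · simp only [List.mem_cons, List.not_mem_nil, or_false] at hb
      rcases hb with rfl | rfl
      exacts [C.hE, h4]
  refine ⟨⟨hlt, fun x hx => ?_⟩, (injective_iff_map_eq_one φ).mpr fun y hy => key y fun b hb => ?_⟩
  · have := (C.mem 1).mpr (one_mem _)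
    rw [V.one C.hE, ← hx e.E (by simp), C.mem] at this
    obtain ⟨y, rfl⟩ := this
    rw [key y hx, map_one]
  · rw [hy, V.one (hlt b hb)]

/-- an exact orbit gives a divisor of the order -/
theorem dvd_step [Finite G] (C : Ctx e A g V γ φ Wd) {S S' : List ℕ} {row : ℕ → ℕ} {L : LvP}
    {tg : ℕ → ℕ} {tw t0 M : ℕ}
    (hs : (L0.lettersB e.K (Env.sing S) && Nat.blt L.β e.M && Nat.ble L.n M && Nat.blt t0 L.n &&
      Nat.beq (Nat.land (row t0) L.pm) L.β && e.subB S S' L.β) = true)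
    (hchk : ∀ t < M, e.orbB (Env.sing S) row L tg tw t = true) {d : ℕ}
    (hd : d ∣ Nat.card (clW γ (Env.sing S'))) : L.n * d ∣ Nat.card (clW γ (Env.sing S)) := by
  simp only [Bool.and_eq_true, Nat.blt_eq, Nat.ble_eq, Nat.beq_eq] at hs
  obtain ⟨⟨⟨⟨⟨h1, h2⟩, h3⟩, h4⟩, h5⟩, h6⟩ := hs
  simp only [Env.orbB, Bool.and_eq_true] at hchk
  obtain ⟨h7, h8⟩ := L0.Dce.lev_treeK (L0.ofRA_tab C.tabG) (K := clW γ (Env.sing S)) (pre := [])
    (fun w hw => mem_clW γ hw) (M := M) (by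
      simp only [Bool.and_eq_true, Nat.blt_eq, Nat.ble_eq]
      exact ⟨⟨⟨h1, (L0.allL_iff _ _).mpr fun _ _ => rfl⟩, h2⟩, h3⟩) fun t ht => (hchk t ht).1
  have hclo : ∀ w ∈ Env.sing S, ∀ c ∈ RAct.lvSet row L, V.act c (ev γ w) ∈ RAct.lvSet row L := by
    intro w hw c hc
    have hcM := (h7.2 c hc).1
    obtain ⟨t, ht, rfl⟩ := Finset.mem_image.mp hc
    have ht' := Finset.mem_range.mp ht
    have h9 := (hchk t (by omega)).2
    simp only [Env.cloB, Bool.or_eq_true, Nat.ble_eq, force_eq] at h9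
    have h10 := h9.resolve_left (by omega)
    have hl := L0.lettersB_spec h1
    generalize tg t = r at h10
    generalize Env.sing S = S0 at hw h10 hl
    induction S0 generalizing r with
    | nil => simp at hw
    | cons a S0 ih =>
      simp only [Bool.and_eq_true, Nat.blt_eq, Nat.beq_eq] at h10
      rcases List.mem_cons.mp hw with rfl | hw
      · rw [← C.tabG.tr (hl w List.mem_cons_self) _ hcM]
        exact Finset.mem_image.mpr ⟨_, Finset.mem_range.mpr h10.1.1, h10.1.2.symm⟩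
      · exact ih _ hw h10.2 fun w hw => hl w (List.mem_cons_of_mem _ hw)
  have horb : {c | ∃ x ∈ clW γ (Env.sing S), V.act L.β x = c} = (RAct.lvSet row L : Set ℕ) := by
    ext c
    constructor
    · rintro ⟨x, hx, rfl⟩
      refine closure_sub_of_closed (C := {x | V.act L.β x ∈ RAct.lvSet row L}) ?_ ?_ x hx
      · show V.act L.β 1 ∈ RAct.lvSet row L
        rw [V.one h2]
        exact Finset.mem_image.mpr ⟨_, Finset.mem_range.mpr h4, h5⟩
      · rintro _ ⟨w, hw, rfl⟩ y hy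
        show V.act L.β (y * _) ∈ RAct.lvSet row L
        rw [V.mul h2]
        exact hclo w hw _ hy
    · intro hc
      obtain ⟨hcM, x, hx, hxa⟩ := h7.2 c hc
      refine ⟨x⁻¹, inv_mem hx.1, ?_⟩
      have : V.act c x = L.β := hxa
      rw [← this, RA.act_inv hcM]
  rw [V.card_eq_orbit_mul (clW γ (Env.sing S)) (clW γ (Env.sing S) ⊓ V.Fix [L.β]) h2 (fun x => by
    rw [Subgroup.mem_inf, V.mem_Fix_cons h2, V.Fix_nil]; simp), horb, Set.ncard_coe_finset, h8]
  refine Nat.mul_dvd_mul_left _ (hd.trans (Subgroup.card_dvd_of_le (clW_le fun w hw => ?_)))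
  obtain ⟨s, hs, rfl⟩ := List.mem_map.mp hw
  simp only [Env.subB, allL_iff, Bool.and_eq_true, Bool.or_eq_true, anyL_iff, Nat.blt_eq, Nat.beq_eq,
    Nat.ble_eq] at h6
  obtain ⟨⟨a1, a2⟩, a3⟩ := h6 s hs
  have hm : ∀ y ∈ S, γ y ∈ clW γ (Env.sing S) := fun y hy => by
    have := mem_clW γ (S := Env.sing S) (List.mem_map_of_mem hy)
    simpa using this
  rw [L0.ev_singleton]
  refine ⟨?_, (V.mem_Fix_cons h2).mpr ⟨by rw [V.Fix_nil]; trivial, by rw [← C.tabG s a1 _ h2, a2]⟩⟩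
  rcases a3 with ⟨y, hy, rfl⟩ | ⟨a3, a4⟩
  · exact hm y hy
  · rw [C.df s a3 a1]
    exact ev_mem γ _ fun x hx => by obtain ⟨y, hy, rfl⟩ := a4 x hx; exact hm y hy

end Ctx

theorem exists_ext {G : Type*} [Group G] (γ0 : ℕ → G) (k : ℕ) (Df : ℕ → List ℕ) (K : ℕ)
    (h : ∀ s, k ≤ s → s < K → ∀ y ∈ Df s, y < s) :
    ∃ γ : ℕ → G, (∀ s < k, γ s = γ0 s) ∧ ∀ s, k ≤ s → s < K → γ s = ev γ (Df s) := by
  induction K with
  | zero => exact ⟨γ0, fun _ _ => rfl, fun s _ hs => absurd hs (Nat.not_lt_zero _)⟩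
  | succ K ih =>
    obtain ⟨γ, h1, h2⟩ := ih fun s a b => h s a (by omega)
    by_cases hK : K < k
    · exact ⟨γ, h1, fun s a b => by omega⟩
    have key : ∀ s, k ≤ s → s < K + 1 → ev (Function.update γ K (ev γ (Df K))) (Df s) = ev γ (Df s) :=
      fun s a b => ev_congr fun y hy => Function.update_of_ne (by have := h s a b y hy; omega) _ _
    refine ⟨Function.update γ K (ev γ (Df K)), fun s hs => ?_, fun s a b => ?_⟩
    · rw [Function.update_of_ne (by omega), h1 s hs]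
    · rw [key s a b]
      rcases Nat.lt_succ_iff_lt_or_eq.mp b with h3 | rfl
      · rw [Function.update_of_ne h3.ne, h2 s a h3]
      · rw [Function.update_self]

/-- join two tables -/
noncomputable def mix (k0 : ℕ) (T0 T1 : ℕ → ℕ → ℕ) (c s : ℕ) : ℕ :=
  Bool.rec (motive := fun _ => ℕ) (T1 c (Nat.sub s k0)) (T0 c s) (Nat.blt s k0)

/-- renumber the last two letters -/
noncomputable def ren (k0 k j : ℕ) : ℕ :=
  Bool.rec (motive := fun _ => ℕ) (Nat.add (Nat.sub j k0) k) j (Nat.blt j k0)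

/-- the defining words -/
noncomputable def mkDf (k0 k : ℕ) (WH WG : List (List ℕ)) (s : ℕ) : List ℕ :=
  Bool.rec (motive := fun _ => List ℕ) (nthW WG (Nat.sub s (Nat.add k 2))) (nthW WH (Nat.sub s k0))
    (Nat.blt s k)

/-- assemble the tables -/
noncomputable def mkEnv (P : PM) (N k0 k K : ℕ) (T : ℕ → ℕ → ℕ) (B : List ℕ) (Mt : ℕ → ℕ)
    (WH WG : List (List ℕ)) (E m : ℕ) : Env :=
  ⟨N, k0, k, T, B, 2 ^ (P.w * (P.N * P.N)), K, P.tabF Mt (mkDf k0 k WH WG) K, E, P.inW m,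
    mkDf k0 k WH WG⟩

theorem blt_false {a b : ℕ} (h : b ≤ a) : Nat.blt a b = false := by
  rw [Bool.eq_false_iff]; intro h1; rw [Nat.blt_eq] at h1; omega

theorem blt_true {a b : ℕ} (h : a < b) : Nat.blt a b = true := by rwa [Nat.blt_eq]

open L0.Dce in
/-- the setting from a double coset enumeration -/
theorem exists_ctx {H G : Type} [Group H] [Group G] [Finite G] {N : ℕ} {A : RAct H N} {g0 : ℕ → H}
    {Q : Par} (hQ : CtxH Q A g0) (hg : L0.genL g0 (List.range Q.k) = ⊤) {φ : H →* G} {z : G}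
    {x : ℕ → G} {n : ℕ} {R : List (List ℕ)} (hp : L0.IsPres x n R) {s t : ℕ → List ℕ}
    (hx : ∀ i < n, x i = ev (XX Q.k g0 φ z) (s i)) {K' : List (List ℕ)}
    (hK' : ∀ r ∈ K', ev (XX Q.k g0 φ z) r = 1) {L : List ℕ} (hL : ∀ y, y ∈ UU Q g0 φ z L)
    {P : PM} (hP : P.ok2 = true) {k K E m : ℕ} {T1 : ℕ → ℕ → ℕ} {Mt : ℕ → ℕ}
    {WH WG Rl : List (List ℕ)} {Wd : List DCo}
    (hslp : ∀ c < N, slpB (mix Q.k Q.T T1) WH Q.k c = true)
    (hR : ∀ r ∈ Rl, P.relB (fun j => Mt (ren Q.k k j)) r = true)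
    (hdef : ∀ j < K, (Nat.blt j Q.k || Nat.beq j k || Nat.beq j (k + 1) ||
      P.defB Mt (mkDf Q.k k WH WG) K j) = true)
    (e1 : (L0.lettersLt (Q.k + 2) Rl &&
      (R.all fun r => L0.consB (Q.k + 2) Q.iv Rl (r.flatMap s)) &&
      (List.range (Q.k + 2)).all fun j => decide (Q.iv j < Q.k + 2) && Rl.contains [j, Q.iv j] &&
        (t j).all (fun a => decide (a < n)) &&
        (L0.consB (Q.k + 2) Q.iv Rl (Q.iv j :: (t j).flatMap s) &&
          L0.consB (Q.k + 2) Q.iv K' (Q.iv j :: (t j).flatMap s))) = true)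
    (e2 : (slpW WH Q.k && Nat.beq (Q.k + WH.length) k && slpW WG (k + 2) &&
      Nat.beq (k + 2 + WG.length) K && P.topB m E &&
      (allLt (Q.k + 2) fun j => !(Nat.beq (Mt (ren Q.k k j)) 0) && P.okV (Mt (ren Q.k k j))) &&
      (allLt Q.k fun j => P.inW m (P.tabF Mt (mkDf Q.k k WH WG) K E j)) &&
      (allL Wd fun d => (mkEnv P N Q.k k K (mix Q.k Q.T T1) Q.bs Mt WH WG E m).dcB d &&
        !(P.inW m (tr (P.tabF Mt (mkDf Q.k k WH WG) K) d.w E))) &&
      L.all fun i => Q.W i == [] || ((Q.W i).all (fun a => decide (a < Q.k + 2)) &&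
        Wd.any fun d => d.w == (Q.W i).map (ren Q.k k))) = true) :
    ∃ (g : ℕ → H) (V : RA G (2 ^ (P.w * (P.N * P.N)))) (γ : ℕ → G),
      (∀ j < Q.k + 2, γ (ren Q.k k j) = XX Q.k g0 φ z j) ∧
      Ctx (mkEnv P N Q.k k K (mix Q.k Q.T T1) Q.bs Mt WH WG E m) (L0.toRA A) g V γ φ Wd := by
  simp only [Bool.and_eq_true, Nat.beq_eq, allLt_iff, allL_iff, Bool.not_eq_true', List.all_eq_true,
    Bool.or_eq_true, beq_iff_eq, decide_eq_true_eq, List.any_eq_true, PM.okV_iff hP] at e2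
  obtain ⟨⟨⟨⟨⟨⟨⟨⟨b1, b2⟩, b3⟩, b4⟩, b5⟩, b6⟩, b7⟩, b8⟩, b9⟩ := e2
  have hT0 : (L0.toRA A).Tab g0 Q.k (mix Q.k Q.T T1) := fun j hj c hc => by
    rw [mix, blt_true hj]; exact (hQ.tab j hj c hc).symm
  obtain ⟨g, hT, g1, g2⟩ := hT0.extend b1 hslp
  rw [b2] at hT g2
  have hslp : ∀ {W : List (List ℕ)} {a : ℕ}, slpW W a = true → ∀ j, a ≤ j → ∀ y ∈ nthW W (j - a), y < j := by
    intro W
    induction W with
    | nil => intro a _ j _ y hy; exact absurd hy List.not_mem_nil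
    | cons w W ih =>
      intro a h j hj y hy
      have e : slpW (w :: W) a = (ltB a w && slpW W (a + 1)) := rfl
      rw [e, Bool.and_eq_true, ltB_iff] at h
      rcases hj.eq_or_lt with rfl | h7
      · rw [Nat.sub_self] at hy; exact h.1 y hy
      · obtain ⟨d, rfl⟩ := Nat.exists_eq_add_of_lt h7
        rw [show a + d + 1 - a = d + 1 by omega] at hy
        exact ih h.2 _ (by omega) y (by rw [show a + d + 1 - (a + 1) = d by omega]; exact hy)
  have d1 : ∀ j < k, mkDf Q.k k WH WG j = nthW WH (j - Q.k) := fun j hj => by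
    rw [mkDf, blt_true hj]; rfl
  have d2 : ∀ j, k ≤ j → mkDf Q.k k WH WG j = nthW WG (j - (k + 2)) := fun j hj => by
    rw [mkDf, blt_false hj]; rfl
  obtain ⟨γ, c1, c2⟩ := exists_ext (XX k g φ z) (k + 2) (mkDf Q.k k WH WG) K fun j a _ => by
    rw [d2 j (by omega)]; exact hslp b3 j a
  have c3 : ∀ j < k, γ j = φ (g j) := fun j hj => by rw [c1 j (by omega), XX, if_pos hj]
  have c4 : γ k = z := by rw [c1 k (by omega), XX, if_neg (by omega), if_pos rfl]
  have c5 : γ (k + 1) = z⁻¹ := by rw [c1 _ (by omega), XX, if_neg (by omega), if_neg (by omega)]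
  have r1 : ∀ j < Q.k, ren Q.k k j = j := fun j hj => by rw [ren, blt_true hj]
  have r2 : ren Q.k k Q.k = k := by rw [ren, blt_false le_rfl]; simp
  have r3 : ren Q.k k (Q.k + 1) = k + 1 := by rw [ren, blt_false (by omega)]; simp [add_comm]
  have c6 : ∀ j < Q.k + 2, γ (ren Q.k k j) = XX Q.k g0 φ z j := fun j hj => by
    unfold XX
    split_ifs with a1 a2
    · rw [r1 j a1, c3 j (by omega), g1 j a1]
    · rw [a2, r2, c4]
    · rw [show j = Q.k + 1 by omega, r3, c5]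
  obtain ⟨ψ, hψ⟩ := PM.exists_rep hp hx (hQ.xiv φ z) hP (Mt := fun j => Mt (ren Q.k k j))
    (fun j hj => (b6 j hj).2) hR hK' e1
  have hb : ∀ j < Q.k + 2, Mt (ren Q.k k j) ≠ 0 ∧ P.Valid (Mt (ren Q.k k j)) ∧
      ψ (γ (ren Q.k k j)) = P.matL (Mt (ren Q.k k j)) := fun j hj =>
    ⟨Nat.ne_of_beq_eq_false (b6 j hj).1, (b6 j hj).2, by rw [c6 j hj, hψ j hj]⟩
  have hU := PM.tab_tabF (ψ := ψ) hP (γ := γ) (K := K) (Mt := Mt) (Df := mkDf Q.k k WH WG)
    fun j hj => by
      have h1 := hdef j hj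
      simp only [Bool.or_eq_true, Nat.blt_eq, Nat.beq_eq] at h1
      by_cases a1 : j < Q.k
      · exact Or.inl (r1 j a1 ▸ hb j (by omega))
      by_cases a2 : j = k
      · exact Or.inl (a2 ▸ r2 ▸ hb Q.k (by omega))
      by_cases a3 : j = k + 1
      · exact Or.inl (a3 ▸ r3 ▸ hb (Q.k + 1) (by omega))
      refine Or.inr ⟨?_, ?_, by tauto⟩
      · by_cases a4 : j < k
        · rw [d1 j a4]; exact (g2 j (by omega) a4).1
        · rw [d2 j (by omega)]; exact hslp b3 j (by omega)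
      · by_cases a4 : j < k
        · obtain ⟨h2, h3⟩ := g2 j (by omega) a4
          rw [d1 j a4, c3 j a4, h3, map_ev]
          exact ev_congr fun y hy => (c3 y ((h2 y hy).trans a4)).symm
        · exact c2 j (by omega) hj
  obtain ⟨hE, S, hS⟩ := PM.exists_sub hP ψ b5
  have hφS : ∀ y, φ y ∈ S := by
    have : S.comap φ = ⊤ := by
      rw [eq_top_iff, ← hg]
      refine L0.genL_le fun j hj => ?_
      have hj := List.mem_range.mp hj
      rw [Subgroup.mem_comap, ← hS, ← g1 j hj, ← c3 j (by omega), ← hU j (by omega) E hE]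
      exact b7 j hj
    intro y
    exact (this ▸ Subgroup.mem_top y : y ∈ S.comap φ)
  have hcov : ∀ y, y ∈ φ.range ∨ ∃ d ∈ Wd, ∃ a b, y = φ a * ev γ d.w * φ b := by
    intro y
    obtain ⟨i, hi, a, b, rfl⟩ := hL y
    rcases b9 i hi with h1 | ⟨h1, d, hd, h2⟩
    · exact Or.inl ⟨a * b, by simp [ww, h1]⟩
    · refine Or.inr ⟨d, hd, a, b, ?_⟩
      rw [h2, L0.ev_map, ww, ev_congr fun j hj => c6 j (h1 j hj)]
  refine ⟨g, PM.vra (PM.ok_of2 hP) ψ, γ, c6, hT, ⟨hQ.lt, fun y hy => hQ.base y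
    fun b hb _ => hy b hb⟩, hU, by show k + 2 ≤ K; omega, c3, fun j a b => ?_, c2, hE, fun y => ?_, hcov,
    fun d hd => (b8 d hd).1, fun S' a b => gen_of hp.gen_top hx S' a (c4 ▸ b)⟩
  · have := g2 j a b
    rwa [← d1 j b] at this
  · refine (hS y).trans ⟨fun hy => ?_, fun ⟨a, ha⟩ => ha ▸ hφS a⟩
    rcases hcov y with h1 | ⟨d, hd, a, b, rfl⟩
    · exact h1
    · have h2 : ev γ d.w ∈ S := by
        simpa [mul_assoc] using S.mul_mem (S.mul_mem (S.inv_mem (hφS a)) hy) (S.inv_mem (hφS b))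
      have h3 := (b8 d hd).1
      simp only [Env.dcB, Bool.and_eq_true, ltB_iff] at h3
      rw [← hS, ← hU.tr h3.1.1 E hE, (b8 d hd).2] at h2
      exact absurd h2 (by simp)

end Cfsg.Agent.H9
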