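import Cfsg.Prelude.Def_Spor_Mathieu
import Cfsg.Agent.H9.Bits

/-! The Golay code as bitmasks; elements of `M24` from packed tables. -/

set_option autoImplicit false

namespace Cfsg.Agent.H9

open Cfsg Cfsg.Spor
open scoped Pointwise

/-- index of a point: residues by their value, the extra point is 23 -/
def idx : GolayPt → ℕ
  | none => 23
  | some x => x.val

/-- the point with a given index -/
def pt (i : ℕ) : GolayPt := if i = 23 then none else some (i : ZMod 23)

theorem idx_lt (p : GolayPt) : idx p < 24 := by revert p; decide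
theorem pt_idx (p : GolayPt) : pt (idx p) = p := by revert p; decide
theorem idx_pt {i : ℕ} (h : i < 24) : idx (pt i) = i := by
  revert i; decide
theorem idx_injective : Function.Injective idx := fun a b h => by
  rw [← pt_idx a, h, pt_idx]

/-- the binary word of a mask -/
def wordOf (m : ℕ) : GolayPt → ZMod 2 := fun p => if m.testBit (idx p) then 1 else 0

/-- the point set of a mask -/
def setOf (m : ℕ) : Finset GolayPt := Finset.univ.filter fun p => m.testBit (idx p)

@[simp] theorem mem_setOf {m : ℕ} {p : GolayPt} : p ∈ setOf m ↔ m.testBit (idx p) = true := by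
  simp [setOf]

theorem wordOf_xor (a b : ℕ) : wordOf (a ^^^ b) = wordOf a + wordOf b := by
  funext p
  simp only [wordOf, Nat.testBit_xor, Pi.add_apply]
  cases a.testBit (idx p) <;> cases b.testBit (idx p) <;> simp
  rfl

theorem wordOf_zero : wordOf 0 = 0 := by funext p; simp [wordOf]

theorem support_wordOf (m : ℕ) : support₂ (wordOf m) = setOf m := by
  ext p
  rw [mem_setOf, support₂, Finset.mem_filter]
  simp only [wordOf, Finset.mem_univ, true_and]
  cases m.testBit (idx p) <;> simp

theorem card_setOf (m : ℕ) : (setOf m).card = pop m 24 := by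
  rw [pop_eq]
  apply Finset.card_bij (fun p _ => idx p)
  · intro p hp
    simp only [Finset.mem_filter, Finset.mem_range]
    exact ⟨idx_lt p, mem_setOf.mp hp⟩
  · intro a _ b _ h; exact idx_injective h
  · intro i hi
    simp only [Finset.mem_filter, Finset.mem_range] at hi
    exact ⟨pt i, by rw [mem_setOf, idx_pt hi.1]; exact hi.2, idx_pt hi.1⟩

theorem mask_ext {a b : ℕ} (ha : a < 2 ^ 24) (hb : b < 2 ^ 24)
    (h : ∀ p, a.testBit (idx p) = b.testBit (idx p)) : a = b := by
  apply Nat.eq_of_testBit_eq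
  intro i
  by_cases hi : i < 24
  · have := h (pt i); rwa [idx_pt hi] at this
  · rw [Nat.testBit_lt_two_pow (lt_of_lt_of_le ha (Nat.pow_le_pow_right (by norm_num) (by omega))),
      Nat.testBit_lt_two_pow (lt_of_lt_of_le hb (Nat.pow_le_pow_right (by norm_num) (by omega)))]

/-- a systematic basis of the code (pivot, word) -/
def gPiv : List (ℕ × ℕ) :=
  [(0, 13062145), (1, 4845570), (2, 13938692), (3, 7221256), (4, 10170384), (5, 11952160),
   (6, 15515712), (7, 2019456), (8, 4038912), (9, 8077824), (10, 11654144), (11, 14919680)]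

/-- a basis of the code, as masks -/
def gBasis : List ℕ := gPiv.map Prod.snd

/-- the spanning words of the definition, with pivots giving a second reduction -/
def gGens : List ℕ :=
  [340831, 681662, 1363324, 2726648, 5453296, 2517985, 5035970, 1683333, 3366666, 6733332, 5078057,
   1767507, 3535014, 7070028, 5751449, 3114291, 6228582, 4068557, 8137114, 7885621, 7382635,
   6376663, 4364719, 16777215]

/-- `m` is the mask of a code word -/
def IsCode (m : ℕ) : Prop := InSpan gBasis m

/-- membership test -/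
noncomputable def isCode (m : ℕ) : Bool := Nat.beq (reduceBy gPiv m) 0

theorem isCode_of {m : ℕ} (h : isCode m = true) : IsCode m :=
  inSpan_of_reduceBy gPiv m (Nat.eq_of_beq_eq_true h)

theorem qrWord_eq (t : ZMod 23) : qrWord t = wordOf (gGens.getD t.val 0) := by
  funext p; revert t p; decide +kernel

theorem one_eq_wordOf : (1 : GolayPt → ZMod 2) = wordOf 16777215 := by
  funext p; revert p; decide +kernel

theorem gGens_isCode : allL gGens isCode = true := by decide +kernel

theorem wordOf_gGens_mem {m : ℕ} (h : m ∈ gGens) : wordOf m ∈ golayCode := by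
  have : (∃ t : ZMod 23, m = gGens.getD t.val 0) ∨ m = 16777215 := by
    revert m; decide +kernel
  rcases this with ⟨t, rfl⟩ | rfl
  · rw [← qrWord_eq]; exact Submodule.subset_span (Or.inl ⟨t, rfl⟩)
  · rw [← one_eq_wordOf]; exact Submodule.subset_span (Or.inr rfl)

/-- xor of the members of a list selected by a mask -/
noncomputable def selXor (l : List ℕ) : ℕ → ℕ :=
  List.rec (motive := fun _ => ℕ → ℕ) (fun _ => 0)
    (fun b _ ih c => Bool.rec (motive := fun _ => ℕ) (ih (Nat.shiftRight c 1))
      (Nat.xor b (ih (Nat.shiftRight c 1))) (tb c 0)) l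

theorem inSpan_selXor (l : List ℕ) (c : ℕ) : InSpan l (selXor l c) := by
  induction l generalizing c with
  | nil => rfl
  | cons b l ih =>
    have e : selXor (b :: l) c = Bool.rec (motive := fun _ => ℕ) (selXor l (c >>> 1))
      (b ^^^ selXor l (c >>> 1)) (tb c 0) := rfl
    rw [e]
    cases tb c 0 with
    | false => exact Or.inl (ih _)
    | true =>
      right
      show InSpan l (b ^^^ selXor l (c >>> 1) ^^^ b)
      rw [Nat.xor_comm b, Nat.xor_assoc, Nat.xor_self, Nat.xor_zero]; exact ih _

theorem gBasis_eq : gBasis = [8390313, 280, 8389785, 1400, 8390330, 8390551, 8390093, 2000, 1347,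
    101, 8390243, 8390181].map (selXor gGens) := by decide +kernel

theorem IsCode.mem {m : ℕ} (h : IsCode m) : wordOf m ∈ golayCode := by
  refine InSpan.induction (P := fun m => wordOf m ∈ golayCode) ?_ ?_ ?_ h
  · rw [wordOf_zero]; exact Submodule.zero_mem _
  · intro b hb
    rw [gBasis_eq] at hb
    obtain ⟨c, -, rfl⟩ := List.mem_map.mp hb
    refine InSpan.induction (P := fun m => wordOf m ∈ golayCode) ?_ ?_ ?_ (inSpan_selXor gGens c)
    · rw [wordOf_zero]; exact Submodule.zero_mem _
    · exact fun b hb => wordOf_gGens_mem hb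
    · intro a c ha hc; rw [wordOf_xor]; exact Submodule.add_mem _ ha hc
  · intro a c ha hc; rw [wordOf_xor]; exact Submodule.add_mem _ ha hc

theorem IsCode.xor {a b : ℕ} (ha : IsCode a) (hb : IsCode b) : IsCode (a ^^^ b) := InSpan.xor ha hb
theorem IsCode.zero : IsCode 0 := InSpan.zero _

theorem exists_isCode {w : GolayPt → ZMod 2} (h : w ∈ golayCode) : ∃ m, IsCode m ∧ w = wordOf m := by
  induction h using Submodule.span_induction with
  | mem x hx =>
    have hg := (allL_iff _ _).mp gGens_isCode
    rcases hx with ⟨t, rfl⟩ | hx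
    · refine ⟨_, isCode_of (hg _ ?_), qrWord_eq t⟩
      revert t; decide +kernel
    · exact ⟨_, isCode_of (hg 16777215 (by decide)), by rw [← one_eq_wordOf]; exact hx⟩
  | zero => exact ⟨0, IsCode.zero, wordOf_zero.symm⟩
  | add x y _ _ hx hy =>
    obtain ⟨a, ha, rfl⟩ := hx
    obtain ⟨b, hb, rfl⟩ := hy
    exact ⟨_, ha.xor hb, (wordOf_xor a b).symm⟩
  | smul c x _ hx =>
    obtain ⟨a, ha, rfl⟩ := hx
    have : c = 0 ∨ c = 1 := by revert c; decide
    rcases this with rfl | rfl
    · exact ⟨0, IsCode.zero, by rw [zero_smul, wordOf_zero]⟩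
    · exact ⟨a, ha, by rw [one_smul]⟩

theorem IsCode.lt {m : ℕ} (h : IsCode m) : m < 2 ^ 24 := by
  refine InSpan.induction (P := fun m => m < 2 ^ 24) (by norm_num) ?_ ?_ h
  · decide +kernel
  · intro a c ha hc; exact Nat.xor_lt_two_pow ha hc

/-- the supports of the code words -/
abbrev gSupports : Set (Finset GolayPt) := supports (golayCode : Set (GolayPt → ZMod 2))

theorem mem_gSupports {b : Finset GolayPt} : b ∈ gSupports ↔ ∃ m, IsCode m ∧ b = setOf m := by
  constructor
  · rintro ⟨w, hw, rfl⟩
    obtain ⟨m, hm, rfl⟩ := exists_isCode hw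
    exact ⟨m, hm, support_wordOf m⟩
  · rintro ⟨m, hm, rfl⟩
    exact ⟨wordOf m, hm.mem, support_wordOf m⟩

theorem setOf_mem_gSupports {m : ℕ} (hlt : m < 2 ^ 24) : setOf m ∈ gSupports ↔ IsCode m := by
  rw [mem_gSupports]
  constructor
  · rintro ⟨m', hm', e⟩
    have : m = m' := mask_ext hlt hm'.lt fun p => by
      have : p ∈ setOf m ↔ p ∈ setOf m' := by rw [e]
      simp only [mem_setOf] at this
      exact Bool.eq_iff_iff.mpr this
    rwa [this]
  · intro h; exact ⟨m, h, rfl⟩

/-- weight test -/
noncomputable def wtOK (m : ℕ) : Bool :=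
  (fun k => Nat.beq k 0 || Nat.beq k 8 || Nat.beq k 12 || Nat.beq k 16 || Nat.beq k 24) (pop m 24)

theorem allSpan_wtOK : allSpan wtOK gBasis 0 = true := by decide +kernel

theorem IsCode.weight {m : ℕ} (h : IsCode m) :
    pop m 24 = 0 ∨ pop m 24 = 8 ∨ pop m 24 = 12 ∨ pop m 24 = 16 ∨ pop m 24 = 24 := by
  have := allSpan_spec' _ _ allSpan_wtOK h
  simp only [wtOK, Bool.or_eq_true, Nat.beq_eq] at this
  tauto

theorem card_of_mem_gSupports {b : Finset GolayPt} (h : b ∈ gSupports) :
    b.card = 0 ∨ b.card = 8 ∨ b.card = 12 ∨ b.card = 16 ∨ b.card = 24 := by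
  obtain ⟨m, hm, rfl⟩ := mem_gSupports.mp h
  rw [card_setOf]; exact hm.weight

theorem setOf_xor (a b : ℕ) : setOf (a ^^^ b) = symmDiff (setOf a) (setOf b) := by
  ext p
  simp only [mem_setOf, Nat.testBit_xor, Finset.mem_symmDiff]
  cases a.testBit (idx p) <;> cases b.testBit (idx p) <;> simp

theorem symmDiff_mem_gSupports {a b : Finset GolayPt} (ha : a ∈ gSupports) (hb : b ∈ gSupports) :
    symmDiff a b ∈ gSupports := by
  obtain ⟨m, hm, rfl⟩ := mem_gSupports.mp ha
  obtain ⟨n, hn, rfl⟩ := mem_gSupports.mp hb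
  exact mem_gSupports.mpr ⟨_, hm.xor hn, (setOf_xor m n).symm⟩

theorem mem_M24_iff {σ : Equiv.Perm GolayPt} : σ ∈ M24 ↔ ∀ b ∈ gSupports, σ • b ∈ gSupports := by
  rw [MulAction.mem_stabilizer_iff]
  constructor
  · intro h b hb
    have h' : σ • gSupports = gSupports := h
    rw [← h']; exact Set.smul_mem_smul_set hb
  · intro h
    have hm : Set.MapsTo (fun b => σ • b) gSupports gSupports := h
    have := ((Set.toFinite gSupports).injOn_iff_bijOn_of_mapsTo hm).mp
      (MulAction.injective σ).injOn
    exact this.image_eq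

theorem mem_smul_finset_iff {σ : Equiv.Perm GolayPt} {b : Finset GolayPt} {p : GolayPt} :
    p ∈ σ • b ↔ σ⁻¹ p ∈ b := by
  rw [Finset.mem_smul_finset]
  constructor
  · rintro ⟨y, hy, rfl⟩; simpa using hy
  · intro h; exact ⟨_, h, by simp⟩

theorem card_smul_finset' (σ : Equiv.Perm GolayPt) (b : Finset GolayPt) : (σ • b).card = b.card :=
  Finset.card_smul_finset σ b

/-- `σ` is described by the table `t` (5 bits per entry): `idx (σ p) = t[idx p]`. -/
def Rep (σ : Equiv.Perm GolayPt) (t : ℕ) : Prop := ∀ p, idx (σ p) = look 5 t (idx p)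

/-- the preimage of a mask under a table -/
noncomputable def preMask (t m : ℕ) : ℕ := mkMask 24 fun i => tb m (look 5 t i)

theorem Rep.inv_smul_setOf {σ : Equiv.Perm GolayPt} {t : ℕ} (h : Rep σ t) (m : ℕ) :
    σ⁻¹ • setOf m = setOf (preMask t m) := by
  ext p
  rw [mem_smul_finset_iff, inv_inv, mem_setOf, mem_setOf, preMask, testBit_mkMask, tb_eq, h p]
  simp [idx_lt p]

theorem preMask_xor (t a b : ℕ) : preMask t (a ^^^ b) = preMask t a ^^^ preMask t b := by
  apply Nat.eq_of_testBit_eq
  intro i
  simp only [preMask, testBit_mkMask, tb_eq, Nat.testBit_xor]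
  cases decide (i < 24) <;> simp

theorem preMask_zero (t : ℕ) : preMask t 0 = 0 := by
  apply Nat.eq_of_testBit_eq
  intro i
  simp [preMask, testBit_mkMask, tb_eq]

/-- the table maps a basis of the code into the code -/
noncomputable def checkM24 (t : ℕ) : Bool := allL gBasis fun b => isCode (preMask t b)

theorem Rep.mem_M24 {σ : Equiv.Perm GolayPt} {t : ℕ} (h : Rep σ t) (hc : checkM24 t = true) :
    σ ∈ M24 := by
  rw [← inv_mem_iff, mem_M24_iff]
  intro b hb
  obtain ⟨m, hm, rfl⟩ := mem_gSupports.mp hb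
  rw [h.inv_smul_setOf]
  refine mem_gSupports.mpr ⟨_, ?_, rfl⟩
  refine InSpan.induction (P := fun m => IsCode (preMask t m)) ?_ ?_ ?_ hm
  · rw [preMask_zero]; exact IsCode.zero
  · intro b hb; exact isCode_of ((allL_iff _ _).mp hc b hb)
  · intro a c ha hc; rw [preMask_xor]; exact ha.xor hc

/-- the table is injective with entries below 24: `ti` is a left inverse -/
noncomputable def checkPerm (t ti : ℕ) : Bool :=
  allLt 24 fun i => Nat.ble (look 5 t i) 23 && Nat.beq (look 5 ti (look 5 t i)) i

/-- the permutation with table `t` -/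
noncomputable def permOf (t ti : ℕ) (h : checkPerm t ti = true) : Equiv.Perm GolayPt :=
  Equiv.ofBijective (fun p => pt (look 5 t (idx p))) (by
    rw [← Finite.injective_iff_bijective]
    intro a b hab
    have H := (allLt_iff _ _).mp h
    have ha := H _ (idx_lt a)
    have hb := H _ (idx_lt b)
    simp only [Bool.and_eq_true, Nat.ble_eq, Nat.beq_eq] at ha hb
    have := congrArg idx hab
    simp only at this
    rw [idx_pt (by omega), idx_pt (by omega)] at this
    apply idx_injective
    rw [← ha.2, ← hb.2, this])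

theorem rep_permOf (t ti : ℕ) (h : checkPerm t ti = true) : Rep (permOf t ti h) t := by
  intro p
  have ha := (allLt_iff _ _).mp h _ (idx_lt p)
  simp only [Bool.and_eq_true, Nat.ble_eq, Nat.beq_eq] at ha
  exact idx_pt (by omega)

theorem Rep.unique {σ τ : Equiv.Perm GolayPt} {t : ℕ} (h1 : Rep σ t) (h2 : Rep τ t) : σ = τ := by
  apply Equiv.ext; intro p; apply idx_injective; rw [h1 p, h2 p]

theorem squareDodecad_eq : squareDodecad = setOf 340831 := by
  rw [squareDodecad, qrWord_eq, support_wordOf]; rfl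

theorem Rep.mem_M23 {σ : Equiv.Perm GolayPt} {t : ℕ} (h : Rep σ t) (hc : checkM24 t = true)
    (h1 : look 5 t 23 = 23) : σ ∈ M23 := by
  refine ⟨h.mem_M24 hc, ?_⟩
  apply idx_injective
  exact (h none).trans h1

theorem Rep.mem_M22 {σ : Equiv.Perm GolayPt} {t : ℕ} (h : Rep σ t) (hc : checkM24 t = true)
    (h1 : look 5 t 23 = 23) (h0 : look 5 t 0 = 0) : σ ∈ M22 := by
  refine ⟨h.mem_M23 hc h1, ?_⟩
  apply idx_injective
  exact (h (some 0)).trans h0

theorem Rep.mem_M12 {σ : Equiv.Perm GolayPt} {t : ℕ} (h : Rep σ t) (hc : checkM24 t = true)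
    (h1 : preMask t 340831 = 340831) : σ ∈ M12 := by
  refine ⟨h.mem_M24 hc, ?_⟩
  show σ ∈ MulAction.stabilizer _ _
  rw [← inv_mem_iff, MulAction.mem_stabilizer_iff, squareDodecad_eq, h.inv_smul_setOf, h1]

theorem Rep.mem_M11 {σ : Equiv.Perm GolayPt} {t : ℕ} (h : Rep σ t) (hc : checkM24 t = true)
    (h1 : preMask t 340831 = 340831) (h0 : look 5 t 0 = 0) : σ ∈ M11 := by
  refine ⟨h.mem_M12 hc h1, ?_⟩
  apply idx_injective
  exact (h (some 0)).trans h0

end Cfsg.Agent.H9
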