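import Cfsg.Agent.H9.Bits
import Cfsg.Agent.L0.Word

/-! Right actions on numbered points, tables, stabiliser chains. -/

set_option autoImplicit false

namespace Cfsg.Agent.H9

open Cfsg.Agent.L0 (ev ev_nil ev_cons ev_append ev_mem)

/-- a right action on the numbers below `N` -/
structure RA (G : Type*) [Group G] (N : ℕ) where
  act : ℕ → G → ℕ
  lt : ∀ {c : ℕ}, c < N → ∀ g, act c g < N
  one : ∀ {c : ℕ}, c < N → act c 1 = c
  mul : ∀ {c : ℕ}, c < N → ∀ x y, act c (x * y) = act (act c x) y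

/-- evaluate `n` before continuing -/
noncomputable def force {α : Type} (n : ℕ) (k : ℕ → α) (d : α) : α :=
  Nat.rec (motive := fun _ => α) d (fun m _ => k m) (Nat.succ n)

@[simp] theorem force_eq {α : Type} (n : ℕ) (k : ℕ → α) (d : α) : force n k d = k n := rfl

/-- trace a point through a word -/
noncomputable def tr (T : ℕ → ℕ → ℕ) (w : List ℕ) : ℕ → ℕ :=
  List.rec (motive := fun _ => ℕ → ℕ) (fun c => c)
    (fun s _ ih c => Nat.rec (motive := fun _ => ℕ) 0 (fun m _ => ih m) (Nat.succ (T c s))) w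

@[simp] theorem tr_nil (T : ℕ → ℕ → ℕ) (c : ℕ) : tr T [] c = c := rfl
@[simp] theorem tr_cons (T : ℕ → ℕ → ℕ) (s : ℕ) (w : List ℕ) (c : ℕ) :
    tr T (s :: w) c = tr T w (T c s) := rfl

/-- `∃ x ∈ l, P x` -/
noncomputable def anyL {α : Type} (l : List α) (P : α → Bool) : Bool :=
  List.rec (motive := fun _ => Bool) false
    (fun a _ ih => Bool.rec (motive := fun _ => Bool) ih true (P a)) l

theorem anyL_iff {α : Type} (l : List α) (P : α → Bool) : anyL l P = true ↔ ∃ x ∈ l, P x = true := by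
  induction l with
  | nil => simp [anyL]
  | cons a l ih =>
    have : anyL (a :: l) P = Bool.rec (motive := fun _ => Bool) (anyL l P) true (P a) := rfl
    rw [this]
    cases hp : P a with
    | false => simp [hp, ih]
    | true => simp [hp]

/-- `∀ i, lo ≤ i < lo + n → P i`, by halving (`n = 2 ^ d`) -/
noncomputable def allPow (P : ℕ → Bool) (d : ℕ) : ℕ → Bool :=
  Nat.rec (motive := fun _ => ℕ → Bool) P
    (fun e ih lo => Bool.rec (motive := fun _ => Bool) false
      (Nat.rec (motive := fun _ => Bool) false (fun m _ => ih m) (Nat.succ (Nat.add lo (Nat.pow 2 e))))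
      (ih lo)) d

theorem allPow_spec (P : ℕ → Bool) (d lo : ℕ) (h : allPow P d lo = true) :
    ∀ i, lo ≤ i → i < lo + 2 ^ d → P i = true := by
  induction d generalizing lo with
  | zero =>
    intro i h1 h2
    have : i = lo := by omega
    subst this; exact h
  | succ d ih =>
    intro i h1 h2
    have e : allPow P (d + 1) lo = Bool.rec (motive := fun _ => Bool) false
      (allPow P d (lo + 2 ^ d)) (allPow P d lo) := rfl
    rw [e] at h
    cases h0 : allPow P d lo with
    | false => rw [h0] at h; exact absurd h (by simp)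
    | true =>
      rw [h0] at h
      by_cases hi : i < lo + 2 ^ d
      · exact ih _ h0 i h1 hi
      · exact ih _ h i (by omega) (by rw [pow_succ] at h2; omega)

/-- restrict a test to `i < n` -/
noncomputable def below (n : ℕ) (P : ℕ → Bool) (i : ℕ) : Bool :=
  Bool.rec (motive := fun _ => Bool) (P i) true (Nat.ble n i)

theorem below_spec {n : ℕ} {P : ℕ → Bool} {i : ℕ} (h : below n P i = true) (hi : i < n) :
    P i = true := by
  unfold below at h
  cases h1 : Nat.ble n i with
  | false => rwa [h1] at h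
  | true => have := Nat.le_of_ble_eq_true h1; omega

/-- glue blocks of size `2 ^ d` -/
theorem all_of_blocks {n d m : ℕ} {P : ℕ → Bool} (hm : n ≤ m * 2 ^ d)
    (h : ∀ j < m, allPow (below n P) d (j * 2 ^ d) = true) : ∀ i < n, P i = true := by
  intro i hi
  have hp : 0 < 2 ^ d := by positivity
  refine below_spec (allPow_spec _ d _ (h (i / 2 ^ d)
    ((Nat.div_lt_iff_lt_mul hp).mpr (by omega))) i (Nat.div_mul_le_self _ _) ?_) hi
  exact Nat.lt_div_mul_add hp

theorem forall_lt_zero'' {P : ℕ → Prop} : ∀ j < 0, P j := fun _ h => absurd h (Nat.not_lt_zero _)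

theorem forall_lt_succ'' {P : ℕ → Prop} {n : ℕ} (h : ∀ j < n, P j) (hn : P n) : ∀ j < n + 1, P j := by
  intro j hj
  rcases Nat.lt_succ_iff_lt_or_eq.mp hj with h1 | h1
  · exact h j h1
  · exact h1 ▸ hn

/-- all letters are below `k` -/
noncomputable def ltB (k : ℕ) (w : List ℕ) : Bool := allL w fun s => Nat.blt s k

theorem ltB_iff {k : ℕ} {w : List ℕ} : ltB k w = true ↔ ∀ s ∈ w, s < k := by
  simp [ltB, allL_iff, Nat.blt_eq]

namespace RA

variable {G : Type*} [Group G] {N : ℕ} (A : RA G N)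

/-- the table `T` describes the letters below `k` -/
def Tab (g : ℕ → G) (k : ℕ) (T : ℕ → ℕ → ℕ) : Prop := ∀ s < k, ∀ c < N, T c s = A.act c (g s)

/-- the function `X` describes the element `x` -/
def Fn (x : G) (X : ℕ → ℕ) : Prop := ∀ c < N, X c = A.act c x

variable {A}

theorem Tab.tr {g : ℕ → G} {k : ℕ} {T : ℕ → ℕ → ℕ} (h : A.Tab g k T) {w : List ℕ}
    (hw : ∀ s ∈ w, s < k) : A.Fn (ev g w) (tr T w) := by
  induction w with
  | nil => intro c hc; simp [A.one hc]
  | cons s w ih =>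
    intro c hc
    rw [tr_cons, ev_cons, A.mul hc, h s (hw s List.mem_cons_self) c hc]
    exact ih (fun y hy => hw y (List.mem_cons_of_mem _ hy)) _ (A.lt hc _)

theorem Fn.lt {x : G} {X : ℕ → ℕ} (h : A.Fn x X) {c : ℕ} (hc : c < N) : X c < N := by
  rw [h c hc]; exact A.lt hc _

theorem Fn.comp {x y : G} {X Y : ℕ → ℕ} (hx : A.Fn x X) (hy : A.Fn y Y) :
    A.Fn (x * y) fun c => Y (X c) := by
  intro c hc
  show Y (X c) = _
  rw [A.mul hc, hy _ (hx.lt hc), hx c hc]

theorem act_inv {c : ℕ} (hc : c < N) (x : G) : A.act (A.act c x) x⁻¹ = c := by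
  rw [← A.mul hc, mul_inv_cancel, A.one hc]

theorem act_inj {c d : ℕ} (hc : c < N) (hd : d < N) {x : G} (h : A.act c x = A.act d x) : c = d := by
  rw [← act_inv hc x, h, act_inv hd]

variable (A)

/-- pointwise stabiliser of the points of the list that are below `N` -/
def Fix (bs : List ℕ) : Subgroup G where
  carrier := {x | ∀ b ∈ bs, b < N → A.act b x = b}
  one_mem' := fun _ _ hb => A.one hb
  mul_mem' := fun {x y} hx hy b hb hN => by rw [A.mul hN, hx b hb hN, hy b hb hN]
  inv_mem' := fun {x} hx b hb hN => by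
    have := act_inv (A := A) hN x
    rwa [hx b hb hN] at this

theorem mem_Fix {bs : List ℕ} {x : G} : x ∈ A.Fix bs ↔ ∀ b ∈ bs, b < N → A.act b x = b := Iff.rfl

theorem mem_Fix_cons {β : ℕ} (hβ : β < N) {bs : List ℕ} {x : G} :
    x ∈ A.Fix (β :: bs) ↔ x ∈ A.Fix bs ∧ A.act β x = β := by
  simp only [mem_Fix, List.mem_cons, forall_eq_or_imp]
  tauto

theorem Fix_nil : A.Fix [] = ⊤ := by ext x; simp [mem_Fix]

/-- the associated left action -/
@[reducible] def toMulAction : MulAction G (Fin N) where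
  smul x c := ⟨A.act c x⁻¹, A.lt c.2 _⟩
  one_smul c := Fin.ext (by show A.act c (1 : G)⁻¹ = c; rw [inv_one, A.one c.2])
  mul_smul x y c := Fin.ext (by
    show A.act c (x * y)⁻¹ = A.act (A.act c y⁻¹) x⁻¹
    rw [mul_inv_rev, A.mul c.2])

/-- orbit-stabiliser formula -/
theorem card_eq_orbit_mul [Finite G] (H K : Subgroup G) {β : ℕ} (hβ : β < N)
    (hK : ∀ x, x ∈ K ↔ x ∈ H ∧ A.act β x = β) :
    Nat.card H = {c | ∃ x ∈ H, A.act β x = c}.ncard * Nat.card K := by
  let _ := A.toMulAction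
  have e := MulAction.orbitProdStabilizerEquivGroup H (⟨β, hβ⟩ : Fin N)
  rw [← Nat.card_congr e, Nat.card_prod]
  congr 1
  · rw [Nat.card_coe_set_eq, ← Set.ncard_image_of_injective _ Fin.val_injective]
    congr 1
    ext c
    constructor
    · rintro ⟨_, ⟨x, rfl⟩, rfl⟩
      exact ⟨x.1⁻¹, H.inv_mem x.2, rfl⟩
    · rintro ⟨x, hx, rfl⟩
      refine ⟨_, ⟨⟨x⁻¹, H.inv_mem hx⟩, rfl⟩, ?_⟩
      show A.act β x⁻¹⁻¹ = _
      rw [inv_inv]
  · apply Nat.card_congr
    refine ⟨fun x => ⟨x.1.1, (hK _).mpr ⟨x.1.2, ?_⟩⟩, fun x => ⟨⟨x.1, ((hK _).mp x.2).1⟩, ?_⟩,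
      fun _ => rfl, fun _ => rfl⟩
    · have h1 : A.act β x.1.1⁻¹ = β := congrArg Fin.val x.2
      have := act_inv (A := A) hβ x.1.1⁻¹
      rwa [h1, inv_inv] at this
    · apply Fin.ext
      show A.act β x.1⁻¹ = β
      have := act_inv (A := A) hβ x.1
      rwa [((hK _).mp x.2).2] at this

end RA

/-- one level of a stabiliser chain: base point, Schreier tree (letter plus one), mask of the letters allowed,
bound for the depth, and the list of the orbit -/
structure Lv where
  β : ℕ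
  tree : ℕ → ℕ
  sm : ℕ
  fuel : ℕ
  n : ℕ
  pts : ℕ → ℕ

/-- walk up the tree to `β`, collecting the letters in reverse order; the value is `bad` if that fails -/
noncomputable def walk (T : ℕ → ℕ → ℕ) (β : ℕ) (tree : ℕ → ℕ) (sm : ℕ) (bad : Bool)
    (k : List ℕ → Bool) (fuel : ℕ) : ℕ → List ℕ → Bool :=
  Nat.rec (motive := fun _ => ℕ → List ℕ → Bool) (fun _ _ => bad)
    (fun _ ih c acc => Bool.rec (motive := fun _ => Bool)
      (Nat.rec (motive := fun _ => Bool) bad
        (fun s _ => Bool.rec (motive := fun _ => Bool) bad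
          (Nat.rec (motive := fun _ => Bool) false (fun d _ => ih d (s :: acc)) (Nat.succ (T c s)))
          (tb sm s)) (tree c))
      (k acc) (Nat.beq c β)) fuel

theorem walk_spec (T : ℕ → ℕ → ℕ) (β : ℕ) (tree : ℕ → ℕ) (sm : ℕ) (bad : Bool)
    (k : List ℕ → Bool) (fuel c : ℕ) (acc : List ℕ) (h : walk T β tree sm bad k fuel c acc = true) :
    (∃ w : List ℕ, (∀ s ∈ w, sm.testBit s = true) ∧ tr T w c = β ∧ k (w.reverse ++ acc) = true) ∨
      (bad = true ∧ ∀ acc', walk T β tree sm false (fun _ => true) fuel c acc' = false) := by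
  induction fuel generalizing c acc with
  | zero => exact Or.inr ⟨h, fun _ => rfl⟩
  | succ fuel ih =>
    have e : ∀ bad k acc, walk T β tree sm bad k (fuel + 1) c acc = Bool.rec (motive := fun _ => Bool)
      (Nat.rec (motive := fun _ => Bool) bad
        (fun s _ => Bool.rec (motive := fun _ => Bool) bad
          (walk T β tree sm bad k fuel (T c s) (s :: acc)) (tb sm s)) (tree c))
      (k acc) (Nat.beq c β) := fun _ _ _ => rfl
    simp only [e] at h ⊢
    cases h1 : Nat.beq c β with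
    | true =>
      rw [h1] at h
      exact Or.inl ⟨[], by simp, Nat.eq_of_beq_eq_true h1, h⟩
    | false =>
      rw [h1] at h
      cases h2 : tree c with
      | zero => rw [h2] at h; exact Or.inr ⟨h, fun _ => rfl⟩
      | succ s =>
        rw [h2] at h
        cases h3 : tb sm s with
        | false => simp only [h3] at h ⊢; exact Or.inr ⟨h, fun _ => trivial⟩
        | true =>
          simp only [h3] at h ⊢
          rcases ih _ _ h with ⟨w, h4, h5, h6⟩ | ⟨h4, h5⟩
          · refine Or.inl ⟨s :: w, ?_, h5, by simpa using h6⟩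
            intro y hy
            rcases List.mem_cons.mp hy with rfl | hy
            · rw [← tb_eq]; exact h3
            · exact h4 y hy
          · exact Or.inr ⟨h4, fun _ => h5 _⟩

namespace Lv

/-- static checks of a level -/
noncomputable def statB (L : Lv) (T : ℕ → ℕ → ℕ) (N k : ℕ) (bs : List ℕ) : Bool :=
  Nat.blt L.β N && Nat.blt L.sm (2 ^ k) &&
    allLt k fun s => !(tb L.sm s) || allL bs fun b => Nat.beq (T b s) b

/-- check of the orbit point number `i` -/
noncomputable def ptB (L : Lv) (T : ℕ → ℕ → ℕ) (N : ℕ) (i : ℕ) : Bool :=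
  Nat.rec (motive := fun _ => Bool) false (fun c _ =>
    Nat.blt c N && (Nat.beq i 0 || Nat.blt (L.pts (Nat.pred i)) c) &&
      walk T L.β L.tree L.sm false (fun _ => true) L.fuel c []) (Nat.succ (L.pts i))

end Lv

/-- the checks for a chain of levels -/
def ChainChk (T : ℕ → ℕ → ℕ) (N k : ℕ) : List Lv → List ℕ → Prop
  | [], _ => True
  | L :: Ls, bs => L.statB T N k bs = true ∧ (∀ i < L.n, L.ptB T N i = true) ∧
      ChainChk T N k Ls (L.β :: bs)

/-- Boolean form of the checks -/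
noncomputable def chainB (T : ℕ → ℕ → ℕ) (N k : ℕ) (Ls : List Lv) : List ℕ → Bool :=
  List.rec (motive := fun _ => List ℕ → Bool) (fun _ => true)
    (fun L _ ih bs => L.statB T N k bs && allLt L.n (L.ptB T N) && ih (L.β :: bs)) Ls

theorem chainChk_of {T : ℕ → ℕ → ℕ} {N k : ℕ} {Ls : List Lv} {bs : List ℕ}
    (h : chainB T N k Ls bs = true) : ChainChk T N k Ls bs := by
  induction Ls generalizing bs with
  | nil => trivial
  | cons L Ls ih =>
    have e : chainB T N k (L :: Ls) bs = (L.statB T N k bs && allLt L.n (L.ptB T N) &&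
      chainB T N k Ls (L.β :: bs)) := rfl
    rw [e, Bool.and_eq_true, Bool.and_eq_true, allLt_iff] at h
    exact ⟨h.1.1, h.1.2, ih h.2⟩

/-- product of the orbit lengths -/
def chainOrd : List Lv → ℕ
  | [] => 1
  | L :: Ls => L.n * chainOrd Ls

namespace RA

variable {G : Type*} [Group G] {N : ℕ} (A : RA G N) (g : ℕ → G) (k : ℕ) (T : ℕ → ℕ → ℕ)

/-- facts about one level -/
structure LvOK (L : Lv) (bs : List ℕ) : Prop where
  hβ : L.β < N
  sm : ∀ s, L.sm.testBit s = true → s < k ∧ g s ∈ A.Fix bs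
  lt : ∀ i < L.n, L.pts i < N
  inj : ∀ i < L.n, ∀ j < L.n, L.pts i = L.pts j → i = j
  wk : ∀ i < L.n, walk T L.β L.tree L.sm false (fun _ => true) L.fuel (L.pts i) [] = true

/-- the levels form a base and the listed orbits are the true ones -/
def Good : List Lv → List ℕ → Prop
  | [], bs => A.Fix bs = ⊥
  | L :: Ls, bs => A.LvOK g k T L bs ∧ (∀ x ∈ A.Fix bs, ∃ i < L.n, A.act L.β x = L.pts i) ∧
      Good Ls (L.β :: bs)

variable {A g k T}

theorem lvOK_of (hT : A.Tab g k T) {L : Lv} {bs : List ℕ} (h1 : L.statB T N k bs = true)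
    (h2 : ∀ i < L.n, L.ptB T N i = true) : A.LvOK g k T L bs := by
  simp only [Lv.statB, Bool.and_eq_true, Nat.blt_eq, allLt_iff, Bool.or_eq_true, Bool.not_eq_true',
    tb_eq, allL_iff, Nat.beq_eq] at h1
  have h3 : ∀ i < L.n, (L.pts i < N ∧ (i = 0 ∨ L.pts (i - 1) < L.pts i)) ∧
      walk T L.β L.tree L.sm false (fun _ => true) L.fuel (L.pts i) [] = true := by
    intro i hi
    have : (Nat.blt (L.pts i) N && (Nat.beq i 0 || Nat.blt (L.pts (i - 1)) (L.pts i)) &&
      walk T L.β L.tree L.sm false (fun _ => true) L.fuel (L.pts i) []) = true := h2 i hi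
    simpa only [Bool.and_eq_true, Nat.blt_eq, Bool.or_eq_true, Nat.beq_eq] using this
  have hmono : ∀ j < L.n, ∀ i < j, L.pts i < L.pts j := by
    intro j
    induction j with
    | zero => intro _ i hi; omega
    | succ j ih =>
      intro hj i hi
      have := (h3 _ hj).1.2
      simp only [Nat.add_eq_zero_iff, one_ne_zero, and_false, Nat.add_sub_cancel, false_or] at this
      rcases Nat.lt_succ_iff_lt_or_eq.mp hi with h4 | rfl
      · exact (ih (by omega) i h4).trans this
      · exact this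
  refine ⟨h1.1.1, fun s hs => ?_, fun i hi => (h3 i hi).1.1, fun i hi j hj hij => ?_,
    fun i hi => (h3 i hi).2⟩
  · have hk : s < k := by
      by_contra hc
      rw [Nat.testBit_lt_two_pow (lt_of_lt_of_le h1.1.2
        (Nat.pow_le_pow_right (by norm_num) (by omega)))] at hs
      exact absurd hs (by simp)
    refine ⟨hk, fun b hb hN => ?_⟩
    rcases h1.2 s hk with h4 | h4
    · rw [hs] at h4; exact absurd h4 (by simp)
    · rw [← hT s hk b hN]; exact h4 b hb
  · rcases lt_trichotomy i j with h4 | h4 | h4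
    · have := hmono j hj i h4; omega
    · exact h4
    · have := hmono i hi j h4; omega

theorem LvOK.word {L : Lv} {bs : List ℕ} (h : A.LvOK g k T L bs) {w : List ℕ}
    (hw : ∀ s ∈ w, L.sm.testBit s = true) : (∀ s ∈ w, s < k) ∧ ev g w ∈ A.Fix bs :=
  ⟨fun s hs => (h.sm s (hw s hs)).1, ev_mem g _ fun s hs => (h.sm s (hw s hs)).2⟩

theorem LvOK.mem_orbit (hT : A.Tab g k T) {L : Lv} {bs : List ℕ} (h : A.LvOK g k T L bs) {i : ℕ}
    (hi : i < L.n) : ∃ x ∈ A.Fix bs, A.act L.β x = L.pts i := by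
  rcases walk_spec _ _ _ _ _ _ _ _ _ (h.wk i hi) with ⟨w, h1, h2, -⟩ | ⟨h1, -⟩
  · obtain ⟨h3, h4⟩ := h.word h1
    refine ⟨(ev g w)⁻¹, inv_mem h4, ?_⟩
    rw [← h2, hT.tr h3 _ (h.lt i hi), act_inv (h.lt i hi)]
  · exact absurd h1 (by simp)

theorem LvOK.image_sub (hT : A.Tab g k T) {L : Lv} {bs : List ℕ} (h : A.LvOK g k T L bs) :
    ((Finset.range L.n).image L.pts).card = L.n ∧
    (((Finset.range L.n).image L.pts : Finset ℕ) : Set ℕ) ⊆ {c | ∃ x ∈ A.Fix bs, A.act L.β x = c} := by
  constructor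
  · rw [Finset.card_image_of_injOn, Finset.card_range]
    intro i hi j hj hij
    exact h.inj i (by simpa using hi) j (by simpa using hj) hij
  · intro c hc
    simp only [Finset.coe_image, Finset.coe_range, Set.mem_image, Set.mem_Iio] at hc
    obtain ⟨i, hi, rfl⟩ := hc
    exact h.mem_orbit hT hi

theorem orbit_finite (H : Subgroup G) {β : ℕ} (hβ : β < N) :
    {c | ∃ x ∈ H, A.act β x = c}.Finite :=
  (Set.finite_Iio N).subset (by rintro c ⟨x, -, rfl⟩; exact A.lt hβ x)

theorem chainOrd_le [Finite G] (hT : A.Tab g k T) {Ls : List Lv} {bs : List ℕ}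
    (h : ChainChk T N k Ls bs) : chainOrd Ls ≤ Nat.card (A.Fix bs) := by
  induction Ls generalizing bs with
  | nil => exact Nat.card_pos
  | cons L Ls ih =>
    have hL := lvOK_of hT h.1 h.2.1
    rw [A.card_eq_orbit_mul (A.Fix bs) (A.Fix (L.β :: bs)) hL.hβ fun x => A.mem_Fix_cons hL.hβ]
    refine Nat.mul_le_mul ?_ (ih h.2.2)
    have := Set.ncard_le_ncard (hL.image_sub hT).2 (orbit_finite _ hL.hβ)
    rwa [Set.ncard_coe_finset, (hL.image_sub hT).1] at this

theorem good_of [Finite G] (hT : A.Tab g k T) {Ls : List Lv} {bs : List ℕ}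
    (h : ChainChk T N k Ls bs) (hc : Nat.card (A.Fix bs) ≤ chainOrd Ls) : A.Good g k T Ls bs := by
  induction Ls generalizing bs with
  | nil => exact Subgroup.eq_bot_of_card_le _ hc
  | cons L Ls ih =>
    have hL := lvOK_of hT h.1 h.2.1
    have e := A.card_eq_orbit_mul (A.Fix bs) (A.Fix (L.β :: bs)) hL.hβ fun x => A.mem_Fix_cons hL.hβ
    have h1 := Set.ncard_le_ncard (hL.image_sub hT).2 (orbit_finite _ hL.hβ)
    rw [Set.ncard_coe_finset, (hL.image_sub hT).1] at h1
    have h2 := chainOrd_le hT h.2.2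
    have h3 : 0 < Nat.card (A.Fix (L.β :: bs)) := Nat.card_pos
    have hpos : 0 < {c | ∃ x ∈ A.Fix bs, A.act L.β x = c}.ncard :=
      (Set.ncard_pos (orbit_finite _ hL.hβ)).mpr ⟨_, 1, one_mem _, rfl⟩
    rw [e] at hc
    have hc' : _ ≤ L.n * chainOrd Ls := hc
    have h4 : {c | ∃ x ∈ A.Fix bs, A.act L.β x = c}.ncard ≤ L.n := by
      by_contra hn
      have : (L.n + 1) * Nat.card (A.Fix (L.β :: bs)) ≤ L.n * Nat.card (A.Fix (L.β :: bs)) :=
        le_trans (Nat.mul_le_mul_right _ (by omega)) (hc'.trans (Nat.mul_le_mul_left _ h2))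
      nlinarith
    have h5 : Nat.card (A.Fix (L.β :: bs)) ≤ chainOrd Ls := by
      have : L.n * Nat.card (A.Fix (L.β :: bs)) ≤ L.n * chainOrd Ls :=
        le_trans (Nat.mul_le_mul_right _ h1) hc'
      exact Nat.le_of_mul_le_mul_left this (by omega)
    refine ⟨hL, fun x hx => ?_, ih h.2.2 h5⟩
    have := Set.eq_of_subset_of_ncard_le (hL.image_sub hT).2
      (by rw [Set.ncard_coe_finset, (hL.image_sub hT).1]; exact h4) (orbit_finite _ hL.hβ)
    have h6 : A.act L.β x ∈ {c | ∃ x ∈ A.Fix bs, A.act L.β x = c} := ⟨x, hx, rfl⟩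
    rw [← this] at h6
    simp only [Finset.coe_image, Finset.coe_range, Set.mem_image, Set.mem_Iio] at h6
    obtain ⟨i, hi, h7⟩ := h6
    exact ⟨i, hi, h7.symm⟩

theorem card_eq_of_chain [Finite G] (hT : A.Tab g k T) {Ls : List Lv}
    (h : ChainChk T N k Ls []) (hc : Nat.card G ≤ chainOrd Ls) :
    Nat.card G = chainOrd Ls ∧ A.Good g k T Ls [] := by
  have e : Nat.card (A.Fix []) = Nat.card G := by rw [Fix_nil]; exact Subgroup.card_top
  exact ⟨le_antisymm hc (e ▸ chainOrd_le hT h), good_of hT h (e ▸ hc)⟩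

/-- an element fixing the base points is trivial -/
theorem Good.eq_one {Ls : List Lv} {bs : List ℕ} (h : A.Good g k T Ls bs) {x : G}
    (hx : x ∈ A.Fix bs) (hb : ∀ L ∈ Ls, A.act L.β x = L.β) : x = 1 := by
  induction Ls generalizing bs with
  | nil => have h' : A.Fix bs = ⊥ := h; rw [h'] at hx; exact hx
  | cons L Ls ih =>
    exact ih h.2.2 ((A.mem_Fix_cons h.1.hβ).mpr ⟨hx, hb L List.mem_cons_self⟩)
      fun L' hL' => hb L' (List.mem_cons_of_mem _ hL')

theorem Good.β_lt {Ls : List Lv} {bs : List ℕ} (h : A.Good g k T Ls bs) : ∀ L ∈ Ls, L.β < N := by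
  induction Ls generalizing bs with
  | nil => simp
  | cons L Ls ih =>
    intro L' hL'
    rcases List.mem_cons.mp hL' with rfl | h1
    · exact h.1.hβ
    · exact ih h.2.2 L' h1

/-- every element of the stabiliser is a word in the letters -/
theorem Good.mem_closure (hT : A.Tab g k T) {Ls : List Lv} {bs : List ℕ} (h : A.Good g k T Ls bs)
    {H : Subgroup G} (hH : ∀ L ∈ Ls, ∀ s < k, L.sm.testBit s = true → g s ∈ H) {x : G}
    (hx : x ∈ A.Fix bs) : x ∈ H := by
  induction Ls generalizing bs x with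
  | nil => have h' : A.Fix bs = ⊥ := h; rw [h'] at hx; rw [hx]; exact one_mem _
  | cons L Ls ih =>
    obtain ⟨i, hi, e⟩ := h.2.1 x hx
    rcases walk_spec _ _ _ _ _ _ _ _ _ (h.1.wk i hi) with ⟨w, h1, h2, -⟩ | ⟨h1, -⟩
    · obtain ⟨h3, h4⟩ := h.1.word h1
      have h5 : x * ev g w ∈ H := by
        apply ih h.2.2 fun L' hL' => hH L' (List.mem_cons_of_mem _ hL')
        rw [A.mem_Fix_cons h.1.hβ]
        refine ⟨mul_mem hx h4, ?_⟩
        rw [A.mul h.1.hβ, e, ← hT.tr h3 _ (h.1.lt i hi), h2]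
      have h6 : ev g w ∈ H := ev_mem g _ fun s hs => hH L List.mem_cons_self s (h3 s hs) (h1 s hs)
      simpa using H.mul_mem h5 (H.inv_mem h6)
    · exact absurd h1 (by simp)

/-- `B` is a base -/
def IsBase (A : RA G N) (B : List ℕ) : Prop :=
  (∀ b ∈ B, b < N) ∧ ∀ x : G, (∀ b ∈ B, A.act b x = b) → x = 1

theorem Good.isBase {Ls : List Lv} (h : A.Good g k T Ls []) : A.IsBase (Ls.map Lv.β) := by
  refine ⟨fun b hb => ?_, fun x hx => h.eq_one (by rw [Fix_nil]; trivial) fun L hL =>
    hx _ (List.mem_map_of_mem hL)⟩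
  obtain ⟨L, hL, rfl⟩ := List.mem_map.mp hb
  exact h.β_lt L hL

/-- two functions agree on a list of points -/
noncomputable def agree (B : List ℕ) (X Y : ℕ → ℕ) : Bool := allL B fun b => Nat.beq (X b) (Y b)

theorem IsBase.eq {B : List ℕ} (h : A.IsBase B) {x y : G} {X Y : ℕ → ℕ} (hx : A.Fn x X)
    (hy : A.Fn y Y) (he : agree B X Y = true) : x = y := by
  rw [← mul_inv_eq_one]
  apply h.2
  intro b hb
  have h1 := Nat.eq_of_beq_eq_true ((allL_iff _ _).mp he b hb)
  rw [hx b (h.1 b hb), hy b (h.1 b hb)] at h1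
  rw [A.mul (h.1 b hb), h1, act_inv (h.1 b hb)]

theorem fn_one : A.Fn 1 fun c => c := fun _ hc => (A.one hc).symm

theorem Fn.ne {x y : G} {X Y : ℕ → ℕ} (hx : A.Fn x X) (hy : A.Fn y Y) {c : ℕ} (hc : c < N)
    (h : X c ≠ Y c) : x ≠ y := by
  rintro rfl
  exact h ((hx c hc).trans (hy c hc).symm)

end RA

end Cfsg.Agent.H9
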