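import Cfsg.Prelude.Def_Spor_J2
import Cfsg.Agent.H9.RA

/-! Integer coordinates for the icosians. -/

set_option autoImplicit false

namespace Cfsg.Agent.H9

open Cfsg.Spor Quaternion

instance instCharZeroQuat : CharZero ℍ[ℝ] :=
  charZero_of_injective_algebraMap (algebraMap ℝ ℍ[ℝ]).injective

/-- `a + b τ` -/
structure Zt where
  a : ℤ
  b : ℤ

theorem tau_sq : tau * tau = tau + 1 := by
  have h : Real.sqrt 5 * Real.sqrt 5 = 5 := Real.mul_self_sqrt (by norm_num)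
  unfold tau; linear_combination (1 / 4 : ℝ) * h

theorem sig_eq : sig = 1 - tau := by unfold sig tau; ring

theorem sqrt5_eq : Real.sqrt 5 = 2 * tau - 1 := by unfold tau; ring

namespace Zt

def add (x y : Zt) : Zt := ⟨Int.add x.a y.a, Int.add x.b y.b⟩
def sub (x y : Zt) : Zt := ⟨Int.sub x.a y.a, Int.sub x.b y.b⟩
def neg (x : Zt) : Zt := ⟨Int.neg x.a, Int.neg x.b⟩
def sc (n : ℤ) (x : Zt) : Zt := ⟨Int.mul n x.a, Int.mul n x.b⟩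
def mul (x y : Zt) : Zt := ⟨Int.add (Int.mul x.a y.a) (Int.mul x.b y.b),
  Int.add (Int.mul x.a y.b) (Int.mul x.b (Int.add y.a y.b))⟩
def dv (n : ℤ) (x : Zt) : Zt := ⟨Int.ediv x.a n, Int.ediv x.b n⟩
def beq (x y : Zt) : Bool := decide (x.a = y.a) && decide (x.b = y.b)
/-- the trace of the square -/
def q (x : Zt) : ℤ := 2 * x.a * x.a + 2 * x.a * x.b + 3 * x.b * x.b

/-- the real number -/
noncomputable def sem (x : Zt) : ℝ := x.a + x.b * tau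

theorem beq_iff {x y : Zt} : x.beq y = true ↔ x = y := by
  cases x; cases y; simp [beq]

@[simp] theorem sem_add (x y : Zt) : (x.add y).sem = x.sem + y.sem := by
  simp only [sem, add, Int.add_def]; push_cast; ring
@[simp] theorem sem_sub (x y : Zt) : (x.sub y).sem = x.sem - y.sem := by
  simp only [sem, sub, Int.sub_eq_add_neg, show ∀ a b, Int.sub a b = a - b from fun _ _ => rfl]
  push_cast; ring
@[simp] theorem sem_neg (x : Zt) : x.neg.sem = -x.sem := by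
  simp only [sem, neg, show ∀ a, Int.neg a = -a from fun _ => rfl]; push_cast; ring
@[simp] theorem sem_sc (n : ℤ) (x : Zt) : (x.sc n).sem = n * x.sem := by
  simp only [sem, sc, Int.mul_def]; push_cast; ring
@[simp] theorem sem_mul (x y : Zt) : (x.mul y).sem = x.sem * y.sem := by
  simp only [sem, mul, Int.add_def, Int.mul_def]; push_cast
  linear_combination (-(x.b * y.b) : ℝ) * tau_sq

theorem sem_inj {x y : Zt} (h : x.sem = y.sem) : x = y := by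
  have h5 : Irrational (Real.sqrt 5) := by
    simpa using (show Nat.Prime 5 by norm_num).irrational_sqrt
  obtain ⟨a, b⟩ := x
  obtain ⟨c, d⟩ := y
  simp only [sem] at h
  have hb : b = d := by
    by_contra hne
    have h1 : ((b - d : ℤ) : ℝ) * Real.sqrt 5 = ((2 * (c - a) - (b - d) : ℤ) : ℝ) := by
      rw [sqrt5_eq]; push_cast; linear_combination 2 * h
    exact (h5.intCast_mul (sub_ne_zero.mpr hne)).ne_int _ h1
  subst hb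
  have : (a : ℝ) = c := by linarith
  rw [Int.cast_injective this]

theorem dv_sc {n : ℤ} (hn : n ≠ 0) (x : Zt) : (x.sc n).dv n = x := by
  cases x
  simp only [dv, sc, Int.mul_def, show ∀ a b, Int.ediv a b = a / b from fun _ _ => rfl,
    Int.mul_ediv_cancel_left _ hn]

theorem q_nonneg (x : Zt) : 0 ≤ x.q := by
  unfold q; nlinarith [sq_nonneg (2 * x.a + x.b), sq_nonneg x.b]

end Zt

/-- twice a quaternion with coordinates in `ℤ[τ] / 2` -/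
structure Q8 where
  r : Zt
  i : Zt
  j : Zt
  k : Zt

namespace Q8

def add (x y : Q8) : Q8 := ⟨x.r.add y.r, x.i.add y.i, x.j.add y.j, x.k.add y.k⟩
def sub (x y : Q8) : Q8 := ⟨x.r.sub y.r, x.i.sub y.i, x.j.sub y.j, x.k.sub y.k⟩
def conj (x : Q8) : Q8 := ⟨x.r, x.i.neg, x.j.neg, x.k.neg⟩
def sc (n : ℤ) (x : Q8) : Q8 := ⟨x.r.sc n, x.i.sc n, x.j.sc n, x.k.sc n⟩
def dv (n : ℤ) (x : Q8) : Q8 := ⟨x.r.dv n, x.i.dv n, x.j.dv n, x.k.dv n⟩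
def mul (x y : Q8) : Q8 :=
  ⟨(x.r.mul y.r).sub (((x.i.mul y.i).add (x.j.mul y.j)).add (x.k.mul y.k)),
   (((x.r.mul y.i).add (x.i.mul y.r)).add (x.j.mul y.k)).sub (x.k.mul y.j),
   (((x.r.mul y.j).add (x.j.mul y.r)).add (x.k.mul y.i)).sub (x.i.mul y.k),
   (((x.r.mul y.k).add (x.k.mul y.r)).add (x.i.mul y.j)).sub (x.j.mul y.i)⟩
def nrm (x : Q8) : Zt := ((x.r.mul x.r).add (x.i.mul x.i)).add ((x.j.mul x.j).add (x.k.mul x.k))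
def tq (x : Q8) : ℤ := x.r.q + x.i.q + x.j.q + x.k.q
def beq (x y : Q8) : Bool := x.r.beq y.r && x.i.beq y.i && x.j.beq y.j && x.k.beq y.k
def zero : Q8 := ⟨⟨0, 0⟩, ⟨0, 0⟩, ⟨0, 0⟩, ⟨0, 0⟩⟩
def one : Q8 := ⟨⟨2, 0⟩, ⟨0, 0⟩, ⟨0, 0⟩, ⟨0, 0⟩⟩
def H : Q8 := ⟨⟨1, -2⟩, ⟨1, 0⟩, ⟨1, 0⟩, ⟨1, 0⟩⟩
def Hb : Q8 := ⟨⟨1, -2⟩, ⟨-1, 0⟩, ⟨-1, 0⟩, ⟨-1, 0⟩⟩
/-- half of the product -/
def hm (x y : Q8) : Q8 := (x.mul y).dv 2

/-- the quaternion -/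
noncomputable def sem (x : Q8) : ℍ[ℝ] := ⟨x.r.sem / 2, x.i.sem / 2, x.j.sem / 2, x.k.sem / 2⟩

@[simp] theorem sem_re (x : Q8) : x.sem.re = x.r.sem / 2 := rfl
@[simp] theorem sem_imI (x : Q8) : x.sem.imI = x.i.sem / 2 := rfl
@[simp] theorem sem_imJ (x : Q8) : x.sem.imJ = x.j.sem / 2 := rfl
@[simp] theorem sem_imK (x : Q8) : x.sem.imK = x.k.sem / 2 := rfl

/-- the congruences defining the icosians -/
def icoB (x : Q8) : Bool :=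
  decide ((x.r.a + x.k.b + x.j.b + x.k.a) % 2 = 0) && decide ((x.r.b + x.j.b + x.k.a + x.j.a) % 2 = 0) &&
  decide ((x.i.a + x.j.a + x.k.b + x.j.b) % 2 = 0) && decide ((x.i.b + x.k.b + x.k.a + x.j.a) % 2 = 0)

theorem icoB_iff {x : Q8} : x.icoB = true ↔ (x.r.a + x.k.b + x.j.b + x.k.a) % 2 = 0 ∧
    (x.r.b + x.j.b + x.k.a + x.j.a) % 2 = 0 ∧ (x.i.a + x.j.a + x.k.b + x.j.b) % 2 = 0 ∧
    (x.i.b + x.k.b + x.k.a + x.j.a) % 2 = 0 := by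
  simp only [icoB, Bool.and_eq_true, decide_eq_true_eq, and_assoc]

theorem beq_iff {x y : Q8} : x.beq y = true ↔ x = y := by
  cases x; cases y; simp [beq, Zt.beq_iff, and_assoc]

theorem sem_add (x y : Q8) : (x.add y).sem = x.sem + y.sem := by
  ext <;> simp [add] <;> ring
theorem sem_sub (x y : Q8) : (x.sub y).sem = x.sem - y.sem := by
  ext <;> simp [sub] <;> ring
theorem sem_conj (x : Q8) : x.conj.sem = star x.sem := by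
  ext <;> simp [conj] <;> ring
theorem sem_sc (n : ℤ) (x : Q8) : (x.sc n).sem = n * x.sem := by
  ext <;> simp [sc] <;> ring
theorem sem_mul (x y : Q8) : (x.mul y).sem = 2 * (x.sem * y.sem) := by
  rw [two_mul]; ext <;> simp [mul] <;> ring
theorem sem_zero : zero.sem = 0 := by ext <;> simp [zero, Zt.sem]
theorem sem_one : one.sem = 1 := by ext <;> simp [one, Zt.sem]
theorem sem_H : H.sem = icoH := by
  ext <;> simp [H, Zt.sem, icoH, sqrt5_eq]; ring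
theorem sem_Hb : Hb.sem = star icoH := by
  rw [← sem_H, ← sem_conj]; rfl

theorem sem_inj {x y : Q8} (h : x.sem = y.sem) : x = y := by
  obtain ⟨a, b, c, d⟩ := x
  obtain ⟨a', b', c', d'⟩ := y
  have h1 := congrArg QuaternionAlgebra.re h
  have h2 := congrArg QuaternionAlgebra.imI h
  have h3 := congrArg QuaternionAlgebra.imJ h
  have h4 := congrArg QuaternionAlgebra.imK h
  simp only [sem_re, sem_imI, sem_imJ, sem_imK] at h1 h2 h3 h4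
  rw [Zt.sem_inj (x := a) (y := a') (by linarith), Zt.sem_inj (x := b) (y := b') (by linarith),
    Zt.sem_inj (x := c) (y := c') (by linarith), Zt.sem_inj (x := d) (y := d') (by linarith)]

theorem dv_sc {n : ℤ} (hn : n ≠ 0) (x : Q8) : (x.sc n).dv n = x := by
  cases x; simp only [dv, sc, Zt.dv_sc hn]

theorem nrm_eq (x : Q8) : (x.nrm.sem : ℍ[ℝ]) = 4 * (x.sem * star x.sem) := by
  rw [show (4 : ℍ[ℝ]) = ((4 : ℝ) : ℍ[ℝ]) by norm_cast, Quaternion.self_mul_star, ← Quaternion.coe_mul,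
    Quaternion.normSq_def']
  congr 1
  simp [nrm]; ring

theorem tq_eq (x : Q8) : x.tq = 2 * x.nrm.a + x.nrm.b := by
  simp only [tq, nrm, Zt.q, Zt.add, Zt.mul, Int.add_def, Int.mul_def]; ring

theorem tq_nonneg (x : Q8) : 0 ≤ x.tq := by
  have := x.r.q_nonneg; have := x.i.q_nonneg; have := x.j.q_nonneg; have := x.k.q_nonneg
  unfold tq; omega

/-- a basis of the icosians -/
def E : List Q8 := [one, ⟨⟨0, 2⟩, ⟨0, 0⟩, ⟨0, 0⟩, ⟨0, 0⟩⟩, ⟨⟨0, 0⟩, ⟨2, 0⟩, ⟨0, 0⟩, ⟨0, 0⟩⟩,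
  ⟨⟨0, 0⟩, ⟨0, 2⟩, ⟨0, 0⟩, ⟨0, 0⟩⟩, ⟨⟨1, 0⟩, ⟨1, 0⟩, ⟨1, 0⟩, ⟨1, 0⟩⟩, ⟨⟨0, 1⟩, ⟨0, 1⟩, ⟨0, 1⟩, ⟨0, 1⟩⟩,
  ⟨⟨1, 0⟩, ⟨1, -1⟩, ⟨0, 0⟩, ⟨0, 1⟩⟩, ⟨⟨0, 1⟩, ⟨-1, 0⟩, ⟨0, 0⟩, ⟨1, 1⟩⟩]

theorem ind (S : AddSubgroup ℍ[ℝ]) (h : ∀ e ∈ E, e.sem ∈ S) {x : Q8} (hx : x.icoB = true) :
    x.sem ∈ S := by
  obtain ⟨⟨ra, rb⟩, ⟨ia, ib⟩, ⟨ja, jb⟩, ⟨ka, kb⟩⟩ := x
  simp only [icoB, Bool.and_eq_true, decide_eq_true_eq] at hx
  obtain ⟨⟨⟨h1, h2⟩, h3⟩, h4⟩ := hx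
  obtain ⟨m7, rfl⟩ : ∃ m7, ka = ja + m7 := ⟨ka - ja, by omega⟩
  obtain ⟨m6, rfl⟩ : ∃ m6, kb = jb + m6 + m7 := ⟨kb - jb - m7, by omega⟩
  obtain ⟨m0, rfl⟩ : ∃ m0, ra = 2 * m0 + ja + m6 := ⟨(ra - ja - m6) / 2, by omega⟩
  obtain ⟨m1, rfl⟩ : ∃ m1, rb = 2 * m1 + jb + m7 := ⟨(rb - jb - m7) / 2, by omega⟩
  obtain ⟨m2, rfl⟩ : ∃ m2, ia = 2 * m2 + ja + m6 - m7 := ⟨(ia - ja - m6 + m7) / 2, by omega⟩
  obtain ⟨m3, rfl⟩ : ∃ m3, ib = 2 * m3 + jb - m6 := ⟨(ib - jb + m6) / 2, by omega⟩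
  simp only [E, List.forall_mem_cons] at h
  obtain ⟨e0, e1, e2, e3, e4, e5, e6, e7, -⟩ := h
  convert add_mem (add_mem (add_mem (zsmul_mem e0 m0) (zsmul_mem e1 m1))
    (add_mem (zsmul_mem e2 m2) (zsmul_mem e3 m3))) (add_mem (add_mem (zsmul_mem e4 ja) (zsmul_mem e5 jb))
    (add_mem (zsmul_mem e6 m6) (zsmul_mem e7 m7))) using 1
  simp only [zsmul_eq_mul, ← sem_sc, ← sem_add]
  congr 1
  simp only [add, sc, Zt.add, Zt.sc, one, Int.add_def, Int.mul_def, Q8.mk.injEq, Zt.mk.injEq]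
  omega

theorem sem_of_sc {x y : Q8} {n : ℤ} (hn : n ≠ 0) (h : x.sem = n * y.sem) : x.dv n = y := by
  rw [← sem_sc] at h
  rw [sem_inj h, dv_sc hn]

theorem two_ne : (2 : ℍ[ℝ]) ≠ 0 := two_ne_zero

theorem sem_hm_of {x y : Q8} (h : (x.mul y).beq ((x.hm y).sc 2) = true) :
    (x.hm y).sem = x.sem * y.sem := by
  have := congrArg sem (beq_iff.mp h)
  rw [sem_mul, sem_sc] at this
  exact mul_left_cancel₀ two_ne (by exact_mod_cast this.symm)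

/-- the quaternions with admissible coordinates -/
def M : AddSubgroup ℍ[ℝ] where
  carrier := {x | ∃ y : Q8, y.icoB = true ∧ y.sem = x}
  zero_mem' := ⟨zero, by decide, sem_zero⟩
  add_mem' := by
    rintro _ _ ⟨x, hx, rfl⟩ ⟨y, hy, rfl⟩
    refine ⟨x.add y, ?_, sem_add x y⟩
    rw [icoB_iff] at hx hy ⊢
    simp only [add, Zt.add, Int.add_def]
    refine ⟨?_, ?_, ?_, ?_⟩ <;> omega
  neg_mem' := by
    rintro _ ⟨x, hx, rfl⟩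
    refine ⟨zero.sub x, ?_, by rw [sem_sub, sem_zero, zero_sub]⟩
    rw [icoB_iff] at hx ⊢
    show (0 - x.r.a + (0 - x.k.b) + (0 - x.j.b) + (0 - x.k.a)) % 2 = 0 ∧
      (0 - x.r.b + (0 - x.j.b) + (0 - x.k.a) + (0 - x.j.a)) % 2 = 0 ∧
      (0 - x.i.a + (0 - x.j.a) + (0 - x.k.b) + (0 - x.j.b)) % 2 = 0 ∧
      (0 - x.i.b + (0 - x.k.b) + (0 - x.k.a) + (0 - x.j.a)) % 2 = 0
    omega

theorem E_mul : (allL E fun x => allL E fun y =>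
    (x.hm y).icoB && (x.mul y).beq ((x.hm y).sc 2)) = true := by decide +kernel

theorem M_mul {x y : ℍ[ℝ]} (hx : x ∈ M) (hy : y ∈ M) : x * y ∈ M := by
  obtain ⟨x, hx, rfl⟩ := hx
  obtain ⟨y, hy, rfl⟩ := hy
  refine ind (M.comap (AddMonoidHom.mulRight y.sem)) (fun e he => ?_) hx
  refine ind (M.comap (AddMonoidHom.mulLeft e.sem)) (fun f hf => ?_) hy
  have := (allL_iff _ _).mp ((allL_iff _ _).mp E_mul e he) f hf
  rw [Bool.and_eq_true] at this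
  exact ⟨_, this.1, sem_hm_of this.2⟩

theorem sem_I : sem ⟨⟨0, 0⟩, ⟨2, 0⟩, ⟨0, 0⟩, ⟨0, 0⟩⟩ = qI := by ext <;> simp [Zt.sem, qI]

theorem sem_G : sem ⟨⟨1, 0⟩, ⟨1, -1⟩, ⟨0, 0⟩, ⟨0, 1⟩⟩ = ⟨1 / 2, sig / 2, 0, tau / 2⟩ := by
  ext <;> simp [Zt.sem, sig_eq]; ring

theorem exists_of_mem {x : ℍ[ℝ]} (hx : x ∈ icosians) : ∃ y : Q8, y.icoB = true ∧ y.sem = x := by
  have : icosians ≤ ({ M with
      one_mem' := ⟨one, by decide, sem_one⟩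
      mul_mem' := M_mul } : Subring ℍ[ℝ]) := by
    rw [icosians, Subring.closure_le]
    rintro _ (rfl | rfl)
    · exact ⟨_, by decide, sem_I⟩
    · exact ⟨_, by decide, sem_G⟩
  exact this hx

theorem mem_hm {x y : Q8} (hx : x.sem ∈ icosians) (hy : y.sem ∈ icosians) {z : Q8}
    (h : (x.mul y).beq (z.sc 2) = true) : z.sem ∈ icosians := by
  have := congrArg sem (beq_iff.mp h)
  rw [sem_mul, sem_sc] at this
  rw [← mul_left_cancel₀ two_ne (by exact_mod_cast this : 2 * (x.sem * y.sem) = 2 * z.sem)]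
  exact mul_mem hx hy

theorem mem_of_icoB {x : Q8} (hx : x.icoB = true) : x.sem ∈ icosians := by
  have hi : sem ⟨⟨0, 0⟩, ⟨2, 0⟩, ⟨0, 0⟩, ⟨0, 0⟩⟩ ∈ icosians :=
    sem_I ▸ Subring.subset_closure (Or.inl rfl)
  have hg : sem ⟨⟨1, 0⟩, ⟨1, -1⟩, ⟨0, 0⟩, ⟨0, 1⟩⟩ ∈ icosians :=
    sem_G ▸ Subring.subset_closure (Or.inr rfl)
  have a2 : sem ⟨⟨-2, 0⟩, ⟨0, 0⟩, ⟨0, 0⟩, ⟨0, 0⟩⟩ ∈ icosians := mem_hm hi hi (by decide)
  have a3 : sem ⟨⟨0, 0⟩, ⟨-2, 0⟩, ⟨0, 0⟩, ⟨0, 0⟩⟩ ∈ icosians := mem_hm a2 hi (by decide)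
  have a4 : sem ⟨⟨1, -1⟩, ⟨-1, 0⟩, ⟨0, 1⟩, ⟨0, 0⟩⟩ ∈ icosians := mem_hm a3 hg (by decide)
  have a5 : sem ⟨⟨1, 0⟩, ⟨1, -1⟩, ⟨0, 0⟩, ⟨0, -1⟩⟩ ∈ icosians := mem_hm a4 hi (by decide)
  have a6 : sem ⟨⟨0, 1⟩, ⟨1, -1⟩, ⟨1, 0⟩, ⟨0, 0⟩⟩ ∈ icosians := mem_hm a5 hg (by decide)
  have a7 : sem ⟨⟨-1, 1⟩, ⟨0, 1⟩, ⟨0, 0⟩, ⟨-1, 0⟩⟩ ∈ icosians := mem_hm a6 hi (by decide)
  have a8 : sem ⟨⟨0, 1⟩, ⟨-1, 1⟩, ⟨-1, 0⟩, ⟨0, 0⟩⟩ ∈ icosians := mem_hm a7 hg (by decide)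
  have a9 : sem ⟨⟨1, 0⟩, ⟨-1, 0⟩, ⟨-1, 0⟩, ⟨1, 0⟩⟩ ∈ icosians := mem_hm a8 hg (by decide)
  have a10 : sem ⟨⟨1, 0⟩, ⟨1, 0⟩, ⟨1, 0⟩, ⟨1, 0⟩⟩ ∈ icosians := mem_hm a9 hi (by decide)
  have ht : sem ⟨⟨0, 2⟩, ⟨0, 0⟩, ⟨0, 0⟩, ⟨0, 0⟩⟩ ∈ icosians := by
    have := add_mem a6 a8
    rwa [← sem_add] at this
  have hw := a10
  refine ind icosians.toAddSubgroup (fun e he => ?_) hx
  simp only [E, List.mem_cons, List.not_mem_nil, or_false] at he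
  rcases he with rfl | rfl | rfl | rfl | rfl | rfl | rfl | rfl
  · exact sem_one ▸ icosians.one_mem
  · exact ht
  · exact hi
  · exact mem_hm ht hi (by decide)
  · exact hw
  · exact mem_hm ht hw (by decide)
  · exact hg
  · exact mem_hm ht hg (by decide)

theorem sem_hm {x y : Q8} (hx : x.icoB = true) (hy : y.icoB = true) :
    (x.hm y).icoB = true ∧ (x.hm y).sem = x.sem * y.sem := by
  obtain ⟨z, h1, h2⟩ := M_mul ⟨x, hx, rfl⟩ ⟨y, hy, rfl⟩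
  have : x.hm y = z := sem_of_sc (by norm_num) (by rw [sem_mul, h2]; norm_num)
  rw [this]; exact ⟨h1, h2⟩

/-- membership in the left ideal generated by the conjugate of `c` -/
def idealB (c x : Q8) : Bool := (x.mul c).beq (((x.mul c).dv 4).sc 4) && ((x.mul c).dv 4).icoB

theorem idealB_iff {c x : Q8} (hc : c.sem * star c.sem = 2) :
    idealB c x = true ↔ x.sem ∈ leftIdeal (star c.sem) := by
  have hc' : star c.sem * c.sem = 2 := by rw [← hc, Quaternion.star_mul_self, Quaternion.self_mul_star]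
  rw [idealB, Bool.and_eq_true, beq_iff]
  constructor
  · rintro ⟨h1, h2⟩
    refine ⟨_, mem_of_icoB h2, ?_⟩
    have := congrArg sem h1
    rw [sem_mul, sem_sc] at this
    generalize ((x.mul c).dv 4).sem = a at this
    apply mul_left_cancel₀ (show (4 : ℍ[ℝ]) ≠ 0 by norm_num)
    push_cast at this
    rw [← mul_assoc, ← this, mul_assoc, mul_assoc, hc]
    noncomm_ring
  · rintro ⟨a, ha, h⟩
    obtain ⟨y, hy, rfl⟩ := exists_of_mem ha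
    have e : (x.mul c).sem = ((4 : ℤ) : ℍ[ℝ]) * y.sem := by
      rw [sem_mul, h, mul_assoc, hc']; push_cast; noncomm_ring
    rw [sem_of_sc (by norm_num) e]
    exact ⟨sem_inj (by rw [e, sem_sc]), hy⟩

end Q8

theorem star_mem_ico {x : ℍ[ℝ]} (hx : x ∈ icosians) : star x ∈ icosians := by
  obtain ⟨y, hy, rfl⟩ := Q8.exists_of_mem hx
  rw [← Q8.sem_conj]
  apply Q8.mem_of_icoB
  simp only [Q8.icoB, Q8.conj, Zt.neg, show ∀ a, Int.neg a = -a from fun _ => rfl,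
    Bool.and_eq_true, decide_eq_true_eq] at hy ⊢
  omega

theorem icoH_mem : icoH ∈ icosians := Q8.sem_H ▸ Q8.mem_of_icoB (by decide)

theorem icoH_norm : icoH * star icoH = 2 := by
  have := Q8.nrm_eq Q8.H
  rw [Q8.sem_H, show Q8.H.nrm = ⟨8, 0⟩ from rfl] at this
  apply mul_left_cancel₀ (show (4 : ℍ[ℝ]) ≠ 0 by norm_num)
  rw [← this, show (4 * 2 : ℍ[ℝ]) = ((8 : ℕ) : ℍ[ℝ]) by norm_num, ← Quaternion.coe_natCast]
  simp [Zt.sem]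

theorem icoH_norm' : star icoH * icoH = 2 := by
  rw [← icoH_norm, Quaternion.star_mul_self, Quaternion.self_mul_star]

theorem idealB_H {x : Q8} : Q8.idealB Q8.Hb x = true ↔ x.sem ∈ leftIdeal icoH := by
  rw [Q8.idealB_iff (by rw [Q8.sem_Hb, star_star, icoH_norm']), Q8.sem_Hb, star_star]

theorem idealB_Hb {x : Q8} : Q8.idealB Q8.H x = true ↔ x.sem ∈ leftIdeal (star icoH) := by
  rw [Q8.idealB_iff (by rw [Q8.sem_H, icoH_norm]), Q8.sem_H]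

end Cfsg.Agent.H9
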