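import Cfsg.Agent.H9.SS

/-! Numbered actions on orbits given by codes; order bounds from Schreier generators. -/

set_option autoImplicit false

namespace Cfsg.Agent.H9

open Cfsg.Agent.L0 (ev ev_nil ev_cons ev_append ev_mem)

/-- a family of points invariant under generators gives an action of the image group -/
theorem exists_ra_gen {Γ G X : Type*} [Group Γ] [Group G] {N k : ℕ} (r : X → Γ → X)
    (r1 : ∀ x, r x 1 = x) (rm : ∀ x a b, r x (a * b) = r (r x a) b) (f : Γ →* G)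
    (hf : Function.Surjective f) (v : ℕ → X) (hinj : ∀ c < N, ∀ d < N, v c = v d → c = d)
    (hker : ∀ x, f x = 1 → ∀ c < N, r (v c) x = v c) (g : ℕ → Γ) {T : ℕ → ℕ → ℕ}
    (hT : ∀ s < k, ∀ c < N, T c s < N ∧ r (v c) (g s) = v (T c s))
    (hgen : ∀ S : Subgroup Γ, (∀ s < k, g s ∈ S) → S = ⊤) :
    ∃ A : RA G N, A.Tab (fun s => f (g s)) k T ∧
      ∀ x : Γ, ∀ c < N, v (A.act c (f x)) = r (v c) x := by
  classical
  have rinv : ∀ x a, r (r x a) a⁻¹ = x := fun x a => by rw [← rm, mul_inv_cancel, r1]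
  let S : Subgroup Γ :=
    { carrier := {x | ∀ c < N, ∃ d < N, r (v c) x = v d}
      one_mem' := fun c hc => ⟨c, hc, r1 _⟩
      mul_mem' := by
        intro x y hx hy c hc
        obtain ⟨d, hd, h1⟩ := hx c hc
        obtain ⟨e, he, h2⟩ := hy d hd
        exact ⟨e, he, by rw [rm, h1, h2]⟩
      inv_mem' := by
        intro x hx
        choose F hF1 hF2 using hx
        let F' : Fin N → Fin N := fun c => ⟨F c.1 c.2, hF1 _ _⟩
        have hF : Function.Injective F' := by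
          intro a b h
          have h' : F a.1 a.2 = F b.1 b.2 := congrArg Fin.val h
          refine Fin.ext (hinj _ a.2 _ b.2 ?_)
          rw [← rinv (v a) x, hF2 a.1 a.2, h', ← hF2 b.1 b.2, rinv]
        intro c hc
        obtain ⟨d, hd⟩ := Finite.surjective_of_injective hF ⟨c, hc⟩
        have h' : F d.1 d.2 = c := congrArg Fin.val hd
        exact ⟨d.1, d.2, by rw [← h', ← hF2, rinv]⟩ }
  have hS : S = ⊤ := hgen S fun s hs c hc => ⟨_, (hT s hs c hc).1, (hT s hs c hc).2⟩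
  have hwd : ∀ x x', f x = f x' → ∀ c < N, r (v c) x = r (v c) x' := by
    intro x x' h c hc
    rw [← inv_mul_cancel_right x x', rm, hker _ (by simp [h]) c hc]
  have hex : ∀ y : G, ∀ c < N, ∃ d < N, ∀ x, f x = y → r (v c) x = v d := by
    intro y c hc
    obtain ⟨x, rfl⟩ := hf y
    obtain ⟨d, hd, h⟩ := (hS ▸ Subgroup.mem_top x : x ∈ S) c hc
    exact ⟨d, hd, fun x' hx' => (hwd _ _ hx' c hc).trans h⟩
  choose F hF1 hF2 using hex
  let A : RA G N :=
    { act := fun c y => if h : c < N then F y c h else c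
      lt := fun hc y => by rw [dif_pos hc]; exact hF1 _ _ _
      one := fun hc => by
        rw [dif_pos hc]
        exact hinj _ (hF1 _ _ _) _ hc (by rw [← hF2 1 _ hc 1 (by simp), r1])
      mul := by
        intro c hc y z
        obtain ⟨x, hx⟩ := hf y
        obtain ⟨x', hx'⟩ := hf z
        rw [dif_pos hc, dif_pos hc, dif_pos (hF1 _ _ _)]
        refine hinj _ (hF1 _ _ _) _ (hF1 _ _ _) ?_
        rw [← hF2 _ _ hc (x * x') (by simp [hx, hx']), rm, hF2 y _ hc x hx, hF2 z _ _ x' hx'] }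
  have key : ∀ x : Γ, ∀ c < N, v (A.act c (f x)) = r (v c) x := by
    intro x c hc
    show v (dite _ _ _) = _
    rw [dif_pos hc]
    exact (hF2 (f x) _ hc x rfl).symm
  exact ⟨A, fun s hs c hc =>
    hinj _ (hT s hs c hc).1 _ (A.lt hc _) (by rw [key _ c hc, (hT s hs c hc).2]), key⟩

/-- the point `c`: its images, its parent and the order of the codes -/
noncomputable def orbB (step : ℕ → ℕ → ℕ) (V : ℕ → ℕ) (T : ℕ → ℕ → ℕ) (par ord : ℕ → ℕ)
    (N k m c : ℕ) : Bool :=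
  (allLt k fun s => Nat.rec (motive := fun _ => Bool) false
    (fun d _ => Nat.blt d N && Nat.beq (step (V c) s) (V d)) (Nat.succ (T c s))) &&
  (Nat.blt c m || Nat.rec (motive := fun _ => Bool) false
    (fun p _ => Nat.blt (Nat.shiftRight p 3) c && Nat.blt (Nat.land p 7) k &&
      Nat.beq (T (Nat.shiftRight p 3) (Nat.land p 7)) c) (Nat.succ (par c))) &&
  Nat.blt (ord c) N && (Nat.beq c 0 || Nat.blt (V (ord (Nat.pred c))) (V (ord c)))

/-- the coded points form an invariant family -/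
theorem exists_family {X : Type*} (Rep : ℕ → X → Prop)
    (h1 : ∀ {a x y}, Rep a x → Rep a y → x = y) (h2 : ∀ {a b x}, Rep a x → Rep b x → a = b)
    (ρ : X → ℕ → X) {step : ℕ → ℕ → ℕ} {k : ℕ}
    (hstep : ∀ s < k, ∀ a x, Rep a x → Rep (step a s) (ρ x s)) {V : ℕ → ℕ} {T : ℕ → ℕ → ℕ}
    {par ord : ℕ → ℕ} {N m : ℕ} [Nonempty X] (h0 : ∀ c < m, ∃ x, Rep (V c) x)
    (h : ∀ c < N, orbB step V T par ord N k m c = true) :
    ∃ v : ℕ → X, (∀ c < N, Rep (V c) (v c)) ∧ (∀ c < N, ∀ d < N, v c = v d → c = d) ∧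
      ∀ s < k, ∀ c < N, T c s < N ∧ ρ (v c) s = v (T c s) := by
  have spec : ∀ c < N, (∀ s < k, T c s < N ∧ step (V c) s = V (T c s)) ∧
      (c < m ∨ ∃ p < c, ∃ s < k, T p s = c) ∧ ord c < N ∧ (c = 0 ∨ V (ord (c - 1)) < V (ord c)) := by
    intro c hc
    have := h c hc
    simp only [orbB, Bool.and_eq_true, Bool.or_eq_true, allLt_iff, Nat.blt_eq, Nat.beq_eq] at this
    obtain ⟨⟨⟨a1, a2⟩, a3⟩, a4⟩ := this
    refine ⟨a1, a2.imp id fun a2 => ⟨_, a2.1.1, _, a2.1.2, a2.2⟩, a3, a4⟩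
  have hex : ∀ c < N, ∃ x, Rep (V c) x := by
    intro c
    induction c using Nat.strong_induction_on with
    | _ c ih =>
      intro hc
      rcases (spec c hc).2.1 with h3 | ⟨p, hp, s, hs, rfl⟩
      · exact h0 c h3
      · obtain ⟨x, hx⟩ := ih p hp (hp.trans hc)
        exact ⟨_, ((spec p (hp.trans hc)).1 s hs).2 ▸ hstep s hs _ _ hx⟩
  choose! v hv using hex
  have i1 := inj_of_incr (V := fun i => V (ord i)) fun c hc => (spec c hc).2.2.2
  let F : Fin N → Fin N := fun i => ⟨ord i, (spec i i.2).2.2.1⟩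
  have hF : Function.Injective F := fun i j e =>
    Fin.ext (i1 _ i.2 _ j.2 (congrArg (fun z : Fin N => V z) e))
  have hsur := Finite.surjective_of_injective hF
  refine ⟨v, hv, fun c hc d hd e => ?_, fun s hs c hc => ⟨((spec c hc).1 s hs).1, ?_⟩⟩
  · obtain ⟨i, hi⟩ := hsur ⟨c, hc⟩
    obtain ⟨j, hj⟩ := hsur ⟨d, hd⟩
    have hi' : ord i = c := congrArg Fin.val hi
    have hj' : ord j = d := congrArg Fin.val hj
    have := i1 _ i.2 _ j.2 (by rw [hi', hj']; exact h2 (hv c hc) (e ▸ hv d hd))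
    rw [← hi', ← hj', this]
  · exact h1 (((spec c hc).1 s hs).2 ▸ hstep s hs _ _ (hv c hc)) (hv _ ((spec c hc).1 s hs).1)

/-- conjugation by an involution, on codes -/
noncomputable def conjStep (mul : ℕ → ℕ → ℕ) (V : ℕ → ℕ) (a s : ℕ) : ℕ := mul (mul (V s) a) (V s)

/-- the action by conjugation on a class of generating involutions -/
theorem exists_ra_conj {Γ : Type*} [Group Γ] (Rep : ℕ → Γ → Prop)
    (h1 : ∀ {a x y}, Rep a x → Rep a y → x = y) (h2 : ∀ {a b x}, Rep a x → Rep b x → a = b)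
    {step : ℕ → ℕ → ℕ} {k : ℕ} {g : ℕ → Γ}
    (hstep : ∀ s < k, ∀ a x, Rep a x → Rep (step a s) ((g s)⁻¹ * x * g s)) {V : ℕ → ℕ}
    {T : ℕ → ℕ → ℕ} {par ord : ℕ → ℕ} {N : ℕ} (hk : k ≤ N) (h0 : ∀ c < k, Rep (V c) (g c))
    (h : ∀ c < N, orbB step V T par ord N k k c = true)
    (hgen : ∀ S : Subgroup Γ, (∀ s < k, g s ∈ S) → S = ⊤) :
    ∃ (A : RA (Γ ⧸ Subgroup.center Γ) N) (v : ℕ → Γ),
      A.Tab (fun s => QuotientGroup.mk (g s)) k T ∧ A.IsBase (List.range k) ∧
      (∀ c < N, Rep (V c) (v c)) ∧ (∀ c < N, ∀ d < N, v c = v d → c = d) ∧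
      ∀ x : Γ, ∀ c < N, v (A.act c (QuotientGroup.mk x)) = x⁻¹ * v c * x := by
  obtain ⟨v, a1, a2, a3⟩ := exists_family Rep h1 h2 (fun x s => (g s)⁻¹ * x * g s) hstep
    (fun c hc => ⟨_, h0 c hc⟩) h
  obtain ⟨A, b1, b2⟩ := exists_ra_gen (fun y x : Γ => x⁻¹ * y * x) (by simp) (by simp [mul_assoc])
    (QuotientGroup.mk' (Subgroup.center Γ)) (QuotientGroup.mk'_surjective _) v a2
    (fun x hx c _ => by
      have := Subgroup.mem_center_iff.mp ((QuotientGroup.eq_one_iff x).mp hx) (v c)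
      show x⁻¹ * v c * x = v c
      rw [mul_assoc, this, inv_mul_cancel_left]) g a3 hgen
  refine ⟨A, v, b1, ⟨fun b hb => (List.mem_range.mp hb).trans_le hk, fun y hy => ?_⟩, a1, a2, b2⟩
  obtain ⟨x, rfl⟩ := QuotientGroup.mk_surjective y
  rw [QuotientGroup.eq_one_iff, Subgroup.mem_center_iff]
  have := hgen (Subgroup.centralizer {x}) fun s hs => by
    have e := b2 x s (hs.trans_le hk)
    rw [show QuotientGroup.mk' _ x = QuotientGroup.mk x from rfl, hy s (List.mem_range.mpr hs),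
      h1 (a1 s (hs.trans_le hk)) (h0 s hs)] at e
    rw [Subgroup.mem_centralizer_singleton_iff]
    rw [mul_assoc, eq_inv_mul_iff_mul_eq] at e
    exact e.symm
  intro z
  exact Subgroup.mem_centralizer_singleton_iff.mp (this ▸ Subgroup.mem_top z)

namespace SS

/-- number of members in a block of length `2 ^ d` -/
noncomputable def cntP (L : SS) (d : ℕ) : ℕ → ℕ :=
  Nat.rec (motive := fun _ => ℕ → ℕ)
    (fun lo => Bool.rec (motive := fun _ => ℕ) 0 1 (L.mem lo))
    (fun d ih lo => Nat.add (ih lo) (ih (Nat.add lo (Nat.pow 2 d)))) d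

theorem cnt_add (L : SS) (d lo : ℕ) : L.cnt (lo + 2 ^ d) = L.cnt lo + L.cntP d lo := by
  induction d generalizing lo with
  | zero =>
    show Bool.rec (motive := fun _ => ℕ) (L.cnt lo) (L.cnt lo + 1) (L.mem lo) =
      L.cnt lo + Bool.rec (motive := fun _ => ℕ) 0 1 (L.mem lo)
    cases L.mem lo <;> rfl
  | succ d ih =>
    show _ = L.cnt lo + (L.cntP d lo + L.cntP d (lo + 2 ^ d))
    rw [pow_succ, mul_two, ← add_assoc, ih, ih, add_assoc]

theorem cnt_le_of (L : SS) {N d : ℕ} (h : (Nat.ble N (2 ^ d) && Nat.ble (L.cntP d 0) L.n) = true) :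
    L.cnt N ≤ L.n := by
  simp only [Bool.and_eq_true, Nat.ble_eq] at h
  have h1 := L.cnt_add d 0
  have h2 : L.cnt 0 = 0 := rfl
  rw [zero_add, h2, zero_add] at h1
  refine le_trans ?_ (h1 ▸ h.2)
  rw [cnt_eq, cnt_eq]
  exact Finset.card_le_card (Finset.filter_subset_filter _ (Finset.range_subset_range.mpr h.1))

theorem cnt_le_self (L : SS) {N : ℕ} (h : Nat.ble N L.n = true) : L.cnt N ≤ L.n := by
  rw [cnt_eq]
  exact (Finset.card_filter_le _ _).trans (by simpa using h)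

end SS

namespace RA

variable {G : Type*} [Group G] {N : ℕ} {A : RA G N}

theorem IsBase.finite {B : List ℕ} (h : A.IsBase B) : Finite G := by
  let F : G → ({b // b ∈ B} → Fin N) := fun x b => ⟨A.act b x, A.lt (h.1 _ b.2) x⟩
  haveI : Finite {b // b ∈ B} := (List.finite_toSet B).to_subtype
  refine Finite.of_injective F fun x y e => ?_
  refine h.eq (X := fun c => A.act c x) (Y := fun c => A.act c y) (fun _ _ => rfl) (fun _ _ => rfl) ?_
  rw [agree, allL_iff]
  intro b hb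
  have : A.act b x = A.act b y := congrArg (fun φ => (φ ⟨b, hb⟩ : ℕ)) e
  simp [this]

/-- the order bound -/
theorem card_le_ss {g0 : ℕ → G} {k0 k : ℕ} {T : ℕ → ℕ → ℕ} (hT : A.Tab g0 k0 T) {B : List ℕ}
    (hB : A.IsBase B) (hgen : ∀ S : Subgroup G, (∀ s < k0, g0 s ∈ S) → S = ⊤)
    {SW : List (ℕ × List ℕ)} {iv : ℕ → List ℕ} {Ls : List SS}
    (hW : (slp2W SW k0 && Nat.beq (k0 + SW.length) k && allLt k0 (tb (nextM Ls))) = true)
    (hslp : ∀ c < N, slp2B T SW k0 c = true) (h : SSChk T N k B iv Ls) :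
    Nat.card G ≤ ssOrd Ls ∧ ∃ g : ℕ → G, A.Tab g k T ∧ ∀ s < k0, g s = g0 s := by
  simp only [Bool.and_eq_true, Nat.beq_eq, allLt_iff, tb_eq] at hW
  obtain ⟨g, h1, h2⟩ := hT.extend2 hW.1.1 hslp
  rw [hW.1.2] at h1
  haveI := hB.finite
  refine ⟨?_, g, h1, h2⟩
  have h3 := ss_le h1 hB h
  rwa [hgen (genM g k (nextM Ls)) fun s hs => Subgroup.subset_closure
    ⟨s, by omega, hW.2 s hs, (h2 s hs).symm⟩, Subgroup.card_top] at h3

end RA

theorem gen_map {Γ G : Type*} [Group Γ] [Group G] {g : ℕ → Γ} {k : ℕ}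
    (hgen : ∀ S : Subgroup Γ, (∀ s < k, g s ∈ S) → S = ⊤) (f : Γ →* G) (hf : Function.Surjective f) :
    ∀ S : Subgroup G, (∀ s < k, f (g s) ∈ S) → S = ⊤ := fun S hS => by
  rw [eq_top_iff]
  intro y _
  obtain ⟨x, rfl⟩ := hf y
  exact (hgen (S.comap f) hS ▸ Subgroup.mem_top x : x ∈ S.comap f)

end Cfsg.Agent.H9
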