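import Cfsg.Agent.H9.IcoRefl
import Cfsg.Agent.H9.ModelRA

/-! Classification of the minimal vectors of the icosian lattice, from finite checks. -/

set_option autoImplicit false

namespace Cfsg.Agent.H9

open Cfsg.Spor Quaternion

/-- the vector with given coordinates -/
noncomputable def semV (a b c : Q8) : Fin 3 → ℍ[ℝ] := ![a.sem, b.sem, c.sem]

/-- coordinates of a projection -/
structure PJ where
  n0 : Zt
  n1 : Zt
  n2 : Zt
  p : Q8
  q : Q8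
  s : Q8

/-- the projection of a vector -/
def pj (a b c : Q8) : PJ := ⟨a.nrm, b.nrm, c.nrm, a.conj.mul b, a.conj.mul c, b.conj.mul c⟩

namespace PJ
def sc (m : ℤ) (x : PJ) : PJ := ⟨x.n0.sc m, x.n1.sc m, x.n2.sc m, x.p.sc m, x.q.sc m, x.s.sc m⟩
def beq (x y : PJ) : Bool := x.n0.beq y.n0 && x.n1.beq y.n1 && x.n2.beq y.n2 && x.p.beq y.p &&
  x.q.beq y.q && x.s.beq y.s
theorem beq_iff {x y : PJ} : x.beq y = true ↔ x = y := by
  cases x; cases y; simp [beq, Zt.beq_iff, Q8.beq_iff, and_assoc]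
end PJ

def eZ (x : Zt) (acc : ℕ) : ℕ :=
  Nat.add (Int.toNat (Int.add x.a 32)) (Nat.mul 64 (Nat.add (Int.toNat (Int.add x.b 32)) (Nat.mul 64 acc)))
def eQ (x : Q8) (acc : ℕ) : ℕ := eZ x.r (eZ x.i (eZ x.j (eZ x.k acc)))
def encP (x : PJ) : ℕ := eZ x.n0 (eZ x.n1 (eZ x.n2 (eQ x.p (eQ x.q (eQ x.s 0)))))
def dZ (n i : ℕ) : Zt := ⟨Int.subNatNat (Nat.land (Nat.shiftRight n i) 63) 32,
  Int.subNatNat (Nat.land (Nat.shiftRight n (Nat.add i 6)) 63) 32⟩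
def dQ (n i : ℕ) : Q8 := ⟨dZ n i, dZ n (Nat.add i 12), dZ n (Nat.add i 24), dZ n (Nat.add i 36)⟩
def decP (n : ℕ) : PJ := ⟨dZ n 0, dZ n 12, dZ n 24, dQ n 36, dQ n 84, dQ n 132⟩

theorem nrm_iff {x y : Q8} {m : ℤ} :
    x.nrm = y.nrm.sc m ↔ star x.sem * x.sem = m * (star y.sem * y.sem) := by
  have h1 := x.nrm_eq
  have h2 := y.nrm_eq
  rw [Quaternion.self_mul_star, ← Quaternion.star_mul_self] at h1 h2
  constructor
  · intro h
    rw [h, Zt.sem_sc] at h1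
    apply mul_left_cancel₀ (show (4 : ℍ[ℝ]) ≠ 0 by norm_num)
    rw [← h1, Quaternion.coe_mul, h2, Quaternion.coe_intCast, ← mul_assoc (m : ℍ[ℝ]),
      Int.cast_comm m (4 : ℍ[ℝ]), mul_assoc]
  · intro h
    apply Zt.sem_inj
    apply Quaternion.coe_injective
    rw [h1, h, Zt.sem_sc, Quaternion.coe_mul, h2, Quaternion.coe_intCast, ← mul_assoc (m : ℍ[ℝ]) 4,
      Int.cast_comm m (4 : ℍ[ℝ]), mul_assoc]

theorem cm_iff {x y z w : Q8} {m : ℤ} :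
    x.conj.mul y = (z.conj.mul w).sc m ↔ star x.sem * y.sem = m * (star z.sem * w.sem) := by
  constructor
  · intro h
    have := congrArg Q8.sem h
    rw [Q8.sem_sc, Q8.sem_mul, Q8.sem_mul, Q8.sem_conj, Q8.sem_conj, ← mul_assoc (m : ℍ[ℝ]),
      Int.cast_comm m 2, mul_assoc] at this
    exact mul_left_cancel₀ Q8.two_ne this
  · intro h
    apply Q8.sem_inj
    rw [Q8.sem_sc, Q8.sem_mul, Q8.sem_mul, Q8.sem_conj, Q8.sem_conj, ← mul_assoc (m : ℍ[ℝ]),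
      Int.cast_comm m 2, mul_assoc, h]

theorem pj_iff {a b c a' b' c' : Q8} {m : ℤ} : pj a b c = (pj a' b' c').sc m ↔
    ∀ i j, star (semV a b c i) * semV a b c j = m * (star (semV a' b' c' i) * semV a' b' c' j) := by
  simp only [pj, PJ.sc, PJ.mk.injEq, nrm_iff, cm_iff]
  constructor
  · rintro ⟨h0, h1, h2, h3, h4, h5⟩ i j
    have st : ∀ {x y z w : ℍ[ℝ]}, star x * y = m * (star z * w) → star y * x = m * (star w * z) :=
      fun h => by simpa [star_mul, Int.cast_comm] using congrArg star h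
    fin_cases i <;> fin_cases j
    exacts [h0, h3, h4, st h3, h1, h5, st h4, st h5, h2]
  · intro h
    exact ⟨h 0 0, h 1 1, h 2 2, h 0 1, h 0 2, h 1 2⟩

theorem PJ.sc_one (x : PJ) : x.sc 1 = x := by
  obtain ⟨⟨_, _⟩, ⟨_, _⟩, ⟨_, _⟩, ⟨⟨_, _⟩, ⟨_, _⟩, ⟨_, _⟩, ⟨_, _⟩⟩, ⟨⟨_, _⟩, ⟨_, _⟩, ⟨_, _⟩, ⟨_, _⟩⟩,
    ⟨⟨_, _⟩, ⟨_, _⟩, ⟨_, _⟩, ⟨_, _⟩⟩⟩ := x
  simp [PJ.sc, Q8.sc, Zt.sc]

theorem pj_iff' {a b c a' b' c' : Q8} :
    pj a b c = pj a' b' c' ↔ SameP (semV a b c) (semV a' b' c') := by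
  rw [← (pj a' b' c').sc_one, pj_iff]; simp [SameP]

theorem qip_semV (a b c : Q8) :
    4 * qip (semV a b c) (semV a b c) = (((a.nrm.add b.nrm).add c.nrm).sem : ℝ) := by
  rw [qip_eq, Zt.sem_add, Zt.sem_add, Quaternion.coe_add, Quaternion.coe_add, Q8.nrm_eq, Q8.nrm_eq,
    Q8.nrm_eq, mul_add, mul_add]; rfl

/-- test for a minimal vector -/
def minB (a b c : Q8) : Bool := a.icoB && b.icoB && c.icoB && Q8.idealB Q8.Hb (a.sub b) &&
  Q8.idealB Q8.Hb (b.sub c) && Q8.idealB Q8.H ((a.add b).add c) &&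
  ((a.nrm.add b.nrm).add c.nrm).beq ⟨16, 0⟩

theorem coe16 : (((⟨16, 0⟩ : Zt).sem : ℝ) : ℍ[ℝ]) = 4 * 4 := by
  rw [show (4 * 4 : ℍ[ℝ]) = ((16 : ℕ) : ℍ[ℝ]) by norm_num, ← Quaternion.coe_natCast]
  simp [Zt.sem]

theorem isMin4_of {a b c : Q8} (h : minB a b c = true) : IsMin4 (semV a b c) := by
  simp only [minB, Bool.and_eq_true, idealB_H, idealB_Hb, Zt.beq_iff, Q8.sem_sub, Q8.sem_add] at h
  obtain ⟨⟨⟨⟨⟨⟨h1, h2⟩, h3⟩, h4⟩, h5⟩, h6⟩, h7⟩ := h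
  refine ⟨⟨fun t => ?_, h4, h5, h6⟩, mul_left_cancel₀ (show (4 : ℍ[ℝ]) ≠ 0 by norm_num) ?_⟩
  · fin_cases t
    exacts [Q8.mem_of_icoB h1, Q8.mem_of_icoB h2, Q8.mem_of_icoB h3]
  · rw [qip_semV, h7, coe16]

theorem nrm_of_min {a b c : Q8} (h : IsMin4 (semV a b c)) :
    (a.nrm.add b.nrm).add c.nrm = ⟨16, 0⟩ :=
  Zt.sem_inj (Quaternion.coe_injective (by rw [← qip_semV, h.2, coe16]))

theorem exists_semV {r : Fin 3 → ℍ[ℝ]} (h : r ∈ icoLeech) :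
    ∃ a b c : Q8, a.icoB = true ∧ b.icoB = true ∧ c.icoB = true ∧ r = semV a b c := by
  obtain ⟨a, ha, ea⟩ := Q8.exists_of_mem (h.1 0)
  obtain ⟨b, hb, eb⟩ := Q8.exists_of_mem (h.1 1)
  obtain ⟨c, hc, ec⟩ := Q8.exists_of_mem (h.1 2)
  refine ⟨a, b, c, ha, hb, hc, funext fun t => ?_⟩
  fin_cases t
  exacts [ea.symm, eb.symm, ec.symm]

theorem tq_sum {a b c : Q8} {n : ℤ} (h : (a.nrm.add b.nrm).add c.nrm = ⟨n, 0⟩) :
    a.tq + b.tq + c.tq = 2 * n := by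
  simp only [Zt.add, Int.add_def, Zt.mk.injEq] at h
  rw [Q8.tq_eq, Q8.tq_eq, Q8.tq_eq]; omega

/-- eight times the image under a reflection -/
def refl8 (z r x : Q8) : Q8 := (x.sc 8).sub (z.mul r)
/-- twice the product -/
def ip2 (a b c x y z : Q8) : Q8 := ((x.mul a.conj).add (y.mul b.conj)).add (z.mul c.conj)

theorem refl8_spec (a b c x y z : Q8) :
    semV (refl8 (ip2 a b c x y z) a x) (refl8 (ip2 a b c x y z) b y) (refl8 (ip2 a b c x y z) c z) =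
      (8 : ℍ[ℝ]) • qrefl (semV a b c) (semV x y z) := by
  have h : (ip2 a b c x y z).sem = 4 * hip (semV x y z) (semV a b c) := by
    rw [show (4 : ℍ[ℝ]) = 2 * 2 by norm_num, mul_assoc, two_mul (hip _ _), ← hip_add, qip_eq]
    simp only [ip2, Q8.sem_add, Q8.sem_mul, Q8.sem_conj, mul_add]; rfl
  have e : ∀ r w : Q8, (refl8 (ip2 a b c x y z) r w).sem =
      8 * (w.sem - hip (semV x y z) (semV a b c) * r.sem) := fun r w => by
    rw [refl8, Q8.sem_sub, Q8.sem_sc, Q8.sem_mul, h]; push_cast; noncomm_ring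
  ext1 t
  fin_cases t <;> exact e _ _

/-- pairs with small square -/
def PL : List (Zt × ℕ) := [(⟨0, 0⟩, 0), (⟨-1, 0⟩, 2), (⟨1, 0⟩, 2), (⟨-1, 1⟩, 3), (⟨0, -1⟩, 3), (⟨0, 1⟩, 3), (⟨1, -1⟩, 3), (⟨-2, 1⟩, 7), (⟨-1, -1⟩, 7), (⟨1, 1⟩, 7), (⟨2, -1⟩, 7), (⟨-2, 0⟩, 8), (⟨2, 0⟩, 8), (⟨-1, 2⟩, 10), (⟨1, -2⟩, 10), (⟨-2, 2⟩, 12), (⟨0, -2⟩, 12), (⟨0, 2⟩, 12), (⟨2, -2⟩, 12), (⟨-3, 1⟩, 15), (⟨-2, -1⟩, 15), (⟨2, 1⟩, 15), (⟨3, -1⟩, 15)]

theorem mem_PL {x : Zt} (h : x.q ≤ 16) : ∃ n : ℕ, (x, n) ∈ PL ∧ (n : ℤ) = x.q := by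
  obtain ⟨m, n⟩ := x
  simp only [Zt.q] at h ⊢
  have h1 : -3 < n := by nlinarith [sq_nonneg (2 * m + n)]
  have h2 : n < 3 := by nlinarith [sq_nonneg (2 * m + n)]
  have h3 : -4 < m := by nlinarith [sq_nonneg (m + 3 * n)]
  have h4 : m < 4 := by nlinarith [sq_nonneg (m + 3 * n)]
  interval_cases n <;> interval_cases m <;> first | (exfalso; omega) | simp [PL]

/-- all short icosians with given first coordinate -/
noncomputable def allQ (P : Q8 → ℕ → Bool) (x : Zt × ℕ) : Bool :=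
  allL PL fun y => Nat.blt 16 (Nat.add x.2 y.2) || allL PL fun z =>
    Nat.blt 16 (Nat.add (Nat.add x.2 y.2) z.2) || allL PL fun w =>
      Nat.blt 16 (Nat.add (Nat.add (Nat.add x.2 y.2) z.2) w.2) || !(Q8.icoB ⟨x.1, y.1, z.1, w.1⟩) ||
        P ⟨x.1, y.1, z.1, w.1⟩ (Nat.add (Nat.add (Nat.add x.2 y.2) z.2) w.2)

theorem allQ_spec {P : Q8 → ℕ → Bool} (h : ∀ x ∈ PL, allQ P x = true) {y : Q8} (h1 : y.icoB = true)
    (h2 : y.tq ≤ 16) : ∃ n : ℕ, (n : ℤ) = y.tq ∧ P y n = true := by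
  obtain ⟨a, b, c, d⟩ := y
  have := a.q_nonneg; have := b.q_nonneg; have := c.q_nonneg; have := d.q_nonneg
  simp only [Q8.tq] at h2 ⊢
  obtain ⟨na, ha, ea⟩ := mem_PL (x := a) (by omega)
  obtain ⟨nb, hb, eb⟩ := mem_PL (x := b) (by omega)
  obtain ⟨nc, hc, ec⟩ := mem_PL (x := c) (by omega)
  obtain ⟨nd, hd, ed⟩ := mem_PL (x := d) (by omega)
  have h3 := h _ ha
  simp only [allQ, allL_iff, Bool.or_eq_true, Nat.blt_eq, Nat.add_eq, Bool.not_eq_true'] at h3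
  refine ⟨na + nb + nc + nd, by push_cast; omega, ?_⟩
  rcases h3 _ hb with h4 | h4
  · omega
  rcases h4 _ hc with h5 | h5
  · omega
  rcases h5 _ hd with (h6 | h6) | h6
  · omega
  · rw [h1] at h6; exact absurd h6 (by simp)
  · exact h6

section
variable (N : ℕ) (PC : ℕ → ℕ) (F1 : List Q8)

/-- the projection is in the list -/
noncomputable def goodB (a b c : Q8) : Bool :=
  force (encP (pj a b c)) (fun e => anyL (List.range N) fun d =>
    Nat.beq (PC d) e && (pj a b c).beq (decP (PC d))) false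

noncomputable def good3 (a b c : Q8) : Bool := goodB N PC a b c && goodB N PC b c a && goodB N PC c a b

noncomputable def cls1 (y : Q8) (n : ℕ) : Bool :=
  (Nat.beq n 0 && y.beq Q8.zero || Nat.beq n 8 && y.nrm.beq ⟨4, 0⟩ &&
    (!Q8.idealB Q8.H (Q8.H.add (y.hm Q8.H)) || good3 N PC Q8.zero Q8.H (y.hm Q8.H)) ||
    Nat.beq n 12 || Nat.beq n 16 &&
    (!Q8.idealB Q8.H (y.hm Q8.H) || good3 N PC Q8.zero Q8.zero (y.hm Q8.H))) &&
  (!Q8.idealB Q8.Hb (Q8.one.sub y) || anyL F1 fun z => y.beq z)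

noncomputable def cls2 (y : Q8) : Bool :=
  allL F1 fun z => !(y.nrm.add z.nrm).beq ⟨12, 0⟩ || !Q8.idealB Q8.H ((Q8.one.add y).add z) ||
    good3 N PC Q8.one y z

end

section
variable {N : ℕ} {PC : ℕ → ℕ} {F1 : List Q8} {v : ℕ → Fin 3 → ℍ[ℝ]}

/-- all shifts define listed projections -/
def Good3 (N : ℕ) (v : ℕ → Fin 3 → ℍ[ℝ]) (r : Fin 3 → ℍ[ℝ]) : Prop :=
  (∃ c < N, SameP r (v c)) ∧ (∃ c < N, SameP (cyc r) (v c)) ∧ ∃ c < N, SameP (cyc (cyc r)) (v c)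

theorem Good3.of_cyc {r : Fin 3 → ℍ[ℝ]} (h : Good3 N v (cyc r)) : Good3 N v r :=
  ⟨cyc3 r ▸ h.2.2, h.1, h.2.1⟩

theorem Good3.of_smul {r : Fin 3 → ℍ[ℝ]} {u : ℍ[ℝ]} (hu : star u * u = 1)
    (h : Good3 N v (u • r)) : Good3 N v r := by
  have key : ∀ r s, SameP (u • r) s → SameP r s := fun r s h i j => by
    rw [← h i j, Pi.smul_apply, Pi.smul_apply, smul_eq_mul, smul_eq_mul, star_mul, mul_assoc,
      ← mul_assoc (star u), hu, one_mul]
  have e : ∀ r, cyc (u • r) = u • cyc r := fun r => by ext1 t; fin_cases t <;> rfl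
  obtain ⟨⟨c, h1, h2⟩, ⟨d, h3, h4⟩, ⟨f, h5, h6⟩⟩ := h
  rw [e] at h4 h6
  rw [e] at h6
  exact ⟨⟨c, h1, key _ _ h2⟩, ⟨d, h3, key _ _ h4⟩, ⟨f, h5, key _ _ h6⟩⟩

theorem IsMin4.smul {r : Fin 3 → ℍ[ℝ]} (h : IsMin4 r) {u : ℍ[ℝ]} (hu : u * star u = 1)
    (hm : u ∈ icosians) : IsMin4 (u • r) := by
  refine ⟨leech_smul hm h.1, ?_⟩
  have := h.2
  simp only [qip_eq, Pi.smul_apply, smul_eq_mul, star_mul] at this ⊢
  linear_combination (norm := (noncomm_ring; norm_num)) u * this * star u + 4 * hu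

theorem IsMin4.cyc {r : Fin 3 → ℍ[ℝ]} (h : IsMin4 r) : IsMin4 (cyc r) :=
  ⟨leech_cyc h.1, by rw [qip_cyc, h.2]⟩

theorem unit_of_nrm {y : Q8} (h : y.nrm = ⟨4, 0⟩) : y.sem * star y.sem = 1 ∧ star y.sem * y.sem = 1 := by
  have h1 := y.nrm_eq
  have : y.sem * star y.sem = 1 := by
    apply mul_left_cancel₀ (show (4 : ℍ[ℝ]) ≠ 0 by norm_num)
    rw [← h1, h, show (4 * 1 : ℍ[ℝ]) = ((4 : ℕ) : ℍ[ℝ]) by norm_num, ← Quaternion.coe_natCast]
    simp [Zt.sem]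
  exact ⟨this, by rw [Quaternion.star_mul_self, ← Quaternion.self_mul_star, this]⟩

theorem classify (hv : ∀ d < N, ∃ a b c, v d = semV a b c ∧ decP (PC d) = pj a b c)
    (h1 : ∀ x ∈ PL, allQ (cls1 N PC F1) x = true) (h2 : ∀ y ∈ F1, cls2 N PC F1 y = true)
    {r : Fin 3 → ℍ[ℝ]} (hr : IsMin4 r) : ∃ c < N, SameP r (v c) := by
  have g1 : ∀ {a b c}, goodB N PC a b c = true → ∃ d < N, SameP (semV a b c) (v d) := by
    intro a b c h
    simp only [goodB, force_eq, anyL_iff, List.mem_range, Bool.and_eq_true, PJ.beq_iff] at h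
    obtain ⟨d, hd, -, h3⟩ := h
    obtain ⟨a', b', c', e1, e2⟩ := hv d hd
    exact ⟨d, hd, e1 ▸ pj_iff'.mp (h3.trans e2)⟩
  have g3 : ∀ {a b c}, good3 N PC a b c = true → Good3 N v (semV a b c) := by
    intro a b c h
    simp only [good3, Bool.and_eq_true] at h
    exact ⟨g1 h.1.1, g1 h.1.2, g1 h.2⟩
  have c1 : ∀ {y : Q8}, y.icoB = true → y.tq ≤ 16 → ((y.tq = 0 ∧ y = Q8.zero) ∨
      (y.tq = 8 ∧ y.nrm = ⟨4, 0⟩ ∧ (icoH + y.sem * icoH ∈ leftIdeal (star icoH) →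
        Good3 N v ![0, icoH, y.sem * icoH])) ∨ y.tq = 12 ∨ (y.tq = 16 ∧
        (y.sem * icoH ∈ leftIdeal (star icoH) → Good3 N v ![0, 0, y.sem * icoH]))) ∧
      (1 - y.sem ∈ leftIdeal icoH → y ∈ F1) := by
    intro y hy hq
    obtain ⟨n, e, h⟩ := allQ_spec h1 hy hq
    have e2 := (Q8.sem_hm hy (show Q8.H.icoB = true by decide)).2
    rw [Q8.sem_H] at e2
    simp only [cls1, Bool.and_eq_true, Bool.or_eq_true, Nat.beq_eq, Q8.beq_iff, Zt.beq_iff,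
      Bool.not_eq_true', ← Bool.not_eq_true, idealB_H, idealB_Hb, anyL_iff, Q8.sem_add, Q8.sem_sub,
      Q8.sem_one, Q8.sem_H, e2] at h
    refine ⟨?_, fun h3 => ?_⟩
    · rcases h.1 with ((h3 | h3) | h3) | h3
      · exact Or.inl ⟨by omega, h3.2⟩
      · refine Or.inr (Or.inl ⟨by omega, h3.1.2, fun h4 => ?_⟩)
        have := g3 (h3.2.resolve_left (not_not.mpr h4))
        rwa [semV, Q8.sem_zero, Q8.sem_H, e2] at this
      · exact Or.inr (Or.inr (Or.inl (by omega)))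
      · refine Or.inr (Or.inr (Or.inr ⟨by omega, fun h4 => ?_⟩))
        have := g3 (h3.2.resolve_left (not_not.mpr h4))
        rwa [semV, Q8.sem_zero, e2] at this
    · obtain ⟨z, hz, rfl⟩ := h.2.resolve_left (not_not.mpr h3)
      exact hz
  have n1 : (1 : ℍ[ℝ]) ∉ leftIdeal icoH := by
    rw [← Q8.sem_one, ← idealB_H]; decide
  have k1 : ∀ r, IsMin4 r → r 0 = 1 → Good3 N v r := by
    intro r hr h0
    obtain ⟨a, b, c, -, hb, hc, rfl⟩ := exists_semV hr.1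
    obtain rfl : a = Q8.one := Q8.sem_inj (h0.trans Q8.sem_one.symm)
    have e1 := nrm_of_min hr
    have e2 := tq_sum e1
    have e3 : Q8.one.tq = 8 := rfl
    obtain ⟨-, a1, a2, a3⟩ := hr.1
    have b1 : 1 - b.sem ∈ leftIdeal icoH := Q8.sem_one ▸ a1
    have b2 : 1 - c.sem ∈ leftIdeal icoH := by
      convert ideal_add b1 a2 using 1
      show _ = 1 - b.sem + (b.sem - c.sem); abel
    have big : ∀ {y : Q8}, y.icoB = true → 1 - y.sem ∈ leftIdeal icoH → 8 ≤ y.tq := by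
      intro y hy h
      by_contra h3
      rcases (c1 hy (by omega)).1 with ⟨-, rfl⟩ | h4 | h4 | h4
      · rw [Q8.sem_zero, sub_zero] at h; exact n1 h
      all_goals omega
    have t1 := big hb b1
    have t2 := big hc b2
    have := (allL_iff _ _).mp (h2 b ((c1 hb (by omega)).2 b1)) c ((c1 hc (by omega)).2 b2)
    simp only [Bool.or_eq_true, Bool.not_eq_true', ← Bool.not_eq_true, idealB_Hb, Zt.beq_iff,
      Q8.sem_add] at this
    refine g3 ((this.resolve_left ?_))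
    rintro (h | h)
    · apply h
      have e4 : Q8.one.nrm = ⟨4, 0⟩ := rfl
      simp only [e4, Zt.add, Int.add_def, Zt.mk.injEq] at e1 ⊢
      omega
    · exact h a3
  have k0 : ∀ r, IsMin4 r → r 0 = 0 → Good3 N v r := by
    intro r hr h0
    obtain ⟨-, a1, a2, a3⟩ := hr.1
    have b1 : r 1 ∈ leftIdeal icoH := by simpa [h0] using ideal_neg a1
    have b2 : r 2 ∈ leftIdeal icoH := by simpa using ideal_add b1 (ideal_neg a2)
    obtain ⟨_, ha', ea⟩ := b1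
    obtain ⟨_, hb', eb⟩ := b2
    obtain ⟨a, ha, rfl⟩ := Q8.exists_of_mem ha'
    obtain ⟨b, hb, rfl⟩ := Q8.exists_of_mem hb'
    have er : r = ![0, a.sem * icoH, b.sem * icoH] := by
      ext1 t; fin_cases t
      exacts [h0, ea, eb]
    have e1 : (Q8.zero.nrm.add a.nrm).add b.nrm = ⟨8, 0⟩ := by
      apply Zt.sem_inj
      apply Quaternion.coe_injective
      have e2 := hr.2
      have e3 := icoH_norm
      rw [← qip_semV, show (((⟨8, 0⟩ : Zt).sem : ℝ) : ℍ[ℝ]) = 8 by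
        rw [show (8 : ℍ[ℝ]) = ((8 : ℕ) : ℍ[ℝ]) by norm_num, ← Quaternion.coe_natCast]; simp [Zt.sem]]
      rw [qip_eq, h0, ea, eb, star_mul, star_mul] at e2
      rw [qip_eq]
      show 4 * (Q8.zero.sem * star Q8.zero.sem + a.sem * star a.sem + b.sem * star b.sem) = 8
      rw [Q8.sem_zero]
      linear_combination (norm := (noncomm_ring; norm_num)) 2 * e2 - 2 * (a.sem * e3 * star a.sem) -
        2 * (b.sem * e3 * star b.sem)
    have e2 := tq_sum e1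
    have e3 : Q8.zero.tq = 0 := rfl
    have := a.tq_nonneg
    have := b.tq_nonneg
    rw [h0, ea, eb, zero_add] at a3
    rcases (c1 ha (by omega)).1 with ⟨t1, rfl⟩ | ⟨t1, t2, -⟩ | t1 | ⟨t1, t2⟩ <;>
      rcases (c1 hb (by omega)).1 with ⟨s1, s2⟩ | ⟨s1, s2, -⟩ | s1 | ⟨s1, s2⟩ <;> try omega
    · rw [Q8.sem_zero, zero_mul] at er a3
      rw [zero_add] at a3
      exact er ▸ s2 a3
    · obtain ⟨u1, u2⟩ := unit_of_nrm t2
      obtain ⟨u3, u4⟩ := unit_of_nrm s2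
      have hc : a.conj.icoB = true := by
        obtain ⟨y, hy, e⟩ := Q8.exists_of_mem (star_mem_ico (Q8.mem_of_icoB ha))
        rwa [Q8.sem_inj ((Q8.sem_conj a).trans e.symm)]
      obtain ⟨w1, w2⟩ := Q8.sem_hm hc hb
      rw [Q8.sem_conj] at w2
      have w3 : (a.conj.hm b).nrm = Q8.one.nrm.sc 1 := nrm_iff.mpr (by
        rw [w2, Q8.sem_one, star_mul, star_star, mul_assoc, ← mul_assoc a.sem, u1]; simpa using u4)
      have w4 : (a.conj.hm b).tq = 8 := by rw [Q8.tq_eq, w3]; rfl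
      apply Good3.of_smul (u := star a.sem) (by rwa [star_star])
      have e : star a.sem • r = ![0, icoH, (a.conj.hm b).sem * icoH] := by
        rw [er, w2]; ext1 t; fin_cases t
        · exact mul_zero _
        · show star a.sem * (a.sem * icoH) = icoH
          rw [← mul_assoc, u2, one_mul]
        · exact (mul_assoc _ _ _).symm
      rw [e]
      rcases (c1 w1 (by omega)).1 with ⟨_, _⟩ | ⟨-, -, s3⟩ | _ | ⟨_, _⟩ <;> try omega
      apply s3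
      convert ideal_mul (star_mem_ico (Q8.mem_of_icoB ha)) a3 using 1
      rw [w2, mul_add, ← mul_assoc, u2, one_mul, mul_assoc]
    · subst s2
      rw [Q8.sem_zero, zero_mul] at er a3
      rw [add_zero] at a3
      apply Good3.of_cyc; apply Good3.of_cyc
      rw [er]; exact t2 a3
  have k2 : ∀ r, IsMin4 r → ∀ a : Q8, a.icoB = true → r 0 = a.sem → a.tq ≤ 10 → Good3 N v r := by
    intro r hr a ha h0 hq
    rcases (c1 ha (by omega)).1 with ⟨-, rfl⟩ | ⟨-, t2, -⟩ | _ | ⟨_, _⟩ <;> try omega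
    · exact k0 r hr (h0.trans Q8.sem_zero)
    · obtain ⟨u1, u2⟩ := unit_of_nrm t2
      apply Good3.of_smul (u := star a.sem) (by rwa [star_star])
      refine k1 _ (hr.smul (by rwa [star_star]) (star_mem_ico (Q8.mem_of_icoB ha))) ?_
      rw [Pi.smul_apply, h0]; exact u2
  obtain ⟨a, b, c, ha, hb, hc, rfl⟩ := exists_semV hr.1
  have e := tq_sum (nrm_of_min hr)
  have : Good3 N v (semV a b c) := by
    by_cases q1 : a.tq ≤ 10
    · exact k2 _ hr a ha rfl q1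
    by_cases q2 : b.tq ≤ 10
    · exact (k2 _ hr.cyc b hb rfl q2).of_cyc
    · exact (k2 _ hr.cyc.cyc c hc rfl (by omega)).of_cyc.of_cyc
  exact this.1

end

end Cfsg.Agent.H9
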