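import Cfsg.Agent.H9.IcoClass

/-! The action of `J2` on the reflections. -/

set_option autoImplicit false

namespace Cfsg.Agent.H9

open Cfsg.Spor Quaternion

/-- parent and order checks -/
noncomputable def poB (V : ℕ → ℕ) (T : ℕ → ℕ → ℕ) (par ord : ℕ → ℕ) (N k m c : ℕ) : Bool :=
  (Nat.blt c m || Nat.rec (motive := fun _ => Bool) false
    (fun p _ => Nat.blt (Nat.shiftRight p 3) c && Nat.blt (Nat.land p 7) k &&
      Nat.beq (T (Nat.shiftRight p 3) (Nat.land p 7)) c) (Nat.succ (par c))) &&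
  Nat.blt (ord c) N && (Nat.beq c 0 || Nat.blt (V (ord (Nat.pred c))) (V (ord c)))

theorem poB_spec {V : ℕ → ℕ} {T : ℕ → ℕ → ℕ} {par ord : ℕ → ℕ} {N k m : ℕ}
    (h : ∀ c < N, poB V T par ord N k m c = true) : (∀ c < N, ∀ d < N, V c = V d → c = d) ∧
      ∀ P : ℕ → Prop, (∀ c < m, P c) → (∀ c < N, ∀ s < k, P c → P (T c s)) → ∀ c < N, P c := by
  have spec : ∀ c < N, (c < m ∨ ∃ p < c, ∃ s < k, T p s = c) ∧ ord c < N ∧
      (c = 0 ∨ V (ord (c - 1)) < V (ord c)) := by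
    intro c hc
    have := h c hc
    simp only [poB, Bool.and_eq_true, Bool.or_eq_true, Nat.blt_eq, Nat.beq_eq] at this
    obtain ⟨⟨a2, a3⟩, a4⟩ := this
    exact ⟨a2.imp id fun a2 => ⟨_, a2.1.1, _, a2.1.2, a2.2⟩, a3, a4⟩
  have i1 := inj_of_incr (V := fun i => V (ord i)) fun c hc => (spec c hc).2.2
  let F : Fin N → Fin N := fun i => ⟨ord i, (spec i i.2).2.1⟩
  have hF : Function.Injective F := fun i j e =>
    Fin.ext (i1 _ i.2 _ j.2 (congrArg (fun z : Fin N => V z) e))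
  have hsur := Finite.surjective_of_injective hF
  refine ⟨fun c hc d hd e => ?_, fun P h0 h1 c => ?_⟩
  · obtain ⟨i, hi⟩ := hsur ⟨c, hc⟩
    obtain ⟨j, hj⟩ := hsur ⟨d, hd⟩
    have hi' : ord i = c := congrArg Fin.val hi
    have hj' : ord j = d := congrArg Fin.val hj
    have := i1 _ i.2 _ j.2 (by rw [hi', hj']; exact e)
    rw [← hi', ← hj', this]
  · induction c using Nat.strong_induction_on with
    | _ c ih =>
      intro hc
      rcases (spec c hc).1 with h3 | ⟨p, hp, s, hs, rfl⟩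
      · exact h0 c h3
      · exact h1 p (hp.trans hc) s hs (ih p hp (hp.trans hc))

/-- conjugation on a generating family -/
theorem exists_ra_conj' {Γ : Type*} [Group Γ] {v : ℕ → Γ} {N k : ℕ} (hk : k ≤ N)
    (hinj : ∀ c < N, ∀ d < N, v c = v d → c = d) {T : ℕ → ℕ → ℕ}
    (hT : ∀ s < k, ∀ c < N, T c s < N ∧ (v s)⁻¹ * v c * v s = v (T c s))
    (hgen : ∀ S : Subgroup Γ, (∀ s < k, v s ∈ S) → S = ⊤) :
    ∃ A : RA (Γ ⧸ Subgroup.center Γ) N, A.Tab (fun s => QuotientGroup.mk (v s)) k T ∧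
      A.IsBase (List.range k) ∧
      ∀ x : Γ, ∀ c < N, v (A.act c (QuotientGroup.mk x)) = x⁻¹ * v c * x := by
  obtain ⟨A, b1, b2⟩ := exists_ra_gen (fun y x : Γ => x⁻¹ * y * x) (by simp) (by simp [mul_assoc])
    (QuotientGroup.mk' (Subgroup.center Γ)) (QuotientGroup.mk'_surjective _) v hinj
    (fun x hx c _ => by
      have := Subgroup.mem_center_iff.mp ((QuotientGroup.eq_one_iff x).mp hx) (v c)
      show x⁻¹ * v c * x = v c
      rw [mul_assoc, this, inv_mul_cancel_left]) v hT hgen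
  refine ⟨A, b1, ⟨fun b hb => (List.mem_range.mp hb).trans_le hk, fun y hy => ?_⟩, b2⟩
  obtain ⟨x, rfl⟩ := QuotientGroup.mk_surjective y
  rw [QuotientGroup.eq_one_iff, Subgroup.mem_center_iff]
  have := hgen (Subgroup.centralizer {x}) fun s hs => by
    have e := b2 x s (hs.trans_le hk)
    rw [show QuotientGroup.mk' _ x = QuotientGroup.mk x from rfl, hy s (List.mem_range.mpr hs)] at e
    rw [Subgroup.mem_centralizer_singleton_iff]
    rw [mul_assoc, eq_inv_mul_iff_mul_eq] at e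
    exact e.symm
  intro z
  exact Subgroup.mem_centralizer_singleton_iff.mp (this ▸ Subgroup.mem_top z)

/-- projection of eight times the reflected vector -/
def pjR (r x : ℕ) : PJ :=
  pj (refl8 (ip2 (dQ r 0) (dQ r 48) (dQ r 96) (dQ x 0) (dQ x 48) (dQ x 96)) (dQ r 0) (dQ x 0))
    (refl8 (ip2 (dQ r 0) (dQ r 48) (dQ r 96) (dQ x 0) (dQ x 48) (dQ x 96)) (dQ r 48) (dQ x 48))
    (refl8 (ip2 (dQ r 0) (dQ r 48) (dQ r 96) (dQ x 0) (dQ x 48) (dQ x 96)) (dQ r 96) (dQ x 96))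

/-- the vector with a given code -/
noncomputable def vecOf (x : ℕ) : Fin 3 → ℍ[ℝ] := semV (dQ x 0) (dQ x 48) (dQ x 96)

/-- checks at one point -/
noncomputable def icoPtB (RC PC : ℕ → ℕ) (T : ℕ → ℕ → ℕ) (par ord : ℕ → ℕ) (N k c : ℕ) : Bool :=
  minB (dQ (RC c) 0) (dQ (RC c) 48) (dQ (RC c) 96) &&
  (decP (PC c)).beq (pj (dQ (RC c) 0) (dQ (RC c) 48) (dQ (RC c) 96)) &&
  Nat.beq (PC c) (encP (decP (PC c))) &&
  (allLt k fun s => Nat.blt (T c s) N && (pjR (RC s) (RC c)).beq ((decP (PC (T c s))).sc 64)) &&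
  poB PC T par ord N k k c

theorem exists_ra_J2 {RC PC : ℕ → ℕ} {T : ℕ → ℕ → ℕ} {par ord : ℕ → ℕ} {N k : ℕ} {F1 : List Q8}
    (hk : k ≤ N) (h : ∀ c < N, icoPtB RC PC T par ord N k c = true)
    (h1 : ∀ x ∈ PL, allQ (cls1 N PC F1) x = true) (h2 : ∀ y ∈ F1, cls2 N PC F1 y = true) :
    ∃ (A : RA J2 N) (v : ℕ → twoJ2), (∀ c < N, ∃ h : IsMin4 (vecOf (RC c)), v c = reflP h) ∧
      (∀ S : Subgroup twoJ2, (∀ s < k, v s ∈ S) → S = ⊤) ∧
      A.Tab (fun s => QuotientGroup.mk (v s)) k T ∧ A.IsBase (List.range k) ∧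
      ∀ x : twoJ2, ∀ c < N, v (A.act c (QuotientGroup.mk x)) = x⁻¹ * v c * x := by
  classical
  simp only [icoPtB, Bool.and_eq_true, PJ.beq_iff, Nat.beq_eq, allLt_iff, Nat.blt_eq] at h
  have m : ∀ c < N, IsMin4 (vecOf (RC c)) := fun c hc => isMin4_of (h c hc).1.1.1.1
  let v : ℕ → twoJ2 := fun c => if hc : c < N then reflP (m c hc) else 1
  have hv : ∀ c (hc : c < N), v c = reflP (m c hc) := fun c hc => dif_pos hc
  obtain ⟨p1, p2⟩ := poB_spec fun c hc => (h c hc).2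
  have hT : ∀ s < k, ∀ c < N, T c s < N ∧ (v s)⁻¹ * v c * v s = v (T c s) := by
    intro s hs c hc
    obtain ⟨a1, a2⟩ := (h c hc).1.2 s hs
    refine ⟨a1, ?_⟩
    rw [hv s (hs.trans_le hk), hv c hc, hv _ a1, reflP_conj, reflP_eq_iff]
    rw [(h _ a1).1.1.1.2, pjR, pj_iff, refl8_spec] at a2
    intro i j
    have := a2 i j
    simp only [Pi.smul_apply, smul_eq_mul, star_mul, star_ofNat] at this
    apply mul_left_cancel₀ (show (64 : ℍ[ℝ]) ≠ 0 by norm_num)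
    push_cast at this
    rw [vecOf, vecOf, vecOf, ← this]
    noncomm_ring
  have hgen : ∀ S : Subgroup twoJ2, (∀ s < k, v s ∈ S) → S = ⊤ := by
    intro S hS
    have a1 := p2 (fun c => v c ∈ S) hS fun c hc s hs a => by
      rw [← (hT s hs c hc).2]
      exact mul_mem (mul_mem (inv_mem (hS s hs)) a) (hS s hs)
    refine twoJ2_eq_top fun r hr => ?_
    obtain ⟨c, hc, e⟩ := classify (v := fun c => vecOf (RC c))
      (fun d hd => ⟨_, _, _, rfl, (h d hd).1.1.1.2⟩) h1 h2 hr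
    rw [(reflP_eq_iff hr (m c hc)).mpr e, ← hv c hc]
    exact a1 c hc
  obtain ⟨A, b⟩ := exists_ra_conj' hk (fun c hc d hd e => p1 c hc d hd (by
    rw [hv c hc, hv d hd, reflP_eq_iff] at e
    rw [(h c hc).1.1.2, (h d hd).1.1.2, (h c hc).1.1.1.2, (h d hd).1.1.1.2, pj_iff'.mpr e])) hT hgen
  exact ⟨A, v, fun c hc => ⟨_, hv c hc⟩, hgen, b⟩

end Cfsg.Agent.H9
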