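import Cfsg.Agent.H9.Ico

/-! Reflections of the icosian lattice. -/

set_option autoImplicit false

namespace Cfsg.Agent.H9

open Cfsg.Spor Quaternion

theorem ideal_add {q x y : ℍ[ℝ]} (hx : x ∈ leftIdeal q) (hy : y ∈ leftIdeal q) : x + y ∈ leftIdeal q := by
  obtain ⟨a, ha, rfl⟩ := hx
  obtain ⟨b, hb, rfl⟩ := hy
  exact ⟨a + b, add_mem ha hb, (add_mul _ _ _).symm⟩

theorem ideal_mul {q a x : ℍ[ℝ]} (ha : a ∈ icosians) (hx : x ∈ leftIdeal q) : a * x ∈ leftIdeal q := by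
  obtain ⟨b, hb, rfl⟩ := hx
  exact ⟨a * b, mul_mem ha hb, (mul_assoc _ _ _).symm⟩

theorem ideal_neg {q x : ℍ[ℝ]} (hx : x ∈ leftIdeal q) : -x ∈ leftIdeal q := by
  simpa using ideal_mul (neg_mem icosians.one_mem) hx

theorem leech_add {x y : Fin 3 → ℍ[ℝ]} (hx : x ∈ icoLeech) (hy : y ∈ icoLeech) : x + y ∈ icoLeech := by
  obtain ⟨a0, a1, a2, a3⟩ := hx
  obtain ⟨b0, b1, b2, b3⟩ := hy
  refine ⟨fun t => add_mem (a0 t) (b0 t), ?_, ?_, ?_⟩
  · convert ideal_add a1 b1 using 1; simp only [Pi.add_apply]; abel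
  · convert ideal_add a2 b2 using 1; simp only [Pi.add_apply]; abel
  · convert ideal_add a3 b3 using 1; simp only [Pi.add_apply]; abel

theorem leech_smul {a : ℍ[ℝ]} (ha : a ∈ icosians) {x : Fin 3 → ℍ[ℝ]} (hx : x ∈ icoLeech) :
    a • x ∈ icoLeech := by
  obtain ⟨a0, a1, a2, a3⟩ := hx
  refine ⟨fun t => mul_mem ha (a0 t), ?_, ?_, ?_⟩
  · convert ideal_mul ha a1 using 1; simp only [Pi.smul_apply, smul_eq_mul, mul_sub]
  · convert ideal_mul ha a2 using 1; simp only [Pi.smul_apply, smul_eq_mul, mul_sub]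
  · convert ideal_mul ha a3 using 1; simp only [Pi.smul_apply, smul_eq_mul, mul_add]

/-- cyclic shift of the coordinates -/
def cyc (x : Fin 3 → ℍ[ℝ]) : Fin 3 → ℍ[ℝ] := ![x 1, x 2, x 0]

theorem leech_cyc {x : Fin 3 → ℍ[ℝ]} (hx : x ∈ icoLeech) : cyc x ∈ icoLeech := by
  obtain ⟨a0, a1, a2, a3⟩ := hx
  refine ⟨fun t => ?_, a2, ?_, ?_⟩
  · fin_cases t <;> exact a0 _
  · convert ideal_neg (ideal_add a1 a2) using 1
    show x 2 - x 0 = _; abel
  · convert a3 using 1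
    show x 1 + x 2 + x 0 = _; abel

theorem cyc3 (x : Fin 3 → ℍ[ℝ]) : cyc (cyc (cyc x)) = x := by
  ext1 t; fin_cases t <;> rfl

theorem qip_eq (x r : Fin 3 → ℍ[ℝ]) :
    qip x r = x 0 * star (r 0) + x 1 * star (r 1) + x 2 * star (r 2) := Fin.sum_univ_three _

theorem qip_cyc (x : Fin 3 → ℍ[ℝ]) : qip (cyc x) (cyc x) = qip x x := by
  rw [qip_eq, qip_eq]
  show x 1 * star (x 1) + x 2 * star (x 2) + x 0 * star (x 0) = _; abel

/-- half of the product -/
noncomputable def hip (x r : Fin 3 → ℍ[ℝ]) : ℍ[ℝ] := (1 / 2 : ℝ) • qip x r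

theorem hip_eq {x r : Fin 3 → ℍ[ℝ]} {a : ℍ[ℝ]} (h : qip x r = a + a) : hip x r = a := by
  rw [hip, h, ← two_smul ℝ a, smul_smul]; norm_num

theorem hip_add (x r : Fin 3 → ℍ[ℝ]) : qip x r = hip x r + hip x r := by
  rw [hip, ← add_smul]; norm_num

theorem hip_mem {x r : Fin 3 → ℍ[ℝ]} (hx : x ∈ icoLeech) (hr : r ∈ icoLeech) : hip x r ∈ icosians := by
  obtain ⟨x0, ⟨a, ha, x1⟩, ⟨b, hb, x2⟩, ⟨c, hc, x3⟩⟩ := hx
  obtain ⟨r0, ⟨a', ha', r1⟩, ⟨b', hb', r2⟩, ⟨c', hc', r3⟩⟩ := hr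
  have e0 : x 0 = x 1 + a * icoH := by rw [← x1]; abel
  have e2 : x 2 = x 1 - b * icoH := by rw [← x2]; abel
  have f0 : star (r 0) = star (r 1) + star icoH * star a' := by
    rw [← star_mul, ← r1, star_sub]; abel
  have f2 : star (r 2) = star (r 1) - star icoH * star b' := by
    rw [← star_mul, ← r2, star_sub]; abel
  have f3 : star (r 0) + star (r 1) + star (r 2) = icoH * star c' := by
    rw [← star_add, ← star_add, r3, star_mul, star_star]
  rw [e0, e2] at x3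
  rw [f0, f2] at f3
  have h1 := icoH_norm
  have h2 := icoH_norm'
  have hb0 := star_mem_ico icoH_mem
  rw [hip_eq (a := c * star c' + a * star a' + b * star b' - (a - b) * (star a' - star b') -
    x 1 * star icoH * (star a' - star b') - c * star icoH * star (r 1))]
  · have := star_mem_ico ha'; have := star_mem_ico hb'; have := star_mem_ico hc'
    have := star_mem_ico (r0 1); have := x0 1
    refine sub_mem (sub_mem (sub_mem (add_mem (add_mem ?_ ?_) ?_) ?_) ?_) ?_ <;>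
      repeat (first | assumption | apply mul_mem | apply sub_mem)
  · rw [qip_eq, e0, e2, f0, f2]
    generalize star icoH = g at *
    generalize star (r 1) = s at *
    generalize star a' = p at *
    generalize star b' = q at *
    generalize star c' = t at *
    generalize x 1 = y at *
    linear_combination (norm := noncomm_ring) x3 * s + x3 * (g * (p - q)) + (c * g) * f3 +
      a * h1 * p + b * h1 * q - (a - b) * h1 * (p - q) + c * h2 * t

theorem qrefl_eq (r x : Fin 3 → ℍ[ℝ]) : qrefl r x = x - hip x r • r := rfl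

theorem qrefl_mem {x r : Fin 3 → ℍ[ℝ]} (hr : r ∈ icoLeech) (hx : x ∈ icoLeech) :
    qrefl r x ∈ icoLeech := by
  rw [qrefl_eq, sub_eq_add_neg, ← neg_smul]
  exact leech_add hx (leech_smul (neg_mem (hip_mem hx hr)) hr)

theorem hip_left (x y r : Fin 3 → ℍ[ℝ]) (a : ℍ[ℝ]) : hip (x - a • y) r = hip x r - a * hip y r := by
  apply hip_eq
  have h1 := hip_add x r
  have h2 := hip_add y r
  simp only [qip_eq, Pi.sub_apply, Pi.smul_apply, smul_eq_mul] at h1 h2 ⊢
  linear_combination (norm := noncomm_ring) h1 - a * h2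

theorem hip_star (x r : Fin 3 → ℍ[ℝ]) : star (hip x r) = hip r x := by
  symm; apply hip_eq
  rw [← star_add, ← hip_add, qip_eq, qip_eq]
  simp only [star_add, star_mul, star_star]

theorem hip_right (x y r : Fin 3 → ℍ[ℝ]) (a : ℍ[ℝ]) :
    hip r (x - a • y) = hip r x - hip r y * star a := by
  rw [← hip_star, hip_left, star_sub, star_mul, hip_star, hip_star]

theorem hip_self {r : Fin 3 → ℍ[ℝ]} (h : qip r r = 4) : hip r r = 2 := hip_eq (by rw [h]; norm_num)

theorem qrefl_lin (s x y : Fin 3 → ℍ[ℝ]) (a : ℍ[ℝ]) :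
    qrefl s (x - a • y) = qrefl s x - a • qrefl s y := by
  simp only [qrefl_eq, hip_left, sub_smul, smul_sub, mul_smul]; abel

theorem qrefl_self {r : Fin 3 → ℍ[ℝ]} (h : qip r r = 4) : qrefl r r = -r := by
  rw [qrefl_eq, hip_self h, two_smul]; abel

theorem qrefl_invol {r : Fin 3 → ℍ[ℝ]} (h : qip r r = 4) (x : Fin 3 → ℍ[ℝ]) :
    qrefl r (qrefl r x) = x := by
  conv_lhs => rw [qrefl_eq r x, qrefl_lin, qrefl_self h, qrefl_eq]
  simp

theorem hip_qrefl {r : Fin 3 → ℍ[ℝ]} (h : qip r r = 4) (x y : Fin 3 → ℍ[ℝ]) :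
    hip (qrefl r x) (qrefl r y) = hip x y := by
  rw [qrefl_eq, qrefl_eq, hip_left, hip_right, hip_right, hip_self h, hip_star]
  noncomm_ring

theorem qip_qrefl {r : Fin 3 → ℍ[ℝ]} (h : qip r r = 4) (x y : Fin 3 → ℍ[ℝ]) :
    qip (qrefl r x) (qrefl r y) = qip x y := by
  rw [hip_add, hip_qrefl h, ← hip_add]

theorem qrefl_conj {s : Fin 3 → ℍ[ℝ]} (h : qip s s = 4) (r x : Fin 3 → ℍ[ℝ]) :
    qrefl s (qrefl r (qrefl s x)) = qrefl (qrefl s r) x := by
  rw [qrefl_eq r, qrefl_lin, qrefl_invol h, qrefl_eq (qrefl s r), ← hip_qrefl h (qrefl s x) r,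
    qrefl_invol h]

/-- a minimal vector -/
def IsMin4 (r : Fin 3 → ℍ[ℝ]) : Prop := r ∈ icoLeech ∧ qip r r = 4

/-- the reflection as an element of the double cover -/
noncomputable def reflP {r : Fin 3 → ℍ[ℝ]} (h : IsMin4 r) : twoJ2 :=
  ⟨Function.Involutive.toPerm (fun x : icoLeech => ⟨qrefl r x, qrefl_mem h.1 x.2⟩)
    fun x => Subtype.ext (qrefl_invol h.2 x), Subgroup.subset_closure ⟨⟨r, h.1⟩, h.2, fun _ => rfl⟩⟩

theorem reflP_apply {r : Fin 3 → ℍ[ℝ]} (h : IsMin4 r) (x : icoLeech) :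
    ((reflP h).1 x : Fin 3 → ℍ[ℝ]) = qrefl r x := rfl

theorem IsMin4.refl {s r : Fin 3 → ℍ[ℝ]} (hs : IsMin4 s) (hr : IsMin4 r) : IsMin4 (qrefl s r) :=
  ⟨qrefl_mem hs.1 hr.1, by rw [qip_qrefl hs.2, hr.2]⟩

theorem reflP_mul_self {r : Fin 3 → ℍ[ℝ]} (h : IsMin4 r) : reflP h * reflP h = 1 :=
  Subtype.ext (Equiv.ext fun x => Subtype.ext (qrefl_invol h.2 x))

theorem reflP_conj {s r : Fin 3 → ℍ[ℝ]} (hs : IsMin4 s) (hr : IsMin4 r) :
    (reflP hs)⁻¹ * reflP hr * reflP hs = reflP (hs.refl hr) := by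
  rw [inv_eq_of_mul_eq_one_right (reflP_mul_self hs)]
  exact Subtype.ext (Equiv.ext fun x => Subtype.ext (qrefl_conj hs.2 r x))

/-- the two vectors define the same projection -/
def SameP (r s : Fin 3 → ℍ[ℝ]) : Prop := ∀ i j, star (r i) * r j = star (s i) * s j

theorem qrefl_apply (r x : Fin 3 → ℍ[ℝ]) (t : Fin 3) : qrefl r x t = x t - (1 / 2 : ℝ) •
    (x 0 * (star (r 0) * r t) + x 1 * (star (r 1) * r t) + x 2 * (star (r 2) * r t)) := by
  rw [qrefl, smul_mul_assoc, qip_eq]; simp only [add_mul, mul_assoc]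

theorem reflP_eq_iff {r s : Fin 3 → ℍ[ℝ]} (hr : IsMin4 r) (hs : IsMin4 s) :
    reflP hr = reflP hs ↔ SameP r s := by
  constructor
  · intro h i j
    have h2 : (2 : ℍ[ℝ]) ∈ leftIdeal icoH := ⟨_, star_mem_ico icoH_mem, icoH_norm'.symm⟩
    have h3 : (2 : ℍ[ℝ]) ∈ leftIdeal (star icoH) := ⟨_, icoH_mem, icoH_norm.symm⟩
    have h0 : (0 : ℍ[ℝ]) ∈ leftIdeal icoH := ⟨0, zero_mem _, by simp⟩
    have h4 : ![2, 0, 0] ∈ icoLeech := by
      refine ⟨fun t => ?_, by simpa using h2, by simpa using h0, by simpa using h3⟩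
      fin_cases t
      · exact ofNat_mem icosians 2
      · exact zero_mem _
      · exact zero_mem _
    have key : ∀ x ∈ icoLeech, qrefl r x j = qrefl s x j := fun x hx => by
      rw [← reflP_apply hr ⟨x, hx⟩, h, reflP_apply]
    have e : ∀ q : ℍ[ℝ], (1 / 2 : ℝ) • (2 * q) = q := fun q => by
      rw [two_mul, ← two_smul ℝ q, smul_smul]; norm_num
    fin_cases i
    · simpa [qrefl_apply, -one_div, e] using key _ h4
    · simpa [qrefl_apply, -one_div, e, cyc] using key _ (leech_cyc (leech_cyc h4))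
    · simpa [qrefl_apply, -one_div, e, cyc] using key _ (leech_cyc h4)
  · intro h
    refine Subtype.ext (Equiv.ext fun x => Subtype.ext (funext fun t => ?_))
    rw [reflP_apply, reflP_apply, qrefl_apply, qrefl_apply, h, h, h]

theorem twoJ2_eq_top {S : Subgroup twoJ2} (h : ∀ r (hr : IsMin4 r), reflP hr ∈ S) : S = ⊤ := by
  rw [eq_top_iff]
  rintro ⟨g, hg⟩ -
  induction hg using Subgroup.closure_induction with
  | mem x hx =>
    obtain ⟨r, h1, h2⟩ := hx
    have e : x = (reflP ⟨r.2, h1⟩).1 := Equiv.ext fun y => Subtype.ext (h2 y)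
    subst e
    exact h _ ⟨r.2, h1⟩
  | one => exact S.one_mem
  | mul x y _ _ hx hy => exact S.mul_mem hx hy
  | inv x _ hx => exact S.inv_mem hx

end Cfsg.Agent.H9
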