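import Cfsg.Prelude.Def_Spor_J1
import Cfsg.Agent.H9.PMat2

/-! Packed-matrix model of `J1`. -/

set_option autoImplicit false

namespace Cfsg.Agent.H9

open Cfsg Cfsg.Spor

/-- packed 7 × 7 matrices modulo 11 -/
def P11 : PM := ⟨7, 19, 11, 745, 13, 0x1ffffc0000000000000000000000000000ffffe00000000000000000000000000007ffff00000000000000000000000000003ffff80000000000000000000000000001ffffc0000000000000000000000000000ffffe00000000000000000000000000007ffff, 0x3f0007e000fc001f8003f0007e000fc001f8003f0007e000fc001f8003f0007e000fc001f8003f0007e000fc001f8003f0007e000fc001f8003f0007e000fc001f8003f0007e000fc001f8003f0007e000fc001f8003f0007e000fc001f8003f0007e000fc001f8003f0007e000fc001f8003f, 0x1000000000000000000000000000000000000010000000000000000000000000000000000000100000000000000000000000000000000000001000000000000000000000000000000000000010000000000000000000000000000000000000100000000000000000000000000000000000001⟩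

theorem P11_ok : P11.OK := PM.ok_of (by decide +kernel)

/-- model of `GL₇(11)` -/
noncomputable def gl711Model : Model (Matrix.GeneralLinearGroup (Fin 7) (ZMod 11)) :=
  PM.glModel P11_ok (d := 1) (Equiv.refl (Fin 7)) 0 rfl (by norm_num) (by decide)

/-- model of `J1` -/
noncomputable def j1Model : Model J1 := gl711Model.comap J1.subtype Subtype.val_injective

/-- code of the first generator -/
def j1CodeX : ℕ := 0x40000800000000000000000000000000000000000008000000000000000000000000000000000000080000000000000000000000000000000000000800000000000000000000000000000000000008000000000000000000000000000000000000080000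
/-- code of the second generator -/
def j1CodeY : ℕ := 0x10000600004000080009000060000c0001800010000200024000180003000020002800050000200010000200005000080001400008000400008000140002000050000200010000200005000080001400028000180003000020000c00008000100012000200005000080001400028000100008

/-- the first generator -/
def j1X : J1 := ⟨jankoX, Subgroup.subset_closure (by simp)⟩
/-- the second generator -/
def j1Y : J1 := ⟨jankoY, Subgroup.subset_closure (by simp)⟩

theorem j1X_rep : j1Model.Rep j1CodeX j1X :=
  PM.rep_one_of _ _ (PM.valid_of (by decide) (by decide +kernel))
    (fun i j => congrFun (congrFun (show (Matrix.of fun i j : Fin 7 =>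
      ((P11.ent j1CodeX i j : ℕ) : ZMod 11)) = jankoMatrixX by decide +kernel) i) j)

theorem j1Y_rep : j1Model.Rep j1CodeY j1Y :=
  PM.rep_one_of _ _ (PM.valid_of (by decide) (by decide +kernel))
    (fun i j => congrFun (congrFun (show (Matrix.of fun i j : Fin 7 =>
      ((P11.ent j1CodeY i j : ℕ) : ZMod 11)) = jankoMatrixY by decide +kernel) i) j)

theorem j1_code_unique {a b : ℕ} {g : J1} (ha : j1Model.Rep a g) (hb : j1Model.Rep b g) : a = b :=
  PM.Rep.code_unique P11_ok (d := 1) rfl (PM.indep_one 11 _) ha hb

/-- a subgroup of `J1` containing both generators is everything -/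
theorem j1_eq_top {H : Subgroup J1} (hX : j1X ∈ H) (hY : j1Y ∈ H) : H = ⊤ := by
  rw [eq_top_iff]
  rintro ⟨g, hg⟩ -
  induction hg using Subgroup.closure_induction with
  | mem x hx =>
    rcases hx with rfl | rfl
    · exact hX
    · exact hY
  | one => exact H.one_mem
  | mul x y _ _ hx hy => exact H.mul_mem hx hy
  | inv x _ hx => exact H.inv_mem hx

end Cfsg.Agent.H9
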