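import Cfsg.Agent.H9.KC7
import Cfsg.Agent.H9.KC13
import Cfsg.Agent.H3.NM
import Cfsg.Agent.H3.AS3

/-! Simple groups with nine classes. -/

set_option autoImplicit false
set_option linter.unusedSectionVars false
set_option synthInstance.maxSize 4000
set_option synthInstance.maxHeartbeats 200000

namespace Cfsg.Agent.H9.KC

open Subgroup

variable {G : Type*} [Group G] [Fintype G] {Q : List (ℕ × ℕ × ℕ × ℕ)}

theorem Has.tst [IsSimpleGroup G] (hG : ¬ IsMulCommutative G) (H : Has G Q) {p m e : ℕ}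
    (hp : p.Prime) (h : (p, m, e, p) ∈ Q) : ∃ S : IrrCharacter G → ℤ, Tst p e (m * p - m * m) S := by
  obtain ⟨x, hx⟩ := H.ex _ h
  simp only [Prod.mk.injEq] at hx
  obtain ⟨rfl, rfl, rfl, h4⟩ := hx
  obtain ⟨S, -, hS⟩ := deg_prime hG hp h4
  exact ⟨S, hS⟩

theorem Has.conj (H : Has G Q) {o e c : ℕ} (ho : o ≠ 1) (hc : Q.count (o, 1, e, c) ≤ 1) {x y : G}
    (hx : (orderOf x, mz x, ez x, cz x) = (o, 1, e, c)) (hy : (orderOf y, mz y, ez y, cz y) = (o, 1, e, c)) :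
    IsConj x y := by
  refine isConj_of_mz (congrArg (·.2.1) hx) (H.uniq x y ?_ (hx.trans hy.symm) (hx ▸ hc))
  rintro rfl
  exact ho (by simpa using (congrArg (·.1) hx).symm)

theorem Has.of_ord (H : Has G Q) {o : ℕ} (ho : o ≠ 1) {P : ℕ × ℕ × ℕ × ℕ → Prop}
    (h : ∀ q ∈ Q, q.1 = o → P q) {x : G} (hx : orderOf x = o) : P (orderOf x, mz x, ez x, cz x) :=
  h _ (H.mem x (by rintro rfl; exact ho (by simpa using hx.symm))) hx

theorem Has.nine [IsSimpleGroup G] (hG : ¬ IsMulCommutative G) (H : Has G Q)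
    (h1 : (3, 1, 2, 9) ∈ Q) (h2 : Q.count (3, 1, 2, 9) ≤ 1) (h3 : ∀ q ∈ Q, 3 ∣ q.1 → q = (3, 1, 2, 9)) :
    ∃ S : IrrCharacter G → ℤ, Tst 9 8 8 S := by
  obtain ⟨x, hx⟩ := H.ex _ h1
  exact deg_nine hG (congrArg (·.2.2.2) hx) fun y hy => H.conj (by norm_num) h2 hx
    (h3 _ (H.mem y (by rintro rfl; simp at hy)) hy)

variable [IsSimpleGroup G] (hG : ¬ IsMulCommutative G) (hK : Nat.card (ConjClasses G) = 9)
  (H : Has G Q)
include hG hK H

theorem no336 (hc : Nat.card G = 336) (h : (7, 1, 6, 7) ∈ Q) : False := by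
  obtain ⟨S, T⟩ := H.tst hG (by norm_num) h
  exact kill hG hK T T T (g := 335) (b := 19) hc (by decide) [(256, 4, 4, 4), (196, 0, 0, 0),
    (144, 4, 4, 4), (64, 1, 1, 1), (49, 0, 0, 0), (36, 1, 1, 1)] (by decide +kernel) (by decide +kernel)

theorem no720 (hc : Nat.card G = 720) (h : (5, 1, 4, 5) ∈ Q) (h1 : (3, 1, 2, 9) ∈ Q)
    (h2 : Q.count (3, 1, 2, 9) ≤ 1) (h3 : ∀ q ∈ Q, 3 ∣ q.1 → q = (3, 1, 2, 9)) : False := by
  obtain ⟨S, T⟩ := H.tst hG (by norm_num) h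
  obtain ⟨S', T'⟩ := H.nine hG h1 h2 h3
  exact kill hG hK T T' T' (g := 719) (b := 27) hc (by decide) [(400, 0, 4, 4), (324, 4, 0, 0),
    (256, 1, 4, 4), (100, 0, 1, 1), (81, 1, 0, 0), (64, 4, 1, 1)] (by decide +kernel) (by decide +kernel)

theorem no20160 (hc : Nat.card G = 20160) (h : (5, 2, 2, 5) ∈ Q) (h' : (7, 2, 3, 7) ∈ Q)
    (h1 : (3, 1, 2, 9) ∈ Q) (h2 : Q.count (3, 1, 2, 9) ≤ 1) (h3 : ∀ q ∈ Q, 3 ∣ q.1 → q = (3, 1, 2, 9)) :
    False := by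
  obtain ⟨S, T⟩ := H.tst hG (by norm_num) h
  obtain ⟨S, T'⟩ := H.tst hG (by norm_num) h'
  obtain ⟨S', T''⟩ := H.nine hG h1 h2 h3
  exact kill hG hK T T' T'' (g := 20159) (b := 142) hc (by decide) [(15876, 4, 0, 0), (8100, 0, 4, 0),
    (6400, 0, 1, 1), (5184, 1, 9, 0), (4900, 0, 0, 4), (4096, 4, 4, 1), (3969, 1, 0, 0), (3136, 4, 0, 4),
    (2025, 0, 1, 0), (1296, 4, 4, 0), (1225, 0, 0, 1), (784, 1, 0, 1), (400, 0, 4, 4), (324, 1, 1, 0),
    (256, 4, 9, 4), (100, 0, 1, 1), (81, 4, 9, 0), (64, 1, 4, 1)] (by decide +kernel) (by decide +kernel)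

omit hK in
theorem is504 (hc : Nat.card G = 504) (h : ∀ q ∈ Q, q.1 = 2 → q.2.2.2 = 8) (h' : ∀ q ∈ Q, q.1 = 4 → False) :
    ∃ (F : Type) (_ : Field F) (_ : Fintype F), Fintype.card F = 8 ∧
      Nonempty (G ≃* Matrix.ProjectiveSpecialLinearGroup (Fin 2) F) :=
  H3.NQ.rec504 hG hc (fun z h1 h2 => H.of_ord (o := 2) (by norm_num) h
    (orderOf_eq_prime (by rw [pow_two, h1]) h2)) fun _ h1 => (H.of_ord (by norm_num) h' h1).elim

omit H hK hG in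
theorem nine {G : Type*} [Group G] [Finite G] [IsSimpleGroup G] (hG : ¬ IsMulCommutative G)
    (h : Nat.card (ConjClasses G) = 9) :
    (∃ (F : Type) (_ : Field F) (_ : Fintype F), Fintype.card F = 8 ∧
        Nonempty (G ≃* Matrix.ProjectiveSpecialLinearGroup (Fin 2) F)) ∨
      Nonempty (G ≃* Matrix.ProjectiveSpecialLinearGroup (Fin 2) (ZMod 13)) ∨
      Nonempty (G ≃* ↥(alternatingGroup (Fin 7))) := by
  have := Fintype.ofFinite G
  obtain ⟨Q, hQ, H⟩ := has9 hG h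
  simp only [acc9, List.mem_cons, Prod.mk.injEq, List.not_mem_nil, or_false] at hQ
  rcases hQ with ⟨c, rfl⟩ | ⟨c, rfl⟩ | ⟨c, rfl⟩ | ⟨c, rfl⟩ | ⟨c, rfl⟩ | ⟨c, rfl⟩ | ⟨c, rfl⟩ | ⟨c, rfl⟩ |
    ⟨c, rfl⟩ | ⟨c, rfl⟩ | ⟨c, rfl⟩ | ⟨c, rfl⟩ | ⟨c, rfl⟩ | ⟨c, rfl⟩ | ⟨c, rfl⟩
  · obtain ⟨y, hy⟩ := H.ex (13, 2, 6, 13) (by decide)
    exact Or.inr (Or.inl (rec1092 c (congrArg (·.1) hy) (congrArg (·.2.2.2) hy)))
  iterate 2 exact (no20160 hG h H c (by decide) (by decide) (by decide) (by decide) (by decide)).elim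
  · obtain ⟨x, hx⟩ := H.ex (3, 1, 2, 36) (by decide)
    have k2 := @Has.of_ord _ _ _ _ H 2 (by decide) (· = (2, 1, 1, 24)) (by decide)
    have k6 := @Has.of_ord _ _ _ _ H 6 (by decide) (· = (6, 1, 2, 12)) (by decide)
    refine Or.inr (Or.inr (H3.AS.alt7 c
      (fun s t hs ht => H.conj (by decide) (by decide) (k2 hs) (k2 ht))
      (fun t ht => congrArg (·.2.2.2) (k2 ht))
      (fun r hr => H.of_ord (o := 4) (P := (·.2.2.2 = 4)) (by decide) (by decide) hr)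
      (fun s t hs ht => H.conj (by decide) (by decide) (k6 hs) (k6 ht))
      (fun t ht => congrArg (·.2.2.2) (k6 ht)) (congrArg (·.1) hx) (congrArg (·.2.2.2) hx) fun y hy => ?_))
    exact (H.of_ord (o := 3) (P := fun q => q = (3, 1, 2, 36) ∨ q.2.2.2 = 9) (by decide) (by decide) hy).imp_left
      (H.conj (by decide) (by decide) hx)
  iterate 2 exact (no336 hG h H c (by decide)).elim
  iterate 2 exact Or.inl (is504 hG H c (by decide) (by decide))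
  all_goals exact (no720 hG h H c (by decide) (by decide) (by decide) (by decide)).elim

end Cfsg.Agent.H9.KC
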