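import Cfsg.Agent.H9.KD0

/-! The surviving class data for ten and eleven classes. -/

set_option autoImplicit false

namespace Cfsg.Agent.H9.KC

/-- the surviving data for ten classes -/
def acc10 : List (ℕ × List (ℕ × ℕ × ℕ × ℕ)) := [
  (756, [(3, 1, 2, 54), (2, 1, 1, 12), (3, 1, 2, 9), (3, 1, 2, 9), (3, 1, 2, 9), (3, 1, 2, 9), (7, 2, 3, 7), (6, 1, 2, 6)]),
  (756, [(3, 1, 2, 54), (2, 1, 1, 12), (3, 1, 2, 9), (3, 1, 2, 9), (3, 1, 2, 9), (9, 1, 6, 9), (7, 2, 3, 7), (6, 1, 2, 6)]),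
  (756, [(3, 1, 2, 54), (2, 1, 1, 12), (3, 1, 2, 9), (3, 1, 2, 9), (9, 1, 6, 9), (9, 1, 6, 9), (7, 2, 3, 7), (6, 1, 2, 6)]),
  (756, [(3, 1, 2, 54), (2, 1, 1, 12), (3, 1, 2, 9), (9, 1, 6, 9), (9, 1, 6, 9), (9, 1, 6, 9), (7, 2, 3, 7), (6, 1, 2, 6)]),
  (756, [(3, 1, 2, 54), (2, 1, 1, 12), (3, 1, 2, 9), (9, 3, 2, 9), (7, 2, 3, 7), (6, 1, 2, 6)]),
  (756, [(3, 1, 2, 54), (2, 1, 1, 12), (9, 1, 6, 9), (9, 1, 6, 9), (9, 1, 6, 9), (9, 1, 6, 9), (7, 2, 3, 7), (6, 1, 2, 6)]),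
  (7920, [(2, 1, 1, 48), (3, 1, 2, 18), (11, 2, 5, 11), (4, 1, 2, 8), (4, 1, 2, 8), (4, 1, 2, 8), (6, 1, 2, 6), (5, 1, 4, 5)]),
  (7920, [(2, 1, 1, 48), (3, 1, 2, 18), (11, 2, 5, 11), (4, 1, 2, 8), (4, 2, 1, 8), (6, 1, 2, 6), (5, 1, 4, 5)]),
  (7920, [(2, 1, 1, 48), (3, 1, 2, 18), (11, 2, 5, 11), (4, 1, 2, 8), (8, 2, 2, 8), (6, 1, 2, 6), (5, 1, 4, 5)])]

/-- the surviving data for eleven classes -/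
def acc11 : List (ℕ × List (ℕ × ℕ × ℕ × ℕ)) := [
  (720, [(2, 1, 1, 48), (2, 1, 1, 48), (3, 1, 2, 18), (3, 1, 2, 18), (2, 1, 1, 16), (4, 1, 2, 8), (4, 1, 2, 8), (6, 1, 2, 6), (6, 1, 2, 6), (5, 1, 4, 5)]),
  (720, [(2, 1, 1, 48), (2, 1, 1, 48), (3, 1, 2, 18), (3, 1, 2, 18), (2, 1, 1, 16), (4, 2, 1, 8), (6, 1, 2, 6), (6, 1, 2, 6), (5, 1, 4, 5)]),
  (720, [(3, 1, 2, 36), (2, 1, 1, 24), (2, 1, 1, 16), (6, 1, 2, 12), (3, 1, 2, 9), (3, 1, 2, 9), (3, 1, 2, 9), (4, 1, 2, 8), (4, 1, 2, 8), (5, 1, 4, 5)]),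
  (720, [(3, 1, 2, 36), (2, 1, 1, 24), (2, 1, 1, 16), (6, 1, 2, 12), (3, 1, 2, 9), (3, 1, 2, 9), (3, 1, 2, 9), (4, 2, 1, 8), (5, 1, 4, 5)]),
  (720, [(3, 1, 2, 36), (2, 1, 1, 24), (2, 1, 1, 16), (6, 1, 2, 12), (3, 1, 2, 9), (3, 2, 1, 9), (4, 1, 2, 8), (4, 1, 2, 8), (5, 1, 4, 5)]),
  (720, [(3, 1, 2, 36), (2, 1, 1, 24), (2, 1, 1, 16), (6, 1, 2, 12), (9, 3, 2, 9), (4, 1, 2, 8), (4, 1, 2, 8), (5, 1, 4, 5)]),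
  (720, [(3, 1, 2, 36), (2, 1, 1, 24), (2, 1, 1, 16), (6, 1, 2, 12), (9, 3, 2, 9), (4, 2, 1, 8), (5, 1, 4, 5)]),
  (756, [(3, 1, 2, 27), (3, 1, 2, 27), (3, 1, 2, 18), (2, 1, 1, 12), (3, 1, 2, 9), (3, 1, 2, 9), (3, 1, 2, 9), (7, 2, 3, 7), (6, 1, 2, 6)]),
  (756, [(3, 1, 2, 27), (3, 1, 2, 27), (3, 1, 2, 18), (2, 1, 1, 12), (3, 1, 2, 9), (3, 1, 2, 9), (9, 1, 6, 9), (7, 2, 3, 7), (6, 1, 2, 6)]),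
  (756, [(3, 1, 2, 27), (3, 1, 2, 27), (3, 1, 2, 18), (2, 1, 1, 12), (3, 1, 2, 9), (3, 2, 1, 9), (7, 2, 3, 7), (6, 1, 2, 6)]),
  (756, [(3, 1, 2, 27), (3, 1, 2, 27), (3, 1, 2, 18), (2, 1, 1, 12), (3, 1, 2, 9), (9, 1, 6, 9), (9, 1, 6, 9), (7, 2, 3, 7), (6, 1, 2, 6)]),
  (756, [(3, 1, 2, 27), (3, 1, 2, 27), (3, 1, 2, 18), (2, 1, 1, 12), (3, 1, 2, 9), (9, 2, 3, 9), (7, 2, 3, 7), (6, 1, 2, 6)]),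
  (756, [(3, 1, 2, 27), (3, 1, 2, 27), (3, 1, 2, 18), (2, 1, 1, 12), (3, 2, 1, 9), (9, 1, 6, 9), (7, 2, 3, 7), (6, 1, 2, 6)]),
  (756, [(3, 1, 2, 27), (3, 1, 2, 27), (3, 1, 2, 18), (2, 1, 1, 12), (9, 1, 6, 9), (9, 1, 6, 9), (9, 1, 6, 9), (7, 2, 3, 7), (6, 1, 2, 6)]),
  (756, [(3, 1, 2, 27), (3, 1, 2, 27), (3, 1, 2, 18), (2, 1, 1, 12), (9, 1, 6, 9), (9, 2, 3, 9), (7, 2, 3, 7), (6, 1, 2, 6)]),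
  (756, [(3, 1, 2, 27), (3, 1, 2, 27), (3, 1, 2, 18), (2, 1, 1, 12), (9, 3, 2, 9), (7, 2, 3, 7), (6, 1, 2, 6)]),
  (756, [(3, 2, 1, 27), (3, 1, 2, 18), (2, 1, 1, 12), (3, 1, 2, 9), (3, 1, 2, 9), (3, 1, 2, 9), (7, 2, 3, 7), (6, 1, 2, 6)]),
  (756, [(3, 2, 1, 27), (3, 1, 2, 18), (2, 1, 1, 12), (3, 1, 2, 9), (3, 1, 2, 9), (9, 1, 6, 9), (7, 2, 3, 7), (6, 1, 2, 6)]),
  (756, [(3, 2, 1, 27), (3, 1, 2, 18), (2, 1, 1, 12), (3, 1, 2, 9), (9, 1, 6, 9), (9, 1, 6, 9), (7, 2, 3, 7), (6, 1, 2, 6)]),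
  (756, [(3, 2, 1, 27), (3, 1, 2, 18), (2, 1, 1, 12), (9, 3, 2, 9), (7, 2, 3, 7), (6, 1, 2, 6)]),
  (1344, [(2, 1, 1, 64), (2, 1, 1, 48), (2, 1, 1, 32), (4, 1, 2, 16), (4, 1, 2, 8), (4, 1, 2, 8), (7, 2, 3, 7), (3, 1, 2, 6), (6, 1, 2, 6)]),
  (1344, [(2, 1, 1, 64), (2, 1, 1, 48), (2, 1, 1, 32), (4, 1, 2, 16), (4, 1, 2, 8), (8, 1, 4, 8), (7, 2, 3, 7), (3, 1, 2, 6), (6, 1, 2, 6)]),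
  (1344, [(2, 1, 1, 64), (2, 1, 1, 48), (2, 1, 1, 32), (4, 1, 2, 16), (8, 1, 4, 8), (8, 1, 4, 8), (7, 2, 3, 7), (3, 1, 2, 6), (6, 1, 2, 6)]),
  (1344, [(2, 1, 1, 64), (2, 1, 1, 48), (2, 1, 1, 32), (4, 1, 2, 16), (8, 2, 2, 8), (7, 2, 3, 7), (3, 1, 2, 6), (6, 1, 2, 6)]),
  (1344, [(2, 1, 1, 64), (2, 1, 1, 48), (2, 1, 1, 32), (8, 1, 4, 16), (4, 1, 2, 8), (4, 1, 2, 8), (7, 2, 3, 7), (3, 1, 2, 6), (6, 1, 2, 6)]),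
  (1344, [(2, 1, 1, 64), (2, 1, 1, 48), (4, 1, 2, 32), (4, 1, 2, 16), (4, 1, 2, 8), (4, 1, 2, 8), (7, 2, 3, 7), (3, 1, 2, 6), (6, 1, 2, 6)]),
  (1344, [(2, 1, 1, 64), (2, 1, 1, 48), (4, 1, 2, 32), (4, 1, 2, 16), (4, 1, 2, 8), (8, 1, 4, 8), (7, 2, 3, 7), (3, 1, 2, 6), (6, 1, 2, 6)]),
  (1344, [(2, 1, 1, 64), (2, 1, 1, 48), (4, 1, 2, 32), (4, 1, 2, 16), (4, 2, 1, 8), (7, 2, 3, 7), (3, 1, 2, 6), (6, 1, 2, 6)]),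
  (1344, [(2, 1, 1, 64), (2, 1, 1, 48), (4, 1, 2, 32), (4, 1, 2, 16), (8, 1, 4, 8), (8, 1, 4, 8), (7, 2, 3, 7), (3, 1, 2, 6), (6, 1, 2, 6)]),
  (1344, [(2, 1, 1, 64), (2, 1, 1, 48), (4, 1, 2, 32), (4, 1, 2, 16), (8, 2, 2, 8), (7, 2, 3, 7), (3, 1, 2, 6), (6, 1, 2, 6)]),
  (1344, [(2, 1, 1, 64), (2, 1, 1, 48), (4, 1, 2, 32), (8, 1, 4, 16), (4, 1, 2, 8), (4, 1, 2, 8), (7, 2, 3, 7), (3, 1, 2, 6), (6, 1, 2, 6)]),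
  (1344, [(2, 1, 1, 64), (2, 1, 1, 48), (4, 1, 2, 32), (8, 1, 4, 16), (4, 1, 2, 8), (8, 1, 4, 8), (7, 2, 3, 7), (3, 1, 2, 6), (6, 1, 2, 6)]),
  (1344, [(2, 1, 1, 64), (2, 1, 1, 48), (4, 1, 2, 32), (8, 1, 4, 16), (4, 2, 1, 8), (7, 2, 3, 7), (3, 1, 2, 6), (6, 1, 2, 6)]),
  (1344, [(2, 1, 1, 64), (2, 1, 1, 48), (4, 1, 2, 32), (8, 1, 4, 16), (8, 1, 4, 8), (8, 1, 4, 8), (7, 2, 3, 7), (3, 1, 2, 6), (6, 1, 2, 6)]),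
  (1344, [(2, 1, 1, 64), (2, 1, 1, 48), (4, 1, 2, 32), (8, 1, 4, 16), (8, 2, 2, 8), (7, 2, 3, 7), (3, 1, 2, 6), (6, 1, 2, 6)]),
  (1512, [(3, 1, 2, 27), (2, 1, 1, 24), (3, 2, 1, 18), (3, 1, 2, 9), (3, 1, 2, 9), (3, 1, 2, 9), (7, 1, 6, 7), (6, 2, 1, 6)]),
  (1512, [(3, 1, 2, 27), (2, 1, 1, 24), (3, 2, 1, 18), (3, 1, 2, 9), (3, 1, 2, 9), (9, 1, 6, 9), (7, 1, 6, 7), (6, 2, 1, 6)]),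
  (1512, [(3, 1, 2, 27), (2, 1, 1, 24), (3, 2, 1, 18), (3, 1, 2, 9), (3, 2, 1, 9), (7, 1, 6, 7), (6, 2, 1, 6)]),
  (1512, [(3, 1, 2, 27), (2, 1, 1, 24), (3, 2, 1, 18), (3, 1, 2, 9), (9, 1, 6, 9), (9, 1, 6, 9), (7, 1, 6, 7), (6, 2, 1, 6)]),
  (1512, [(3, 1, 2, 27), (2, 1, 1, 24), (3, 2, 1, 18), (3, 1, 2, 9), (9, 2, 3, 9), (7, 1, 6, 7), (6, 2, 1, 6)]),
  (1512, [(3, 1, 2, 27), (2, 1, 1, 24), (3, 2, 1, 18), (3, 2, 1, 9), (9, 1, 6, 9), (7, 1, 6, 7), (6, 2, 1, 6)]),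
  (1512, [(3, 1, 2, 27), (2, 1, 1, 24), (3, 2, 1, 18), (9, 1, 6, 9), (9, 1, 6, 9), (9, 1, 6, 9), (7, 1, 6, 7), (6, 2, 1, 6)]),
  (1512, [(3, 1, 2, 27), (2, 1, 1, 24), (3, 2, 1, 18), (9, 1, 6, 9), (9, 2, 3, 9), (7, 1, 6, 7), (6, 2, 1, 6)]),
  (1512, [(3, 1, 2, 27), (2, 1, 1, 24), (3, 2, 1, 18), (9, 3, 2, 9), (7, 1, 6, 7), (6, 2, 1, 6)]),
  (1512, [(3, 2, 1, 54), (2, 1, 1, 24), (3, 1, 2, 9), (3, 1, 2, 9), (3, 1, 2, 9), (3, 1, 2, 9), (7, 1, 6, 7), (6, 2, 1, 6)]),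
  (1512, [(3, 2, 1, 54), (2, 1, 1, 24), (3, 1, 2, 9), (3, 1, 2, 9), (3, 1, 2, 9), (9, 1, 6, 9), (7, 1, 6, 7), (6, 2, 1, 6)]),
  (1512, [(3, 2, 1, 54), (2, 1, 1, 24), (3, 1, 2, 9), (3, 1, 2, 9), (3, 2, 1, 9), (7, 1, 6, 7), (6, 2, 1, 6)]),
  (1512, [(3, 2, 1, 54), (2, 1, 1, 24), (3, 1, 2, 9), (3, 1, 2, 9), (9, 1, 6, 9), (9, 1, 6, 9), (7, 1, 6, 7), (6, 2, 1, 6)]),
  (1512, [(3, 2, 1, 54), (2, 1, 1, 24), (3, 1, 2, 9), (3, 1, 2, 9), (9, 2, 3, 9), (7, 1, 6, 7), (6, 2, 1, 6)]),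
  (1512, [(3, 2, 1, 54), (2, 1, 1, 24), (3, 1, 2, 9), (9, 3, 2, 9), (7, 1, 6, 7), (6, 2, 1, 6)]),
  (1920, [(2, 1, 1, 128), (2, 1, 1, 48), (2, 1, 1, 32), (4, 1, 2, 32), (4, 1, 2, 8), (4, 1, 2, 8), (4, 1, 2, 8), (3, 1, 2, 6), (6, 1, 2, 6), (5, 1, 4, 5)]),
  (1920, [(2, 1, 1, 128), (2, 1, 1, 48), (2, 1, 1, 32), (4, 1, 2, 32), (4, 1, 2, 8), (4, 1, 2, 8), (8, 1, 4, 8), (3, 1, 2, 6), (6, 1, 2, 6), (5, 1, 4, 5)]),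
  (1920, [(2, 1, 1, 128), (2, 1, 1, 48), (2, 1, 1, 32), (4, 1, 2, 32), (4, 1, 2, 8), (4, 2, 1, 8), (3, 1, 2, 6), (6, 1, 2, 6), (5, 1, 4, 5)]),
  (1920, [(2, 1, 1, 128), (2, 1, 1, 48), (2, 1, 1, 32), (4, 1, 2, 32), (4, 1, 2, 8), (8, 1, 4, 8), (8, 1, 4, 8), (3, 1, 2, 6), (6, 1, 2, 6), (5, 1, 4, 5)]),
  (1920, [(2, 1, 1, 128), (2, 1, 1, 48), (2, 1, 1, 32), (4, 1, 2, 32), (4, 1, 2, 8), (8, 2, 2, 8), (3, 1, 2, 6), (6, 1, 2, 6), (5, 1, 4, 5)]),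
  (1920, [(2, 1, 1, 128), (2, 1, 1, 48), (2, 1, 1, 32), (4, 1, 2, 32), (4, 2, 1, 8), (8, 1, 4, 8), (3, 1, 2, 6), (6, 1, 2, 6), (5, 1, 4, 5)]),
  (1920, [(2, 1, 1, 128), (2, 1, 1, 48), (2, 1, 1, 32), (4, 1, 2, 32), (8, 1, 4, 8), (8, 1, 4, 8), (8, 1, 4, 8), (3, 1, 2, 6), (6, 1, 2, 6), (5, 1, 4, 5)]),
  (1920, [(2, 1, 1, 128), (2, 1, 1, 48), (2, 1, 1, 32), (4, 1, 2, 32), (8, 1, 4, 8), (8, 2, 2, 8), (3, 1, 2, 6), (6, 1, 2, 6), (5, 1, 4, 5)]),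
  (1920, [(2, 1, 1, 128), (2, 1, 1, 48), (2, 1, 1, 32), (8, 1, 4, 32), (4, 1, 2, 8), (4, 1, 2, 8), (4, 1, 2, 8), (3, 1, 2, 6), (6, 1, 2, 6), (5, 1, 4, 5)]),
  (1920, [(2, 1, 1, 128), (2, 1, 1, 48), (2, 1, 1, 32), (8, 1, 4, 32), (4, 1, 2, 8), (4, 1, 2, 8), (8, 1, 4, 8), (3, 1, 2, 6), (6, 1, 2, 6), (5, 1, 4, 5)]),
  (4032, [(2, 1, 1, 192), (2, 1, 1, 32), (3, 1, 2, 18), (4, 1, 2, 16), (4, 1, 2, 8), (4, 1, 2, 8), (7, 3, 2, 7), (6, 1, 2, 6)]),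
  (4032, [(2, 1, 1, 192), (2, 1, 1, 32), (3, 1, 2, 18), (4, 1, 2, 16), (4, 1, 2, 8), (8, 1, 4, 8), (7, 3, 2, 7), (6, 1, 2, 6)]),
  (4032, [(2, 1, 1, 192), (2, 1, 1, 32), (3, 1, 2, 18), (4, 1, 2, 16), (4, 2, 1, 8), (7, 3, 2, 7), (6, 1, 2, 6)]),
  (4032, [(2, 1, 1, 192), (2, 1, 1, 32), (3, 1, 2, 18), (4, 1, 2, 16), (8, 1, 4, 8), (8, 1, 4, 8), (7, 3, 2, 7), (6, 1, 2, 6)]),
  (4032, [(2, 1, 1, 192), (2, 1, 1, 32), (3, 1, 2, 18), (4, 1, 2, 16), (8, 2, 2, 8), (7, 3, 2, 7), (6, 1, 2, 6)]),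
  (4032, [(2, 1, 1, 192), (2, 1, 1, 32), (3, 1, 2, 18), (8, 1, 4, 16), (4, 1, 2, 8), (4, 1, 2, 8), (7, 3, 2, 7), (6, 1, 2, 6)]),
  (5760, [(2, 1, 1, 128), (4, 1, 2, 64), (2, 1, 1, 48), (3, 1, 2, 18), (3, 1, 2, 9), (3, 1, 2, 9), (3, 1, 2, 9), (6, 1, 2, 6), (5, 2, 2, 5)]),
  (5760, [(2, 1, 1, 128), (4, 1, 2, 64), (2, 1, 1, 48), (3, 1, 2, 18), (3, 1, 2, 9), (3, 2, 1, 9), (6, 1, 2, 6), (5, 2, 2, 5)]),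
  (5760, [(2, 1, 1, 128), (4, 1, 2, 64), (2, 1, 1, 48), (3, 1, 2, 18), (9, 3, 2, 9), (6, 1, 2, 6), (5, 2, 2, 5)]),
  (6048, [(2, 1, 1, 96), (3, 1, 2, 27), (3, 2, 1, 18), (3, 1, 2, 9), (3, 1, 2, 9), (7, 2, 3, 7), (6, 2, 1, 6)]),
  (6048, [(2, 1, 1, 96), (3, 1, 2, 27), (3, 2, 1, 18), (3, 1, 2, 9), (9, 1, 6, 9), (7, 2, 3, 7), (6, 2, 1, 6)]),
  (6048, [(2, 1, 1, 96), (3, 1, 2, 27), (3, 2, 1, 18), (3, 2, 1, 9), (7, 2, 3, 7), (6, 2, 1, 6)]),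
  (6048, [(2, 1, 1, 96), (3, 1, 2, 27), (3, 2, 1, 18), (9, 1, 6, 9), (9, 1, 6, 9), (7, 2, 3, 7), (6, 2, 1, 6)]),
  (6048, [(2, 1, 1, 96), (3, 1, 2, 27), (3, 2, 1, 18), (9, 2, 3, 9), (7, 2, 3, 7), (6, 2, 1, 6)]),
  (6048, [(2, 1, 1, 96), (3, 2, 1, 54), (3, 1, 2, 9), (3, 1, 2, 9), (3, 1, 2, 9), (7, 2, 3, 7), (6, 2, 1, 6)]),
  (6048, [(2, 1, 1, 96), (3, 2, 1, 54), (3, 1, 2, 9), (3, 1, 2, 9), (9, 1, 6, 9), (7, 2, 3, 7), (6, 2, 1, 6)]),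
  (6048, [(2, 1, 1, 96), (3, 2, 1, 54), (3, 1, 2, 9), (3, 2, 1, 9), (7, 2, 3, 7), (6, 2, 1, 6)]),
  (6048, [(2, 1, 1, 96), (3, 2, 1, 54), (3, 1, 2, 9), (9, 2, 3, 9), (7, 2, 3, 7), (6, 2, 1, 6)]),
  (7920, [(2, 1, 1, 48), (3, 1, 2, 18), (4, 2, 1, 16), (11, 2, 5, 11), (4, 1, 2, 8), (4, 1, 2, 8), (6, 1, 2, 6), (5, 1, 4, 5)]),
  (7920, [(2, 1, 1, 48), (3, 1, 2, 18), (4, 2, 1, 16), (11, 2, 5, 11), (4, 2, 1, 8), (6, 1, 2, 6), (5, 1, 4, 5)]),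
  (7920, [(2, 1, 1, 48), (3, 1, 2, 18), (4, 2, 1, 16), (11, 2, 5, 11), (8, 2, 2, 8), (6, 1, 2, 6), (5, 1, 4, 5)]),
  (13440, [(2, 1, 1, 640), (4, 1, 2, 64), (2, 1, 1, 48), (5, 1, 4, 10), (10, 1, 4, 10), (7, 3, 2, 7), (3, 1, 2, 6), (6, 1, 2, 6)]),
  (15600, [(2, 1, 1, 48), (5, 1, 4, 25), (13, 3, 4, 13), (4, 1, 2, 8), (4, 1, 2, 8), (4, 1, 2, 8), (3, 1, 2, 6), (6, 1, 2, 6)]),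
  (15600, [(2, 1, 1, 48), (5, 1, 4, 25), (13, 3, 4, 13), (4, 1, 2, 8), (4, 2, 1, 8), (3, 1, 2, 6), (6, 1, 2, 6)]),
  (15600, [(2, 1, 1, 48), (5, 1, 4, 25), (13, 3, 4, 13), (4, 1, 2, 8), (8, 2, 2, 8), (3, 1, 2, 6), (6, 1, 2, 6)]),
  (29160, [(3, 1, 2, 1458), (3, 1, 2, 486), (2, 1, 1, 72), (6, 1, 2, 18), (6, 1, 2, 18), (3, 1, 2, 9), (3, 1, 2, 9), (5, 2, 2, 5), (4, 1, 2, 4)]),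
  (29160, [(3, 1, 2, 1458), (3, 1, 2, 486), (2, 1, 1, 72), (6, 1, 2, 18), (6, 1, 2, 18), (3, 1, 2, 9), (9, 1, 6, 9), (5, 2, 2, 5), (4, 1, 2, 4)]),
  (29160, [(3, 1, 2, 1458), (3, 1, 2, 486), (2, 1, 1, 72), (6, 1, 2, 18), (6, 1, 2, 18), (3, 2, 1, 9), (5, 2, 2, 5), (4, 1, 2, 4)]),
  (29160, [(3, 1, 2, 1458), (3, 1, 2, 486), (2, 1, 1, 72), (6, 1, 2, 18), (6, 1, 2, 18), (9, 1, 6, 9), (9, 1, 6, 9), (5, 2, 2, 5), (4, 1, 2, 4)]),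
  (29160, [(3, 1, 2, 1458), (3, 1, 2, 486), (2, 1, 1, 72), (6, 1, 2, 18), (6, 1, 2, 18), (9, 2, 3, 9), (5, 2, 2, 5), (4, 1, 2, 4)]),
  (86016, [(2, 1, 1, 4096), (2, 1, 1, 2048), (2, 1, 1, 192), (4, 1, 2, 8), (4, 1, 2, 8), (4, 1, 2, 8), (7, 2, 3, 7), (3, 1, 2, 6), (6, 1, 2, 6)]),
  (86016, [(2, 1, 1, 4096), (2, 1, 1, 2048), (2, 1, 1, 192), (4, 1, 2, 8), (4, 1, 2, 8), (8, 1, 4, 8), (7, 2, 3, 7), (3, 1, 2, 6), (6, 1, 2, 6)]),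
  (86016, [(2, 1, 1, 4096), (2, 1, 1, 2048), (2, 1, 1, 192), (4, 1, 2, 8), (4, 2, 1, 8), (7, 2, 3, 7), (3, 1, 2, 6), (6, 1, 2, 6)]),
  (86016, [(2, 1, 1, 4096), (2, 1, 1, 2048), (2, 1, 1, 192), (4, 1, 2, 8), (8, 2, 2, 8), (7, 2, 3, 7), (3, 1, 2, 6), (6, 1, 2, 6)]),
  (86016, [(2, 1, 1, 4096), (4, 1, 2, 2048), (2, 1, 1, 192), (4, 1, 2, 8), (4, 1, 2, 8), (4, 1, 2, 8), (7, 2, 3, 7), (3, 1, 2, 6), (6, 1, 2, 6)]),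
  (86016, [(2, 1, 1, 4096), (4, 1, 2, 2048), (2, 1, 1, 192), (4, 1, 2, 8), (4, 1, 2, 8), (8, 1, 4, 8), (7, 2, 3, 7), (3, 1, 2, 6), (6, 1, 2, 6)]),
  (86016, [(2, 1, 1, 4096), (4, 1, 2, 2048), (2, 1, 1, 192), (4, 1, 2, 8), (4, 2, 1, 8), (7, 2, 3, 7), (3, 1, 2, 6), (6, 1, 2, 6)]),
  (86016, [(2, 1, 1, 4096), (4, 1, 2, 2048), (2, 1, 1, 192), (4, 1, 2, 8), (8, 1, 4, 8), (8, 1, 4, 8), (7, 2, 3, 7), (3, 1, 2, 6), (6, 1, 2, 6)]),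
  (86016, [(2, 1, 1, 4096), (4, 1, 2, 2048), (2, 1, 1, 192), (4, 1, 2, 8), (8, 2, 2, 8), (7, 2, 3, 7), (3, 1, 2, 6), (6, 1, 2, 6)]),
  (86016, [(2, 1, 1, 4096), (4, 1, 2, 2048), (2, 1, 1, 192), (4, 2, 1, 8), (8, 1, 4, 8), (7, 2, 3, 7), (3, 1, 2, 6), (6, 1, 2, 6)]),
  (86016, [(2, 1, 1, 4096), (4, 1, 2, 2048), (2, 1, 1, 192), (8, 1, 4, 8), (8, 1, 4, 8), (8, 1, 4, 8), (7, 2, 3, 7), (3, 1, 2, 6), (6, 1, 2, 6)]),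
  (86016, [(2, 1, 1, 4096), (4, 1, 2, 2048), (2, 1, 1, 192), (8, 1, 4, 8), (8, 2, 2, 8), (7, 2, 3, 7), (3, 1, 2, 6), (6, 1, 2, 6)])]

/-- the final test for ten classes -/
def fin10 (Q : List (ℕ × ℕ × ℕ × ℕ)) (g : ℕ) : Bool := !decide (FinOK Q g) || decide ((g, Q) ∈ acc10)

/-- the final test for eleven classes -/
def fin11 (Q : List (ℕ × ℕ × ℕ × ℕ)) (g : ℕ) : Bool := !decide (FinOK Q g) || decide ((g, Q) ∈ acc11)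

/-- one part of the computation for ten classes -/
noncomputable def pa10 (sp : List (ℕ × ℕ)) : Bool := sk2 9 fin10 12 sp [] [(1, 1, [])] 0 9 1 0

/-- one part of the computation for eleven classes -/
noncomputable def pa11 (sp : List (ℕ × ℕ)) : Bool := sk2 10 fin11 12 sp [] [(1, 1, [])] 0 10 1 0

end Cfsg.Agent.H9.KC
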