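import Cfsg.Agent.H9.KD1

/-! Kernel computations for the class data sieve. -/

set_option autoImplicit false
set_option Elab.async false
set_option maxRecDepth 100000

namespace Cfsg.Agent.H9.KC

theorem q10_0 : pa10 [(1, 0), (1, 0), (2, 0), (2, 0), (7, 0), (2, 0), (5, 0)] = true := by decide +kernel

theorem q10_1 : pa10 [(1, 0), (1, 0), (2, 0), (2, 0), (7, 0), (2, 0), (5, 1)] = true := by decide +kernel

theorem q10_3 : pa10 [(1, 0), (1, 0), (2, 0), (2, 0), (7, 0), (2, 0), (5, 3)] = true := by decide +kernel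

theorem q10_5 : pa10 [(1, 0), (1, 0), (2, 0), (2, 0), (7, 0), (2, 1), (2, 0)] = true := by decide +kernel

theorem q10_6 : pa10 [(1, 0), (1, 0), (2, 0), (2, 0), (7, 0), (2, 1), (2, 1)] = true := by decide +kernel

theorem q10_9 : pa10 [(1, 0), (1, 0), (2, 0), (2, 0), (7, 3)] = true := by decide +kernel

theorem q10_10 : pa10 [(1, 0), (1, 0), (2, 0), (2, 0), (7, 4)] = true := by decide +kernel

theorem q10_16 : pa10 [(1, 0), (1, 0), (2, 0), (2, 0), (7, 5), (5, 3)] = true := by decide +kernel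

theorem q10_18 : pa10 [(1, 0), (1, 0), (2, 0), (2, 0), (7, 6)] = true := by decide +kernel

theorem q10_21 : pa10 [(1, 0), (1, 0), (2, 0), (2, 1), (2, 0), (2, 1)] = true := by decide +kernel

theorem q10_24 : pa10 [(1, 0), (1, 0), (2, 0), (2, 1), (2, 1), (2, 0), (2, 1), (2, 0)] = true := by decide +kernel

theorem q10_25 : pa10 [(1, 0), (1, 0), (2, 0), (2, 1), (2, 1), (2, 0), (2, 1), (2, 1)] = true := by decide +kernel

theorem q10_26 : pa10 [(1, 0), (1, 0), (2, 0), (2, 1), (2, 1), (2, 1), (2, 0)] = true := by decide +kernel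

theorem q10_27 : pa10 [(1, 0), (1, 0), (2, 0), (2, 1), (2, 1), (2, 1), (2, 1)] = true := by decide +kernel

theorem q10_28 : pa10 [(1, 0), (1, 0), (2, 1), (2, 0), (7, 0)] = true := by decide +kernel

theorem q10_31 : pa10 [(1, 0), (1, 0), (2, 1), (2, 0), (7, 3), (5, 0)] = true := by decide +kernel

theorem q10_32 : pa10 [(1, 0), (1, 0), (2, 1), (2, 0), (7, 3), (5, 1)] = true := by decide +kernel

theorem q10_34 : pa10 [(1, 0), (1, 0), (2, 1), (2, 0), (7, 3), (5, 2), (2, 1)] = true := by decide +kernel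

theorem q10_35 : pa10 [(1, 0), (1, 0), (2, 1), (2, 0), (7, 3), (5, 3), (2, 0)] = true := by decide +kernel

theorem q10_36 : pa10 [(1, 0), (1, 0), (2, 1), (2, 0), (7, 3), (5, 3), (2, 1)] = true := by decide +kernel

theorem q10_38 : pa10 [(1, 0), (1, 0), (2, 1), (2, 0), (7, 4)] = true := by decide +kernel

theorem q10_39 : pa10 [(1, 0), (1, 0), (2, 1), (2, 0), (7, 5), (2, 0), (3, 0)] = true := by decide +kernel

theorem q10_40 : pa10 [(1, 0), (1, 0), (2, 1), (2, 0), (7, 5), (2, 0), (3, 1)] = true := by decide +kernel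

theorem q10_45 : pa10 [(1, 0), (1, 0), (2, 1), (2, 1), (5, 0)] = true := by decide +kernel

theorem q10_47 : pa10 [(1, 0), (1, 0), (2, 1), (2, 1), (5, 2), (5, 0)] = true := by decide +kernel

theorem q10_49 : pa10 [(1, 0), (1, 0), (2, 1), (2, 1), (5, 2), (5, 2)] = true := by decide +kernel

theorem q10_50 : pa10 [(1, 0), (1, 0), (2, 1), (2, 1), (5, 2), (5, 3), (2, 0)] = true := by decide +kernel

theorem q10_53 : pa10 [(1, 0), (1, 0), (2, 1), (2, 1), (5, 2), (5, 4), (3, 1)] = true := by decide +kernel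

theorem q10_58 : pa10 [(1, 0), (1, 0), (2, 1), (2, 1), (5, 3), (5, 1), (2, 1)] = true := by decide +kernel

theorem q10_59 : pa10 [(1, 0), (1, 0), (2, 1), (2, 1), (5, 3), (5, 2)] = true := by decide +kernel

theorem q10_62 : pa10 [(1, 0), (1, 0), (2, 1), (2, 1), (5, 4)] = true := by decide +kernel

end Cfsg.Agent.H9.KC
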