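import Cfsg.Agent.H9.KD1

/-! Kernel computations for the class data sieve. -/

set_option autoImplicit false
set_option Elab.async false
set_option maxRecDepth 100000

namespace Cfsg.Agent.H9.KC

theorem q10_2 : pa10 [(1, 0), (1, 0), (2, 0), (2, 0), (7, 0), (2, 0), (5, 2)] = true := by decide +kernel

theorem q10_4 : pa10 [(1, 0), (1, 0), (2, 0), (2, 0), (7, 0), (2, 0), (5, 4)] = true := by decide +kernel

theorem q10_7 : pa10 [(1, 0), (1, 0), (2, 0), (2, 0), (7, 1)] = true := by decide +kernel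

theorem q10_8 : pa10 [(1, 0), (1, 0), (2, 0), (2, 0), (7, 2)] = true := by decide +kernel

theorem q10_11 : pa10 [(1, 0), (1, 0), (2, 0), (2, 0), (7, 5), (5, 0)] = true := by decide +kernel

theorem q10_12 : pa10 [(1, 0), (1, 0), (2, 0), (2, 0), (7, 5), (5, 1), (2, 0)] = true := by decide +kernel

theorem q10_13 : pa10 [(1, 0), (1, 0), (2, 0), (2, 0), (7, 5), (5, 1), (2, 1)] = true := by decide +kernel

theorem q10_14 : pa10 [(1, 0), (1, 0), (2, 0), (2, 0), (7, 5), (5, 2), (2, 0)] = true := by decide +kernel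

theorem q10_15 : pa10 [(1, 0), (1, 0), (2, 0), (2, 0), (7, 5), (5, 2), (2, 1)] = true := by decide +kernel

theorem q10_17 : pa10 [(1, 0), (1, 0), (2, 0), (2, 0), (7, 5), (5, 4)] = true := by decide +kernel

theorem q10_19 : pa10 [(1, 0), (1, 0), (2, 0), (2, 1), (2, 0), (2, 0), (2, 0)] = true := by decide +kernel

theorem q10_20 : pa10 [(1, 0), (1, 0), (2, 0), (2, 1), (2, 0), (2, 0), (2, 1)] = true := by decide +kernel

theorem q10_22 : pa10 [(1, 0), (1, 0), (2, 0), (2, 1), (2, 1), (2, 0), (2, 0), (2, 0)] = true := by decide +kernel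

theorem q10_23 : pa10 [(1, 0), (1, 0), (2, 0), (2, 1), (2, 1), (2, 0), (2, 0), (2, 1)] = true := by decide +kernel

theorem q10_29 : pa10 [(1, 0), (1, 0), (2, 1), (2, 0), (7, 1)] = true := by decide +kernel

theorem q10_30 : pa10 [(1, 0), (1, 0), (2, 1), (2, 0), (7, 2)] = true := by decide +kernel

theorem q10_33 : pa10 [(1, 0), (1, 0), (2, 1), (2, 0), (7, 3), (5, 2), (2, 0)] = true := by decide +kernel

theorem q10_37 : pa10 [(1, 0), (1, 0), (2, 1), (2, 0), (7, 3), (5, 4)] = true := by decide +kernel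

theorem q10_41 : pa10 [(1, 0), (1, 0), (2, 1), (2, 0), (7, 5), (2, 0), (3, 2)] = true := by decide +kernel

theorem q10_42 : pa10 [(1, 0), (1, 0), (2, 1), (2, 0), (7, 5), (2, 1), (2, 0)] = true := by decide +kernel

theorem q10_43 : pa10 [(1, 0), (1, 0), (2, 1), (2, 0), (7, 5), (2, 1), (2, 1)] = true := by decide +kernel

theorem q10_44 : pa10 [(1, 0), (1, 0), (2, 1), (2, 0), (7, 6)] = true := by decide +kernel

theorem q10_46 : pa10 [(1, 0), (1, 0), (2, 1), (2, 1), (5, 1)] = true := by decide +kernel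

theorem q10_48 : pa10 [(1, 0), (1, 0), (2, 1), (2, 1), (5, 2), (5, 1)] = true := by decide +kernel

theorem q10_51 : pa10 [(1, 0), (1, 0), (2, 1), (2, 1), (5, 2), (5, 3), (2, 1)] = true := by decide +kernel

theorem q10_52 : pa10 [(1, 0), (1, 0), (2, 1), (2, 1), (5, 2), (5, 4), (3, 0)] = true := by decide +kernel

theorem q10_54 : pa10 [(1, 0), (1, 0), (2, 1), (2, 1), (5, 2), (5, 4), (3, 2)] = true := by decide +kernel

theorem q10_55 : pa10 [(1, 0), (1, 0), (2, 1), (2, 1), (5, 3), (5, 0), (2, 0)] = true := by decide +kernel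

theorem q10_56 : pa10 [(1, 0), (1, 0), (2, 1), (2, 1), (5, 3), (5, 0), (2, 1)] = true := by decide +kernel

theorem q10_57 : pa10 [(1, 0), (1, 0), (2, 1), (2, 1), (5, 3), (5, 1), (2, 0)] = true := by decide +kernel

theorem q10_60 : pa10 [(1, 0), (1, 0), (2, 1), (2, 1), (5, 3), (5, 3)] = true := by decide +kernel

theorem q10_61 : pa10 [(1, 0), (1, 0), (2, 1), (2, 1), (5, 3), (5, 4)] = true := by decide +kernel

end Cfsg.Agent.H9.KC
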