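import Cfsg.Agent.H9.KD1

/-! Kernel computations for the class data sieve. -/

set_option autoImplicit false
set_option Elab.async false
set_option maxRecDepth 100000

namespace Cfsg.Agent.H9.KC

theorem q11_35 : pa11 [(1, 0), (1, 0), (2, 0), (2, 0), (2, 0), (7, 2), (3, 2)] = true := by decide +kernel

theorem q11_37 : pa11 [(1, 0), (1, 0), (2, 0), (2, 0), (2, 0), (7, 3), (7, 0), (2, 1), (2, 0), (2, 0)] = true := by decide +kernel

theorem q11_39 : pa11 [(1, 0), (1, 0), (2, 0), (2, 0), (2, 0), (7, 3), (7, 0), (2, 1), (2, 1)] = true := by decide +kernel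

theorem q11_41 : pa11 [(1, 0), (1, 0), (2, 0), (2, 0), (2, 0), (7, 3), (7, 1), (2, 1)] = true := by decide +kernel

theorem q11_52 : pa11 [(1, 0), (1, 0), (2, 0), (2, 0), (2, 0), (7, 3), (7, 4), (7, 4)] = true := by decide +kernel

theorem q11_54 : pa11 [(1, 0), (1, 0), (2, 0), (2, 0), (2, 0), (7, 3), (7, 4), (7, 6)] = true := by decide +kernel

theorem q11_64 : pa11 [(1, 0), (1, 0), (2, 0), (2, 0), (2, 0), (7, 4), (2, 0), (2, 0)] = true := by decide +kernel

theorem q11_65 : pa11 [(1, 0), (1, 0), (2, 0), (2, 0), (2, 0), (7, 4), (2, 0), (2, 1)] = true := by decide +kernel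

theorem q11_98 : pa11 [(1, 0), (1, 0), (2, 0), (2, 0), (2, 1), (7, 2), (7, 2), (2, 0), (2, 1), (2, 1)] = true := by decide +kernel

theorem q11_110 : pa11 [(1, 0), (1, 0), (2, 0), (2, 0), (2, 1), (7, 2), (7, 3), (7, 2), (2, 0)] = true := by decide +kernel

theorem q11_112 : pa11 [(1, 0), (1, 0), (2, 0), (2, 0), (2, 1), (7, 2), (7, 3), (7, 2), (2, 1), (2, 1)] = true := by decide +kernel

theorem q11_122 : pa11 [(1, 0), (1, 0), (2, 0), (2, 0), (2, 1), (7, 2), (7, 4), (2, 0), (2, 1), (2, 1)] = true := by decide +kernel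

theorem q11_150 : pa11 [(1, 0), (1, 0), (2, 0), (2, 0), (2, 1), (7, 4), (7, 5), (2, 1), (2, 0)] = true := by decide +kernel

theorem q11_152 : pa11 [(1, 0), (1, 0), (2, 0), (2, 0), (2, 1), (7, 4), (7, 6)] = true := by decide +kernel

theorem q11_155 : pa11 [(1, 0), (1, 0), (2, 0), (2, 0), (2, 1), (7, 5), (2, 1), (5, 0)] = true := by decide +kernel

theorem q11_195 : pa11 [(1, 0), (1, 0), (2, 0), (2, 1), (2, 0), (5, 4), (5, 1), (7, 4), (2, 0), (2, 1), (2, 0)] = true := by decide +kernel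

theorem q11_232 : pa11 [(1, 0), (1, 0), (2, 0), (2, 1), (2, 1), (7, 4), (7, 2)] = true := by decide +kernel

theorem q11_246 : pa11 [(1, 0), (1, 0), (2, 0), (2, 1), (2, 1), (7, 4), (7, 5), (5, 4), (3, 0)] = true := by decide +kernel

theorem q11_252 : pa11 [(1, 0), (1, 0), (2, 0), (2, 1), (2, 1), (7, 6), (7, 0), (2, 0), (2, 1)] = true := by decide +kernel

theorem q11_299 : pa11 [(1, 0), (1, 0), (2, 1), (2, 0), (7, 0), (7, 6)] = true := by decide +kernel

theorem q11_320 : pa11 [(1, 0), (1, 0), (2, 1), (2, 0), (7, 3), (7, 4), (5, 0), (7, 0)] = true := by decide +kernel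

theorem q11_337 : pa11 [(1, 0), (1, 0), (2, 1), (2, 0), (7, 3), (7, 4), (5, 4), (7, 3)] = true := by decide +kernel

theorem q11_343 : pa11 [(1, 0), (1, 0), (2, 1), (2, 0), (7, 3), (7, 5), (5, 0), (2, 0), (2, 1)] = true := by decide +kernel

theorem q11_347 : pa11 [(1, 0), (1, 0), (2, 1), (2, 0), (7, 3), (7, 5), (5, 3)] = true := by decide +kernel

theorem q11_349 : pa11 [(1, 0), (1, 0), (2, 1), (2, 0), (7, 3), (7, 6), (7, 0), (2, 0)] = true := by decide +kernel

theorem q11_415 : pa11 [(1, 0), (1, 0), (2, 1), (2, 0), (7, 6), (3, 2)] = true := by decide +kernel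

theorem q11_429 : pa11 [(1, 0), (1, 0), (2, 1), (2, 1), (7, 2), (7, 0), (3, 1), (2, 1), (2, 0)] = true := by decide +kernel

theorem q11_442 : pa11 [(1, 0), (1, 0), (2, 1), (2, 1), (7, 2), (7, 1), (7, 1), (2, 0), (2, 0), (2, 0), (1, 0), (1, 0)] = true := by decide +kernel

theorem q11_465 : pa11 [(1, 0), (1, 0), (2, 1), (2, 1), (7, 2), (7, 4), (2, 1), (2, 0)] = true := by decide +kernel

theorem q11_478 : pa11 [(1, 0), (1, 0), (2, 1), (2, 1), (7, 2), (7, 6), (7, 4), (5, 2)] = true := by decide +kernel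

theorem q11_517 : pa11 [(1, 0), (1, 0), (2, 1), (2, 1), (7, 4), (7, 0), (7, 4), (2, 0), (2, 0), (2, 0)] = true := by decide +kernel

theorem q11_527 : pa11 [(1, 0), (1, 0), (2, 1), (2, 1), (7, 4), (7, 2), (2, 0), (5, 0)] = true := by decide +kernel

theorem q11_538 : pa11 [(1, 0), (1, 0), (2, 1), (2, 1), (7, 4), (7, 2), (2, 1), (5, 3), (3, 0)] = true := by decide +kernel

theorem q11_547 : pa11 [(1, 0), (1, 0), (2, 1), (2, 1), (7, 4), (7, 3), (2, 0), (5, 3), (3, 1)] = true := by decide +kernel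

theorem q11_555 : pa11 [(1, 0), (1, 0), (2, 1), (2, 1), (7, 4), (7, 4), (3, 2)] = true := by decide +kernel

end Cfsg.Agent.H9.KC
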