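import Cfsg.Agent.H9.KD1

/-! Kernel computations for the class data sieve. -/

set_option autoImplicit false
set_option Elab.async false
set_option maxRecDepth 100000

namespace Cfsg.Agent.H9.KC

theorem q11_9 : pa11 [(1, 0), (1, 0), (2, 0), (2, 0), (2, 0), (7, 1), (7, 1), (2, 0), (2, 1)] = true := by decide +kernel

theorem q11_21 : pa11 [(1, 0), (1, 0), (2, 0), (2, 0), (2, 0), (7, 1), (7, 5), (7, 0)] = true := by decide +kernel

theorem q11_44 : pa11 [(1, 0), (1, 0), (2, 0), (2, 0), (2, 0), (7, 3), (7, 4), (7, 0), (2, 0)] = true := by decide +kernel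

theorem q11_63 : pa11 [(1, 0), (1, 0), (2, 0), (2, 0), (2, 0), (7, 3), (7, 6), (2, 1), (3, 2)] = true := by decide +kernel

theorem q11_67 : pa11 [(1, 0), (1, 0), (2, 0), (2, 0), (2, 0), (7, 5)] = true := by decide +kernel

theorem q11_69 : pa11 [(1, 0), (1, 0), (2, 0), (2, 0), (2, 0), (7, 6), (3, 1), (2, 0), (2, 0)] = true := by decide +kernel

theorem q11_99 : pa11 [(1, 0), (1, 0), (2, 0), (2, 0), (2, 1), (7, 2), (7, 2), (2, 1)] = true := by decide +kernel

theorem q11_108 : pa11 [(1, 0), (1, 0), (2, 0), (2, 0), (2, 1), (7, 2), (7, 3), (7, 1), (5, 4), (3, 1)] = true := by decide +kernel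

theorem q11_111 : pa11 [(1, 0), (1, 0), (2, 0), (2, 0), (2, 1), (7, 2), (7, 3), (7, 2), (2, 1), (2, 0)] = true := by decide +kernel

theorem q11_158 : pa11 [(1, 0), (1, 0), (2, 0), (2, 0), (2, 1), (7, 5), (2, 1), (5, 3)] = true := by decide +kernel

theorem q11_166 : pa11 [(1, 0), (1, 0), (2, 0), (2, 0), (2, 1), (7, 6), (5, 4), (3, 2)] = true := by decide +kernel

theorem q11_183 : pa11 [(1, 0), (1, 0), (2, 0), (2, 1), (2, 0), (5, 1), (3, 1)] = true := by decide +kernel

theorem q11_184 : pa11 [(1, 0), (1, 0), (2, 0), (2, 1), (2, 0), (5, 1), (3, 2)] = true := by decide +kernel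

theorem q11_223 : pa11 [(1, 0), (1, 0), (2, 0), (2, 1), (2, 1), (7, 4), (7, 0), (5, 1), (2, 0)] = true := by decide +kernel

theorem q11_238 : pa11 [(1, 0), (1, 0), (2, 0), (2, 1), (2, 1), (7, 4), (7, 5), (5, 0)] = true := by decide +kernel

theorem q11_248 : pa11 [(1, 0), (1, 0), (2, 0), (2, 1), (2, 1), (7, 4), (7, 5), (5, 4), (3, 2)] = true := by decide +kernel

theorem q11_293 : pa11 [(1, 0), (1, 0), (2, 1), (2, 0), (7, 0), (7, 2), (2, 1)] = true := by decide +kernel

theorem q11_328 : pa11 [(1, 0), (1, 0), (2, 1), (2, 0), (7, 3), (7, 4), (5, 0), (7, 6)] = true := by decide +kernel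

theorem q11_329 : pa11 [(1, 0), (1, 0), (2, 1), (2, 0), (7, 3), (7, 4), (5, 1)] = true := by decide +kernel

theorem q11_355 : pa11 [(1, 0), (1, 0), (2, 1), (2, 0), (7, 3), (7, 6), (7, 2)] = true := by decide +kernel

theorem q11_374 : pa11 [(1, 0), (1, 0), (2, 1), (2, 0), (7, 4), (5, 3), (2, 0), (2, 0)] = true := by decide +kernel

theorem q11_375 : pa11 [(1, 0), (1, 0), (2, 1), (2, 0), (7, 4), (5, 3), (2, 0), (2, 1)] = true := by decide +kernel

theorem q11_396 : pa11 [(1, 0), (1, 0), (2, 1), (2, 0), (7, 5), (7, 4), (2, 0)] = true := by decide +kernel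

theorem q11_414 : pa11 [(1, 0), (1, 0), (2, 1), (2, 0), (7, 6), (3, 1), (2, 1), (2, 1)] = true := by decide +kernel

theorem q11_447 : pa11 [(1, 0), (1, 0), (2, 1), (2, 1), (7, 2), (7, 1), (7, 2), (2, 1), (3, 0)] = true := by decide +kernel

theorem q11_462 : pa11 [(1, 0), (1, 0), (2, 1), (2, 1), (7, 2), (7, 2), (2, 1)] = true := by decide +kernel

theorem q11_477 : pa11 [(1, 0), (1, 0), (2, 1), (2, 1), (7, 2), (7, 6), (7, 4), (5, 1), (2, 1)] = true := by decide +kernel

theorem q11_485 : pa11 [(1, 0), (1, 0), (2, 1), (2, 1), (7, 2), (7, 6), (7, 6), (7, 1), (2, 1), (2, 1), (2, 0)] = true := by decide +kernel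

theorem q11_490 : pa11 [(1, 0), (1, 0), (2, 1), (2, 1), (7, 2), (7, 6), (7, 6), (7, 4)] = true := by decide +kernel

theorem q11_503 : pa11 [(1, 0), (1, 0), (2, 1), (2, 1), (7, 3), (7, 4), (2, 1), (3, 2), (2, 1)] = true := by decide +kernel

theorem q11_505 : pa11 [(1, 0), (1, 0), (2, 1), (2, 1), (7, 3), (7, 6)] = true := by decide +kernel

theorem q11_506 : pa11 [(1, 0), (1, 0), (2, 1), (2, 1), (7, 4), (7, 0), (7, 0)] = true := by decide +kernel

theorem q11_524 : pa11 [(1, 0), (1, 0), (2, 1), (2, 1), (7, 4), (7, 0), (7, 6)] = true := by decide +kernel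

theorem q11_532 : pa11 [(1, 0), (1, 0), (2, 1), (2, 1), (7, 4), (7, 2), (2, 0), (5, 4)] = true := by decide +kernel

theorem q11_544 : pa11 [(1, 0), (1, 0), (2, 1), (2, 1), (7, 4), (7, 3), (2, 0), (5, 2)] = true := by decide +kernel

end Cfsg.Agent.H9.KC
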