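import Cfsg.Agent.H9.KDb6

/-! Kernel computations for the class data sieve. -/

set_option autoImplicit false
set_option Elab.async false
set_option maxRecDepth 100000

namespace Cfsg.Agent.H9.KC

theorem q11_53 : pa11 [(1, 0), (1, 0), (2, 0), (2, 0), (2, 0), (7, 3), (7, 4), (7, 5)] = true := by decide +kernel

theorem q11_58 : pa11 [(1, 0), (1, 0), (2, 0), (2, 0), (2, 0), (7, 3), (7, 6), (2, 0), (5, 2)] = true := by decide +kernel

theorem q11_70 : pa11 [(1, 0), (1, 0), (2, 0), (2, 0), (2, 0), (7, 6), (3, 1), (2, 0), (2, 1)] = true := by decide +kernel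

theorem q11_78 : pa11 [(1, 0), (1, 0), (2, 0), (2, 0), (2, 1), (7, 2), (7, 0)] = true := by decide +kernel

theorem q11_84 : pa11 [(1, 0), (1, 0), (2, 0), (2, 0), (2, 1), (7, 2), (7, 1), (5, 3), (5, 2)] = true := by decide +kernel

theorem q11_159 : pa11 [(1, 0), (1, 0), (2, 0), (2, 0), (2, 1), (7, 5), (2, 1), (5, 4)] = true := by decide +kernel

theorem q11_167 : pa11 [(1, 0), (1, 0), (2, 0), (2, 1), (2, 0), (5, 0), (2, 0), (2, 0), (3, 0)] = true := by decide +kernel

theorem q11_187 : pa11 [(1, 0), (1, 0), (2, 0), (2, 1), (2, 0), (5, 3), (3, 1)] = true := by decide +kernel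

theorem q11_189 : pa11 [(1, 0), (1, 0), (2, 0), (2, 1), (2, 0), (5, 4), (5, 0)] = true := by decide +kernel

theorem q11_199 : pa11 [(1, 0), (1, 0), (2, 0), (2, 1), (2, 0), (5, 4), (5, 1), (7, 5)] = true := by decide +kernel

theorem q11_204 : pa11 [(1, 0), (1, 0), (2, 0), (2, 1), (2, 0), (5, 4), (5, 2), (5, 0), (2, 1)] = true := by decide +kernel

theorem q11_220 : pa11 [(1, 0), (1, 0), (2, 0), (2, 1), (2, 1), (7, 2), (3, 2)] = true := by decide +kernel

theorem q11_229 : pa11 [(1, 0), (1, 0), (2, 0), (2, 1), (2, 1), (7, 4), (7, 0), (5, 3)] = true := by decide +kernel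

theorem q11_235 : pa11 [(1, 0), (1, 0), (2, 0), (2, 1), (2, 1), (7, 4), (7, 3), (2, 1), (2, 1)] = true := by decide +kernel

theorem q11_250 : pa11 [(1, 0), (1, 0), (2, 0), (2, 1), (2, 1), (7, 5)] = true := by decide +kernel

theorem q11_259 : pa11 [(1, 0), (1, 0), (2, 0), (2, 1), (2, 1), (7, 6), (7, 1), (5, 3), (2, 1), (2, 0)] = true := by decide +kernel

theorem q11_262 : pa11 [(1, 0), (1, 0), (2, 0), (2, 1), (2, 1), (7, 6), (7, 1), (5, 4), (3, 1)] = true := by decide +kernel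

theorem q11_286 : pa11 [(1, 0), (1, 0), (2, 0), (2, 1), (2, 1), (7, 6), (7, 6), (5, 1), (5, 4)] = true := by decide +kernel

theorem q11_304 : pa11 [(1, 0), (1, 0), (2, 1), (2, 0), (7, 3), (7, 0), (2, 0)] = true := by decide +kernel

theorem q11_321 : pa11 [(1, 0), (1, 0), (2, 1), (2, 0), (7, 3), (7, 4), (5, 0), (7, 1)] = true := by decide +kernel

theorem q11_324 : pa11 [(1, 0), (1, 0), (2, 1), (2, 0), (7, 3), (7, 4), (5, 0), (7, 4), (2, 0), (2, 0)] = true := by decide +kernel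

theorem q11_339 : pa11 [(1, 0), (1, 0), (2, 1), (2, 0), (7, 3), (7, 4), (5, 4), (7, 5), (2, 0)] = true := by decide +kernel

theorem q11_370 : pa11 [(1, 0), (1, 0), (2, 1), (2, 0), (7, 3), (7, 6), (7, 6)] = true := by decide +kernel

theorem q11_376 : pa11 [(1, 0), (1, 0), (2, 1), (2, 0), (7, 4), (5, 3), (2, 1), (2, 0)] = true := by decide +kernel

theorem q11_384 : pa11 [(1, 0), (1, 0), (2, 1), (2, 0), (7, 5), (7, 0), (5, 4), (5, 1)] = true := by decide +kernel

theorem q11_408 : pa11 [(1, 0), (1, 0), (2, 1), (2, 0), (7, 6), (3, 0), (5, 1)] = true := by decide +kernel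

theorem q11_412 : pa11 [(1, 0), (1, 0), (2, 1), (2, 0), (7, 6), (3, 1), (2, 0)] = true := by decide +kernel

theorem q11_420 : pa11 [(1, 0), (1, 0), (2, 1), (2, 1), (7, 0), (3, 2)] = true := by decide +kernel

theorem q11_467 : pa11 [(1, 0), (1, 0), (2, 1), (2, 1), (7, 2), (7, 5), (3, 0)] = true := by decide +kernel

theorem q11_479 : pa11 [(1, 0), (1, 0), (2, 1), (2, 1), (7, 2), (7, 6), (7, 4), (5, 3)] = true := by decide +kernel

theorem q11_480 : pa11 [(1, 0), (1, 0), (2, 1), (2, 1), (7, 2), (7, 6), (7, 4), (5, 4)] = true := by decide +kernel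

theorem q11_491 : pa11 [(1, 0), (1, 0), (2, 1), (2, 1), (7, 2), (7, 6), (7, 6), (7, 5)] = true := by decide +kernel

theorem q11_499 : pa11 [(1, 0), (1, 0), (2, 1), (2, 1), (7, 3), (7, 4), (2, 0), (3, 2)] = true := by decide +kernel

theorem q11_501 : pa11 [(1, 0), (1, 0), (2, 1), (2, 1), (7, 3), (7, 4), (2, 1), (3, 1)] = true := by decide +kernel

theorem q11_529 : pa11 [(1, 0), (1, 0), (2, 1), (2, 1), (7, 4), (7, 2), (2, 0), (5, 2)] = true := by decide +kernel

end Cfsg.Agent.H9.KC
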