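import Cfsg.Agent.H9.KDb7

/-! Kernel computations for the class data sieve. -/

set_option autoImplicit false
set_option Elab.async false
set_option maxRecDepth 100000

namespace Cfsg.Agent.H9.KC

theorem q11_7 : pa11 [(1, 0), (1, 0), (2, 0), (2, 0), (2, 0), (7, 1), (7, 0)] = true := by decide +kernel

theorem q11_15 : pa11 [(1, 0), (1, 0), (2, 0), (2, 0), (2, 0), (7, 1), (7, 3), (5, 2), (2, 0), (2, 0)] = true := by decide +kernel

theorem q11_17 : pa11 [(1, 0), (1, 0), (2, 0), (2, 0), (2, 0), (7, 1), (7, 3), (5, 2), (2, 1)] = true := by decide +kernel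

theorem q11_29 : pa11 [(1, 0), (1, 0), (2, 0), (2, 0), (2, 0), (7, 1), (7, 5), (7, 5), (2, 1)] = true := by decide +kernel

theorem q11_47 : pa11 [(1, 0), (1, 0), (2, 0), (2, 0), (2, 0), (7, 3), (7, 4), (7, 2), (2, 0)] = true := by decide +kernel

theorem q11_62 : pa11 [(1, 0), (1, 0), (2, 0), (2, 0), (2, 0), (7, 3), (7, 6), (2, 1), (3, 1)] = true := by decide +kernel

theorem q11_81 : pa11 [(1, 0), (1, 0), (2, 0), (2, 0), (2, 1), (7, 2), (7, 1), (5, 2)] = true := by decide +kernel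

theorem q11_87 : pa11 [(1, 0), (1, 0), (2, 0), (2, 0), (2, 1), (7, 2), (7, 1), (5, 3), (5, 4), (2, 0)] = true := by decide +kernel

theorem q11_109 : pa11 [(1, 0), (1, 0), (2, 0), (2, 0), (2, 1), (7, 2), (7, 3), (7, 1), (5, 4), (3, 2)] = true := by decide +kernel

theorem q11_113 : pa11 [(1, 0), (1, 0), (2, 0), (2, 0), (2, 1), (7, 2), (7, 3), (7, 3)] = true := by decide +kernel

theorem q11_124 : pa11 [(1, 0), (1, 0), (2, 0), (2, 0), (2, 1), (7, 2), (7, 5), (2, 0)] = true := by decide +kernel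

theorem q11_126 : pa11 [(1, 0), (1, 0), (2, 0), (2, 0), (2, 1), (7, 2), (7, 5), (2, 1), (3, 1)] = true := by decide +kernel

theorem q11_141 : pa11 [(1, 0), (1, 0), (2, 0), (2, 0), (2, 1), (7, 4), (7, 3)] = true := by decide +kernel

theorem q11_164 : pa11 [(1, 0), (1, 0), (2, 0), (2, 0), (2, 1), (7, 6), (5, 4), (3, 0)] = true := by decide +kernel

theorem q11_165 : pa11 [(1, 0), (1, 0), (2, 0), (2, 0), (2, 1), (7, 6), (5, 4), (3, 1)] = true := by decide +kernel

theorem q11_188 : pa11 [(1, 0), (1, 0), (2, 0), (2, 1), (2, 0), (5, 3), (3, 2)] = true := by decide +kernel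

theorem q11_190 : pa11 [(1, 0), (1, 0), (2, 0), (2, 1), (2, 0), (5, 4), (5, 1), (7, 0)] = true := by decide +kernel

theorem q11_201 : pa11 [(1, 0), (1, 0), (2, 0), (2, 1), (2, 0), (5, 4), (5, 1), (7, 6), (2, 0), (2, 1)] = true := by decide +kernel

theorem q11_210 : pa11 [(1, 0), (1, 0), (2, 0), (2, 1), (2, 0), (5, 4), (5, 2), (5, 4), (2, 1)] = true := by decide +kernel

theorem q11_213 : pa11 [(1, 0), (1, 0), (2, 0), (2, 1), (2, 1), (7, 0), (3, 0)] = true := by decide +kernel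

theorem q11_241 : pa11 [(1, 0), (1, 0), (2, 0), (2, 1), (2, 1), (7, 4), (7, 5), (5, 2)] = true := by decide +kernel

theorem q11_258 : pa11 [(1, 0), (1, 0), (2, 0), (2, 1), (2, 1), (7, 6), (7, 1), (5, 3), (2, 0), (2, 1)] = true := by decide +kernel

theorem q11_285 : pa11 [(1, 0), (1, 0), (2, 0), (2, 1), (2, 1), (7, 6), (7, 6), (5, 1), (5, 3)] = true := by decide +kernel

theorem q11_309 : pa11 [(1, 0), (1, 0), (2, 1), (2, 0), (7, 3), (7, 0), (2, 1), (5, 2), (2, 0)] = true := by decide +kernel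

theorem q11_316 : pa11 [(1, 0), (1, 0), (2, 1), (2, 0), (7, 3), (7, 1), (3, 2)] = true := by decide +kernel

theorem q11_346 : pa11 [(1, 0), (1, 0), (2, 1), (2, 0), (7, 3), (7, 5), (5, 2)] = true := by decide +kernel

theorem q11_348 : pa11 [(1, 0), (1, 0), (2, 1), (2, 0), (7, 3), (7, 5), (5, 4)] = true := by decide +kernel

theorem q11_351 : pa11 [(1, 0), (1, 0), (2, 1), (2, 0), (7, 3), (7, 6), (7, 0), (2, 1), (2, 0), (2, 1)] = true := by decide +kernel

theorem q11_378 : pa11 [(1, 0), (1, 0), (2, 1), (2, 0), (7, 4), (5, 4)] = true := by decide +kernel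

theorem q11_413 : pa11 [(1, 0), (1, 0), (2, 1), (2, 0), (7, 6), (3, 1), (2, 1), (2, 0)] = true := by decide +kernel

theorem q11_438 : pa11 [(1, 0), (1, 0), (2, 1), (2, 1), (7, 2), (7, 1), (7, 0), (2, 1), (5, 1)] = true := by decide +kernel

theorem q11_511 : pa11 [(1, 0), (1, 0), (2, 1), (2, 1), (7, 4), (7, 0), (7, 2), (5, 2), (2, 1)] = true := by decide +kernel

theorem q11_518 : pa11 [(1, 0), (1, 0), (2, 1), (2, 1), (7, 4), (7, 0), (7, 4), (2, 0), (2, 0), (2, 1)] = true := by decide +kernel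

theorem q11_543 : pa11 [(1, 0), (1, 0), (2, 1), (2, 1), (7, 4), (7, 3), (2, 0), (5, 1)] = true := by decide +kernel

theorem q11_561 : pa11 [(1, 0), (1, 0), (2, 1), (2, 1), (7, 5), (3, 1)] = true := by decide +kernel

end Cfsg.Agent.H9.KC
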