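import Cfsg.Agent.H9.KDb8

/-! Kernel computations for the class data sieve. -/

set_option autoImplicit false
set_option Elab.async false
set_option maxRecDepth 100000

namespace Cfsg.Agent.H9.KC

theorem q11_0 : pa11 [(1, 0), (1, 0), (2, 0), (2, 0), (2, 0), (7, 0), (5, 0), (3, 0)] = true := by decide +kernel

theorem q11_55 : pa11 [(1, 0), (1, 0), (2, 0), (2, 0), (2, 0), (7, 3), (7, 5)] = true := by decide +kernel

theorem q11_68 : pa11 [(1, 0), (1, 0), (2, 0), (2, 0), (2, 0), (7, 6), (3, 0)] = true := by decide +kernel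

theorem q11_80 : pa11 [(1, 0), (1, 0), (2, 0), (2, 0), (2, 1), (7, 2), (7, 1), (5, 1)] = true := by decide +kernel

theorem q11_115 : pa11 [(1, 0), (1, 0), (2, 0), (2, 0), (2, 1), (7, 2), (7, 3), (7, 5), (2, 0), (2, 0)] = true := by decide +kernel

theorem q11_133 : pa11 [(1, 0), (1, 0), (2, 0), (2, 0), (2, 1), (7, 3), (5, 2), (2, 1)] = true := by decide +kernel

theorem q11_176 : pa11 [(1, 0), (1, 0), (2, 0), (2, 1), (2, 0), (5, 0), (2, 1), (7, 1), (2, 1), (2, 1)] = true := by decide +kernel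

theorem q11_194 : pa11 [(1, 0), (1, 0), (2, 0), (2, 1), (2, 0), (5, 4), (5, 1), (7, 4), (2, 0), (2, 0)] = true := by decide +kernel

theorem q11_205 : pa11 [(1, 0), (1, 0), (2, 0), (2, 1), (2, 0), (5, 4), (5, 2), (5, 1)] = true := by decide +kernel

theorem q11_249 : pa11 [(1, 0), (1, 0), (2, 0), (2, 1), (2, 1), (7, 4), (7, 6)] = true := by decide +kernel

theorem q11_251 : pa11 [(1, 0), (1, 0), (2, 0), (2, 1), (2, 1), (7, 6), (7, 0), (2, 0), (2, 0)] = true := by decide +kernel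

theorem q11_263 : pa11 [(1, 0), (1, 0), (2, 0), (2, 1), (2, 1), (7, 6), (7, 1), (5, 4), (3, 2)] = true := by decide +kernel

theorem q11_283 : pa11 [(1, 0), (1, 0), (2, 0), (2, 1), (2, 1), (7, 6), (7, 6), (5, 1), (5, 2), (2, 1), (2, 0)] = true := by decide +kernel

theorem q11_294 : pa11 [(1, 0), (1, 0), (2, 1), (2, 0), (7, 0), (7, 3)] = true := by decide +kernel

theorem q11_307 : pa11 [(1, 0), (1, 0), (2, 1), (2, 0), (7, 3), (7, 0), (2, 1), (5, 1), (3, 1)] = true := by decide +kernel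

theorem q11_318 : pa11 [(1, 0), (1, 0), (2, 1), (2, 0), (7, 3), (7, 2), (2, 1)] = true := by decide +kernel

theorem q11_338 : pa11 [(1, 0), (1, 0), (2, 1), (2, 0), (7, 3), (7, 4), (5, 4), (7, 4)] = true := by decide +kernel

theorem q11_341 : pa11 [(1, 0), (1, 0), (2, 1), (2, 0), (7, 3), (7, 4), (5, 4), (7, 6)] = true := by decide +kernel

theorem q11_361 : pa11 [(1, 0), (1, 0), (2, 1), (2, 0), (7, 3), (7, 6), (7, 3), (5, 1), (2, 1), (3, 0)] = true := by decide +kernel

theorem q11_367 : pa11 [(1, 0), (1, 0), (2, 1), (2, 0), (7, 3), (7, 6), (7, 4), (2, 0)] = true := by decide +kernel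

theorem q11_394 : pa11 [(1, 0), (1, 0), (2, 1), (2, 0), (7, 5), (7, 2)] = true := by decide +kernel

theorem q11_417 : pa11 [(1, 0), (1, 0), (2, 1), (2, 1), (7, 0), (3, 0), (2, 1)] = true := by decide +kernel

theorem q11_434 : pa11 [(1, 0), (1, 0), (2, 1), (2, 1), (7, 2), (7, 1), (7, 0), (2, 0), (2, 1)] = true := by decide +kernel

theorem q11_456 : pa11 [(1, 0), (1, 0), (2, 1), (2, 1), (7, 2), (7, 1), (7, 5), (5, 3), (2, 1)] = true := by decide +kernel

theorem q11_463 : pa11 [(1, 0), (1, 0), (2, 1), (2, 1), (7, 2), (7, 3)] = true := by decide +kernel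

theorem q11_472 : pa11 [(1, 0), (1, 0), (2, 1), (2, 1), (7, 2), (7, 6), (7, 2)] = true := by decide +kernel

theorem q11_486 : pa11 [(1, 0), (1, 0), (2, 1), (2, 1), (7, 2), (7, 6), (7, 6), (7, 1), (2, 1), (2, 1), (2, 1)] = true := by decide +kernel

theorem q11_498 : pa11 [(1, 0), (1, 0), (2, 1), (2, 1), (7, 3), (7, 4), (2, 0), (3, 1)] = true := by decide +kernel

theorem q11_523 : pa11 [(1, 0), (1, 0), (2, 1), (2, 1), (7, 4), (7, 0), (7, 5), (2, 1), (2, 1)] = true := by decide +kernel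

theorem q11_534 : pa11 [(1, 0), (1, 0), (2, 1), (2, 1), (7, 4), (7, 2), (2, 1), (5, 1)] = true := by decide +kernel

theorem q11_535 : pa11 [(1, 0), (1, 0), (2, 1), (2, 1), (7, 4), (7, 2), (2, 1), (5, 2), (2, 0)] = true := by decide +kernel

theorem q11_539 : pa11 [(1, 0), (1, 0), (2, 1), (2, 1), (7, 4), (7, 2), (2, 1), (5, 3), (3, 1)] = true := by decide +kernel

theorem q11_540 : pa11 [(1, 0), (1, 0), (2, 1), (2, 1), (7, 4), (7, 2), (2, 1), (5, 3), (3, 2)] = true := by decide +kernel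

theorem q11_548 : pa11 [(1, 0), (1, 0), (2, 1), (2, 1), (7, 4), (7, 3), (2, 0), (5, 3), (3, 2)] = true := by decide +kernel

theorem q11_550 : pa11 [(1, 0), (1, 0), (2, 1), (2, 1), (7, 4), (7, 3), (2, 1), (2, 0)] = true := by decide +kernel

theorem q11_554 : pa11 [(1, 0), (1, 0), (2, 1), (2, 1), (7, 4), (7, 4), (3, 1)] = true := by decide +kernel

end Cfsg.Agent.H9.KC
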