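import Cfsg.Agent.H9.KDb9

/-! Kernel computations for the class data sieve. -/

set_option autoImplicit false
set_option Elab.async false
set_option maxRecDepth 100000

namespace Cfsg.Agent.H9.KC

theorem q11_28 : pa11 [(1, 0), (1, 0), (2, 0), (2, 0), (2, 0), (7, 1), (7, 5), (7, 5), (2, 0), (2, 1)] = true := by decide +kernel

theorem q11_33 : pa11 [(1, 0), (1, 0), (2, 0), (2, 0), (2, 0), (7, 2), (3, 1), (2, 0)] = true := by decide +kernel

theorem q11_42 : pa11 [(1, 0), (1, 0), (2, 0), (2, 0), (2, 0), (7, 3), (7, 2)] = true := by decide +kernel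

theorem q11_48 : pa11 [(1, 0), (1, 0), (2, 0), (2, 0), (2, 0), (7, 3), (7, 4), (7, 2), (2, 1), (2, 0)] = true := by decide +kernel

theorem q11_50 : pa11 [(1, 0), (1, 0), (2, 0), (2, 0), (2, 0), (7, 3), (7, 4), (7, 3), (2, 0)] = true := by decide +kernel

theorem q11_95 : pa11 [(1, 0), (1, 0), (2, 0), (2, 0), (2, 1), (7, 2), (7, 1), (5, 4), (5, 4), (2, 1)] = true := by decide +kernel

theorem q11_103 : pa11 [(1, 0), (1, 0), (2, 0), (2, 0), (2, 1), (7, 2), (7, 3), (7, 1), (5, 0), (3, 2)] = true := by decide +kernel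

theorem q11_118 : pa11 [(1, 0), (1, 0), (2, 0), (2, 0), (2, 1), (7, 2), (7, 3), (7, 6)] = true := by decide +kernel

theorem q11_119 : pa11 [(1, 0), (1, 0), (2, 0), (2, 0), (2, 1), (7, 2), (7, 4), (2, 0), (2, 0), (2, 0)] = true := by decide +kernel

theorem q11_128 : pa11 [(1, 0), (1, 0), (2, 0), (2, 0), (2, 1), (7, 2), (7, 6)] = true := by decide +kernel

theorem q11_130 : pa11 [(1, 0), (1, 0), (2, 0), (2, 0), (2, 1), (7, 3), (5, 1)] = true := by decide +kernel

theorem q11_142 : pa11 [(1, 0), (1, 0), (2, 0), (2, 0), (2, 1), (7, 4), (7, 4), (5, 0)] = true := by decide +kernel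

theorem q11_160 : pa11 [(1, 0), (1, 0), (2, 0), (2, 0), (2, 1), (7, 6), (5, 0)] = true := by decide +kernel

theorem q11_174 : pa11 [(1, 0), (1, 0), (2, 0), (2, 1), (2, 0), (5, 0), (2, 1), (7, 1), (2, 0), (2, 1)] = true := by decide +kernel

theorem q11_197 : pa11 [(1, 0), (1, 0), (2, 0), (2, 1), (2, 0), (5, 4), (5, 1), (7, 4), (2, 1), (2, 0)] = true := by decide +kernel

theorem q11_211 : pa11 [(1, 0), (1, 0), (2, 0), (2, 1), (2, 0), (5, 4), (5, 3)] = true := by decide +kernel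

theorem q11_234 : pa11 [(1, 0), (1, 0), (2, 0), (2, 1), (2, 1), (7, 4), (7, 3), (2, 1), (2, 0)] = true := by decide +kernel

theorem q11_244 : pa11 [(1, 0), (1, 0), (2, 0), (2, 1), (2, 1), (7, 4), (7, 5), (5, 3), (2, 1), (3, 1)] = true := by decide +kernel

theorem q11_266 : pa11 [(1, 0), (1, 0), (2, 0), (2, 1), (2, 1), (7, 6), (7, 2), (2, 1)] = true := by decide +kernel

theorem q11_269 : pa11 [(1, 0), (1, 0), (2, 0), (2, 1), (2, 1), (7, 6), (7, 4)] = true := by decide +kernel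

theorem q11_284 : pa11 [(1, 0), (1, 0), (2, 0), (2, 1), (2, 1), (7, 6), (7, 6), (5, 1), (5, 2), (2, 1), (2, 1)] = true := by decide +kernel

theorem q11_310 : pa11 [(1, 0), (1, 0), (2, 1), (2, 0), (7, 3), (7, 0), (2, 1), (5, 2), (2, 1)] = true := by decide +kernel

theorem q11_313 : pa11 [(1, 0), (1, 0), (2, 1), (2, 0), (7, 3), (7, 1), (3, 0), (2, 0)] = true := by decide +kernel

theorem q11_322 : pa11 [(1, 0), (1, 0), (2, 1), (2, 0), (7, 3), (7, 4), (5, 0), (7, 2)] = true := by decide +kernel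

theorem q11_330 : pa11 [(1, 0), (1, 0), (2, 1), (2, 0), (7, 3), (7, 4), (5, 2)] = true := by decide +kernel

theorem q11_354 : pa11 [(1, 0), (1, 0), (2, 1), (2, 0), (7, 3), (7, 6), (7, 1), (2, 1)] = true := by decide +kernel

theorem q11_357 : pa11 [(1, 0), (1, 0), (2, 1), (2, 0), (7, 3), (7, 6), (7, 3), (5, 0), (2, 0), (3, 1)] = true := by decide +kernel

theorem q11_366 : pa11 [(1, 0), (1, 0), (2, 1), (2, 0), (7, 3), (7, 6), (7, 3), (5, 4)] = true := by decide +kernel

theorem q11_373 : pa11 [(1, 0), (1, 0), (2, 1), (2, 0), (7, 4), (5, 2)] = true := by decide +kernel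

theorem q11_399 : pa11 [(1, 0), (1, 0), (2, 1), (2, 0), (7, 5), (7, 5), (2, 0), (3, 1)] = true := by decide +kernel

theorem q11_407 : pa11 [(1, 0), (1, 0), (2, 1), (2, 0), (7, 6), (3, 0), (5, 0), (2, 1)] = true := by decide +kernel

theorem q11_426 : pa11 [(1, 0), (1, 0), (2, 1), (2, 1), (7, 1), (2, 1), (3, 2)] = true := by decide +kernel

theorem q11_443 : pa11 [(1, 0), (1, 0), (2, 1), (2, 1), (7, 2), (7, 1), (7, 1), (2, 0), (2, 0), (2, 1)] = true := by decide +kernel

theorem q11_474 : pa11 [(1, 0), (1, 0), (2, 1), (2, 1), (7, 2), (7, 6), (7, 4), (5, 0)] = true := by decide +kernel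

theorem q11_559 : pa11 [(1, 0), (1, 0), (2, 1), (2, 1), (7, 5), (3, 0), (2, 0)] = true := by decide +kernel

end Cfsg.Agent.H9.KC
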