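import Cfsg.Agent.H9.KDb10

/-! Kernel computations for the class data sieve. -/

set_option autoImplicit false
set_option Elab.async false
set_option maxRecDepth 100000

namespace Cfsg.Agent.H9.KC

theorem q11_4 : pa11 [(1, 0), (1, 0), (2, 0), (2, 0), (2, 0), (7, 0), (5, 2)] = true := by decide +kernel

theorem q11_18 : pa11 [(1, 0), (1, 0), (2, 0), (2, 0), (2, 0), (7, 1), (7, 3), (5, 3)] = true := by decide +kernel

theorem q11_36 : pa11 [(1, 0), (1, 0), (2, 0), (2, 0), (2, 0), (7, 3), (7, 0), (2, 0)] = true := by decide +kernel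

theorem q11_38 : pa11 [(1, 0), (1, 0), (2, 0), (2, 0), (2, 0), (7, 3), (7, 0), (2, 1), (2, 0), (2, 1)] = true := by decide +kernel

theorem q11_40 : pa11 [(1, 0), (1, 0), (2, 0), (2, 0), (2, 0), (7, 3), (7, 1), (2, 0)] = true := by decide +kernel

theorem q11_45 : pa11 [(1, 0), (1, 0), (2, 0), (2, 0), (2, 0), (7, 3), (7, 4), (7, 0), (2, 1)] = true := by decide +kernel

theorem q11_46 : pa11 [(1, 0), (1, 0), (2, 0), (2, 0), (2, 0), (7, 3), (7, 4), (7, 1)] = true := by decide +kernel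

theorem q11_85 : pa11 [(1, 0), (1, 0), (2, 0), (2, 0), (2, 1), (7, 2), (7, 1), (5, 3), (5, 3), (2, 0)] = true := by decide +kernel

theorem q11_89 : pa11 [(1, 0), (1, 0), (2, 0), (2, 0), (2, 1), (7, 2), (7, 1), (5, 4), (5, 0), (2, 0)] = true := by decide +kernel

theorem q11_105 : pa11 [(1, 0), (1, 0), (2, 0), (2, 0), (2, 1), (7, 2), (7, 3), (7, 1), (5, 2)] = true := by decide +kernel

theorem q11_151 : pa11 [(1, 0), (1, 0), (2, 0), (2, 0), (2, 1), (7, 4), (7, 5), (2, 1), (2, 1)] = true := by decide +kernel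

theorem q11_168 : pa11 [(1, 0), (1, 0), (2, 0), (2, 1), (2, 0), (5, 0), (2, 0), (2, 0), (3, 1)] = true := by decide +kernel

theorem q11_173 : pa11 [(1, 0), (1, 0), (2, 0), (2, 1), (2, 0), (5, 0), (2, 1), (7, 1), (2, 0), (2, 0)] = true := by decide +kernel

theorem q11_192 : pa11 [(1, 0), (1, 0), (2, 0), (2, 1), (2, 0), (5, 4), (5, 1), (7, 2)] = true := by decide +kernel

theorem q11_218 : pa11 [(1, 0), (1, 0), (2, 0), (2, 1), (2, 1), (7, 2), (3, 0)] = true := by decide +kernel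

theorem q11_227 : pa11 [(1, 0), (1, 0), (2, 0), (2, 1), (2, 1), (7, 4), (7, 0), (5, 2), (3, 1)] = true := by decide +kernel

theorem q11_239 : pa11 [(1, 0), (1, 0), (2, 0), (2, 1), (2, 1), (7, 4), (7, 5), (5, 1), (2, 0)] = true := by decide +kernel

theorem q11_247 : pa11 [(1, 0), (1, 0), (2, 0), (2, 1), (2, 1), (7, 4), (7, 5), (5, 4), (3, 1)] = true := by decide +kernel

theorem q11_268 : pa11 [(1, 0), (1, 0), (2, 0), (2, 1), (2, 1), (7, 6), (7, 3), (2, 1)] = true := by decide +kernel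

theorem q11_273 : pa11 [(1, 0), (1, 0), (2, 0), (2, 1), (2, 1), (7, 6), (7, 6), (5, 0), (5, 0), (2, 1), (2, 1)] = true := by decide +kernel

theorem q11_282 : pa11 [(1, 0), (1, 0), (2, 0), (2, 1), (2, 1), (7, 6), (7, 6), (5, 1), (5, 2), (2, 0)] = true := by decide +kernel

theorem q11_288 : pa11 [(1, 0), (1, 0), (2, 0), (2, 1), (2, 1), (7, 6), (7, 6), (5, 3)] = true := by decide +kernel

theorem q11_325 : pa11 [(1, 0), (1, 0), (2, 1), (2, 0), (7, 3), (7, 4), (5, 0), (7, 4), (2, 0), (2, 1)] = true := by decide +kernel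

theorem q11_336 : pa11 [(1, 0), (1, 0), (2, 1), (2, 0), (7, 3), (7, 4), (5, 4), (7, 2), (3, 2)] = true := by decide +kernel

theorem q11_379 : pa11 [(1, 0), (1, 0), (2, 1), (2, 0), (7, 5), (7, 0), (5, 0)] = true := by decide +kernel

theorem q11_380 : pa11 [(1, 0), (1, 0), (2, 1), (2, 0), (7, 5), (7, 0), (5, 1)] = true := by decide +kernel

theorem q11_391 : pa11 [(1, 0), (1, 0), (2, 1), (2, 0), (7, 5), (7, 1), (5, 2)] = true := by decide +kernel

theorem q11_406 : pa11 [(1, 0), (1, 0), (2, 1), (2, 0), (7, 6), (3, 0), (5, 0), (2, 0), (2, 1)] = true := by decide +kernel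

theorem q11_422 : pa11 [(1, 0), (1, 0), (2, 1), (2, 1), (7, 1), (2, 0), (3, 1)] = true := by decide +kernel

theorem q11_436 : pa11 [(1, 0), (1, 0), (2, 1), (2, 1), (7, 2), (7, 1), (7, 0), (2, 1), (5, 0), (3, 1)] = true := by decide +kernel

theorem q11_500 : pa11 [(1, 0), (1, 0), (2, 1), (2, 1), (7, 3), (7, 4), (2, 1), (3, 0)] = true := by decide +kernel

theorem q11_520 : pa11 [(1, 0), (1, 0), (2, 1), (2, 1), (7, 4), (7, 0), (7, 4), (2, 1)] = true := by decide +kernel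

theorem q11_525 : pa11 [(1, 0), (1, 0), (2, 1), (2, 1), (7, 4), (7, 1), (2, 0)] = true := by decide +kernel

theorem q11_537 : pa11 [(1, 0), (1, 0), (2, 1), (2, 1), (7, 4), (7, 2), (2, 1), (5, 2), (2, 1), (2, 1)] = true := by decide +kernel

theorem q11_562 : pa11 [(1, 0), (1, 0), (2, 1), (2, 1), (7, 5), (3, 2)] = true := by decide +kernel

end Cfsg.Agent.H9.KC
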