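import Cfsg.Agent.H9.KDb11

/-! Kernel computations for the class data sieve. -/

set_option autoImplicit false
set_option Elab.async false
set_option maxRecDepth 100000

namespace Cfsg.Agent.H9.KC

theorem q11_2 : pa11 [(1, 0), (1, 0), (2, 0), (2, 0), (2, 0), (7, 0), (5, 0), (3, 2)] = true := by decide +kernel

theorem q11_5 : pa11 [(1, 0), (1, 0), (2, 0), (2, 0), (2, 0), (7, 0), (5, 3)] = true := by decide +kernel

theorem q11_13 : pa11 [(1, 0), (1, 0), (2, 0), (2, 0), (2, 0), (7, 1), (7, 3), (5, 0)] = true := by decide +kernel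

theorem q11_31 : pa11 [(1, 0), (1, 0), (2, 0), (2, 0), (2, 0), (7, 1), (7, 6)] = true := by decide +kernel

theorem q11_77 : pa11 [(1, 0), (1, 0), (2, 0), (2, 0), (2, 1), (7, 1), (2, 1)] = true := by decide +kernel

theorem q11_97 : pa11 [(1, 0), (1, 0), (2, 0), (2, 0), (2, 1), (7, 2), (7, 2), (2, 0), (2, 1), (2, 0)] = true := by decide +kernel

theorem q11_106 : pa11 [(1, 0), (1, 0), (2, 0), (2, 0), (2, 1), (7, 2), (7, 3), (7, 1), (5, 3)] = true := by decide +kernel

theorem q11_134 : pa11 [(1, 0), (1, 0), (2, 0), (2, 0), (2, 1), (7, 3), (5, 3)] = true := by decide +kernel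

theorem q11_135 : pa11 [(1, 0), (1, 0), (2, 0), (2, 0), (2, 1), (7, 3), (5, 4)] = true := by decide +kernel

theorem q11_140 : pa11 [(1, 0), (1, 0), (2, 0), (2, 0), (2, 1), (7, 4), (7, 2), (2, 1)] = true := by decide +kernel

theorem q11_143 : pa11 [(1, 0), (1, 0), (2, 0), (2, 0), (2, 1), (7, 4), (7, 4), (5, 1)] = true := by decide +kernel

theorem q11_144 : pa11 [(1, 0), (1, 0), (2, 0), (2, 0), (2, 1), (7, 4), (7, 4), (5, 2)] = true := by decide +kernel

theorem q11_148 : pa11 [(1, 0), (1, 0), (2, 0), (2, 0), (2, 1), (7, 4), (7, 4), (5, 4)] = true := by decide +kernel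

theorem q11_157 : pa11 [(1, 0), (1, 0), (2, 0), (2, 0), (2, 1), (7, 5), (2, 1), (5, 2)] = true := by decide +kernel

theorem q11_169 : pa11 [(1, 0), (1, 0), (2, 0), (2, 1), (2, 0), (5, 0), (2, 0), (2, 0), (3, 2), (2, 0)] = true := by decide +kernel

theorem q11_180 : pa11 [(1, 0), (1, 0), (2, 0), (2, 1), (2, 0), (5, 0), (2, 1), (7, 5)] = true := by decide +kernel

theorem q11_224 : pa11 [(1, 0), (1, 0), (2, 0), (2, 1), (2, 1), (7, 4), (7, 0), (5, 1), (2, 1), (2, 0)] = true := by decide +kernel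

theorem q11_290 : pa11 [(1, 0), (1, 0), (2, 1), (2, 0), (7, 0), (7, 0)] = true := by decide +kernel

theorem q11_364 : pa11 [(1, 0), (1, 0), (2, 1), (2, 0), (7, 3), (7, 6), (7, 3), (5, 2)] = true := by decide +kernel

theorem q11_372 : pa11 [(1, 0), (1, 0), (2, 1), (2, 0), (7, 4), (5, 1)] = true := by decide +kernel

theorem q11_389 : pa11 [(1, 0), (1, 0), (2, 1), (2, 0), (7, 5), (7, 1), (5, 0), (2, 1)] = true := by decide +kernel

theorem q11_402 : pa11 [(1, 0), (1, 0), (2, 1), (2, 0), (7, 5), (7, 5), (2, 1), (3, 1)] = true := by decide +kernel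

theorem q11_418 : pa11 [(1, 0), (1, 0), (2, 1), (2, 1), (7, 0), (3, 1), (2, 0)] = true := by decide +kernel

theorem q11_421 : pa11 [(1, 0), (1, 0), (2, 1), (2, 1), (7, 1), (2, 0), (3, 0)] = true := by decide +kernel

theorem q11_424 : pa11 [(1, 0), (1, 0), (2, 1), (2, 1), (7, 1), (2, 1), (3, 0)] = true := by decide +kernel

theorem q11_439 : pa11 [(1, 0), (1, 0), (2, 1), (2, 1), (7, 2), (7, 1), (7, 0), (2, 1), (5, 2)] = true := by decide +kernel

theorem q11_445 : pa11 [(1, 0), (1, 0), (2, 1), (2, 1), (7, 2), (7, 1), (7, 1), (2, 1)] = true := by decide +kernel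

theorem q11_446 : pa11 [(1, 0), (1, 0), (2, 1), (2, 1), (7, 2), (7, 1), (7, 2), (2, 0)] = true := by decide +kernel

theorem q11_458 : pa11 [(1, 0), (1, 0), (2, 1), (2, 1), (7, 2), (7, 1), (7, 5), (5, 4), (3, 1)] = true := by decide +kernel

theorem q11_481 : pa11 [(1, 0), (1, 0), (2, 1), (2, 1), (7, 2), (7, 6), (7, 5)] = true := by decide +kernel

theorem q11_483 : pa11 [(1, 0), (1, 0), (2, 1), (2, 1), (7, 2), (7, 6), (7, 6), (7, 1), (2, 0)] = true := by decide +kernel

theorem q11_484 : pa11 [(1, 0), (1, 0), (2, 1), (2, 1), (7, 2), (7, 6), (7, 6), (7, 1), (2, 1), (2, 0)] = true := by decide +kernel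

theorem q11_507 : pa11 [(1, 0), (1, 0), (2, 1), (2, 1), (7, 4), (7, 0), (7, 1)] = true := by decide +kernel

theorem q11_521 : pa11 [(1, 0), (1, 0), (2, 1), (2, 1), (7, 4), (7, 0), (7, 5), (2, 0)] = true := by decide +kernel

theorem q11_549 : pa11 [(1, 0), (1, 0), (2, 1), (2, 1), (7, 4), (7, 3), (2, 0), (5, 4)] = true := by decide +kernel

theorem q11_563 : pa11 [(1, 0), (1, 0), (2, 1), (2, 1), (7, 6)] = true := by decide +kernel

end Cfsg.Agent.H9.KC
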