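import Cfsg.Agent.H9.KD1

/-! Kernel computations for the class data sieve. -/

set_option autoImplicit false
set_option Elab.async false
set_option maxRecDepth 100000

namespace Cfsg.Agent.H9.KC

theorem q11_11 : pa11 [(1, 0), (1, 0), (2, 0), (2, 0), (2, 0), (7, 1), (7, 2), (2, 0)] = true := by decide +kernel

theorem q11_16 : pa11 [(1, 0), (1, 0), (2, 0), (2, 0), (2, 0), (7, 1), (7, 3), (5, 2), (2, 0), (2, 1)] = true := by decide +kernel

theorem q11_30 : pa11 [(1, 0), (1, 0), (2, 0), (2, 0), (2, 0), (7, 1), (7, 5), (7, 6)] = true := by decide +kernel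

theorem q11_61 : pa11 [(1, 0), (1, 0), (2, 0), (2, 0), (2, 0), (7, 3), (7, 6), (2, 1), (3, 0)] = true := by decide +kernel

theorem q11_156 : pa11 [(1, 0), (1, 0), (2, 0), (2, 0), (2, 1), (7, 5), (2, 1), (5, 1)] = true := by decide +kernel

theorem q11_171 : pa11 [(1, 0), (1, 0), (2, 0), (2, 1), (2, 0), (5, 0), (2, 0), (2, 1)] = true := by decide +kernel

theorem q11_181 : pa11 [(1, 0), (1, 0), (2, 0), (2, 1), (2, 0), (5, 0), (2, 1), (7, 6)] = true := by decide +kernel

theorem q11_207 : pa11 [(1, 0), (1, 0), (2, 0), (2, 1), (2, 0), (5, 4), (5, 2), (5, 2), (2, 1)] = true := by decide +kernel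

theorem q11_209 : pa11 [(1, 0), (1, 0), (2, 0), (2, 1), (2, 0), (5, 4), (5, 2), (5, 4), (2, 0)] = true := by decide +kernel

theorem q11_212 : pa11 [(1, 0), (1, 0), (2, 0), (2, 1), (2, 0), (5, 4), (5, 4)] = true := by decide +kernel

theorem q11_240 : pa11 [(1, 0), (1, 0), (2, 0), (2, 1), (2, 1), (7, 4), (7, 5), (5, 1), (2, 1)] = true := by decide +kernel

theorem q11_243 : pa11 [(1, 0), (1, 0), (2, 0), (2, 1), (2, 1), (7, 4), (7, 5), (5, 3), (2, 1), (3, 0)] = true := by decide +kernel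

theorem q11_253 : pa11 [(1, 0), (1, 0), (2, 0), (2, 1), (2, 1), (7, 6), (7, 0), (2, 1)] = true := by decide +kernel

theorem q11_292 : pa11 [(1, 0), (1, 0), (2, 1), (2, 0), (7, 0), (7, 2), (2, 0)] = true := by decide +kernel

theorem q11_317 : pa11 [(1, 0), (1, 0), (2, 1), (2, 0), (7, 3), (7, 2), (2, 0)] = true := by decide +kernel

theorem q11_319 : pa11 [(1, 0), (1, 0), (2, 1), (2, 0), (7, 3), (7, 3)] = true := by decide +kernel

theorem q11_331 : pa11 [(1, 0), (1, 0), (2, 1), (2, 0), (7, 3), (7, 4), (5, 3)] = true := by decide +kernel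

theorem q11_332 : pa11 [(1, 0), (1, 0), (2, 1), (2, 0), (7, 3), (7, 4), (5, 4), (7, 0)] = true := by decide +kernel

theorem q11_335 : pa11 [(1, 0), (1, 0), (2, 1), (2, 0), (7, 3), (7, 4), (5, 4), (7, 2), (3, 1)] = true := by decide +kernel

theorem q11_363 : pa11 [(1, 0), (1, 0), (2, 1), (2, 0), (7, 3), (7, 6), (7, 3), (5, 1), (2, 1), (3, 2)] = true := by decide +kernel

theorem q11_397 : pa11 [(1, 0), (1, 0), (2, 1), (2, 0), (7, 5), (7, 4), (2, 1)] = true := by decide +kernel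

theorem q11_409 : pa11 [(1, 0), (1, 0), (2, 1), (2, 0), (7, 6), (3, 0), (5, 2)] = true := by decide +kernel

theorem q11_416 : pa11 [(1, 0), (1, 0), (2, 1), (2, 1), (7, 0), (3, 0), (2, 0)] = true := by decide +kernel

theorem q11_425 : pa11 [(1, 0), (1, 0), (2, 1), (2, 1), (7, 1), (2, 1), (3, 1)] = true := by decide +kernel

theorem q11_432 : pa11 [(1, 0), (1, 0), (2, 1), (2, 1), (7, 2), (7, 1), (7, 0), (2, 0), (2, 0), (2, 0)] = true := by decide +kernel

theorem q11_444 : pa11 [(1, 0), (1, 0), (2, 1), (2, 1), (7, 2), (7, 1), (7, 1), (2, 0), (2, 1)] = true := by decide +kernel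

theorem q11_460 : pa11 [(1, 0), (1, 0), (2, 1), (2, 1), (7, 2), (7, 1), (7, 6)] = true := by decide +kernel

theorem q11_464 : pa11 [(1, 0), (1, 0), (2, 1), (2, 1), (7, 2), (7, 4), (2, 0)] = true := by decide +kernel

theorem q11_468 : pa11 [(1, 0), (1, 0), (2, 1), (2, 1), (7, 2), (7, 5), (3, 1)] = true := by decide +kernel

theorem q11_495 : pa11 [(1, 0), (1, 0), (2, 1), (2, 1), (7, 3), (7, 2)] = true := by decide +kernel

theorem q11_502 : pa11 [(1, 0), (1, 0), (2, 1), (2, 1), (7, 3), (7, 4), (2, 1), (3, 2), (2, 0)] = true := by decide +kernel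

theorem q11_515 : pa11 [(1, 0), (1, 0), (2, 1), (2, 1), (7, 4), (7, 0), (7, 2), (5, 4)] = true := by decide +kernel

theorem q11_516 : pa11 [(1, 0), (1, 0), (2, 1), (2, 1), (7, 4), (7, 0), (7, 3)] = true := by decide +kernel

theorem q11_542 : pa11 [(1, 0), (1, 0), (2, 1), (2, 1), (7, 4), (7, 3), (2, 0), (5, 0)] = true := by decide +kernel

theorem q11_551 : pa11 [(1, 0), (1, 0), (2, 1), (2, 1), (7, 4), (7, 3), (2, 1), (2, 1)] = true := by decide +kernel

end Cfsg.Agent.H9.KC
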