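import Cfsg.Agent.H9.KD1

/-! Kernel computations for the class data sieve. -/

set_option autoImplicit false
set_option Elab.async false
set_option maxRecDepth 100000

namespace Cfsg.Agent.H9.KC

theorem q11_19 : pa11 [(1, 0), (1, 0), (2, 0), (2, 0), (2, 0), (7, 1), (7, 3), (5, 4)] = true := by decide +kernel

theorem q11_23 : pa11 [(1, 0), (1, 0), (2, 0), (2, 0), (2, 0), (7, 1), (7, 5), (7, 2)] = true := by decide +kernel

theorem q11_71 : pa11 [(1, 0), (1, 0), (2, 0), (2, 0), (2, 0), (7, 6), (3, 1), (2, 1)] = true := by decide +kernel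

theorem q11_91 : pa11 [(1, 0), (1, 0), (2, 0), (2, 0), (2, 1), (7, 2), (7, 1), (5, 4), (5, 1)] = true := by decide +kernel

theorem q11_123 : pa11 [(1, 0), (1, 0), (2, 0), (2, 0), (2, 1), (7, 2), (7, 4), (2, 1)] = true := by decide +kernel

theorem q11_132 : pa11 [(1, 0), (1, 0), (2, 0), (2, 0), (2, 1), (7, 3), (5, 2), (2, 0), (2, 1)] = true := by decide +kernel

theorem q11_136 : pa11 [(1, 0), (1, 0), (2, 0), (2, 0), (2, 1), (7, 4), (7, 0)] = true := by decide +kernel

theorem q11_149 : pa11 [(1, 0), (1, 0), (2, 0), (2, 0), (2, 1), (7, 4), (7, 5), (2, 0)] = true := by decide +kernel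

theorem q11_161 : pa11 [(1, 0), (1, 0), (2, 0), (2, 0), (2, 1), (7, 6), (5, 1)] = true := by decide +kernel

theorem q11_175 : pa11 [(1, 0), (1, 0), (2, 0), (2, 1), (2, 0), (5, 0), (2, 1), (7, 1), (2, 1), (2, 0)] = true := by decide +kernel

theorem q11_178 : pa11 [(1, 0), (1, 0), (2, 0), (2, 1), (2, 0), (5, 0), (2, 1), (7, 3)] = true := by decide +kernel

theorem q11_202 : pa11 [(1, 0), (1, 0), (2, 0), (2, 1), (2, 0), (5, 4), (5, 1), (7, 6), (2, 1)] = true := by decide +kernel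

theorem q11_226 : pa11 [(1, 0), (1, 0), (2, 0), (2, 1), (2, 1), (7, 4), (7, 0), (5, 2), (3, 0)] = true := by decide +kernel

theorem q11_231 : pa11 [(1, 0), (1, 0), (2, 0), (2, 1), (2, 1), (7, 4), (7, 1)] = true := by decide +kernel

theorem q11_267 : pa11 [(1, 0), (1, 0), (2, 0), (2, 1), (2, 1), (7, 6), (7, 3), (2, 0)] = true := by decide +kernel

theorem q11_275 : pa11 [(1, 0), (1, 0), (2, 0), (2, 1), (2, 1), (7, 6), (7, 6), (5, 0), (5, 1), (2, 1)] = true := by decide +kernel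

theorem q11_287 : pa11 [(1, 0), (1, 0), (2, 0), (2, 1), (2, 1), (7, 6), (7, 6), (5, 2)] = true := by decide +kernel

theorem q11_289 : pa11 [(1, 0), (1, 0), (2, 0), (2, 1), (2, 1), (7, 6), (7, 6), (5, 4)] = true := by decide +kernel

theorem q11_327 : pa11 [(1, 0), (1, 0), (2, 1), (2, 0), (7, 3), (7, 4), (5, 0), (7, 5)] = true := by decide +kernel

theorem q11_356 : pa11 [(1, 0), (1, 0), (2, 1), (2, 0), (7, 3), (7, 6), (7, 3), (5, 0), (2, 0), (3, 0)] = true := by decide +kernel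

theorem q11_390 : pa11 [(1, 0), (1, 0), (2, 1), (2, 0), (7, 5), (7, 1), (5, 1)] = true := by decide +kernel

theorem q11_411 : pa11 [(1, 0), (1, 0), (2, 1), (2, 0), (7, 6), (3, 0), (5, 4)] = true := by decide +kernel

theorem q11_430 : pa11 [(1, 0), (1, 0), (2, 1), (2, 1), (7, 2), (7, 0), (3, 1), (2, 1), (2, 1)] = true := by decide +kernel

theorem q11_437 : pa11 [(1, 0), (1, 0), (2, 1), (2, 1), (7, 2), (7, 1), (7, 0), (2, 1), (5, 0), (3, 2)] = true := by decide +kernel

theorem q11_448 : pa11 [(1, 0), (1, 0), (2, 1), (2, 1), (7, 2), (7, 1), (7, 2), (2, 1), (3, 1)] = true := by decide +kernel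

theorem q11_450 : pa11 [(1, 0), (1, 0), (2, 1), (2, 1), (7, 2), (7, 1), (7, 3)] = true := by decide +kernel

theorem q11_452 : pa11 [(1, 0), (1, 0), (2, 1), (2, 1), (7, 2), (7, 1), (7, 5), (5, 0)] = true := by decide +kernel

theorem q11_459 : pa11 [(1, 0), (1, 0), (2, 1), (2, 1), (7, 2), (7, 1), (7, 5), (5, 4), (3, 2)] = true := by decide +kernel

theorem q11_461 : pa11 [(1, 0), (1, 0), (2, 1), (2, 1), (7, 2), (7, 2), (2, 0)] = true := by decide +kernel

theorem q11_466 : pa11 [(1, 0), (1, 0), (2, 1), (2, 1), (7, 2), (7, 4), (2, 1), (2, 1)] = true := by decide +kernel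

theorem q11_482 : pa11 [(1, 0), (1, 0), (2, 1), (2, 1), (7, 2), (7, 6), (7, 6), (7, 0)] = true := by decide +kernel

theorem q11_487 : pa11 [(1, 0), (1, 0), (2, 1), (2, 1), (7, 2), (7, 6), (7, 6), (7, 2), (2, 0)] = true := by decide +kernel

theorem q11_504 : pa11 [(1, 0), (1, 0), (2, 1), (2, 1), (7, 3), (7, 5)] = true := by decide +kernel

theorem q11_530 : pa11 [(1, 0), (1, 0), (2, 1), (2, 1), (7, 4), (7, 2), (2, 0), (5, 3), (2, 0)] = true := by decide +kernel

theorem q11_560 : pa11 [(1, 0), (1, 0), (2, 1), (2, 1), (7, 5), (3, 0), (2, 1)] = true := by decide +kernel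

end Cfsg.Agent.H9.KC
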