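import Cfsg.Agent.H9.KDb0

/-! Kernel computations for the class data sieve. -/

set_option autoImplicit false
set_option Elab.async false
set_option maxRecDepth 100000

namespace Cfsg.Agent.H9.KC

theorem q11_25 : pa11 [(1, 0), (1, 0), (2, 0), (2, 0), (2, 0), (7, 1), (7, 5), (7, 3), (2, 1)] = true := by decide +kernel

theorem q11_32 : pa11 [(1, 0), (1, 0), (2, 0), (2, 0), (2, 0), (7, 2), (3, 0)] = true := by decide +kernel

theorem q11_51 : pa11 [(1, 0), (1, 0), (2, 0), (2, 0), (2, 0), (7, 3), (7, 4), (7, 3), (2, 1)] = true := by decide +kernel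

theorem q11_60 : pa11 [(1, 0), (1, 0), (2, 0), (2, 0), (2, 0), (7, 3), (7, 6), (2, 0), (5, 4)] = true := by decide +kernel

theorem q11_72 : pa11 [(1, 0), (1, 0), (2, 0), (2, 0), (2, 0), (7, 6), (3, 2)] = true := by decide +kernel

theorem q11_76 : pa11 [(1, 0), (1, 0), (2, 0), (2, 0), (2, 1), (7, 1), (2, 0)] = true := by decide +kernel

theorem q11_92 : pa11 [(1, 0), (1, 0), (2, 0), (2, 0), (2, 1), (7, 2), (7, 1), (5, 4), (5, 2)] = true := by decide +kernel

theorem q11_96 : pa11 [(1, 0), (1, 0), (2, 0), (2, 0), (2, 1), (7, 2), (7, 2), (2, 0), (2, 0)] = true := by decide +kernel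

theorem q11_104 : pa11 [(1, 0), (1, 0), (2, 0), (2, 0), (2, 1), (7, 2), (7, 3), (7, 1), (5, 1)] = true := by decide +kernel

theorem q11_129 : pa11 [(1, 0), (1, 0), (2, 0), (2, 0), (2, 1), (7, 3), (5, 0)] = true := by decide +kernel

theorem q11_163 : pa11 [(1, 0), (1, 0), (2, 0), (2, 0), (2, 1), (7, 6), (5, 3)] = true := by decide +kernel

theorem q11_219 : pa11 [(1, 0), (1, 0), (2, 0), (2, 1), (2, 1), (7, 2), (3, 1)] = true := by decide +kernel

theorem q11_222 : pa11 [(1, 0), (1, 0), (2, 0), (2, 1), (2, 1), (7, 4), (7, 0), (5, 0)] = true := by decide +kernel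

theorem q11_233 : pa11 [(1, 0), (1, 0), (2, 0), (2, 1), (2, 1), (7, 4), (7, 3), (2, 0)] = true := by decide +kernel

theorem q11_242 : pa11 [(1, 0), (1, 0), (2, 0), (2, 1), (2, 1), (7, 4), (7, 5), (5, 3), (2, 0)] = true := by decide +kernel

theorem q11_260 : pa11 [(1, 0), (1, 0), (2, 0), (2, 1), (2, 1), (7, 6), (7, 1), (5, 3), (2, 1), (2, 1)] = true := by decide +kernel

theorem q11_261 : pa11 [(1, 0), (1, 0), (2, 0), (2, 1), (2, 1), (7, 6), (7, 1), (5, 4), (3, 0)] = true := by decide +kernel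

theorem q11_265 : pa11 [(1, 0), (1, 0), (2, 0), (2, 1), (2, 1), (7, 6), (7, 2), (2, 0), (2, 1)] = true := by decide +kernel

theorem q11_274 : pa11 [(1, 0), (1, 0), (2, 0), (2, 1), (2, 1), (7, 6), (7, 6), (5, 0), (5, 1), (2, 0)] = true := by decide +kernel

theorem q11_301 : pa11 [(1, 0), (1, 0), (2, 1), (2, 0), (7, 1), (3, 1)] = true := by decide +kernel

theorem q11_333 : pa11 [(1, 0), (1, 0), (2, 1), (2, 0), (7, 3), (7, 4), (5, 4), (7, 1)] = true := by decide +kernel

theorem q11_345 : pa11 [(1, 0), (1, 0), (2, 1), (2, 0), (7, 3), (7, 5), (5, 1)] = true := by decide +kernel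

theorem q11_358 : pa11 [(1, 0), (1, 0), (2, 1), (2, 0), (7, 3), (7, 6), (7, 3), (5, 0), (2, 0), (3, 2)] = true := by decide +kernel

theorem q11_359 : pa11 [(1, 0), (1, 0), (2, 1), (2, 0), (7, 3), (7, 6), (7, 3), (5, 0), (2, 1)] = true := by decide +kernel

theorem q11_362 : pa11 [(1, 0), (1, 0), (2, 1), (2, 0), (7, 3), (7, 6), (7, 3), (5, 1), (2, 1), (3, 1)] = true := by decide +kernel

theorem q11_383 : pa11 [(1, 0), (1, 0), (2, 1), (2, 0), (7, 5), (7, 0), (5, 4), (5, 0)] = true := by decide +kernel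

theorem q11_385 : pa11 [(1, 0), (1, 0), (2, 1), (2, 0), (7, 5), (7, 0), (5, 4), (5, 2)] = true := by decide +kernel

theorem q11_386 : pa11 [(1, 0), (1, 0), (2, 1), (2, 0), (7, 5), (7, 0), (5, 4), (5, 3)] = true := by decide +kernel

theorem q11_404 : pa11 [(1, 0), (1, 0), (2, 1), (2, 0), (7, 5), (7, 6)] = true := by decide +kernel

theorem q11_453 : pa11 [(1, 0), (1, 0), (2, 1), (2, 1), (7, 2), (7, 1), (7, 5), (5, 1)] = true := by decide +kernel

theorem q11_455 : pa11 [(1, 0), (1, 0), (2, 1), (2, 1), (7, 2), (7, 1), (7, 5), (5, 3), (2, 0)] = true := by decide +kernel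

theorem q11_457 : pa11 [(1, 0), (1, 0), (2, 1), (2, 1), (7, 2), (7, 1), (7, 5), (5, 4), (3, 0)] = true := by decide +kernel

theorem q11_531 : pa11 [(1, 0), (1, 0), (2, 1), (2, 1), (7, 4), (7, 2), (2, 0), (5, 3), (2, 1)] = true := by decide +kernel

theorem q11_545 : pa11 [(1, 0), (1, 0), (2, 1), (2, 1), (7, 4), (7, 3), (2, 0), (5, 3), (3, 0), (2, 0)] = true := by decide +kernel

theorem q11_552 : pa11 [(1, 0), (1, 0), (2, 1), (2, 1), (7, 4), (7, 4), (3, 0), (2, 0)] = true := by decide +kernel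

theorem q11_553 : pa11 [(1, 0), (1, 0), (2, 1), (2, 1), (7, 4), (7, 4), (3, 0), (2, 1)] = true := by decide +kernel

end Cfsg.Agent.H9.KC
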