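import Cfsg.Agent.H9.KDb1

/-! Kernel computations for the class data sieve. -/

set_option autoImplicit false
set_option Elab.async false
set_option maxRecDepth 100000

namespace Cfsg.Agent.H9.KC

theorem q11_12 : pa11 [(1, 0), (1, 0), (2, 0), (2, 0), (2, 0), (7, 1), (7, 2), (2, 1)] = true := by decide +kernel

theorem q11_27 : pa11 [(1, 0), (1, 0), (2, 0), (2, 0), (2, 0), (7, 1), (7, 5), (7, 5), (2, 0), (2, 0)] = true := by decide +kernel

theorem q11_34 : pa11 [(1, 0), (1, 0), (2, 0), (2, 0), (2, 0), (7, 2), (3, 1), (2, 1)] = true := by decide +kernel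

theorem q11_56 : pa11 [(1, 0), (1, 0), (2, 0), (2, 0), (2, 0), (7, 3), (7, 6), (2, 0), (5, 0)] = true := by decide +kernel

theorem q11_74 : pa11 [(1, 0), (1, 0), (2, 0), (2, 0), (2, 1), (7, 0), (3, 1)] = true := by decide +kernel

theorem q11_100 : pa11 [(1, 0), (1, 0), (2, 0), (2, 0), (2, 1), (7, 2), (7, 3), (7, 0)] = true := by decide +kernel

theorem q11_116 : pa11 [(1, 0), (1, 0), (2, 0), (2, 0), (2, 1), (7, 2), (7, 3), (7, 5), (2, 0), (2, 1)] = true := by decide +kernel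

theorem q11_125 : pa11 [(1, 0), (1, 0), (2, 0), (2, 0), (2, 1), (7, 2), (7, 5), (2, 1), (3, 0)] = true := by decide +kernel

theorem q11_162 : pa11 [(1, 0), (1, 0), (2, 0), (2, 0), (2, 1), (7, 6), (5, 2)] = true := by decide +kernel

theorem q11_170 : pa11 [(1, 0), (1, 0), (2, 0), (2, 1), (2, 0), (5, 0), (2, 0), (2, 0), (3, 2), (2, 1)] = true := by decide +kernel

theorem q11_179 : pa11 [(1, 0), (1, 0), (2, 0), (2, 1), (2, 0), (5, 0), (2, 1), (7, 4)] = true := by decide +kernel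

theorem q11_196 : pa11 [(1, 0), (1, 0), (2, 0), (2, 1), (2, 0), (5, 4), (5, 1), (7, 4), (2, 0), (2, 1), (2, 1)] = true := by decide +kernel

theorem q11_198 : pa11 [(1, 0), (1, 0), (2, 0), (2, 1), (2, 0), (5, 4), (5, 1), (7, 4), (2, 1), (2, 1)] = true := by decide +kernel

theorem q11_217 : pa11 [(1, 0), (1, 0), (2, 0), (2, 1), (2, 1), (7, 1)] = true := by decide +kernel

theorem q11_236 : pa11 [(1, 0), (1, 0), (2, 0), (2, 1), (2, 1), (7, 4), (7, 4), (2, 0)] = true := by decide +kernel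

theorem q11_255 : pa11 [(1, 0), (1, 0), (2, 0), (2, 1), (2, 1), (7, 6), (7, 1), (5, 1)] = true := by decide +kernel

theorem q11_295 : pa11 [(1, 0), (1, 0), (2, 1), (2, 0), (7, 0), (7, 4), (2, 0), (2, 0)] = true := by decide +kernel

theorem q11_298 : pa11 [(1, 0), (1, 0), (2, 1), (2, 0), (7, 0), (7, 5)] = true := by decide +kernel

theorem q11_300 : pa11 [(1, 0), (1, 0), (2, 1), (2, 0), (7, 1), (3, 0)] = true := by decide +kernel

theorem q11_308 : pa11 [(1, 0), (1, 0), (2, 1), (2, 0), (7, 3), (7, 0), (2, 1), (5, 1), (3, 2)] = true := by decide +kernel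

theorem q11_344 : pa11 [(1, 0), (1, 0), (2, 1), (2, 0), (7, 3), (7, 5), (5, 0), (2, 1)] = true := by decide +kernel

theorem q11_381 : pa11 [(1, 0), (1, 0), (2, 1), (2, 0), (7, 5), (7, 0), (5, 2)] = true := by decide +kernel

theorem q11_388 : pa11 [(1, 0), (1, 0), (2, 1), (2, 0), (7, 5), (7, 1), (5, 0), (2, 0)] = true := by decide +kernel

theorem q11_392 : pa11 [(1, 0), (1, 0), (2, 1), (2, 0), (7, 5), (7, 1), (5, 3)] = true := by decide +kernel

theorem q11_395 : pa11 [(1, 0), (1, 0), (2, 1), (2, 0), (7, 5), (7, 3)] = true := by decide +kernel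

theorem q11_403 : pa11 [(1, 0), (1, 0), (2, 1), (2, 0), (7, 5), (7, 5), (2, 1), (3, 2)] = true := by decide +kernel

theorem q11_419 : pa11 [(1, 0), (1, 0), (2, 1), (2, 1), (7, 0), (3, 1), (2, 1)] = true := by decide +kernel

theorem q11_441 : pa11 [(1, 0), (1, 0), (2, 1), (2, 1), (7, 2), (7, 1), (7, 0), (2, 1), (5, 4)] = true := by decide +kernel

theorem q11_470 : pa11 [(1, 0), (1, 0), (2, 1), (2, 1), (7, 2), (7, 6), (7, 0)] = true := by decide +kernel

theorem q11_475 : pa11 [(1, 0), (1, 0), (2, 1), (2, 1), (7, 2), (7, 6), (7, 4), (5, 1), (2, 0), (2, 0)] = true := by decide +kernel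

theorem q11_493 : pa11 [(1, 0), (1, 0), (2, 1), (2, 1), (7, 3), (7, 0)] = true := by decide +kernel

theorem q11_510 : pa11 [(1, 0), (1, 0), (2, 1), (2, 1), (7, 4), (7, 0), (7, 2), (5, 2), (2, 0)] = true := by decide +kernel

theorem q11_512 : pa11 [(1, 0), (1, 0), (2, 1), (2, 1), (7, 4), (7, 0), (7, 2), (5, 3), (3, 0)] = true := by decide +kernel

theorem q11_513 : pa11 [(1, 0), (1, 0), (2, 1), (2, 1), (7, 4), (7, 0), (7, 2), (5, 3), (3, 1)] = true := by decide +kernel

theorem q11_522 : pa11 [(1, 0), (1, 0), (2, 1), (2, 1), (7, 4), (7, 0), (7, 5), (2, 1), (2, 0)] = true := by decide +kernel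

end Cfsg.Agent.H9.KC
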