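import Cfsg.Agent.H9.KDb2

/-! Kernel computations for the class data sieve. -/

set_option autoImplicit false
set_option Elab.async false
set_option maxRecDepth 100000

namespace Cfsg.Agent.H9.KC

theorem q11_8 : pa11 [(1, 0), (1, 0), (2, 0), (2, 0), (2, 0), (7, 1), (7, 1), (2, 0), (2, 0)] = true := by decide +kernel

theorem q11_14 : pa11 [(1, 0), (1, 0), (2, 0), (2, 0), (2, 0), (7, 1), (7, 3), (5, 1)] = true := by decide +kernel

theorem q11_26 : pa11 [(1, 0), (1, 0), (2, 0), (2, 0), (2, 0), (7, 1), (7, 5), (7, 4)] = true := by decide +kernel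

theorem q11_82 : pa11 [(1, 0), (1, 0), (2, 0), (2, 0), (2, 1), (7, 2), (7, 1), (5, 3), (5, 0)] = true := by decide +kernel

theorem q11_83 : pa11 [(1, 0), (1, 0), (2, 0), (2, 0), (2, 1), (7, 2), (7, 1), (5, 3), (5, 1)] = true := by decide +kernel

theorem q11_94 : pa11 [(1, 0), (1, 0), (2, 0), (2, 0), (2, 1), (7, 2), (7, 1), (5, 4), (5, 4), (2, 0)] = true := by decide +kernel

theorem q11_102 : pa11 [(1, 0), (1, 0), (2, 0), (2, 0), (2, 1), (7, 2), (7, 3), (7, 1), (5, 0), (3, 1)] = true := by decide +kernel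

theorem q11_120 : pa11 [(1, 0), (1, 0), (2, 0), (2, 0), (2, 1), (7, 2), (7, 4), (2, 0), (2, 0), (2, 1)] = true := by decide +kernel

theorem q11_131 : pa11 [(1, 0), (1, 0), (2, 0), (2, 0), (2, 1), (7, 3), (5, 2), (2, 0), (2, 0)] = true := by decide +kernel

theorem q11_172 : pa11 [(1, 0), (1, 0), (2, 0), (2, 1), (2, 0), (5, 0), (2, 1), (7, 0)] = true := by decide +kernel

theorem q11_186 : pa11 [(1, 0), (1, 0), (2, 0), (2, 1), (2, 0), (5, 3), (3, 0)] = true := by decide +kernel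

theorem q11_191 : pa11 [(1, 0), (1, 0), (2, 0), (2, 1), (2, 0), (5, 4), (5, 1), (7, 1)] = true := by decide +kernel

theorem q11_200 : pa11 [(1, 0), (1, 0), (2, 0), (2, 1), (2, 0), (5, 4), (5, 1), (7, 6), (2, 0), (2, 0)] = true := by decide +kernel

theorem q11_216 : pa11 [(1, 0), (1, 0), (2, 0), (2, 1), (2, 1), (7, 0), (3, 2)] = true := by decide +kernel

theorem q11_221 : pa11 [(1, 0), (1, 0), (2, 0), (2, 1), (2, 1), (7, 3)] = true := by decide +kernel

theorem q11_225 : pa11 [(1, 0), (1, 0), (2, 0), (2, 1), (2, 1), (7, 4), (7, 0), (5, 1), (2, 1), (2, 1)] = true := by decide +kernel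

theorem q11_245 : pa11 [(1, 0), (1, 0), (2, 0), (2, 1), (2, 1), (7, 4), (7, 5), (5, 3), (2, 1), (3, 2)] = true := by decide +kernel

theorem q11_291 : pa11 [(1, 0), (1, 0), (2, 1), (2, 0), (7, 0), (7, 1)] = true := by decide +kernel

theorem q11_302 : pa11 [(1, 0), (1, 0), (2, 1), (2, 0), (7, 1), (3, 2)] = true := by decide +kernel

theorem q11_326 : pa11 [(1, 0), (1, 0), (2, 1), (2, 0), (7, 3), (7, 4), (5, 0), (7, 4), (2, 1)] = true := by decide +kernel

theorem q11_340 : pa11 [(1, 0), (1, 0), (2, 1), (2, 0), (7, 3), (7, 4), (5, 4), (7, 5), (2, 1)] = true := by decide +kernel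

theorem q11_342 : pa11 [(1, 0), (1, 0), (2, 1), (2, 0), (7, 3), (7, 5), (5, 0), (2, 0), (2, 0)] = true := by decide +kernel

theorem q11_350 : pa11 [(1, 0), (1, 0), (2, 1), (2, 0), (7, 3), (7, 6), (7, 0), (2, 1), (2, 0), (2, 0)] = true := by decide +kernel

theorem q11_371 : pa11 [(1, 0), (1, 0), (2, 1), (2, 0), (7, 4), (5, 0)] = true := by decide +kernel

theorem q11_393 : pa11 [(1, 0), (1, 0), (2, 1), (2, 0), (7, 5), (7, 1), (5, 4)] = true := by decide +kernel

theorem q11_405 : pa11 [(1, 0), (1, 0), (2, 1), (2, 0), (7, 6), (3, 0), (5, 0), (2, 0), (2, 0)] = true := by decide +kernel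

theorem q11_410 : pa11 [(1, 0), (1, 0), (2, 1), (2, 0), (7, 6), (3, 0), (5, 3)] = true := by decide +kernel

theorem q11_433 : pa11 [(1, 0), (1, 0), (2, 1), (2, 1), (7, 2), (7, 1), (7, 0), (2, 0), (2, 0), (2, 1)] = true := by decide +kernel

theorem q11_454 : pa11 [(1, 0), (1, 0), (2, 1), (2, 1), (7, 2), (7, 1), (7, 5), (5, 2)] = true := by decide +kernel

theorem q11_471 : pa11 [(1, 0), (1, 0), (2, 1), (2, 1), (7, 2), (7, 6), (7, 1)] = true := by decide +kernel

theorem q11_476 : pa11 [(1, 0), (1, 0), (2, 1), (2, 1), (7, 2), (7, 6), (7, 4), (5, 1), (2, 0), (2, 1)] = true := by decide +kernel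

theorem q11_489 : pa11 [(1, 0), (1, 0), (2, 1), (2, 1), (7, 2), (7, 6), (7, 6), (7, 3)] = true := by decide +kernel

theorem q11_514 : pa11 [(1, 0), (1, 0), (2, 1), (2, 1), (7, 4), (7, 0), (7, 2), (5, 3), (3, 2)] = true := by decide +kernel

theorem q11_519 : pa11 [(1, 0), (1, 0), (2, 1), (2, 1), (7, 4), (7, 0), (7, 4), (2, 0), (2, 1)] = true := by decide +kernel

theorem q11_558 : pa11 [(1, 0), (1, 0), (2, 1), (2, 1), (7, 4), (7, 6)] = true := by decide +kernel

end Cfsg.Agent.H9.KC
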