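import Cfsg.Agent.H9.KDb3

/-! Kernel computations for the class data sieve. -/

set_option autoImplicit false
set_option Elab.async false
set_option maxRecDepth 100000

namespace Cfsg.Agent.H9.KC

theorem q11_57 : pa11 [(1, 0), (1, 0), (2, 0), (2, 0), (2, 0), (7, 3), (7, 6), (2, 0), (5, 1)] = true := by decide +kernel

theorem q11_73 : pa11 [(1, 0), (1, 0), (2, 0), (2, 0), (2, 1), (7, 0), (3, 0)] = true := by decide +kernel

theorem q11_79 : pa11 [(1, 0), (1, 0), (2, 0), (2, 0), (2, 1), (7, 2), (7, 1), (5, 0)] = true := by decide +kernel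

theorem q11_86 : pa11 [(1, 0), (1, 0), (2, 0), (2, 0), (2, 1), (7, 2), (7, 1), (5, 3), (5, 3), (2, 1)] = true := by decide +kernel

theorem q11_88 : pa11 [(1, 0), (1, 0), (2, 0), (2, 0), (2, 1), (7, 2), (7, 1), (5, 3), (5, 4), (2, 1)] = true := by decide +kernel

theorem q11_90 : pa11 [(1, 0), (1, 0), (2, 0), (2, 0), (2, 1), (7, 2), (7, 1), (5, 4), (5, 0), (2, 1)] = true := by decide +kernel

theorem q11_114 : pa11 [(1, 0), (1, 0), (2, 0), (2, 0), (2, 1), (7, 2), (7, 3), (7, 4)] = true := by decide +kernel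

theorem q11_127 : pa11 [(1, 0), (1, 0), (2, 0), (2, 0), (2, 1), (7, 2), (7, 5), (2, 1), (3, 2)] = true := by decide +kernel

theorem q11_154 : pa11 [(1, 0), (1, 0), (2, 0), (2, 0), (2, 1), (7, 5), (2, 0), (2, 1)] = true := by decide +kernel

theorem q11_182 : pa11 [(1, 0), (1, 0), (2, 0), (2, 1), (2, 0), (5, 1), (3, 0)] = true := by decide +kernel

theorem q11_185 : pa11 [(1, 0), (1, 0), (2, 0), (2, 1), (2, 0), (5, 2)] = true := by decide +kernel

theorem q11_193 : pa11 [(1, 0), (1, 0), (2, 0), (2, 1), (2, 0), (5, 4), (5, 1), (7, 3)] = true := by decide +kernel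

theorem q11_256 : pa11 [(1, 0), (1, 0), (2, 0), (2, 1), (2, 1), (7, 6), (7, 1), (5, 2)] = true := by decide +kernel

theorem q11_257 : pa11 [(1, 0), (1, 0), (2, 0), (2, 1), (2, 1), (7, 6), (7, 1), (5, 3), (2, 0), (2, 0)] = true := by decide +kernel

theorem q11_271 : pa11 [(1, 0), (1, 0), (2, 0), (2, 1), (2, 1), (7, 6), (7, 6), (5, 0), (5, 0), (2, 0)] = true := by decide +kernel

theorem q11_272 : pa11 [(1, 0), (1, 0), (2, 0), (2, 1), (2, 1), (7, 6), (7, 6), (5, 0), (5, 0), (2, 1), (2, 0)] = true := by decide +kernel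

theorem q11_276 : pa11 [(1, 0), (1, 0), (2, 0), (2, 1), (2, 1), (7, 6), (7, 6), (5, 0), (5, 2)] = true := by decide +kernel

theorem q11_278 : pa11 [(1, 0), (1, 0), (2, 0), (2, 1), (2, 1), (7, 6), (7, 6), (5, 0), (5, 4)] = true := by decide +kernel

theorem q11_279 : pa11 [(1, 0), (1, 0), (2, 0), (2, 1), (2, 1), (7, 6), (7, 6), (5, 1), (5, 0)] = true := by decide +kernel

theorem q11_280 : pa11 [(1, 0), (1, 0), (2, 0), (2, 1), (2, 1), (7, 6), (7, 6), (5, 1), (5, 1), (2, 0)] = true := by decide +kernel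

theorem q11_296 : pa11 [(1, 0), (1, 0), (2, 1), (2, 0), (7, 0), (7, 4), (2, 0), (2, 1)] = true := by decide +kernel

theorem q11_303 : pa11 [(1, 0), (1, 0), (2, 1), (2, 0), (7, 2)] = true := by decide +kernel

theorem q11_306 : pa11 [(1, 0), (1, 0), (2, 1), (2, 0), (7, 3), (7, 0), (2, 1), (5, 1), (3, 0)] = true := by decide +kernel

theorem q11_314 : pa11 [(1, 0), (1, 0), (2, 1), (2, 0), (7, 3), (7, 1), (3, 0), (2, 1)] = true := by decide +kernel

theorem q11_353 : pa11 [(1, 0), (1, 0), (2, 1), (2, 0), (7, 3), (7, 6), (7, 1), (2, 0)] = true := by decide +kernel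

theorem q11_365 : pa11 [(1, 0), (1, 0), (2, 1), (2, 0), (7, 3), (7, 6), (7, 3), (5, 3)] = true := by decide +kernel

theorem q11_387 : pa11 [(1, 0), (1, 0), (2, 1), (2, 0), (7, 5), (7, 0), (5, 4), (5, 4)] = true := by decide +kernel

theorem q11_400 : pa11 [(1, 0), (1, 0), (2, 1), (2, 0), (7, 5), (7, 5), (2, 0), (3, 2)] = true := by decide +kernel

theorem q11_401 : pa11 [(1, 0), (1, 0), (2, 1), (2, 0), (7, 5), (7, 5), (2, 1), (3, 0)] = true := by decide +kernel

theorem q11_427 : pa11 [(1, 0), (1, 0), (2, 1), (2, 1), (7, 2), (7, 0), (3, 0)] = true := by decide +kernel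

theorem q11_449 : pa11 [(1, 0), (1, 0), (2, 1), (2, 1), (7, 2), (7, 1), (7, 2), (2, 1), (3, 2)] = true := by decide +kernel

theorem q11_509 : pa11 [(1, 0), (1, 0), (2, 1), (2, 1), (7, 4), (7, 0), (7, 2), (5, 1)] = true := by decide +kernel

theorem q11_536 : pa11 [(1, 0), (1, 0), (2, 1), (2, 1), (7, 4), (7, 2), (2, 1), (5, 2), (2, 1), (2, 0)] = true := by decide +kernel

theorem q11_541 : pa11 [(1, 0), (1, 0), (2, 1), (2, 1), (7, 4), (7, 2), (2, 1), (5, 4)] = true := by decide +kernel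

theorem q11_546 : pa11 [(1, 0), (1, 0), (2, 1), (2, 1), (7, 4), (7, 3), (2, 0), (5, 3), (3, 0), (2, 1)] = true := by decide +kernel

end Cfsg.Agent.H9.KC
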