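import Cfsg.Agent.H9.KDb4

/-! Kernel computations for the class data sieve. -/

set_option autoImplicit false
set_option Elab.async false
set_option maxRecDepth 100000

namespace Cfsg.Agent.H9.KC

theorem q11_1 : pa11 [(1, 0), (1, 0), (2, 0), (2, 0), (2, 0), (7, 0), (5, 0), (3, 1)] = true := by decide +kernel

theorem q11_6 : pa11 [(1, 0), (1, 0), (2, 0), (2, 0), (2, 0), (7, 0), (5, 4)] = true := by decide +kernel

theorem q11_49 : pa11 [(1, 0), (1, 0), (2, 0), (2, 0), (2, 0), (7, 3), (7, 4), (7, 2), (2, 1), (2, 1)] = true := by decide +kernel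

theorem q11_75 : pa11 [(1, 0), (1, 0), (2, 0), (2, 0), (2, 1), (7, 0), (3, 2)] = true := by decide +kernel

theorem q11_93 : pa11 [(1, 0), (1, 0), (2, 0), (2, 0), (2, 1), (7, 2), (7, 1), (5, 4), (5, 3)] = true := by decide +kernel

theorem q11_117 : pa11 [(1, 0), (1, 0), (2, 0), (2, 0), (2, 1), (7, 2), (7, 3), (7, 5), (2, 1)] = true := by decide +kernel

theorem q11_121 : pa11 [(1, 0), (1, 0), (2, 0), (2, 0), (2, 1), (7, 2), (7, 4), (2, 0), (2, 1), (2, 0)] = true := by decide +kernel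

theorem q11_139 : pa11 [(1, 0), (1, 0), (2, 0), (2, 0), (2, 1), (7, 4), (7, 2), (2, 0)] = true := by decide +kernel

theorem q11_145 : pa11 [(1, 0), (1, 0), (2, 0), (2, 0), (2, 1), (7, 4), (7, 4), (5, 3), (2, 0)] = true := by decide +kernel

theorem q11_147 : pa11 [(1, 0), (1, 0), (2, 0), (2, 0), (2, 1), (7, 4), (7, 4), (5, 3), (2, 1), (2, 1)] = true := by decide +kernel

theorem q11_153 : pa11 [(1, 0), (1, 0), (2, 0), (2, 0), (2, 1), (7, 5), (2, 0), (2, 0)] = true := by decide +kernel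

theorem q11_203 : pa11 [(1, 0), (1, 0), (2, 0), (2, 1), (2, 0), (5, 4), (5, 2), (5, 0), (2, 0)] = true := by decide +kernel

theorem q11_208 : pa11 [(1, 0), (1, 0), (2, 0), (2, 1), (2, 0), (5, 4), (5, 2), (5, 3)] = true := by decide +kernel

theorem q11_214 : pa11 [(1, 0), (1, 0), (2, 0), (2, 1), (2, 1), (7, 0), (3, 1), (2, 0)] = true := by decide +kernel

theorem q11_237 : pa11 [(1, 0), (1, 0), (2, 0), (2, 1), (2, 1), (7, 4), (7, 4), (2, 1)] = true := by decide +kernel

theorem q11_254 : pa11 [(1, 0), (1, 0), (2, 0), (2, 1), (2, 1), (7, 6), (7, 1), (5, 0)] = true := by decide +kernel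

theorem q11_264 : pa11 [(1, 0), (1, 0), (2, 0), (2, 1), (2, 1), (7, 6), (7, 2), (2, 0), (2, 0)] = true := by decide +kernel

theorem q11_281 : pa11 [(1, 0), (1, 0), (2, 0), (2, 1), (2, 1), (7, 6), (7, 6), (5, 1), (5, 1), (2, 1)] = true := by decide +kernel

theorem q11_305 : pa11 [(1, 0), (1, 0), (2, 1), (2, 0), (7, 3), (7, 0), (2, 1), (5, 0)] = true := by decide +kernel

theorem q11_311 : pa11 [(1, 0), (1, 0), (2, 1), (2, 0), (7, 3), (7, 0), (2, 1), (5, 3)] = true := by decide +kernel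

theorem q11_312 : pa11 [(1, 0), (1, 0), (2, 1), (2, 0), (7, 3), (7, 0), (2, 1), (5, 4)] = true := by decide +kernel

theorem q11_323 : pa11 [(1, 0), (1, 0), (2, 1), (2, 0), (7, 3), (7, 4), (5, 0), (7, 3)] = true := by decide +kernel

theorem q11_352 : pa11 [(1, 0), (1, 0), (2, 1), (2, 0), (7, 3), (7, 6), (7, 0), (2, 1), (2, 1)] = true := by decide +kernel

theorem q11_360 : pa11 [(1, 0), (1, 0), (2, 1), (2, 0), (7, 3), (7, 6), (7, 3), (5, 1), (2, 0)] = true := by decide +kernel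

theorem q11_368 : pa11 [(1, 0), (1, 0), (2, 1), (2, 0), (7, 3), (7, 6), (7, 4), (2, 1)] = true := by decide +kernel

theorem q11_369 : pa11 [(1, 0), (1, 0), (2, 1), (2, 0), (7, 3), (7, 6), (7, 5)] = true := by decide +kernel

theorem q11_398 : pa11 [(1, 0), (1, 0), (2, 1), (2, 0), (7, 5), (7, 5), (2, 0), (3, 0)] = true := by decide +kernel

theorem q11_428 : pa11 [(1, 0), (1, 0), (2, 1), (2, 1), (7, 2), (7, 0), (3, 1), (2, 0)] = true := by decide +kernel

theorem q11_435 : pa11 [(1, 0), (1, 0), (2, 1), (2, 1), (7, 2), (7, 1), (7, 0), (2, 1), (5, 0), (3, 0)] = true := by decide +kernel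

theorem q11_440 : pa11 [(1, 0), (1, 0), (2, 1), (2, 1), (7, 2), (7, 1), (7, 0), (2, 1), (5, 3)] = true := by decide +kernel

theorem q11_469 : pa11 [(1, 0), (1, 0), (2, 1), (2, 1), (7, 2), (7, 5), (3, 2)] = true := by decide +kernel

theorem q11_492 : pa11 [(1, 0), (1, 0), (2, 1), (2, 1), (7, 2), (7, 6), (7, 6), (7, 6)] = true := by decide +kernel

theorem q11_497 : pa11 [(1, 0), (1, 0), (2, 1), (2, 1), (7, 3), (7, 4), (2, 0), (3, 0)] = true := by decide +kernel

theorem q11_526 : pa11 [(1, 0), (1, 0), (2, 1), (2, 1), (7, 4), (7, 1), (2, 1)] = true := by decide +kernel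

theorem q11_556 : pa11 [(1, 0), (1, 0), (2, 1), (2, 1), (7, 4), (7, 5), (2, 0)] = true := by decide +kernel

end Cfsg.Agent.H9.KC
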