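import Cfsg.Agent.H9.KDb5

/-! Kernel computations for the class data sieve. -/

set_option autoImplicit false
set_option Elab.async false
set_option maxRecDepth 100000

namespace Cfsg.Agent.H9.KC

theorem q11_3 : pa11 [(1, 0), (1, 0), (2, 0), (2, 0), (2, 0), (7, 0), (5, 1)] = true := by decide +kernel

theorem q11_10 : pa11 [(1, 0), (1, 0), (2, 0), (2, 0), (2, 0), (7, 1), (7, 1), (2, 1)] = true := by decide +kernel

theorem q11_20 : pa11 [(1, 0), (1, 0), (2, 0), (2, 0), (2, 0), (7, 1), (7, 4)] = true := by decide +kernel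

theorem q11_22 : pa11 [(1, 0), (1, 0), (2, 0), (2, 0), (2, 0), (7, 1), (7, 5), (7, 1)] = true := by decide +kernel

theorem q11_24 : pa11 [(1, 0), (1, 0), (2, 0), (2, 0), (2, 0), (7, 1), (7, 5), (7, 3), (2, 0)] = true := by decide +kernel

theorem q11_43 : pa11 [(1, 0), (1, 0), (2, 0), (2, 0), (2, 0), (7, 3), (7, 3)] = true := by decide +kernel

theorem q11_59 : pa11 [(1, 0), (1, 0), (2, 0), (2, 0), (2, 0), (7, 3), (7, 6), (2, 0), (5, 3)] = true := by decide +kernel

theorem q11_66 : pa11 [(1, 0), (1, 0), (2, 0), (2, 0), (2, 0), (7, 4), (2, 1)] = true := by decide +kernel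

theorem q11_101 : pa11 [(1, 0), (1, 0), (2, 0), (2, 0), (2, 1), (7, 2), (7, 3), (7, 1), (5, 0), (3, 0)] = true := by decide +kernel

theorem q11_107 : pa11 [(1, 0), (1, 0), (2, 0), (2, 0), (2, 1), (7, 2), (7, 3), (7, 1), (5, 4), (3, 0)] = true := by decide +kernel

theorem q11_137 : pa11 [(1, 0), (1, 0), (2, 0), (2, 0), (2, 1), (7, 4), (7, 1), (2, 0)] = true := by decide +kernel

theorem q11_138 : pa11 [(1, 0), (1, 0), (2, 0), (2, 0), (2, 1), (7, 4), (7, 1), (2, 1)] = true := by decide +kernel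

theorem q11_146 : pa11 [(1, 0), (1, 0), (2, 0), (2, 0), (2, 1), (7, 4), (7, 4), (5, 3), (2, 1), (2, 0)] = true := by decide +kernel

theorem q11_177 : pa11 [(1, 0), (1, 0), (2, 0), (2, 1), (2, 0), (5, 0), (2, 1), (7, 2)] = true := by decide +kernel

theorem q11_206 : pa11 [(1, 0), (1, 0), (2, 0), (2, 1), (2, 0), (5, 4), (5, 2), (5, 2), (2, 0)] = true := by decide +kernel

theorem q11_215 : pa11 [(1, 0), (1, 0), (2, 0), (2, 1), (2, 1), (7, 0), (3, 1), (2, 1)] = true := by decide +kernel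

theorem q11_228 : pa11 [(1, 0), (1, 0), (2, 0), (2, 1), (2, 1), (7, 4), (7, 0), (5, 2), (3, 2)] = true := by decide +kernel

theorem q11_230 : pa11 [(1, 0), (1, 0), (2, 0), (2, 1), (2, 1), (7, 4), (7, 0), (5, 4)] = true := by decide +kernel

theorem q11_270 : pa11 [(1, 0), (1, 0), (2, 0), (2, 1), (2, 1), (7, 6), (7, 5)] = true := by decide +kernel

theorem q11_277 : pa11 [(1, 0), (1, 0), (2, 0), (2, 1), (2, 1), (7, 6), (7, 6), (5, 0), (5, 3)] = true := by decide +kernel

theorem q11_297 : pa11 [(1, 0), (1, 0), (2, 1), (2, 0), (7, 0), (7, 4), (2, 1)] = true := by decide +kernel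

theorem q11_315 : pa11 [(1, 0), (1, 0), (2, 1), (2, 0), (7, 3), (7, 1), (3, 1)] = true := by decide +kernel

theorem q11_334 : pa11 [(1, 0), (1, 0), (2, 1), (2, 0), (7, 3), (7, 4), (5, 4), (7, 2), (3, 0)] = true := by decide +kernel

theorem q11_377 : pa11 [(1, 0), (1, 0), (2, 1), (2, 0), (7, 4), (5, 3), (2, 1), (2, 1)] = true := by decide +kernel

theorem q11_382 : pa11 [(1, 0), (1, 0), (2, 1), (2, 0), (7, 5), (7, 0), (5, 3)] = true := by decide +kernel

theorem q11_423 : pa11 [(1, 0), (1, 0), (2, 1), (2, 1), (7, 1), (2, 0), (3, 2)] = true := by decide +kernel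

theorem q11_431 : pa11 [(1, 0), (1, 0), (2, 1), (2, 1), (7, 2), (7, 0), (3, 2)] = true := by decide +kernel

theorem q11_451 : pa11 [(1, 0), (1, 0), (2, 1), (2, 1), (7, 2), (7, 1), (7, 4)] = true := by decide +kernel

theorem q11_473 : pa11 [(1, 0), (1, 0), (2, 1), (2, 1), (7, 2), (7, 6), (7, 3)] = true := by decide +kernel

theorem q11_488 : pa11 [(1, 0), (1, 0), (2, 1), (2, 1), (7, 2), (7, 6), (7, 6), (7, 2), (2, 1)] = true := by decide +kernel

theorem q11_494 : pa11 [(1, 0), (1, 0), (2, 1), (2, 1), (7, 3), (7, 1)] = true := by decide +kernel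

theorem q11_496 : pa11 [(1, 0), (1, 0), (2, 1), (2, 1), (7, 3), (7, 3)] = true := by decide +kernel

theorem q11_508 : pa11 [(1, 0), (1, 0), (2, 1), (2, 1), (7, 4), (7, 0), (7, 2), (5, 0)] = true := by decide +kernel

theorem q11_528 : pa11 [(1, 0), (1, 0), (2, 1), (2, 1), (7, 4), (7, 2), (2, 0), (5, 1)] = true := by decide +kernel

theorem q11_533 : pa11 [(1, 0), (1, 0), (2, 1), (2, 1), (7, 4), (7, 2), (2, 1), (5, 0)] = true := by decide +kernel

theorem q11_557 : pa11 [(1, 0), (1, 0), (2, 1), (2, 1), (7, 4), (7, 5), (2, 1)] = true := by decide +kernel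

end Cfsg.Agent.H9.KC
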