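import Cfsg.Agent.H9.KDa0
import Cfsg.Agent.H9.KDa1
import Cfsg.Agent.H9.KD5

/-! The result of the sharper sieve. -/

set_option autoImplicit false

namespace Cfsg.Agent.H9.KC

attribute [local irreducible] pa10

theorem cv10_0 : Cov pa10 [(1, 0), (1, 0), (2, 0), (2, 0), (7, 0), (2, 0)] := Cov.split 4 fun r hr => by
  interval_cases r
  exacts [Cov.leaf q10_0, Cov.leaf q10_1, Cov.leaf q10_2, Cov.leaf q10_3, Cov.leaf q10_4]

theorem cv10_1 : Cov pa10 [(1, 0), (1, 0), (2, 0), (2, 0), (7, 0), (2, 1)] := Cov.split 1 fun r hr => by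
  interval_cases r
  exacts [Cov.leaf q10_5, Cov.leaf q10_6]

theorem cv10_2 : Cov pa10 [(1, 0), (1, 0), (2, 0), (2, 0), (7, 0)] := Cov.split 1 fun r hr => by
  interval_cases r
  exacts [cv10_0, cv10_1]

theorem cv10_3 : Cov pa10 [(1, 0), (1, 0), (2, 0), (2, 0), (7, 5), (5, 1)] := Cov.split 1 fun r hr => by
  interval_cases r
  exacts [Cov.leaf q10_12, Cov.leaf q10_13]

theorem cv10_4 : Cov pa10 [(1, 0), (1, 0), (2, 0), (2, 0), (7, 5), (5, 2)] := Cov.split 1 fun r hr => by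
  interval_cases r
  exacts [Cov.leaf q10_14, Cov.leaf q10_15]

theorem cv10_5 : Cov pa10 [(1, 0), (1, 0), (2, 0), (2, 0), (7, 5)] := Cov.split 4 fun r hr => by
  interval_cases r
  exacts [Cov.leaf q10_11, cv10_3, cv10_4, Cov.leaf q10_16, Cov.leaf q10_17]

theorem cv10_6 : Cov pa10 [(1, 0), (1, 0), (2, 0), (2, 0)] := Cov.split 6 fun r hr => by
  interval_cases r
  exacts [cv10_2, Cov.leaf q10_7, Cov.leaf q10_8, Cov.leaf q10_9, Cov.leaf q10_10, cv10_5, Cov.leaf q10_18]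

theorem cv10_7 : Cov pa10 [(1, 0), (1, 0), (2, 0), (2, 1), (2, 0), (2, 0)] := Cov.split 1 fun r hr => by
  interval_cases r
  exacts [Cov.leaf q10_19, Cov.leaf q10_20]

theorem cv10_8 : Cov pa10 [(1, 0), (1, 0), (2, 0), (2, 1), (2, 0)] := Cov.split 1 fun r hr => by
  interval_cases r
  exacts [cv10_7, Cov.leaf q10_21]

theorem cv10_9 : Cov pa10 [(1, 0), (1, 0), (2, 0), (2, 1), (2, 1), (2, 0), (2, 0)] := Cov.split 1 fun r hr => by
  interval_cases r
  exacts [Cov.leaf q10_22, Cov.leaf q10_23]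

theorem cv10_10 : Cov pa10 [(1, 0), (1, 0), (2, 0), (2, 1), (2, 1), (2, 0), (2, 1)] := Cov.split 1 fun r hr => by
  interval_cases r
  exacts [Cov.leaf q10_24, Cov.leaf q10_25]

theorem cv10_11 : Cov pa10 [(1, 0), (1, 0), (2, 0), (2, 1), (2, 1), (2, 0)] := Cov.split 1 fun r hr => by
  interval_cases r
  exacts [cv10_9, cv10_10]

theorem cv10_12 : Cov pa10 [(1, 0), (1, 0), (2, 0), (2, 1), (2, 1), (2, 1)] := Cov.split 1 fun r hr => by
  interval_cases r
  exacts [Cov.leaf q10_26, Cov.leaf q10_27]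

theorem cv10_13 : Cov pa10 [(1, 0), (1, 0), (2, 0), (2, 1), (2, 1)] := Cov.split 1 fun r hr => by
  interval_cases r
  exacts [cv10_11, cv10_12]

theorem cv10_14 : Cov pa10 [(1, 0), (1, 0), (2, 0), (2, 1)] := Cov.split 1 fun r hr => by
  interval_cases r
  exacts [cv10_8, cv10_13]

theorem cv10_15 : Cov pa10 [(1, 0), (1, 0), (2, 0)] := Cov.split 1 fun r hr => by
  interval_cases r
  exacts [cv10_6, cv10_14]

theorem cv10_16 : Cov pa10 [(1, 0), (1, 0), (2, 1), (2, 0), (7, 3), (5, 2)] := Cov.split 1 fun r hr => by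
  interval_cases r
  exacts [Cov.leaf q10_33, Cov.leaf q10_34]

theorem cv10_17 : Cov pa10 [(1, 0), (1, 0), (2, 1), (2, 0), (7, 3), (5, 3)] := Cov.split 1 fun r hr => by
  interval_cases r
  exacts [Cov.leaf q10_35, Cov.leaf q10_36]

theorem cv10_18 : Cov pa10 [(1, 0), (1, 0), (2, 1), (2, 0), (7, 3)] := Cov.split 4 fun r hr => by
  interval_cases r
  exacts [Cov.leaf q10_31, Cov.leaf q10_32, cv10_16, cv10_17, Cov.leaf q10_37]

theorem cv10_19 : Cov pa10 [(1, 0), (1, 0), (2, 1), (2, 0), (7, 5), (2, 0)] := Cov.split 2 fun r hr => by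
  interval_cases r
  exacts [Cov.leaf q10_39, Cov.leaf q10_40, Cov.leaf q10_41]

theorem cv10_20 : Cov pa10 [(1, 0), (1, 0), (2, 1), (2, 0), (7, 5), (2, 1)] := Cov.split 1 fun r hr => by
  interval_cases r
  exacts [Cov.leaf q10_42, Cov.leaf q10_43]

theorem cv10_21 : Cov pa10 [(1, 0), (1, 0), (2, 1), (2, 0), (7, 5)] := Cov.split 1 fun r hr => by
  interval_cases r
  exacts [cv10_19, cv10_20]

theorem cv10_22 : Cov pa10 [(1, 0), (1, 0), (2, 1), (2, 0)] := Cov.split 6 fun r hr => by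
  interval_cases r
  exacts [Cov.leaf q10_28, Cov.leaf q10_29, Cov.leaf q10_30, cv10_18, Cov.leaf q10_38, cv10_21, Cov.leaf q10_44]

theorem cv10_23 : Cov pa10 [(1, 0), (1, 0), (2, 1), (2, 1), (5, 2), (5, 3)] := Cov.split 1 fun r hr => by
  interval_cases r
  exacts [Cov.leaf q10_50, Cov.leaf q10_51]

theorem cv10_24 : Cov pa10 [(1, 0), (1, 0), (2, 1), (2, 1), (5, 2), (5, 4)] := Cov.split 2 fun r hr => by
  interval_cases r
  exacts [Cov.leaf q10_52, Cov.leaf q10_53, Cov.leaf q10_54]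

theorem cv10_25 : Cov pa10 [(1, 0), (1, 0), (2, 1), (2, 1), (5, 2)] := Cov.split 4 fun r hr => by
  interval_cases r
  exacts [Cov.leaf q10_47, Cov.leaf q10_48, Cov.leaf q10_49, cv10_23, cv10_24]

theorem cv10_26 : Cov pa10 [(1, 0), (1, 0), (2, 1), (2, 1), (5, 3), (5, 0)] := Cov.split 1 fun r hr => by
  interval_cases r
  exacts [Cov.leaf q10_55, Cov.leaf q10_56]

theorem cv10_27 : Cov pa10 [(1, 0), (1, 0), (2, 1), (2, 1), (5, 3), (5, 1)] := Cov.split 1 fun r hr => by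
  interval_cases r
  exacts [Cov.leaf q10_57, Cov.leaf q10_58]

theorem cv10_28 : Cov pa10 [(1, 0), (1, 0), (2, 1), (2, 1), (5, 3)] := Cov.split 4 fun r hr => by
  interval_cases r
  exacts [cv10_26, cv10_27, Cov.leaf q10_59, Cov.leaf q10_60, Cov.leaf q10_61]

theorem cv10_29 : Cov pa10 [(1, 0), (1, 0), (2, 1), (2, 1)] := Cov.split 4 fun r hr => by
  interval_cases r
  exacts [Cov.leaf q10_45, Cov.leaf q10_46, cv10_25, cv10_28, Cov.leaf q10_62]

theorem cv10_30 : Cov pa10 [(1, 0), (1, 0), (2, 1)] := Cov.split 1 fun r hr => by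
  interval_cases r
  exacts [cv10_22, cv10_29]

theorem cv10_31 : Cov pa10 [(1, 0), (1, 0)] := Cov.split 1 fun r hr => by
  interval_cases r
  exacts [cv10_15, cv10_30]

theorem cv10_32 : Cov pa10 [(1, 0)] := Cov.split 0 fun r hr => by
  interval_cases r
  exacts [cv10_31]

theorem cv10_33 : Cov pa10 [] := Cov.split 0 fun r hr => by
  interval_cases r
  exacts [cv10_32]

theorem has10 {G : Type*} [Group G] [Fintype G] [IsSimpleGroup G] (hG : ¬ IsMulCommutative G)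
    (hK : Nat.card (ConjClasses G) = 10) (F : Facts G)
    (hm : ∃ x : G, ∃ p q : ℕ, p.Prime ∧ q.Prime ∧ p ≠ q ∧ p ∣ orderOf x ∧ q ∣ orderOf x) :
    ∃ Q, (Nat.card G, Q) ∈ acc10 ∧ Has G Q :=
  has_of_cov hG hK F hm (f := 12) (by unfold Cov; have := cv10_33; unfold Cov pa10 at this; exact this)

end Cfsg.Agent.H9.KC
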