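import Cfsg.Agent.H9.KDb12
import Cfsg.Agent.H9.KDb13
import Cfsg.Agent.H9.KDb14
import Cfsg.Agent.H9.KDb15
import Cfsg.Agent.H9.KD5

/-! The result of the sharper sieve. -/

set_option autoImplicit false

namespace Cfsg.Agent.H9.KC

attribute [local irreducible] pa11

theorem cv11_0 : Cov pa11 [(1, 0), (1, 0), (2, 0), (2, 0), (2, 0), (7, 0), (5, 0)] := Cov.split 2 fun r hr => by
  interval_cases r
  exacts [Cov.leaf q11_0, Cov.leaf q11_1, Cov.leaf q11_2]

theorem cv11_1 : Cov pa11 [(1, 0), (1, 0), (2, 0), (2, 0), (2, 0), (7, 0)] := Cov.split 4 fun r hr => by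
  interval_cases r
  exacts [cv11_0, Cov.leaf q11_3, Cov.leaf q11_4, Cov.leaf q11_5, Cov.leaf q11_6]

theorem cv11_2 : Cov pa11 [(1, 0), (1, 0), (2, 0), (2, 0), (2, 0), (7, 1), (7, 1), (2, 0)] := Cov.split 1 fun r hr => by
  interval_cases r
  exacts [Cov.leaf q11_8, Cov.leaf q11_9]

theorem cv11_3 : Cov pa11 [(1, 0), (1, 0), (2, 0), (2, 0), (2, 0), (7, 1), (7, 1)] := Cov.split 1 fun r hr => by
  interval_cases r
  exacts [cv11_2, Cov.leaf q11_10]

theorem cv11_4 : Cov pa11 [(1, 0), (1, 0), (2, 0), (2, 0), (2, 0), (7, 1), (7, 2)] := Cov.split 1 fun r hr => by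
  interval_cases r
  exacts [Cov.leaf q11_11, Cov.leaf q11_12]

theorem cv11_5 : Cov pa11 [(1, 0), (1, 0), (2, 0), (2, 0), (2, 0), (7, 1), (7, 3), (5, 2), (2, 0)] := Cov.split 1 fun r hr => by
  interval_cases r
  exacts [Cov.leaf q11_15, Cov.leaf q11_16]

theorem cv11_6 : Cov pa11 [(1, 0), (1, 0), (2, 0), (2, 0), (2, 0), (7, 1), (7, 3), (5, 2)] := Cov.split 1 fun r hr => by
  interval_cases r
  exacts [cv11_5, Cov.leaf q11_17]

theorem cv11_7 : Cov pa11 [(1, 0), (1, 0), (2, 0), (2, 0), (2, 0), (7, 1), (7, 3)] := Cov.split 4 fun r hr => by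
  interval_cases r
  exacts [Cov.leaf q11_13, Cov.leaf q11_14, cv11_6, Cov.leaf q11_18, Cov.leaf q11_19]

theorem cv11_8 : Cov pa11 [(1, 0), (1, 0), (2, 0), (2, 0), (2, 0), (7, 1), (7, 5), (7, 3)] := Cov.split 1 fun r hr => by
  interval_cases r
  exacts [Cov.leaf q11_24, Cov.leaf q11_25]

theorem cv11_9 : Cov pa11 [(1, 0), (1, 0), (2, 0), (2, 0), (2, 0), (7, 1), (7, 5), (7, 5), (2, 0)] := Cov.split 1 fun r hr => by
  interval_cases r
  exacts [Cov.leaf q11_27, Cov.leaf q11_28]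

theorem cv11_10 : Cov pa11 [(1, 0), (1, 0), (2, 0), (2, 0), (2, 0), (7, 1), (7, 5), (7, 5)] := Cov.split 1 fun r hr => by
  interval_cases r
  exacts [cv11_9, Cov.leaf q11_29]

theorem cv11_11 : Cov pa11 [(1, 0), (1, 0), (2, 0), (2, 0), (2, 0), (7, 1), (7, 5)] := Cov.split 6 fun r hr => by
  interval_cases r
  exacts [Cov.leaf q11_21, Cov.leaf q11_22, Cov.leaf q11_23, cv11_8, Cov.leaf q11_26, cv11_10, Cov.leaf q11_30]

theorem cv11_12 : Cov pa11 [(1, 0), (1, 0), (2, 0), (2, 0), (2, 0), (7, 1)] := Cov.split 6 fun r hr => by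
  interval_cases r
  exacts [Cov.leaf q11_7, cv11_3, cv11_4, cv11_7, Cov.leaf q11_20, cv11_11, Cov.leaf q11_31]

theorem cv11_13 : Cov pa11 [(1, 0), (1, 0), (2, 0), (2, 0), (2, 0), (7, 2), (3, 1)] := Cov.split 1 fun r hr => by
  interval_cases r
  exacts [Cov.leaf q11_33, Cov.leaf q11_34]

theorem cv11_14 : Cov pa11 [(1, 0), (1, 0), (2, 0), (2, 0), (2, 0), (7, 2)] := Cov.split 2 fun r hr => by
  interval_cases r
  exacts [Cov.leaf q11_32, cv11_13, Cov.leaf q11_35]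

theorem cv11_15 : Cov pa11 [(1, 0), (1, 0), (2, 0), (2, 0), (2, 0), (7, 3), (7, 0), (2, 1), (2, 0)] := Cov.split 1 fun r hr => by
  interval_cases r
  exacts [Cov.leaf q11_37, Cov.leaf q11_38]

theorem cv11_16 : Cov pa11 [(1, 0), (1, 0), (2, 0), (2, 0), (2, 0), (7, 3), (7, 0), (2, 1)] := Cov.split 1 fun r hr => by
  interval_cases r
  exacts [cv11_15, Cov.leaf q11_39]

theorem cv11_17 : Cov pa11 [(1, 0), (1, 0), (2, 0), (2, 0), (2, 0), (7, 3), (7, 0)] := Cov.split 1 fun r hr => by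
  interval_cases r
  exacts [Cov.leaf q11_36, cv11_16]

theorem cv11_18 : Cov pa11 [(1, 0), (1, 0), (2, 0), (2, 0), (2, 0), (7, 3), (7, 1)] := Cov.split 1 fun r hr => by
  interval_cases r
  exacts [Cov.leaf q11_40, Cov.leaf q11_41]

theorem cv11_19 : Cov pa11 [(1, 0), (1, 0), (2, 0), (2, 0), (2, 0), (7, 3), (7, 4), (7, 0)] := Cov.split 1 fun r hr => by
  interval_cases r
  exacts [Cov.leaf q11_44, Cov.leaf q11_45]

theorem cv11_20 : Cov pa11 [(1, 0), (1, 0), (2, 0), (2, 0), (2, 0), (7, 3), (7, 4), (7, 2), (2, 1)] := Cov.split 1 fun r hr => by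
  interval_cases r
  exacts [Cov.leaf q11_48, Cov.leaf q11_49]

theorem cv11_21 : Cov pa11 [(1, 0), (1, 0), (2, 0), (2, 0), (2, 0), (7, 3), (7, 4), (7, 2)] := Cov.split 1 fun r hr => by
  interval_cases r
  exacts [Cov.leaf q11_47, cv11_20]

theorem cv11_22 : Cov pa11 [(1, 0), (1, 0), (2, 0), (2, 0), (2, 0), (7, 3), (7, 4), (7, 3)] := Cov.split 1 fun r hr => by
  interval_cases r
  exacts [Cov.leaf q11_50, Cov.leaf q11_51]

theorem cv11_23 : Cov pa11 [(1, 0), (1, 0), (2, 0), (2, 0), (2, 0), (7, 3), (7, 4)] := Cov.split 6 fun r hr => by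
  interval_cases r
  exacts [cv11_19, Cov.leaf q11_46, cv11_21, cv11_22, Cov.leaf q11_52, Cov.leaf q11_53, Cov.leaf q11_54]

theorem cv11_24 : Cov pa11 [(1, 0), (1, 0), (2, 0), (2, 0), (2, 0), (7, 3), (7, 6), (2, 0)] := Cov.split 4 fun r hr => by
  interval_cases r
  exacts [Cov.leaf q11_56, Cov.leaf q11_57, Cov.leaf q11_58, Cov.leaf q11_59, Cov.leaf q11_60]

theorem cv11_25 : Cov pa11 [(1, 0), (1, 0), (2, 0), (2, 0), (2, 0), (7, 3), (7, 6), (2, 1)] := Cov.split 2 fun r hr => by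
  interval_cases r
  exacts [Cov.leaf q11_61, Cov.leaf q11_62, Cov.leaf q11_63]

theorem cv11_26 : Cov pa11 [(1, 0), (1, 0), (2, 0), (2, 0), (2, 0), (7, 3), (7, 6)] := Cov.split 1 fun r hr => by
  interval_cases r
  exacts [cv11_24, cv11_25]

theorem cv11_27 : Cov pa11 [(1, 0), (1, 0), (2, 0), (2, 0), (2, 0), (7, 3)] := Cov.split 6 fun r hr => by
  interval_cases r
  exacts [cv11_17, cv11_18, Cov.leaf q11_42, Cov.leaf q11_43, cv11_23, Cov.leaf q11_55, cv11_26]

theorem cv11_28 : Cov pa11 [(1, 0), (1, 0), (2, 0), (2, 0), (2, 0), (7, 4), (2, 0)] := Cov.split 1 fun r hr => by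
  interval_cases r
  exacts [Cov.leaf q11_64, Cov.leaf q11_65]

theorem cv11_29 : Cov pa11 [(1, 0), (1, 0), (2, 0), (2, 0), (2, 0), (7, 4)] := Cov.split 1 fun r hr => by
  interval_cases r
  exacts [cv11_28, Cov.leaf q11_66]

theorem cv11_30 : Cov pa11 [(1, 0), (1, 0), (2, 0), (2, 0), (2, 0), (7, 6), (3, 1), (2, 0)] := Cov.split 1 fun r hr => by
  interval_cases r
  exacts [Cov.leaf q11_69, Cov.leaf q11_70]

theorem cv11_31 : Cov pa11 [(1, 0), (1, 0), (2, 0), (2, 0), (2, 0), (7, 6), (3, 1)] := Cov.split 1 fun r hr => by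
  interval_cases r
  exacts [cv11_30, Cov.leaf q11_71]

theorem cv11_32 : Cov pa11 [(1, 0), (1, 0), (2, 0), (2, 0), (2, 0), (7, 6)] := Cov.split 2 fun r hr => by
  interval_cases r
  exacts [Cov.leaf q11_68, cv11_31, Cov.leaf q11_72]

theorem cv11_33 : Cov pa11 [(1, 0), (1, 0), (2, 0), (2, 0), (2, 0)] := Cov.split 6 fun r hr => by
  interval_cases r
  exacts [cv11_1, cv11_12, cv11_14, cv11_27, cv11_29, Cov.leaf q11_67, cv11_32]

theorem cv11_34 : Cov pa11 [(1, 0), (1, 0), (2, 0), (2, 0), (2, 1), (7, 0)] := Cov.split 2 fun r hr => by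
  interval_cases r
  exacts [Cov.leaf q11_73, Cov.leaf q11_74, Cov.leaf q11_75]

theorem cv11_35 : Cov pa11 [(1, 0), (1, 0), (2, 0), (2, 0), (2, 1), (7, 1)] := Cov.split 1 fun r hr => by
  interval_cases r
  exacts [Cov.leaf q11_76, Cov.leaf q11_77]

theorem cv11_36 : Cov pa11 [(1, 0), (1, 0), (2, 0), (2, 0), (2, 1), (7, 2), (7, 1), (5, 3), (5, 3)] := Cov.split 1 fun r hr => by
  interval_cases r
  exacts [Cov.leaf q11_85, Cov.leaf q11_86]

theorem cv11_37 : Cov pa11 [(1, 0), (1, 0), (2, 0), (2, 0), (2, 1), (7, 2), (7, 1), (5, 3), (5, 4)] := Cov.split 1 fun r hr => by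
  interval_cases r
  exacts [Cov.leaf q11_87, Cov.leaf q11_88]

theorem cv11_38 : Cov pa11 [(1, 0), (1, 0), (2, 0), (2, 0), (2, 1), (7, 2), (7, 1), (5, 3)] := Cov.split 4 fun r hr => by
  interval_cases r
  exacts [Cov.leaf q11_82, Cov.leaf q11_83, Cov.leaf q11_84, cv11_36, cv11_37]

theorem cv11_39 : Cov pa11 [(1, 0), (1, 0), (2, 0), (2, 0), (2, 1), (7, 2), (7, 1), (5, 4), (5, 0)] := Cov.split 1 fun r hr => by
  interval_cases r
  exacts [Cov.leaf q11_89, Cov.leaf q11_90]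

theorem cv11_40 : Cov pa11 [(1, 0), (1, 0), (2, 0), (2, 0), (2, 1), (7, 2), (7, 1), (5, 4), (5, 4)] := Cov.split 1 fun r hr => by
  interval_cases r
  exacts [Cov.leaf q11_94, Cov.leaf q11_95]

theorem cv11_41 : Cov pa11 [(1, 0), (1, 0), (2, 0), (2, 0), (2, 1), (7, 2), (7, 1), (5, 4)] := Cov.split 4 fun r hr => by
  interval_cases r
  exacts [cv11_39, Cov.leaf q11_91, Cov.leaf q11_92, Cov.leaf q11_93, cv11_40]

theorem cv11_42 : Cov pa11 [(1, 0), (1, 0), (2, 0), (2, 0), (2, 1), (7, 2), (7, 1)] := Cov.split 4 fun r hr => by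
  interval_cases r
  exacts [Cov.leaf q11_79, Cov.leaf q11_80, Cov.leaf q11_81, cv11_38, cv11_41]

theorem cv11_43 : Cov pa11 [(1, 0), (1, 0), (2, 0), (2, 0), (2, 1), (7, 2), (7, 2), (2, 0), (2, 1)] := Cov.split 1 fun r hr => by
  interval_cases r
  exacts [Cov.leaf q11_97, Cov.leaf q11_98]

theorem cv11_44 : Cov pa11 [(1, 0), (1, 0), (2, 0), (2, 0), (2, 1), (7, 2), (7, 2), (2, 0)] := Cov.split 1 fun r hr => by
  interval_cases r
  exacts [Cov.leaf q11_96, cv11_43]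

theorem cv11_45 : Cov pa11 [(1, 0), (1, 0), (2, 0), (2, 0), (2, 1), (7, 2), (7, 2)] := Cov.split 1 fun r hr => by
  interval_cases r
  exacts [cv11_44, Cov.leaf q11_99]

theorem cv11_46 : Cov pa11 [(1, 0), (1, 0), (2, 0), (2, 0), (2, 1), (7, 2), (7, 3), (7, 1), (5, 0)] := Cov.split 2 fun r hr => by
  interval_cases r
  exacts [Cov.leaf q11_101, Cov.leaf q11_102, Cov.leaf q11_103]

theorem cv11_47 : Cov pa11 [(1, 0), (1, 0), (2, 0), (2, 0), (2, 1), (7, 2), (7, 3), (7, 1), (5, 4)] := Cov.split 2 fun r hr => by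
  interval_cases r
  exacts [Cov.leaf q11_107, Cov.leaf q11_108, Cov.leaf q11_109]

theorem cv11_48 : Cov pa11 [(1, 0), (1, 0), (2, 0), (2, 0), (2, 1), (7, 2), (7, 3), (7, 1)] := Cov.split 4 fun r hr => by
  interval_cases r
  exacts [cv11_46, Cov.leaf q11_104, Cov.leaf q11_105, Cov.leaf q11_106, cv11_47]

theorem cv11_49 : Cov pa11 [(1, 0), (1, 0), (2, 0), (2, 0), (2, 1), (7, 2), (7, 3), (7, 2), (2, 1)] := Cov.split 1 fun r hr => by
  interval_cases r
  exacts [Cov.leaf q11_111, Cov.leaf q11_112]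

theorem cv11_50 : Cov pa11 [(1, 0), (1, 0), (2, 0), (2, 0), (2, 1), (7, 2), (7, 3), (7, 2)] := Cov.split 1 fun r hr => by
  interval_cases r
  exacts [Cov.leaf q11_110, cv11_49]

theorem cv11_51 : Cov pa11 [(1, 0), (1, 0), (2, 0), (2, 0), (2, 1), (7, 2), (7, 3), (7, 5), (2, 0)] := Cov.split 1 fun r hr => by
  interval_cases r
  exacts [Cov.leaf q11_115, Cov.leaf q11_116]

theorem cv11_52 : Cov pa11 [(1, 0), (1, 0), (2, 0), (2, 0), (2, 1), (7, 2), (7, 3), (7, 5)] := Cov.split 1 fun r hr => by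
  interval_cases r
  exacts [cv11_51, Cov.leaf q11_117]

theorem cv11_53 : Cov pa11 [(1, 0), (1, 0), (2, 0), (2, 0), (2, 1), (7, 2), (7, 3)] := Cov.split 6 fun r hr => by
  interval_cases r
  exacts [Cov.leaf q11_100, cv11_48, cv11_50, Cov.leaf q11_113, Cov.leaf q11_114, cv11_52, Cov.leaf q11_118]

theorem cv11_54 : Cov pa11 [(1, 0), (1, 0), (2, 0), (2, 0), (2, 1), (7, 2), (7, 4), (2, 0), (2, 0)] := Cov.split 1 fun r hr => by
  interval_cases r
  exacts [Cov.leaf q11_119, Cov.leaf q11_120]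

theorem cv11_55 : Cov pa11 [(1, 0), (1, 0), (2, 0), (2, 0), (2, 1), (7, 2), (7, 4), (2, 0), (2, 1)] := Cov.split 1 fun r hr => by
  interval_cases r
  exacts [Cov.leaf q11_121, Cov.leaf q11_122]

theorem cv11_56 : Cov pa11 [(1, 0), (1, 0), (2, 0), (2, 0), (2, 1), (7, 2), (7, 4), (2, 0)] := Cov.split 1 fun r hr => by
  interval_cases r
  exacts [cv11_54, cv11_55]

theorem cv11_57 : Cov pa11 [(1, 0), (1, 0), (2, 0), (2, 0), (2, 1), (7, 2), (7, 4)] := Cov.split 1 fun r hr => by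
  interval_cases r
  exacts [cv11_56, Cov.leaf q11_123]

theorem cv11_58 : Cov pa11 [(1, 0), (1, 0), (2, 0), (2, 0), (2, 1), (7, 2), (7, 5), (2, 1)] := Cov.split 2 fun r hr => by
  interval_cases r
  exacts [Cov.leaf q11_125, Cov.leaf q11_126, Cov.leaf q11_127]

theorem cv11_59 : Cov pa11 [(1, 0), (1, 0), (2, 0), (2, 0), (2, 1), (7, 2), (7, 5)] := Cov.split 1 fun r hr => by
  interval_cases r
  exacts [Cov.leaf q11_124, cv11_58]

theorem cv11_60 : Cov pa11 [(1, 0), (1, 0), (2, 0), (2, 0), (2, 1), (7, 2)] := Cov.split 6 fun r hr => by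
  interval_cases r
  exacts [Cov.leaf q11_78, cv11_42, cv11_45, cv11_53, cv11_57, cv11_59, Cov.leaf q11_128]

theorem cv11_61 : Cov pa11 [(1, 0), (1, 0), (2, 0), (2, 0), (2, 1), (7, 3), (5, 2), (2, 0)] := Cov.split 1 fun r hr => by
  interval_cases r
  exacts [Cov.leaf q11_131, Cov.leaf q11_132]

theorem cv11_62 : Cov pa11 [(1, 0), (1, 0), (2, 0), (2, 0), (2, 1), (7, 3), (5, 2)] := Cov.split 1 fun r hr => by
  interval_cases r
  exacts [cv11_61, Cov.leaf q11_133]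

theorem cv11_63 : Cov pa11 [(1, 0), (1, 0), (2, 0), (2, 0), (2, 1), (7, 3)] := Cov.split 4 fun r hr => by
  interval_cases r
  exacts [Cov.leaf q11_129, Cov.leaf q11_130, cv11_62, Cov.leaf q11_134, Cov.leaf q11_135]

theorem cv11_64 : Cov pa11 [(1, 0), (1, 0), (2, 0), (2, 0), (2, 1), (7, 4), (7, 1)] := Cov.split 1 fun r hr => by
  interval_cases r
  exacts [Cov.leaf q11_137, Cov.leaf q11_138]

theorem cv11_65 : Cov pa11 [(1, 0), (1, 0), (2, 0), (2, 0), (2, 1), (7, 4), (7, 2)] := Cov.split 1 fun r hr => by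
  interval_cases r
  exacts [Cov.leaf q11_139, Cov.leaf q11_140]

theorem cv11_66 : Cov pa11 [(1, 0), (1, 0), (2, 0), (2, 0), (2, 1), (7, 4), (7, 4), (5, 3), (2, 1)] := Cov.split 1 fun r hr => by
  interval_cases r
  exacts [Cov.leaf q11_146, Cov.leaf q11_147]

theorem cv11_67 : Cov pa11 [(1, 0), (1, 0), (2, 0), (2, 0), (2, 1), (7, 4), (7, 4), (5, 3)] := Cov.split 1 fun r hr => by
  interval_cases r
  exacts [Cov.leaf q11_145, cv11_66]

theorem cv11_68 : Cov pa11 [(1, 0), (1, 0), (2, 0), (2, 0), (2, 1), (7, 4), (7, 4)] := Cov.split 4 fun r hr => by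
  interval_cases r
  exacts [Cov.leaf q11_142, Cov.leaf q11_143, Cov.leaf q11_144, cv11_67, Cov.leaf q11_148]

theorem cv11_69 : Cov pa11 [(1, 0), (1, 0), (2, 0), (2, 0), (2, 1), (7, 4), (7, 5), (2, 1)] := Cov.split 1 fun r hr => by
  interval_cases r
  exacts [Cov.leaf q11_150, Cov.leaf q11_151]

theorem cv11_70 : Cov pa11 [(1, 0), (1, 0), (2, 0), (2, 0), (2, 1), (7, 4), (7, 5)] := Cov.split 1 fun r hr => by
  interval_cases r
  exacts [Cov.leaf q11_149, cv11_69]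

theorem cv11_71 : Cov pa11 [(1, 0), (1, 0), (2, 0), (2, 0), (2, 1), (7, 4)] := Cov.split 6 fun r hr => by
  interval_cases r
  exacts [Cov.leaf q11_136, cv11_64, cv11_65, Cov.leaf q11_141, cv11_68, cv11_70, Cov.leaf q11_152]

theorem cv11_72 : Cov pa11 [(1, 0), (1, 0), (2, 0), (2, 0), (2, 1), (7, 5), (2, 0)] := Cov.split 1 fun r hr => by
  interval_cases r
  exacts [Cov.leaf q11_153, Cov.leaf q11_154]

theorem cv11_73 : Cov pa11 [(1, 0), (1, 0), (2, 0), (2, 0), (2, 1), (7, 5), (2, 1)] := Cov.split 4 fun r hr => by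
  interval_cases r
  exacts [Cov.leaf q11_155, Cov.leaf q11_156, Cov.leaf q11_157, Cov.leaf q11_158, Cov.leaf q11_159]

theorem cv11_74 : Cov pa11 [(1, 0), (1, 0), (2, 0), (2, 0), (2, 1), (7, 5)] := Cov.split 1 fun r hr => by
  interval_cases r
  exacts [cv11_72, cv11_73]

theorem cv11_75 : Cov pa11 [(1, 0), (1, 0), (2, 0), (2, 0), (2, 1), (7, 6), (5, 4)] := Cov.split 2 fun r hr => by
  interval_cases r
  exacts [Cov.leaf q11_164, Cov.leaf q11_165, Cov.leaf q11_166]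

theorem cv11_76 : Cov pa11 [(1, 0), (1, 0), (2, 0), (2, 0), (2, 1), (7, 6)] := Cov.split 4 fun r hr => by
  interval_cases r
  exacts [Cov.leaf q11_160, Cov.leaf q11_161, Cov.leaf q11_162, Cov.leaf q11_163, cv11_75]

theorem cv11_77 : Cov pa11 [(1, 0), (1, 0), (2, 0), (2, 0), (2, 1)] := Cov.split 6 fun r hr => by
  interval_cases r
  exacts [cv11_34, cv11_35, cv11_60, cv11_63, cv11_71, cv11_74, cv11_76]

theorem cv11_78 : Cov pa11 [(1, 0), (1, 0), (2, 0), (2, 0)] := Cov.split 1 fun r hr => by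
  interval_cases r
  exacts [cv11_33, cv11_77]

theorem cv11_79 : Cov pa11 [(1, 0), (1, 0), (2, 0), (2, 1), (2, 0), (5, 0), (2, 0), (2, 0), (3, 2)] := Cov.split 1 fun r hr => by
  interval_cases r
  exacts [Cov.leaf q11_169, Cov.leaf q11_170]

theorem cv11_80 : Cov pa11 [(1, 0), (1, 0), (2, 0), (2, 1), (2, 0), (5, 0), (2, 0), (2, 0)] := Cov.split 2 fun r hr => by
  interval_cases r
  exacts [Cov.leaf q11_167, Cov.leaf q11_168, cv11_79]

theorem cv11_81 : Cov pa11 [(1, 0), (1, 0), (2, 0), (2, 1), (2, 0), (5, 0), (2, 0)] := Cov.split 1 fun r hr => by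
  interval_cases r
  exacts [cv11_80, Cov.leaf q11_171]

theorem cv11_82 : Cov pa11 [(1, 0), (1, 0), (2, 0), (2, 1), (2, 0), (5, 0), (2, 1), (7, 1), (2, 0)] := Cov.split 1 fun r hr => by
  interval_cases r
  exacts [Cov.leaf q11_173, Cov.leaf q11_174]

theorem cv11_83 : Cov pa11 [(1, 0), (1, 0), (2, 0), (2, 1), (2, 0), (5, 0), (2, 1), (7, 1), (2, 1)] := Cov.split 1 fun r hr => by
  interval_cases r
  exacts [Cov.leaf q11_175, Cov.leaf q11_176]

theorem cv11_84 : Cov pa11 [(1, 0), (1, 0), (2, 0), (2, 1), (2, 0), (5, 0), (2, 1), (7, 1)] := Cov.split 1 fun r hr => by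
  interval_cases r
  exacts [cv11_82, cv11_83]

theorem cv11_85 : Cov pa11 [(1, 0), (1, 0), (2, 0), (2, 1), (2, 0), (5, 0), (2, 1)] := Cov.split 6 fun r hr => by
  interval_cases r
  exacts [Cov.leaf q11_172, cv11_84, Cov.leaf q11_177, Cov.leaf q11_178, Cov.leaf q11_179, Cov.leaf q11_180, Cov.leaf q11_181]

theorem cv11_86 : Cov pa11 [(1, 0), (1, 0), (2, 0), (2, 1), (2, 0), (5, 0)] := Cov.split 1 fun r hr => by
  interval_cases r
  exacts [cv11_81, cv11_85]

theorem cv11_87 : Cov pa11 [(1, 0), (1, 0), (2, 0), (2, 1), (2, 0), (5, 1)] := Cov.split 2 fun r hr => by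
  interval_cases r
  exacts [Cov.leaf q11_182, Cov.leaf q11_183, Cov.leaf q11_184]

theorem cv11_88 : Cov pa11 [(1, 0), (1, 0), (2, 0), (2, 1), (2, 0), (5, 3)] := Cov.split 2 fun r hr => by
  interval_cases r
  exacts [Cov.leaf q11_186, Cov.leaf q11_187, Cov.leaf q11_188]

theorem cv11_89 : Cov pa11 [(1, 0), (1, 0), (2, 0), (2, 1), (2, 0), (5, 4), (5, 1), (7, 4), (2, 0), (2, 1)] := Cov.split 1 fun r hr => by
  interval_cases r
  exacts [Cov.leaf q11_195, Cov.leaf q11_196]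

theorem cv11_90 : Cov pa11 [(1, 0), (1, 0), (2, 0), (2, 1), (2, 0), (5, 4), (5, 1), (7, 4), (2, 0)] := Cov.split 1 fun r hr => by
  interval_cases r
  exacts [Cov.leaf q11_194, cv11_89]

theorem cv11_91 : Cov pa11 [(1, 0), (1, 0), (2, 0), (2, 1), (2, 0), (5, 4), (5, 1), (7, 4), (2, 1)] := Cov.split 1 fun r hr => by
  interval_cases r
  exacts [Cov.leaf q11_197, Cov.leaf q11_198]

theorem cv11_92 : Cov pa11 [(1, 0), (1, 0), (2, 0), (2, 1), (2, 0), (5, 4), (5, 1), (7, 4)] := Cov.split 1 fun r hr => by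
  interval_cases r
  exacts [cv11_90, cv11_91]

theorem cv11_93 : Cov pa11 [(1, 0), (1, 0), (2, 0), (2, 1), (2, 0), (5, 4), (5, 1), (7, 6), (2, 0)] := Cov.split 1 fun r hr => by
  interval_cases r
  exacts [Cov.leaf q11_200, Cov.leaf q11_201]

theorem cv11_94 : Cov pa11 [(1, 0), (1, 0), (2, 0), (2, 1), (2, 0), (5, 4), (5, 1), (7, 6)] := Cov.split 1 fun r hr => by
  interval_cases r
  exacts [cv11_93, Cov.leaf q11_202]

theorem cv11_95 : Cov pa11 [(1, 0), (1, 0), (2, 0), (2, 1), (2, 0), (5, 4), (5, 1)] := Cov.split 6 fun r hr => by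
  interval_cases r
  exacts [Cov.leaf q11_190, Cov.leaf q11_191, Cov.leaf q11_192, Cov.leaf q11_193, cv11_92, Cov.leaf q11_199, cv11_94]

theorem cv11_96 : Cov pa11 [(1, 0), (1, 0), (2, 0), (2, 1), (2, 0), (5, 4), (5, 2), (5, 0)] := Cov.split 1 fun r hr => by
  interval_cases r
  exacts [Cov.leaf q11_203, Cov.leaf q11_204]

theorem cv11_97 : Cov pa11 [(1, 0), (1, 0), (2, 0), (2, 1), (2, 0), (5, 4), (5, 2), (5, 2)] := Cov.split 1 fun r hr => by
  interval_cases r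
  exacts [Cov.leaf q11_206, Cov.leaf q11_207]

theorem cv11_98 : Cov pa11 [(1, 0), (1, 0), (2, 0), (2, 1), (2, 0), (5, 4), (5, 2), (5, 4)] := Cov.split 1 fun r hr => by
  interval_cases r
  exacts [Cov.leaf q11_209, Cov.leaf q11_210]

theorem cv11_99 : Cov pa11 [(1, 0), (1, 0), (2, 0), (2, 1), (2, 0), (5, 4), (5, 2)] := Cov.split 4 fun r hr => by
  interval_cases r
  exacts [cv11_96, Cov.leaf q11_205, cv11_97, Cov.leaf q11_208, cv11_98]

theorem cv11_100 : Cov pa11 [(1, 0), (1, 0), (2, 0), (2, 1), (2, 0), (5, 4)] := Cov.split 4 fun r hr => by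
  interval_cases r
  exacts [Cov.leaf q11_189, cv11_95, cv11_99, Cov.leaf q11_211, Cov.leaf q11_212]

theorem cv11_101 : Cov pa11 [(1, 0), (1, 0), (2, 0), (2, 1), (2, 0)] := Cov.split 4 fun r hr => by
  interval_cases r
  exacts [cv11_86, cv11_87, Cov.leaf q11_185, cv11_88, cv11_100]

theorem cv11_102 : Cov pa11 [(1, 0), (1, 0), (2, 0), (2, 1), (2, 1), (7, 0), (3, 1)] := Cov.split 1 fun r hr => by
  interval_cases r
  exacts [Cov.leaf q11_214, Cov.leaf q11_215]

theorem cv11_103 : Cov pa11 [(1, 0), (1, 0), (2, 0), (2, 1), (2, 1), (7, 0)] := Cov.split 2 fun r hr => by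
  interval_cases r
  exacts [Cov.leaf q11_213, cv11_102, Cov.leaf q11_216]

theorem cv11_104 : Cov pa11 [(1, 0), (1, 0), (2, 0), (2, 1), (2, 1), (7, 2)] := Cov.split 2 fun r hr => by
  interval_cases r
  exacts [Cov.leaf q11_218, Cov.leaf q11_219, Cov.leaf q11_220]

theorem cv11_105 : Cov pa11 [(1, 0), (1, 0), (2, 0), (2, 1), (2, 1), (7, 4), (7, 0), (5, 1), (2, 1)] := Cov.split 1 fun r hr => by
  interval_cases r
  exacts [Cov.leaf q11_224, Cov.leaf q11_225]

theorem cv11_106 : Cov pa11 [(1, 0), (1, 0), (2, 0), (2, 1), (2, 1), (7, 4), (7, 0), (5, 1)] := Cov.split 1 fun r hr => by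
  interval_cases r
  exacts [Cov.leaf q11_223, cv11_105]

theorem cv11_107 : Cov pa11 [(1, 0), (1, 0), (2, 0), (2, 1), (2, 1), (7, 4), (7, 0), (5, 2)] := Cov.split 2 fun r hr => by
  interval_cases r
  exacts [Cov.leaf q11_226, Cov.leaf q11_227, Cov.leaf q11_228]

theorem cv11_108 : Cov pa11 [(1, 0), (1, 0), (2, 0), (2, 1), (2, 1), (7, 4), (7, 0)] := Cov.split 4 fun r hr => by
  interval_cases r
  exacts [Cov.leaf q11_222, cv11_106, cv11_107, Cov.leaf q11_229, Cov.leaf q11_230]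

theorem cv11_109 : Cov pa11 [(1, 0), (1, 0), (2, 0), (2, 1), (2, 1), (7, 4), (7, 3), (2, 1)] := Cov.split 1 fun r hr => by
  interval_cases r
  exacts [Cov.leaf q11_234, Cov.leaf q11_235]

theorem cv11_110 : Cov pa11 [(1, 0), (1, 0), (2, 0), (2, 1), (2, 1), (7, 4), (7, 3)] := Cov.split 1 fun r hr => by
  interval_cases r
  exacts [Cov.leaf q11_233, cv11_109]

theorem cv11_111 : Cov pa11 [(1, 0), (1, 0), (2, 0), (2, 1), (2, 1), (7, 4), (7, 4)] := Cov.split 1 fun r hr => by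
  interval_cases r
  exacts [Cov.leaf q11_236, Cov.leaf q11_237]

theorem cv11_112 : Cov pa11 [(1, 0), (1, 0), (2, 0), (2, 1), (2, 1), (7, 4), (7, 5), (5, 1)] := Cov.split 1 fun r hr => by
  interval_cases r
  exacts [Cov.leaf q11_239, Cov.leaf q11_240]

theorem cv11_113 : Cov pa11 [(1, 0), (1, 0), (2, 0), (2, 1), (2, 1), (7, 4), (7, 5), (5, 3), (2, 1)] := Cov.split 2 fun r hr => by
  interval_cases r
  exacts [Cov.leaf q11_243, Cov.leaf q11_244, Cov.leaf q11_245]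

theorem cv11_114 : Cov pa11 [(1, 0), (1, 0), (2, 0), (2, 1), (2, 1), (7, 4), (7, 5), (5, 3)] := Cov.split 1 fun r hr => by
  interval_cases r
  exacts [Cov.leaf q11_242, cv11_113]

theorem cv11_115 : Cov pa11 [(1, 0), (1, 0), (2, 0), (2, 1), (2, 1), (7, 4), (7, 5), (5, 4)] := Cov.split 2 fun r hr => by
  interval_cases r
  exacts [Cov.leaf q11_246, Cov.leaf q11_247, Cov.leaf q11_248]

theorem cv11_116 : Cov pa11 [(1, 0), (1, 0), (2, 0), (2, 1), (2, 1), (7, 4), (7, 5)] := Cov.split 4 fun r hr => by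
  interval_cases r
  exacts [Cov.leaf q11_238, cv11_112, Cov.leaf q11_241, cv11_114, cv11_115]

theorem cv11_117 : Cov pa11 [(1, 0), (1, 0), (2, 0), (2, 1), (2, 1), (7, 4)] := Cov.split 6 fun r hr => by
  interval_cases r
  exacts [cv11_108, Cov.leaf q11_231, Cov.leaf q11_232, cv11_110, cv11_111, cv11_116, Cov.leaf q11_249]

theorem cv11_118 : Cov pa11 [(1, 0), (1, 0), (2, 0), (2, 1), (2, 1), (7, 6), (7, 0), (2, 0)] := Cov.split 1 fun r hr => by
  interval_cases r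
  exacts [Cov.leaf q11_251, Cov.leaf q11_252]

theorem cv11_119 : Cov pa11 [(1, 0), (1, 0), (2, 0), (2, 1), (2, 1), (7, 6), (7, 0)] := Cov.split 1 fun r hr => by
  interval_cases r
  exacts [cv11_118, Cov.leaf q11_253]

theorem cv11_120 : Cov pa11 [(1, 0), (1, 0), (2, 0), (2, 1), (2, 1), (7, 6), (7, 1), (5, 3), (2, 0)] := Cov.split 1 fun r hr => by
  interval_cases r
  exacts [Cov.leaf q11_257, Cov.leaf q11_258]

theorem cv11_121 : Cov pa11 [(1, 0), (1, 0), (2, 0), (2, 1), (2, 1), (7, 6), (7, 1), (5, 3), (2, 1)] := Cov.split 1 fun r hr => by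
  interval_cases r
  exacts [Cov.leaf q11_259, Cov.leaf q11_260]

theorem cv11_122 : Cov pa11 [(1, 0), (1, 0), (2, 0), (2, 1), (2, 1), (7, 6), (7, 1), (5, 3)] := Cov.split 1 fun r hr => by
  interval_cases r
  exacts [cv11_120, cv11_121]

theorem cv11_123 : Cov pa11 [(1, 0), (1, 0), (2, 0), (2, 1), (2, 1), (7, 6), (7, 1), (5, 4)] := Cov.split 2 fun r hr => by
  interval_cases r
  exacts [Cov.leaf q11_261, Cov.leaf q11_262, Cov.leaf q11_263]

theorem cv11_124 : Cov pa11 [(1, 0), (1, 0), (2, 0), (2, 1), (2, 1), (7, 6), (7, 1)] := Cov.split 4 fun r hr => by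
  interval_cases r
  exacts [Cov.leaf q11_254, Cov.leaf q11_255, Cov.leaf q11_256, cv11_122, cv11_123]

theorem cv11_125 : Cov pa11 [(1, 0), (1, 0), (2, 0), (2, 1), (2, 1), (7, 6), (7, 2), (2, 0)] := Cov.split 1 fun r hr => by
  interval_cases r
  exacts [Cov.leaf q11_264, Cov.leaf q11_265]

theorem cv11_126 : Cov pa11 [(1, 0), (1, 0), (2, 0), (2, 1), (2, 1), (7, 6), (7, 2)] := Cov.split 1 fun r hr => by
  interval_cases r
  exacts [cv11_125, Cov.leaf q11_266]

theorem cv11_127 : Cov pa11 [(1, 0), (1, 0), (2, 0), (2, 1), (2, 1), (7, 6), (7, 3)] := Cov.split 1 fun r hr => by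
  interval_cases r
  exacts [Cov.leaf q11_267, Cov.leaf q11_268]

theorem cv11_128 : Cov pa11 [(1, 0), (1, 0), (2, 0), (2, 1), (2, 1), (7, 6), (7, 6), (5, 0), (5, 0), (2, 1)] := Cov.split 1 fun r hr => by
  interval_cases r
  exacts [Cov.leaf q11_272, Cov.leaf q11_273]

theorem cv11_129 : Cov pa11 [(1, 0), (1, 0), (2, 0), (2, 1), (2, 1), (7, 6), (7, 6), (5, 0), (5, 0)] := Cov.split 1 fun r hr => by
  interval_cases r
  exacts [Cov.leaf q11_271, cv11_128]

theorem cv11_130 : Cov pa11 [(1, 0), (1, 0), (2, 0), (2, 1), (2, 1), (7, 6), (7, 6), (5, 0), (5, 1)] := Cov.split 1 fun r hr => by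
  interval_cases r
  exacts [Cov.leaf q11_274, Cov.leaf q11_275]

theorem cv11_131 : Cov pa11 [(1, 0), (1, 0), (2, 0), (2, 1), (2, 1), (7, 6), (7, 6), (5, 0)] := Cov.split 4 fun r hr => by
  interval_cases r
  exacts [cv11_129, cv11_130, Cov.leaf q11_276, Cov.leaf q11_277, Cov.leaf q11_278]

theorem cv11_132 : Cov pa11 [(1, 0), (1, 0), (2, 0), (2, 1), (2, 1), (7, 6), (7, 6), (5, 1), (5, 1)] := Cov.split 1 fun r hr => by
  interval_cases r
  exacts [Cov.leaf q11_280, Cov.leaf q11_281]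

theorem cv11_133 : Cov pa11 [(1, 0), (1, 0), (2, 0), (2, 1), (2, 1), (7, 6), (7, 6), (5, 1), (5, 2), (2, 1)] := Cov.split 1 fun r hr => by
  interval_cases r
  exacts [Cov.leaf q11_283, Cov.leaf q11_284]

theorem cv11_134 : Cov pa11 [(1, 0), (1, 0), (2, 0), (2, 1), (2, 1), (7, 6), (7, 6), (5, 1), (5, 2)] := Cov.split 1 fun r hr => by
  interval_cases r
  exacts [Cov.leaf q11_282, cv11_133]

theorem cv11_135 : Cov pa11 [(1, 0), (1, 0), (2, 0), (2, 1), (2, 1), (7, 6), (7, 6), (5, 1)] := Cov.split 4 fun r hr => by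
  interval_cases r
  exacts [Cov.leaf q11_279, cv11_132, cv11_134, Cov.leaf q11_285, Cov.leaf q11_286]

theorem cv11_136 : Cov pa11 [(1, 0), (1, 0), (2, 0), (2, 1), (2, 1), (7, 6), (7, 6)] := Cov.split 4 fun r hr => by
  interval_cases r
  exacts [cv11_131, cv11_135, Cov.leaf q11_287, Cov.leaf q11_288, Cov.leaf q11_289]

theorem cv11_137 : Cov pa11 [(1, 0), (1, 0), (2, 0), (2, 1), (2, 1), (7, 6)] := Cov.split 6 fun r hr => by
  interval_cases r
  exacts [cv11_119, cv11_124, cv11_126, cv11_127, Cov.leaf q11_269, Cov.leaf q11_270, cv11_136]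

theorem cv11_138 : Cov pa11 [(1, 0), (1, 0), (2, 0), (2, 1), (2, 1)] := Cov.split 6 fun r hr => by
  interval_cases r
  exacts [cv11_103, Cov.leaf q11_217, cv11_104, Cov.leaf q11_221, cv11_117, Cov.leaf q11_250, cv11_137]

theorem cv11_139 : Cov pa11 [(1, 0), (1, 0), (2, 0), (2, 1)] := Cov.split 1 fun r hr => by
  interval_cases r
  exacts [cv11_101, cv11_138]

theorem cv11_140 : Cov pa11 [(1, 0), (1, 0), (2, 0)] := Cov.split 1 fun r hr => by
  interval_cases r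
  exacts [cv11_78, cv11_139]

theorem cv11_141 : Cov pa11 [(1, 0), (1, 0), (2, 1), (2, 0), (7, 0), (7, 2)] := Cov.split 1 fun r hr => by
  interval_cases r
  exacts [Cov.leaf q11_292, Cov.leaf q11_293]

theorem cv11_142 : Cov pa11 [(1, 0), (1, 0), (2, 1), (2, 0), (7, 0), (7, 4), (2, 0)] := Cov.split 1 fun r hr => by
  interval_cases r
  exacts [Cov.leaf q11_295, Cov.leaf q11_296]

theorem cv11_143 : Cov pa11 [(1, 0), (1, 0), (2, 1), (2, 0), (7, 0), (7, 4)] := Cov.split 1 fun r hr => by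
  interval_cases r
  exacts [cv11_142, Cov.leaf q11_297]

theorem cv11_144 : Cov pa11 [(1, 0), (1, 0), (2, 1), (2, 0), (7, 0)] := Cov.split 6 fun r hr => by
  interval_cases r
  exacts [Cov.leaf q11_290, Cov.leaf q11_291, cv11_141, Cov.leaf q11_294, cv11_143, Cov.leaf q11_298, Cov.leaf q11_299]

theorem cv11_145 : Cov pa11 [(1, 0), (1, 0), (2, 1), (2, 0), (7, 1)] := Cov.split 2 fun r hr => by
  interval_cases r
  exacts [Cov.leaf q11_300, Cov.leaf q11_301, Cov.leaf q11_302]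

theorem cv11_146 : Cov pa11 [(1, 0), (1, 0), (2, 1), (2, 0), (7, 3), (7, 0), (2, 1), (5, 1)] := Cov.split 2 fun r hr => by
  interval_cases r
  exacts [Cov.leaf q11_306, Cov.leaf q11_307, Cov.leaf q11_308]

theorem cv11_147 : Cov pa11 [(1, 0), (1, 0), (2, 1), (2, 0), (7, 3), (7, 0), (2, 1), (5, 2)] := Cov.split 1 fun r hr => by
  interval_cases r
  exacts [Cov.leaf q11_309, Cov.leaf q11_310]

theorem cv11_148 : Cov pa11 [(1, 0), (1, 0), (2, 1), (2, 0), (7, 3), (7, 0), (2, 1)] := Cov.split 4 fun r hr => by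
  interval_cases r
  exacts [Cov.leaf q11_305, cv11_146, cv11_147, Cov.leaf q11_311, Cov.leaf q11_312]

theorem cv11_149 : Cov pa11 [(1, 0), (1, 0), (2, 1), (2, 0), (7, 3), (7, 0)] := Cov.split 1 fun r hr => by
  interval_cases r
  exacts [Cov.leaf q11_304, cv11_148]

theorem cv11_150 : Cov pa11 [(1, 0), (1, 0), (2, 1), (2, 0), (7, 3), (7, 1), (3, 0)] := Cov.split 1 fun r hr => by
  interval_cases r
  exacts [Cov.leaf q11_313, Cov.leaf q11_314]

theorem cv11_151 : Cov pa11 [(1, 0), (1, 0), (2, 1), (2, 0), (7, 3), (7, 1)] := Cov.split 2 fun r hr => by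
  interval_cases r
  exacts [cv11_150, Cov.leaf q11_315, Cov.leaf q11_316]

theorem cv11_152 : Cov pa11 [(1, 0), (1, 0), (2, 1), (2, 0), (7, 3), (7, 2)] := Cov.split 1 fun r hr => by
  interval_cases r
  exacts [Cov.leaf q11_317, Cov.leaf q11_318]

theorem cv11_153 : Cov pa11 [(1, 0), (1, 0), (2, 1), (2, 0), (7, 3), (7, 4), (5, 0), (7, 4), (2, 0)] := Cov.split 1 fun r hr => by
  interval_cases r
  exacts [Cov.leaf q11_324, Cov.leaf q11_325]

theorem cv11_154 : Cov pa11 [(1, 0), (1, 0), (2, 1), (2, 0), (7, 3), (7, 4), (5, 0), (7, 4)] := Cov.split 1 fun r hr => by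
  interval_cases r
  exacts [cv11_153, Cov.leaf q11_326]

theorem cv11_155 : Cov pa11 [(1, 0), (1, 0), (2, 1), (2, 0), (7, 3), (7, 4), (5, 0)] := Cov.split 6 fun r hr => by
  interval_cases r
  exacts [Cov.leaf q11_320, Cov.leaf q11_321, Cov.leaf q11_322, Cov.leaf q11_323, cv11_154, Cov.leaf q11_327, Cov.leaf q11_328]

theorem cv11_156 : Cov pa11 [(1, 0), (1, 0), (2, 1), (2, 0), (7, 3), (7, 4), (5, 4), (7, 2)] := Cov.split 2 fun r hr => by
  interval_cases r
  exacts [Cov.leaf q11_334, Cov.leaf q11_335, Cov.leaf q11_336]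

theorem cv11_157 : Cov pa11 [(1, 0), (1, 0), (2, 1), (2, 0), (7, 3), (7, 4), (5, 4), (7, 5)] := Cov.split 1 fun r hr => by
  interval_cases r
  exacts [Cov.leaf q11_339, Cov.leaf q11_340]

theorem cv11_158 : Cov pa11 [(1, 0), (1, 0), (2, 1), (2, 0), (7, 3), (7, 4), (5, 4)] := Cov.split 6 fun r hr => by
  interval_cases r
  exacts [Cov.leaf q11_332, Cov.leaf q11_333, cv11_156, Cov.leaf q11_337, Cov.leaf q11_338, cv11_157, Cov.leaf q11_341]

theorem cv11_159 : Cov pa11 [(1, 0), (1, 0), (2, 1), (2, 0), (7, 3), (7, 4)] := Cov.split 4 fun r hr => by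
  interval_cases r
  exacts [cv11_155, Cov.leaf q11_329, Cov.leaf q11_330, Cov.leaf q11_331, cv11_158]

theorem cv11_160 : Cov pa11 [(1, 0), (1, 0), (2, 1), (2, 0), (7, 3), (7, 5), (5, 0), (2, 0)] := Cov.split 1 fun r hr => by
  interval_cases r
  exacts [Cov.leaf q11_342, Cov.leaf q11_343]

theorem cv11_161 : Cov pa11 [(1, 0), (1, 0), (2, 1), (2, 0), (7, 3), (7, 5), (5, 0)] := Cov.split 1 fun r hr => by
  interval_cases r
  exacts [cv11_160, Cov.leaf q11_344]

theorem cv11_162 : Cov pa11 [(1, 0), (1, 0), (2, 1), (2, 0), (7, 3), (7, 5)] := Cov.split 4 fun r hr => by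
  interval_cases r
  exacts [cv11_161, Cov.leaf q11_345, Cov.leaf q11_346, Cov.leaf q11_347, Cov.leaf q11_348]

theorem cv11_163 : Cov pa11 [(1, 0), (1, 0), (2, 1), (2, 0), (7, 3), (7, 6), (7, 0), (2, 1), (2, 0)] := Cov.split 1 fun r hr => by
  interval_cases r
  exacts [Cov.leaf q11_350, Cov.leaf q11_351]

theorem cv11_164 : Cov pa11 [(1, 0), (1, 0), (2, 1), (2, 0), (7, 3), (7, 6), (7, 0), (2, 1)] := Cov.split 1 fun r hr => by
  interval_cases r
  exacts [cv11_163, Cov.leaf q11_352]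

theorem cv11_165 : Cov pa11 [(1, 0), (1, 0), (2, 1), (2, 0), (7, 3), (7, 6), (7, 0)] := Cov.split 1 fun r hr => by
  interval_cases r
  exacts [Cov.leaf q11_349, cv11_164]

theorem cv11_166 : Cov pa11 [(1, 0), (1, 0), (2, 1), (2, 0), (7, 3), (7, 6), (7, 1)] := Cov.split 1 fun r hr => by
  interval_cases r
  exacts [Cov.leaf q11_353, Cov.leaf q11_354]

theorem cv11_167 : Cov pa11 [(1, 0), (1, 0), (2, 1), (2, 0), (7, 3), (7, 6), (7, 3), (5, 0), (2, 0)] := Cov.split 2 fun r hr => by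
  interval_cases r
  exacts [Cov.leaf q11_356, Cov.leaf q11_357, Cov.leaf q11_358]

theorem cv11_168 : Cov pa11 [(1, 0), (1, 0), (2, 1), (2, 0), (7, 3), (7, 6), (7, 3), (5, 0)] := Cov.split 1 fun r hr => by
  interval_cases r
  exacts [cv11_167, Cov.leaf q11_359]

theorem cv11_169 : Cov pa11 [(1, 0), (1, 0), (2, 1), (2, 0), (7, 3), (7, 6), (7, 3), (5, 1), (2, 1)] := Cov.split 2 fun r hr => by
  interval_cases r
  exacts [Cov.leaf q11_361, Cov.leaf q11_362, Cov.leaf q11_363]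

theorem cv11_170 : Cov pa11 [(1, 0), (1, 0), (2, 1), (2, 0), (7, 3), (7, 6), (7, 3), (5, 1)] := Cov.split 1 fun r hr => by
  interval_cases r
  exacts [Cov.leaf q11_360, cv11_169]

theorem cv11_171 : Cov pa11 [(1, 0), (1, 0), (2, 1), (2, 0), (7, 3), (7, 6), (7, 3)] := Cov.split 4 fun r hr => by
  interval_cases r
  exacts [cv11_168, cv11_170, Cov.leaf q11_364, Cov.leaf q11_365, Cov.leaf q11_366]

theorem cv11_172 : Cov pa11 [(1, 0), (1, 0), (2, 1), (2, 0), (7, 3), (7, 6), (7, 4)] := Cov.split 1 fun r hr => by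
  interval_cases r
  exacts [Cov.leaf q11_367, Cov.leaf q11_368]

theorem cv11_173 : Cov pa11 [(1, 0), (1, 0), (2, 1), (2, 0), (7, 3), (7, 6)] := Cov.split 6 fun r hr => by
  interval_cases r
  exacts [cv11_165, cv11_166, Cov.leaf q11_355, cv11_171, cv11_172, Cov.leaf q11_369, Cov.leaf q11_370]

theorem cv11_174 : Cov pa11 [(1, 0), (1, 0), (2, 1), (2, 0), (7, 3)] := Cov.split 6 fun r hr => by
  interval_cases r
  exacts [cv11_149, cv11_151, cv11_152, Cov.leaf q11_319, cv11_159, cv11_162, cv11_173]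

theorem cv11_175 : Cov pa11 [(1, 0), (1, 0), (2, 1), (2, 0), (7, 4), (5, 3), (2, 0)] := Cov.split 1 fun r hr => by
  interval_cases r
  exacts [Cov.leaf q11_374, Cov.leaf q11_375]

theorem cv11_176 : Cov pa11 [(1, 0), (1, 0), (2, 1), (2, 0), (7, 4), (5, 3), (2, 1)] := Cov.split 1 fun r hr => by
  interval_cases r
  exacts [Cov.leaf q11_376, Cov.leaf q11_377]

theorem cv11_177 : Cov pa11 [(1, 0), (1, 0), (2, 1), (2, 0), (7, 4), (5, 3)] := Cov.split 1 fun r hr => by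
  interval_cases r
  exacts [cv11_175, cv11_176]

theorem cv11_178 : Cov pa11 [(1, 0), (1, 0), (2, 1), (2, 0), (7, 4)] := Cov.split 4 fun r hr => by
  interval_cases r
  exacts [Cov.leaf q11_371, Cov.leaf q11_372, Cov.leaf q11_373, cv11_177, Cov.leaf q11_378]

theorem cv11_179 : Cov pa11 [(1, 0), (1, 0), (2, 1), (2, 0), (7, 5), (7, 0), (5, 4)] := Cov.split 4 fun r hr => by
  interval_cases r
  exacts [Cov.leaf q11_383, Cov.leaf q11_384, Cov.leaf q11_385, Cov.leaf q11_386, Cov.leaf q11_387]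

theorem cv11_180 : Cov pa11 [(1, 0), (1, 0), (2, 1), (2, 0), (7, 5), (7, 0)] := Cov.split 4 fun r hr => by
  interval_cases r
  exacts [Cov.leaf q11_379, Cov.leaf q11_380, Cov.leaf q11_381, Cov.leaf q11_382, cv11_179]

theorem cv11_181 : Cov pa11 [(1, 0), (1, 0), (2, 1), (2, 0), (7, 5), (7, 1), (5, 0)] := Cov.split 1 fun r hr => by
  interval_cases r
  exacts [Cov.leaf q11_388, Cov.leaf q11_389]

theorem cv11_182 : Cov pa11 [(1, 0), (1, 0), (2, 1), (2, 0), (7, 5), (7, 1)] := Cov.split 4 fun r hr => by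
  interval_cases r
  exacts [cv11_181, Cov.leaf q11_390, Cov.leaf q11_391, Cov.leaf q11_392, Cov.leaf q11_393]

theorem cv11_183 : Cov pa11 [(1, 0), (1, 0), (2, 1), (2, 0), (7, 5), (7, 4)] := Cov.split 1 fun r hr => by
  interval_cases r
  exacts [Cov.leaf q11_396, Cov.leaf q11_397]

theorem cv11_184 : Cov pa11 [(1, 0), (1, 0), (2, 1), (2, 0), (7, 5), (7, 5), (2, 0)] := Cov.split 2 fun r hr => by
  interval_cases r
  exacts [Cov.leaf q11_398, Cov.leaf q11_399, Cov.leaf q11_400]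

theorem cv11_185 : Cov pa11 [(1, 0), (1, 0), (2, 1), (2, 0), (7, 5), (7, 5), (2, 1)] := Cov.split 2 fun r hr => by
  interval_cases r
  exacts [Cov.leaf q11_401, Cov.leaf q11_402, Cov.leaf q11_403]

theorem cv11_186 : Cov pa11 [(1, 0), (1, 0), (2, 1), (2, 0), (7, 5), (7, 5)] := Cov.split 1 fun r hr => by
  interval_cases r
  exacts [cv11_184, cv11_185]

theorem cv11_187 : Cov pa11 [(1, 0), (1, 0), (2, 1), (2, 0), (7, 5)] := Cov.split 6 fun r hr => by
  interval_cases r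
  exacts [cv11_180, cv11_182, Cov.leaf q11_394, Cov.leaf q11_395, cv11_183, cv11_186, Cov.leaf q11_404]

theorem cv11_188 : Cov pa11 [(1, 0), (1, 0), (2, 1), (2, 0), (7, 6), (3, 0), (5, 0), (2, 0)] := Cov.split 1 fun r hr => by
  interval_cases r
  exacts [Cov.leaf q11_405, Cov.leaf q11_406]

theorem cv11_189 : Cov pa11 [(1, 0), (1, 0), (2, 1), (2, 0), (7, 6), (3, 0), (5, 0)] := Cov.split 1 fun r hr => by
  interval_cases r
  exacts [cv11_188, Cov.leaf q11_407]

theorem cv11_190 : Cov pa11 [(1, 0), (1, 0), (2, 1), (2, 0), (7, 6), (3, 0)] := Cov.split 4 fun r hr => by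
  interval_cases r
  exacts [cv11_189, Cov.leaf q11_408, Cov.leaf q11_409, Cov.leaf q11_410, Cov.leaf q11_411]

theorem cv11_191 : Cov pa11 [(1, 0), (1, 0), (2, 1), (2, 0), (7, 6), (3, 1), (2, 1)] := Cov.split 1 fun r hr => by
  interval_cases r
  exacts [Cov.leaf q11_413, Cov.leaf q11_414]

theorem cv11_192 : Cov pa11 [(1, 0), (1, 0), (2, 1), (2, 0), (7, 6), (3, 1)] := Cov.split 1 fun r hr => by
  interval_cases r
  exacts [Cov.leaf q11_412, cv11_191]

theorem cv11_193 : Cov pa11 [(1, 0), (1, 0), (2, 1), (2, 0), (7, 6)] := Cov.split 2 fun r hr => by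
  interval_cases r
  exacts [cv11_190, cv11_192, Cov.leaf q11_415]

theorem cv11_194 : Cov pa11 [(1, 0), (1, 0), (2, 1), (2, 0)] := Cov.split 6 fun r hr => by
  interval_cases r
  exacts [cv11_144, cv11_145, Cov.leaf q11_303, cv11_174, cv11_178, cv11_187, cv11_193]

theorem cv11_195 : Cov pa11 [(1, 0), (1, 0), (2, 1), (2, 1), (7, 0), (3, 0)] := Cov.split 1 fun r hr => by
  interval_cases r
  exacts [Cov.leaf q11_416, Cov.leaf q11_417]

theorem cv11_196 : Cov pa11 [(1, 0), (1, 0), (2, 1), (2, 1), (7, 0), (3, 1)] := Cov.split 1 fun r hr => by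
  interval_cases r
  exacts [Cov.leaf q11_418, Cov.leaf q11_419]

theorem cv11_197 : Cov pa11 [(1, 0), (1, 0), (2, 1), (2, 1), (7, 0)] := Cov.split 2 fun r hr => by
  interval_cases r
  exacts [cv11_195, cv11_196, Cov.leaf q11_420]

theorem cv11_198 : Cov pa11 [(1, 0), (1, 0), (2, 1), (2, 1), (7, 1), (2, 0)] := Cov.split 2 fun r hr => by
  interval_cases r
  exacts [Cov.leaf q11_421, Cov.leaf q11_422, Cov.leaf q11_423]

theorem cv11_199 : Cov pa11 [(1, 0), (1, 0), (2, 1), (2, 1), (7, 1), (2, 1)] := Cov.split 2 fun r hr => by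
  interval_cases r
  exacts [Cov.leaf q11_424, Cov.leaf q11_425, Cov.leaf q11_426]

theorem cv11_200 : Cov pa11 [(1, 0), (1, 0), (2, 1), (2, 1), (7, 1)] := Cov.split 1 fun r hr => by
  interval_cases r
  exacts [cv11_198, cv11_199]

theorem cv11_201 : Cov pa11 [(1, 0), (1, 0), (2, 1), (2, 1), (7, 2), (7, 0), (3, 1), (2, 1)] := Cov.split 1 fun r hr => by
  interval_cases r
  exacts [Cov.leaf q11_429, Cov.leaf q11_430]

theorem cv11_202 : Cov pa11 [(1, 0), (1, 0), (2, 1), (2, 1), (7, 2), (7, 0), (3, 1)] := Cov.split 1 fun r hr => by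
  interval_cases r
  exacts [Cov.leaf q11_428, cv11_201]

theorem cv11_203 : Cov pa11 [(1, 0), (1, 0), (2, 1), (2, 1), (7, 2), (7, 0)] := Cov.split 2 fun r hr => by
  interval_cases r
  exacts [Cov.leaf q11_427, cv11_202, Cov.leaf q11_431]

theorem cv11_204 : Cov pa11 [(1, 0), (1, 0), (2, 1), (2, 1), (7, 2), (7, 1), (7, 0), (2, 0), (2, 0)] := Cov.split 1 fun r hr => by
  interval_cases r
  exacts [Cov.leaf q11_432, Cov.leaf q11_433]

theorem cv11_205 : Cov pa11 [(1, 0), (1, 0), (2, 1), (2, 1), (7, 2), (7, 1), (7, 0), (2, 0)] := Cov.split 1 fun r hr => by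
  interval_cases r
  exacts [cv11_204, Cov.leaf q11_434]

theorem cv11_206 : Cov pa11 [(1, 0), (1, 0), (2, 1), (2, 1), (7, 2), (7, 1), (7, 0), (2, 1), (5, 0)] := Cov.split 2 fun r hr => by
  interval_cases r
  exacts [Cov.leaf q11_435, Cov.leaf q11_436, Cov.leaf q11_437]

theorem cv11_207 : Cov pa11 [(1, 0), (1, 0), (2, 1), (2, 1), (7, 2), (7, 1), (7, 0), (2, 1)] := Cov.split 4 fun r hr => by
  interval_cases r
  exacts [cv11_206, Cov.leaf q11_438, Cov.leaf q11_439, Cov.leaf q11_440, Cov.leaf q11_441]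

theorem cv11_208 : Cov pa11 [(1, 0), (1, 0), (2, 1), (2, 1), (7, 2), (7, 1), (7, 0)] := Cov.split 1 fun r hr => by
  interval_cases r
  exacts [cv11_205, cv11_207]

theorem cv11_209 : Cov pa11 [(1, 0), (1, 0), (2, 1), (2, 1), (7, 2), (7, 1), (7, 1), (2, 0), (2, 0), (2, 0), (1, 0)] := Cov.split 0 fun r hr => by
  interval_cases r
  exacts [Cov.leaf q11_442]

theorem cv11_210 : Cov pa11 [(1, 0), (1, 0), (2, 1), (2, 1), (7, 2), (7, 1), (7, 1), (2, 0), (2, 0), (2, 0)] := Cov.split 0 fun r hr => by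
  interval_cases r
  exacts [cv11_209]

theorem cv11_211 : Cov pa11 [(1, 0), (1, 0), (2, 1), (2, 1), (7, 2), (7, 1), (7, 1), (2, 0), (2, 0)] := Cov.split 1 fun r hr => by
  interval_cases r
  exacts [cv11_210, Cov.leaf q11_443]

theorem cv11_212 : Cov pa11 [(1, 0), (1, 0), (2, 1), (2, 1), (7, 2), (7, 1), (7, 1), (2, 0)] := Cov.split 1 fun r hr => by
  interval_cases r
  exacts [cv11_211, Cov.leaf q11_444]

theorem cv11_213 : Cov pa11 [(1, 0), (1, 0), (2, 1), (2, 1), (7, 2), (7, 1), (7, 1)] := Cov.split 1 fun r hr => by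
  interval_cases r
  exacts [cv11_212, Cov.leaf q11_445]

theorem cv11_214 : Cov pa11 [(1, 0), (1, 0), (2, 1), (2, 1), (7, 2), (7, 1), (7, 2), (2, 1)] := Cov.split 2 fun r hr => by
  interval_cases r
  exacts [Cov.leaf q11_447, Cov.leaf q11_448, Cov.leaf q11_449]

theorem cv11_215 : Cov pa11 [(1, 0), (1, 0), (2, 1), (2, 1), (7, 2), (7, 1), (7, 2)] := Cov.split 1 fun r hr => by
  interval_cases r
  exacts [Cov.leaf q11_446, cv11_214]

theorem cv11_216 : Cov pa11 [(1, 0), (1, 0), (2, 1), (2, 1), (7, 2), (7, 1), (7, 5), (5, 3)] := Cov.split 1 fun r hr => by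
  interval_cases r
  exacts [Cov.leaf q11_455, Cov.leaf q11_456]

theorem cv11_217 : Cov pa11 [(1, 0), (1, 0), (2, 1), (2, 1), (7, 2), (7, 1), (7, 5), (5, 4)] := Cov.split 2 fun r hr => by
  interval_cases r
  exacts [Cov.leaf q11_457, Cov.leaf q11_458, Cov.leaf q11_459]

theorem cv11_218 : Cov pa11 [(1, 0), (1, 0), (2, 1), (2, 1), (7, 2), (7, 1), (7, 5)] := Cov.split 4 fun r hr => by
  interval_cases r
  exacts [Cov.leaf q11_452, Cov.leaf q11_453, Cov.leaf q11_454, cv11_216, cv11_217]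

theorem cv11_219 : Cov pa11 [(1, 0), (1, 0), (2, 1), (2, 1), (7, 2), (7, 1)] := Cov.split 6 fun r hr => by
  interval_cases r
  exacts [cv11_208, cv11_213, cv11_215, Cov.leaf q11_450, Cov.leaf q11_451, cv11_218, Cov.leaf q11_460]

theorem cv11_220 : Cov pa11 [(1, 0), (1, 0), (2, 1), (2, 1), (7, 2), (7, 2)] := Cov.split 1 fun r hr => by
  interval_cases r
  exacts [Cov.leaf q11_461, Cov.leaf q11_462]

theorem cv11_221 : Cov pa11 [(1, 0), (1, 0), (2, 1), (2, 1), (7, 2), (7, 4), (2, 1)] := Cov.split 1 fun r hr => by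
  interval_cases r
  exacts [Cov.leaf q11_465, Cov.leaf q11_466]

theorem cv11_222 : Cov pa11 [(1, 0), (1, 0), (2, 1), (2, 1), (7, 2), (7, 4)] := Cov.split 1 fun r hr => by
  interval_cases r
  exacts [Cov.leaf q11_464, cv11_221]

theorem cv11_223 : Cov pa11 [(1, 0), (1, 0), (2, 1), (2, 1), (7, 2), (7, 5)] := Cov.split 2 fun r hr => by
  interval_cases r
  exacts [Cov.leaf q11_467, Cov.leaf q11_468, Cov.leaf q11_469]

theorem cv11_224 : Cov pa11 [(1, 0), (1, 0), (2, 1), (2, 1), (7, 2), (7, 6), (7, 4), (5, 1), (2, 0)] := Cov.split 1 fun r hr => by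
  interval_cases r
  exacts [Cov.leaf q11_475, Cov.leaf q11_476]

theorem cv11_225 : Cov pa11 [(1, 0), (1, 0), (2, 1), (2, 1), (7, 2), (7, 6), (7, 4), (5, 1)] := Cov.split 1 fun r hr => by
  interval_cases r
  exacts [cv11_224, Cov.leaf q11_477]

theorem cv11_226 : Cov pa11 [(1, 0), (1, 0), (2, 1), (2, 1), (7, 2), (7, 6), (7, 4)] := Cov.split 4 fun r hr => by
  interval_cases r
  exacts [Cov.leaf q11_474, cv11_225, Cov.leaf q11_478, Cov.leaf q11_479, Cov.leaf q11_480]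

theorem cv11_227 : Cov pa11 [(1, 0), (1, 0), (2, 1), (2, 1), (7, 2), (7, 6), (7, 6), (7, 1), (2, 1), (2, 1)] := Cov.split 1 fun r hr => by
  interval_cases r
  exacts [Cov.leaf q11_485, Cov.leaf q11_486]

theorem cv11_228 : Cov pa11 [(1, 0), (1, 0), (2, 1), (2, 1), (7, 2), (7, 6), (7, 6), (7, 1), (2, 1)] := Cov.split 1 fun r hr => by
  interval_cases r
  exacts [Cov.leaf q11_484, cv11_227]

theorem cv11_229 : Cov pa11 [(1, 0), (1, 0), (2, 1), (2, 1), (7, 2), (7, 6), (7, 6), (7, 1)] := Cov.split 1 fun r hr => by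
  interval_cases r
  exacts [Cov.leaf q11_483, cv11_228]

theorem cv11_230 : Cov pa11 [(1, 0), (1, 0), (2, 1), (2, 1), (7, 2), (7, 6), (7, 6), (7, 2)] := Cov.split 1 fun r hr => by
  interval_cases r
  exacts [Cov.leaf q11_487, Cov.leaf q11_488]

theorem cv11_231 : Cov pa11 [(1, 0), (1, 0), (2, 1), (2, 1), (7, 2), (7, 6), (7, 6)] := Cov.split 6 fun r hr => by
  interval_cases r
  exacts [Cov.leaf q11_482, cv11_229, cv11_230, Cov.leaf q11_489, Cov.leaf q11_490, Cov.leaf q11_491, Cov.leaf q11_492]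

theorem cv11_232 : Cov pa11 [(1, 0), (1, 0), (2, 1), (2, 1), (7, 2), (7, 6)] := Cov.split 6 fun r hr => by
  interval_cases r
  exacts [Cov.leaf q11_470, Cov.leaf q11_471, Cov.leaf q11_472, Cov.leaf q11_473, cv11_226, Cov.leaf q11_481, cv11_231]

theorem cv11_233 : Cov pa11 [(1, 0), (1, 0), (2, 1), (2, 1), (7, 2)] := Cov.split 6 fun r hr => by
  interval_cases r
  exacts [cv11_203, cv11_219, cv11_220, Cov.leaf q11_463, cv11_222, cv11_223, cv11_232]

theorem cv11_234 : Cov pa11 [(1, 0), (1, 0), (2, 1), (2, 1), (7, 3), (7, 4), (2, 0)] := Cov.split 2 fun r hr => by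
  interval_cases r
  exacts [Cov.leaf q11_497, Cov.leaf q11_498, Cov.leaf q11_499]

theorem cv11_235 : Cov pa11 [(1, 0), (1, 0), (2, 1), (2, 1), (7, 3), (7, 4), (2, 1), (3, 2)] := Cov.split 1 fun r hr => by
  interval_cases r
  exacts [Cov.leaf q11_502, Cov.leaf q11_503]

theorem cv11_236 : Cov pa11 [(1, 0), (1, 0), (2, 1), (2, 1), (7, 3), (7, 4), (2, 1)] := Cov.split 2 fun r hr => by
  interval_cases r
  exacts [Cov.leaf q11_500, Cov.leaf q11_501, cv11_235]

theorem cv11_237 : Cov pa11 [(1, 0), (1, 0), (2, 1), (2, 1), (7, 3), (7, 4)] := Cov.split 1 fun r hr => by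
  interval_cases r
  exacts [cv11_234, cv11_236]

theorem cv11_238 : Cov pa11 [(1, 0), (1, 0), (2, 1), (2, 1), (7, 3)] := Cov.split 6 fun r hr => by
  interval_cases r
  exacts [Cov.leaf q11_493, Cov.leaf q11_494, Cov.leaf q11_495, Cov.leaf q11_496, cv11_237, Cov.leaf q11_504, Cov.leaf q11_505]

theorem cv11_239 : Cov pa11 [(1, 0), (1, 0), (2, 1), (2, 1), (7, 4), (7, 0), (7, 2), (5, 2)] := Cov.split 1 fun r hr => by
  interval_cases r
  exacts [Cov.leaf q11_510, Cov.leaf q11_511]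

theorem cv11_240 : Cov pa11 [(1, 0), (1, 0), (2, 1), (2, 1), (7, 4), (7, 0), (7, 2), (5, 3)] := Cov.split 2 fun r hr => by
  interval_cases r
  exacts [Cov.leaf q11_512, Cov.leaf q11_513, Cov.leaf q11_514]

theorem cv11_241 : Cov pa11 [(1, 0), (1, 0), (2, 1), (2, 1), (7, 4), (7, 0), (7, 2)] := Cov.split 4 fun r hr => by
  interval_cases r
  exacts [Cov.leaf q11_508, Cov.leaf q11_509, cv11_239, cv11_240, Cov.leaf q11_515]

theorem cv11_242 : Cov pa11 [(1, 0), (1, 0), (2, 1), (2, 1), (7, 4), (7, 0), (7, 4), (2, 0), (2, 0)] := Cov.split 1 fun r hr => by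
  interval_cases r
  exacts [Cov.leaf q11_517, Cov.leaf q11_518]

theorem cv11_243 : Cov pa11 [(1, 0), (1, 0), (2, 1), (2, 1), (7, 4), (7, 0), (7, 4), (2, 0)] := Cov.split 1 fun r hr => by
  interval_cases r
  exacts [cv11_242, Cov.leaf q11_519]

theorem cv11_244 : Cov pa11 [(1, 0), (1, 0), (2, 1), (2, 1), (7, 4), (7, 0), (7, 4)] := Cov.split 1 fun r hr => by
  interval_cases r
  exacts [cv11_243, Cov.leaf q11_520]

theorem cv11_245 : Cov pa11 [(1, 0), (1, 0), (2, 1), (2, 1), (7, 4), (7, 0), (7, 5), (2, 1)] := Cov.split 1 fun r hr => by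
  interval_cases r
  exacts [Cov.leaf q11_522, Cov.leaf q11_523]

theorem cv11_246 : Cov pa11 [(1, 0), (1, 0), (2, 1), (2, 1), (7, 4), (7, 0), (7, 5)] := Cov.split 1 fun r hr => by
  interval_cases r
  exacts [Cov.leaf q11_521, cv11_245]

theorem cv11_247 : Cov pa11 [(1, 0), (1, 0), (2, 1), (2, 1), (7, 4), (7, 0)] := Cov.split 6 fun r hr => by
  interval_cases r
  exacts [Cov.leaf q11_506, Cov.leaf q11_507, cv11_241, Cov.leaf q11_516, cv11_244, cv11_246, Cov.leaf q11_524]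

theorem cv11_248 : Cov pa11 [(1, 0), (1, 0), (2, 1), (2, 1), (7, 4), (7, 1)] := Cov.split 1 fun r hr => by
  interval_cases r
  exacts [Cov.leaf q11_525, Cov.leaf q11_526]

theorem cv11_249 : Cov pa11 [(1, 0), (1, 0), (2, 1), (2, 1), (7, 4), (7, 2), (2, 0), (5, 3)] := Cov.split 1 fun r hr => by
  interval_cases r
  exacts [Cov.leaf q11_530, Cov.leaf q11_531]

theorem cv11_250 : Cov pa11 [(1, 0), (1, 0), (2, 1), (2, 1), (7, 4), (7, 2), (2, 0)] := Cov.split 4 fun r hr => by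
  interval_cases r
  exacts [Cov.leaf q11_527, Cov.leaf q11_528, Cov.leaf q11_529, cv11_249, Cov.leaf q11_532]

theorem cv11_251 : Cov pa11 [(1, 0), (1, 0), (2, 1), (2, 1), (7, 4), (7, 2), (2, 1), (5, 2), (2, 1)] := Cov.split 1 fun r hr => by
  interval_cases r
  exacts [Cov.leaf q11_536, Cov.leaf q11_537]

theorem cv11_252 : Cov pa11 [(1, 0), (1, 0), (2, 1), (2, 1), (7, 4), (7, 2), (2, 1), (5, 2)] := Cov.split 1 fun r hr => by
  interval_cases r
  exacts [Cov.leaf q11_535, cv11_251]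

theorem cv11_253 : Cov pa11 [(1, 0), (1, 0), (2, 1), (2, 1), (7, 4), (7, 2), (2, 1), (5, 3)] := Cov.split 2 fun r hr => by
  interval_cases r
  exacts [Cov.leaf q11_538, Cov.leaf q11_539, Cov.leaf q11_540]

theorem cv11_254 : Cov pa11 [(1, 0), (1, 0), (2, 1), (2, 1), (7, 4), (7, 2), (2, 1)] := Cov.split 4 fun r hr => by
  interval_cases r
  exacts [Cov.leaf q11_533, Cov.leaf q11_534, cv11_252, cv11_253, Cov.leaf q11_541]

theorem cv11_255 : Cov pa11 [(1, 0), (1, 0), (2, 1), (2, 1), (7, 4), (7, 2)] := Cov.split 1 fun r hr => by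
  interval_cases r
  exacts [cv11_250, cv11_254]

theorem cv11_256 : Cov pa11 [(1, 0), (1, 0), (2, 1), (2, 1), (7, 4), (7, 3), (2, 0), (5, 3), (3, 0)] := Cov.split 1 fun r hr => by
  interval_cases r
  exacts [Cov.leaf q11_545, Cov.leaf q11_546]

theorem cv11_257 : Cov pa11 [(1, 0), (1, 0), (2, 1), (2, 1), (7, 4), (7, 3), (2, 0), (5, 3)] := Cov.split 2 fun r hr => by
  interval_cases r
  exacts [cv11_256, Cov.leaf q11_547, Cov.leaf q11_548]

theorem cv11_258 : Cov pa11 [(1, 0), (1, 0), (2, 1), (2, 1), (7, 4), (7, 3), (2, 0)] := Cov.split 4 fun r hr => by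
  interval_cases r
  exacts [Cov.leaf q11_542, Cov.leaf q11_543, Cov.leaf q11_544, cv11_257, Cov.leaf q11_549]

theorem cv11_259 : Cov pa11 [(1, 0), (1, 0), (2, 1), (2, 1), (7, 4), (7, 3), (2, 1)] := Cov.split 1 fun r hr => by
  interval_cases r
  exacts [Cov.leaf q11_550, Cov.leaf q11_551]

theorem cv11_260 : Cov pa11 [(1, 0), (1, 0), (2, 1), (2, 1), (7, 4), (7, 3)] := Cov.split 1 fun r hr => by
  interval_cases r
  exacts [cv11_258, cv11_259]

theorem cv11_261 : Cov pa11 [(1, 0), (1, 0), (2, 1), (2, 1), (7, 4), (7, 4), (3, 0)] := Cov.split 1 fun r hr => by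
  interval_cases r
  exacts [Cov.leaf q11_552, Cov.leaf q11_553]

theorem cv11_262 : Cov pa11 [(1, 0), (1, 0), (2, 1), (2, 1), (7, 4), (7, 4)] := Cov.split 2 fun r hr => by
  interval_cases r
  exacts [cv11_261, Cov.leaf q11_554, Cov.leaf q11_555]

theorem cv11_263 : Cov pa11 [(1, 0), (1, 0), (2, 1), (2, 1), (7, 4), (7, 5)] := Cov.split 1 fun r hr => by
  interval_cases r
  exacts [Cov.leaf q11_556, Cov.leaf q11_557]

theorem cv11_264 : Cov pa11 [(1, 0), (1, 0), (2, 1), (2, 1), (7, 4)] := Cov.split 6 fun r hr => by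
  interval_cases r
  exacts [cv11_247, cv11_248, cv11_255, cv11_260, cv11_262, cv11_263, Cov.leaf q11_558]

theorem cv11_265 : Cov pa11 [(1, 0), (1, 0), (2, 1), (2, 1), (7, 5), (3, 0)] := Cov.split 1 fun r hr => by
  interval_cases r
  exacts [Cov.leaf q11_559, Cov.leaf q11_560]

theorem cv11_266 : Cov pa11 [(1, 0), (1, 0), (2, 1), (2, 1), (7, 5)] := Cov.split 2 fun r hr => by
  interval_cases r
  exacts [cv11_265, Cov.leaf q11_561, Cov.leaf q11_562]

theorem cv11_267 : Cov pa11 [(1, 0), (1, 0), (2, 1), (2, 1)] := Cov.split 6 fun r hr => by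
  interval_cases r
  exacts [cv11_197, cv11_200, cv11_233, cv11_238, cv11_264, cv11_266, Cov.leaf q11_563]

theorem cv11_268 : Cov pa11 [(1, 0), (1, 0), (2, 1)] := Cov.split 1 fun r hr => by
  interval_cases r
  exacts [cv11_194, cv11_267]

theorem cv11_269 : Cov pa11 [(1, 0), (1, 0)] := Cov.split 1 fun r hr => by
  interval_cases r
  exacts [cv11_140, cv11_268]

theorem cv11_270 : Cov pa11 [(1, 0)] := Cov.split 0 fun r hr => by
  interval_cases r
  exacts [cv11_269]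

theorem cv11_271 : Cov pa11 [] := Cov.split 0 fun r hr => by
  interval_cases r
  exacts [cv11_270]

theorem has11 {G : Type*} [Group G] [Fintype G] [IsSimpleGroup G] (hG : ¬ IsMulCommutative G)
    (hK : Nat.card (ConjClasses G) = 11) (F : Facts G)
    (hm : ∃ x : G, ∃ p q : ℕ, p.Prime ∧ q.Prime ∧ p ≠ q ∧ p ∣ orderOf x ∧ q ∣ orderOf x) :
    ∃ Q, (Nat.card G, Q) ∈ acc11 ∧ Has G Q :=
  has_of_cov hG hK F hm (f := 12) (by unfold Cov; have := cv11_271; unfold Cov pa11 at this; exact this)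

end Cfsg.Agent.H9.KC
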