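import Cfsg.Agent.H9.Golay

/-! Upper bounds for the orders of the Mathieu groups. -/

set_option autoImplicit false

namespace Cfsg.Agent.H9

open Cfsg Cfsg.Spor
open scoped Pointwise

/-- every element of `G` lies in `M24`, fixes the points of `F` and the sets in `S` -/
structure FixData (G : Subgroup (Equiv.Perm GolayPt)) (F : ℕ) (S : List ℕ) : Prop where
  le : G ≤ M24
  pts : ∀ g ∈ G, ∀ p, F.testBit (idx p) = true → g p = p
  sets : ∀ g ∈ G, ∀ O ∈ S, ∀ p, O.testBit (idx (g p)) = O.testBit (idx p)

/-- points outside `F` with the same pattern on `S` as `p` -/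
noncomputable def cell (S : List ℕ) (F p : ℕ) : ℕ :=
  List.rec (motive := fun _ => ℕ) (Nat.xor 16777215 F)
    (fun O _ acc => Bool.rec (motive := fun _ => ℕ) (Nat.land acc (Nat.xor 16777215 O))
      (Nat.land acc O) (tb O p)) S

theorem testBit_full (q : GolayPt) : (16777215 : ℕ).testBit (idx q) = true := by
  revert q; decide +kernel

theorem testBit_cell (S : List ℕ) (F p : ℕ) (q : GolayPt) (hF : F.testBit (idx q) = false)
    (hS : ∀ O ∈ S, O.testBit (idx q) = O.testBit p) : (cell S F p).testBit (idx q) = true := by
  induction S with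
  | nil =>
    show (16777215 ^^^ F).testBit (idx q) = true
    rw [Nat.testBit_xor, hF, testBit_full]; rfl
  | cons O S ih =>
    have e : cell (O :: S) F p = Bool.rec (motive := fun _ => ℕ) (cell S F p &&& (16777215 ^^^ O))
      (cell S F p &&& O) (tb O p) := rfl
    have ih' := ih fun O hO => hS O (List.mem_cons_of_mem _ hO)
    have h1 := hS O List.mem_cons_self
    rw [e, tb_eq]
    cases h2 : O.testBit p with
    | false =>
      simp only [Nat.testBit_and, Nat.testBit_xor, ih', h1, h2, testBit_full]; rfl
    | true =>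
      simp only [Nat.testBit_and, ih', h1, h2]; rfl

/-- `O` is an octad with at least five points in `F` -/
noncomputable def octOK (F O : ℕ) : Bool :=
  isCode O && Nat.beq (pop O 24) 8 && Nat.ble 5 (pop (Nat.land O F) 24)

theorem smul_octad_eq {g : Equiv.Perm GolayPt} (hg : g ∈ M24) {O T : Finset GolayPt}
    (hO : O ∈ gSupports) (h8 : O.card = 8) (hT : T ⊆ O) (h5 : 5 ≤ T.card)
    (hfix : ∀ p ∈ T, g p ∈ O) : g • O = O := by
  have h1 : g • O ∈ gSupports := mem_M24_iff.mp hg O hO
  have h2 := card_of_mem_gSupports (symmDiff_mem_gSupports h1 hO)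
  have h3 : g • T ⊆ g • O ∩ O := by
    intro x hx
    rw [Finset.mem_inter]
    refine ⟨Finset.smul_finset_subset_smul_finset hT hx, ?_⟩
    obtain ⟨y, hy, rfl⟩ := Finset.mem_smul_finset.mp hx
    exact hfix y hy
  have h4 := Finset.card_le_card h3
  rw [card_smul_finset'] at h4
  have h5' : (symmDiff (g • O) O).card + 2 * (g • O ∩ O).card = (g • O).card + O.card := by
    rw [Finset.symmDiff_def, Finset.card_union_of_disjoint disjoint_sdiff_sdiff]
    have a := Finset.card_sdiff_add_card_inter (g • O) O
    have b := Finset.card_sdiff_add_card_inter O (g • O)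
    rw [Finset.inter_comm] at b
    omega
  rw [card_smul_finset', h8] at h5'
  have : (symmDiff (g • O) O).card = 0 := by omega
  rw [Finset.card_eq_zero] at this
  exact symmDiff_eq_bot.mp this

theorem testBit_of_smul_eq {g : Equiv.Perm GolayPt} {O : ℕ} (h : g • setOf O = setOf O)
    (p : GolayPt) : O.testBit (idx (g p)) = O.testBit (idx p) := by
  have : g p ∈ g • setOf O ↔ p ∈ setOf O := by rw [mem_smul_finset_iff]; simp
  rw [h, mem_setOf, mem_setOf] at this
  exact Bool.eq_iff_iff.mpr this

theorem FixData.octad {G : Subgroup (Equiv.Perm GolayPt)} {F : ℕ} {S : List ℕ} (h : FixData G F S)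
    {O : ℕ} (hO : octOK F O = true) {g : Equiv.Perm GolayPt} (hg : g ∈ G) (p : GolayPt) :
    O.testBit (idx (g p)) = O.testBit (idx p) := by
  simp only [octOK, Bool.and_eq_true, Nat.beq_eq, Nat.ble_eq] at hO
  obtain ⟨⟨h1, h2⟩, h3⟩ := hO
  apply testBit_of_smul_eq
  refine smul_octad_eq (h.le hg) (T := setOf (O &&& F))
    (mem_gSupports.mpr ⟨O, isCode_of h1, rfl⟩) (by rw [card_setOf, h2]) ?_ (by rw [card_setOf]; exact h3) ?_
  · intro q hq
    rw [mem_setOf] at hq ⊢
    rw [Nat.testBit_and, Bool.and_eq_true] at hq; exact hq.1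
  · intro q hq
    rw [mem_setOf, Nat.testBit_and, Bool.and_eq_true] at hq
    rw [h.pts g hg q hq.2, mem_setOf]; exact hq.1

theorem FixData.mem_cell {G : Subgroup (Equiv.Perm GolayPt)} {F : ℕ} {S : List ℕ}
    (h : FixData G F S) {os : List ℕ} (hos : allL os (octOK F) = true) {p : ℕ} (hp : p < 24)
    (hpF : F.testBit p = false) {g : Equiv.Perm GolayPt} (hg : g ∈ G) :
    g (pt p) ∈ setOf (cell (os ++ S) F p) := by
  rw [mem_setOf]
  apply testBit_cell
  · cases h1 : F.testBit (idx (g (pt p))) with
    | false => rfl
    | true =>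
      have := g.injective (h.pts g hg _ h1)
      rw [this, idx_pt hp, hpF] at h1
      exact absurd h1 (by simp)
  · intro O hO
    rcases List.mem_append.mp hO with h1 | h1
    · rw [h.octad ((allL_iff _ _).mp hos O h1) hg, idx_pt hp]
    · rw [h.sets g hg O h1, idx_pt hp]

theorem FixData.step {G : Subgroup (Equiv.Perm GolayPt)} {F : ℕ} {S : List ℕ}
    (h : FixData G F S) {p : ℕ} (hp : p < 24) :
    FixData (G ⊓ MulAction.stabilizer _ (pt p)) (F ||| 1 <<< p) S where
  le := le_trans inf_le_left h.le
  pts := by
    intro g hg q hq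
    rw [Nat.testBit_or, Bool.or_eq_true, Nat.one_shiftLeft, Nat.testBit_two_pow] at hq
    rcases hq with hq | hq
    · exact h.pts g hg.1 q hq
    · have : q = pt p := by rw [of_decide_eq_true hq, pt_idx]
      rw [this]; exact hg.2
  sets := fun g hg => h.sets g hg.1

/-- the bound given by a chain of steps (0 means failure); `fin F` is the bound at the end -/
noncomputable def chainBound (S : List ℕ) (fin : ℕ → ℕ) (steps : List (List ℕ × ℕ)) : ℕ → ℕ :=
  List.rec (motive := fun _ => ℕ → ℕ) fin
    (fun st _ ih F => Bool.rec (motive := fun _ => ℕ) 0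
      (Nat.mul (pop (cell (st.1 ++ S) F st.2) 24) (ih (Nat.lor F (Nat.shiftLeft 1 st.2))))
      (allL st.1 (octOK F) && Nat.ble st.2 23 && !(tb F st.2))) steps

theorem card_le_chainBound (S : List ℕ) (fin : ℕ → ℕ)
    (hfin : ∀ G F, FixData G F S → fin F ≠ 0 → Nat.card G ≤ fin F)
    (steps : List (List ℕ × ℕ)) (G : Subgroup (Equiv.Perm GolayPt)) (F : ℕ) (h : FixData G F S)
    (h0 : chainBound S fin steps F ≠ 0) : Nat.card G ≤ chainBound S fin steps F := by
  induction steps generalizing G F with
  | nil => exact hfin G F h h0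
  | cons st steps ih =>
    have e : chainBound S fin (st :: steps) F = Bool.rec (motive := fun _ => ℕ) 0
      (pop (cell (st.1 ++ S) F st.2) 24 * chainBound S fin steps (F ||| 1 <<< st.2))
      (allL st.1 (octOK F) && Nat.ble st.2 23 && !(tb F st.2)) := rfl
    rw [e] at h0 ⊢
    cases hc : (allL st.1 (octOK F) && Nat.ble st.2 23 && !(tb F st.2)) with
    | false => rw [hc] at h0; exact absurd rfl h0
    | true =>
      rw [hc] at h0
      simp only [Bool.and_eq_true, Nat.ble_eq, Bool.not_eq_true', tb_eq] at hc
      obtain ⟨⟨h1, h2⟩, h3⟩ := hc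
      have hp : st.2 < 24 := by omega
      have h4 := (card_le_of_orbit G (pt st.2) _ fun g hg => h.mem_cell h1 hp h3 hg).2
      rw [card_setOf] at h4
      refine h4.trans (Nat.mul_le_mul_left _ (ih _ _ (h.step hp) ?_))
      exact right_ne_zero_of_mul h0

/-- end of a chain: every point is fixed -/
noncomputable def finAll (F : ℕ) : ℕ := Bool.rec (motive := fun _ => ℕ) 0 1 (Nat.beq F 16777215)

theorem finAll_spec (S : List ℕ) (G : Subgroup (Equiv.Perm GolayPt)) (F : ℕ) (h : FixData G F S)
    (h0 : finAll F ≠ 0) : Nat.card G ≤ finAll F := by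
  unfold finAll at h0 ⊢
  cases hc : Nat.beq F 16777215 with
  | false => rw [hc] at h0; exact absurd rfl h0
  | true =>
    have hF := Nat.eq_of_beq_eq_true hc
    have : G = ⊥ := by
      rw [Subgroup.eq_bot_iff_forall]
      intro g hg
      apply Equiv.ext
      intro p
      exact h.pts g hg p (by rw [hF]; exact testBit_full p)
    rw [this]; simp

theorem card_M22_le : Nat.card M22 ≤ 443520 := by
  have h : FixData M22 8388609 [] := by
    refine ⟨fun g hg => hg.1.1, ?_, by simp⟩
    intro g hg p hp
    have : p = none ∨ p = some 0 := by revert p; decide +kernel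
    rcases this with rfl | rfl
    · exact hg.1.2
    · exact hg.2
  have e : chainBound [] finAll [([], 1), ([], 2), ([], 3), ([8536111], 5), ([8536111], 4),
    ([8683614, 2162811], 6), ([8978620, 12599513], 7), ([8421811, 5275709], 8), ([8421811], 15),
    ([8683614], 18), ([786999, 9347075], 9), ([8716939], 16), ([8978620], 19), ([10846245], 21),
    ([2921478, 14716939], 10), ([10554382], 11), ([2921478], 12), ([2207772], 13), ([5902343], 14),
    ([9347075], 17), ([13062145], 20), ([], 22)] 8388609 = 443520 := by decide +kernel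
  have := card_le_chainBound [] finAll (finAll_spec []) _ M22 _ h (by rw [e]; norm_num)
  rwa [e] at this

theorem card_M23_le : Nat.card M23 ≤ 10200960 := by
  have h := (card_le_of_orbit M23 (some 0 : GolayPt) (Finset.univ.erase none) (by
    intro g hg
    rw [Finset.mem_erase]
    refine ⟨fun h => ?_, Finset.mem_univ _⟩
    have h2 : g none = none := hg.2
    have : g (some 0) = g none := by rw [h2]; exact h
    exact absurd (g.injective this) (by simp))).2
  have e : (Finset.univ.erase (none : GolayPt)).card = 23 := by decide +kernel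
  have := card_M22_le
  rw [e] at h
  change Nat.card M23 ≤ 23 * Nat.card M22 at h
  omega

theorem card_M24_le : Nat.card M24 ≤ 244823040 := by
  have h := (card_le_of_orbit M24 (none : GolayPt) Finset.univ (by
    intro g hg; exact Finset.mem_univ _)).2
  have e : (Finset.univ : Finset GolayPt).card = 24 := by decide +kernel
  have := card_M23_le
  rw [e] at h
  change Nat.card M24 ≤ 24 * Nat.card M23 at h
  omega

/-- an element of `M24` fixing the points 0, 1, 2, 3, 4, 6, 12 is trivial -/
theorem rigid7 {g : Equiv.Perm GolayPt} (hg : g ∈ M24)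
    (h : ∀ p, (4191 : ℕ).testBit (idx p) = true → g p = p) : g = 1 := by
  have hd : FixData (Subgroup.zpowers g) 4191 [] := by
    refine ⟨(Subgroup.zpowers_le).mpr hg, ?_, by simp⟩
    intro x hx p hp
    have : Subgroup.zpowers g ≤ MulAction.stabilizer _ p := (Subgroup.zpowers_le).mpr (h p hp)
    exact this hx
  have e : chainBound [] finAll [([45159, 2162811], 5), ([5279, 1577201], 7), ([5279], 10),
    ([262637, 4526126], 8), ([262637], 18), ([786999, 692282], 9), ([21116], 14), ([806987], 19),
    ([1327290], 20), ([1103886, 1413139], 11), ([1849378], 13), ([843820], 15), ([1413139], 16),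
    ([1302533], 17), ([13062145], 21), ([4845570], 22), ([], 23)] 4191 = 1 := by decide +kernel
  have := card_le_chainBound [] finAll (finAll_spec []) _ _ _ hd (by rw [e]; norm_num)
  rw [e] at this
  have h1 := Subgroup.eq_bot_of_card_le _ this
  exact Subgroup.zpowers_eq_bot.mp h1

theorem excl_aux {G : Subgroup (Equiv.Perm GolayPt)} (h : FixData G 4127 [340831])
    {g : Equiv.Perm GolayPt} (hg : g ∈ G) (t q : ℕ) (hq : idx (g (pt 6)) = q)
    (hc : (checkPerm t t && checkM24 t && Nat.beq (look 5 t 6) q &&
      allLt 24 (fun i => !(tb 4127 i) || Nat.beq (look 5 t i) i) &&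
      !(allLt 24 fun i => tb 340831 (look 5 t i) == tb 340831 i)) = true) : False := by
  simp only [Bool.and_eq_true, Nat.beq_eq, Bool.not_eq_true'] at hc
  obtain ⟨⟨⟨⟨h1, h2⟩, h3⟩, h4⟩, h5⟩ := hc
  have hr := rep_permOf t t h1
  set x := permOf t t h1
  have hx : x⁻¹ * g = 1 := by
    apply rigid7 (M24.mul_mem (M24.inv_mem (hr.mem_M24 h2)) (h.le hg))
    intro p hp
    rw [Equiv.Perm.mul_apply, Equiv.Perm.inv_eq_iff_eq]
    have : (4127 : ℕ).testBit (idx p) = true ∨ p = pt 6 := by revert p; decide +kernel
    apply idx_injective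
    rcases this with h6 | rfl
    · rw [h.pts g hg p h6, hr p]
      have := (allLt_iff _ _).mp h4 _ (idx_lt p)
      simp only [tb_eq, h6, Bool.not_true, Bool.false_or, Nat.beq_eq] at this
      exact this.symm
    · rw [hq, hr, idx_pt (by norm_num), h3]
  have hx' : x = g := inv_mul_eq_one.mp hx
  have : (allLt 24 fun i => tb 340831 (look 5 t i) == tb 340831 i) = true := by
    rw [allLt_iff]
    intro i hi
    have := h.sets g hg 340831 (by simp) (pt i)
    rw [← hx', hr, idx_pt hi] at this
    simp only [tb_eq, this, beq_self_eq_true]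
  rw [this] at h5
  exact absurd h5 (by simp)

/-- end of the chain for `M12` -/
noncomputable def finM12 (F : ℕ) : ℕ := Bool.rec (motive := fun _ => ℕ) 0 1 (Nat.beq F 4127)

theorem finM12_spec (G : Subgroup (Equiv.Perm GolayPt)) (F : ℕ) (h : FixData G F [340831])
    (h0 : finM12 F ≠ 0) : Nat.card G ≤ finM12 F := by
  unfold finM12 at h0 ⊢
  cases hc : Nat.beq F 4127 with
  | false => rw [hc] at h0; exact absurd rfl h0
  | true =>
    have hF := Nat.eq_of_beq_eq_true hc
    subst hF
    have : G = ⊥ := by
      rw [Subgroup.eq_bot_iff_forall]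
      intro g hg
      have h1 := h.mem_cell (os := [5279]) (p := 6) (by decide +kernel) (by norm_num)
        (by decide +kernel) hg
      rw [mem_setOf] at h1
      have h2 : ∀ q : GolayPt, (cell ([5279] ++ [340831]) 4127 6).testBit (idx q) = true →
          idx q = 6 ∨ idx q = 8 ∨ idx q = 9 ∨ idx q = 13 ∨ idx q = 16 ∨ idx q = 18 := by
        decide +kernel
      rcases h2 _ h1 with h3 | h3 | h3 | h3 | h3 | h3
      · apply rigid7 (h.le hg)
        intro p hp
        have : (4127 : ℕ).testBit (idx p) = true ∨ p = pt 6 := by revert p; decide +kernel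
        rcases this with h6 | rfl
        · exact h.pts g hg p h6
        · apply idx_injective; rw [h3]; rfl
      · exact (excl_aux h hg 561475773312554808336860583768983584 _ h3 (by decide +kernel)).elim
      · exact (excl_aux h hg 720981692062171673584743151055243296 _ h3 (by decide +kernel)).elim
      · exact (excl_aux h hg 358662142733855540651195105552730144 _ h3 (by decide +kernel)).elim
      · exact (excl_aux h hg 841384528646309054241536335100872736 _ h3 (by decide +kernel)).elim
      · exact (excl_aux h hg 651239579074641248992907580101724192 _ h3 (by decide +kernel)).elim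
    rw [this]; simp

theorem smul_squareDodecad {g : Equiv.Perm GolayPt} (hg : g ∈ M12) :
    g • setOf 340831 = setOf 340831 := by
  rw [← squareDodecad_eq]; exact hg.2

theorem card_M11_le : Nat.card M11 ≤ 7920 := by
  have h : FixData M11 1 [340831] := by
    refine ⟨fun g hg => hg.1.1, ?_, ?_⟩
    · intro g hg p hp
      have : p = some 0 := by revert p; decide +kernel
      rw [this]; exact hg.2
    · intro g hg O hO p
      rw [List.mem_singleton.mp hO]
      exact testBit_of_smul_eq (smul_squareDodecad hg.1) p
  have e : chainBound [340831] finM12 [([], 1), ([], 2), ([], 3), ([], 4), ([5279], 12)] 1 = 7920 := by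
    decide +kernel
  have := card_le_chainBound _ finM12 finM12_spec _ M11 _ h (by rw [e]; norm_num)
  rwa [e] at this

theorem card_M12_le : Nat.card M12 ≤ 95040 := by
  have h := (card_le_of_orbit M12 (some 0 : GolayPt) (setOf 340831) (by
    intro g hg
    rw [mem_setOf]
    exact (testBit_of_smul_eq (smul_squareDodecad hg) (some 0)).trans (by decide +kernel))).2
  have e : (setOf 340831).card = 12 := by rw [card_setOf]; decide +kernel
  have := card_M11_le
  rw [e] at h
  change Nat.card M12 ≤ 12 * Nat.card M11 at h
  omega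

end Cfsg.Agent.H9
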