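import Cfsg.Prelude.Def_Spor_Conway
import Cfsg.Agent.H9.M24Bound

/-! The Leech lattice: description, minimal vectors. -/

set_option autoImplicit false

namespace Cfsg.Agent.H9

open Cfsg Cfsg.Spor Finset
open scoped Pointwise

/-- coordinates congruent to 2 or 3 modulo 4 -/
def hiSet (x : GolayPt → ℤ) : Finset GolayPt := univ.filter fun i => 2 ≤ x i % 4

@[simp] theorem mem_hiSet {x : GolayPt → ℤ} {i : GolayPt} : i ∈ hiSet x ↔ 2 ≤ x i % 4 := by
  simp [hiSet]

/-- a shorter description of the lattice -/
def Lam (x : GolayPt → ℤ) : Prop :=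
  ∃ m : ℤ, (∀ i, x i % 2 = m % 2) ∧ (∑ i, x i) % 8 = (4 * m) % 8 ∧ hiSet x ∈ gSupports

theorem compl_mem_gSupports {b : Finset GolayPt} (h : b ∈ gSupports) : bᶜ ∈ gSupports := by
  have := symmDiff_mem_gSupports univ_mem_supports_golayCode h
  have e : symmDiff (univ : Finset GolayPt) b = bᶜ := by
    ext p; simp [Finset.mem_symmDiff]
  rwa [e] at this

theorem mem_leechSet_iff {x : GolayPt → ℤ} : x ∈ leechSet ↔ Lam x := by
  constructor
  · rintro ⟨m, h1, h2, h3⟩
    refine ⟨m, h1, h2, ?_⟩
    have := h3 (2 + m % 2)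
    have e : (univ.filter fun i => x i ≡ 2 + m % 2 [ZMOD 4]) = hiSet x := by
      ext i
      have := h1 i
      rw [mem_filter]
      simp only [mem_univ, true_and, mem_hiSet, Int.ModEq] at this ⊢
      omega
    rwa [e] at this
  · rintro ⟨m, h1, h2, h3⟩
    refine ⟨m, h1, h2, fun k => ?_⟩
    by_cases hk : k % 2 = m % 2
    · by_cases hk2 : 2 ≤ k % 4
      · have e : (univ.filter fun i => x i ≡ k [ZMOD 4]) = hiSet x := by
          ext i
          have := h1 i
          rw [mem_filter]
          simp only [mem_univ, true_and, mem_hiSet, Int.ModEq] at this ⊢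
          omega
        rw [e]; exact h3
      · have e : (univ.filter fun i => x i ≡ k [ZMOD 4]) = (hiSet x)ᶜ := by
          ext i
          have := h1 i
          rw [mem_filter]
          simp only [mem_univ, true_and, mem_hiSet, Int.ModEq, mem_compl] at this ⊢
          omega
        rw [e]; exact compl_mem_gSupports h3
    · have e : (univ.filter fun i => x i ≡ k [ZMOD 4]) = ∅ := by
        ext i
        have := h1 i
        rw [mem_filter]
        simp only [mem_univ, true_and, Int.ModEq, notMem_empty, iff_false] at this ⊢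
        omega
      rw [e]; exact empty_mem_supports_golayCode

theorem Lam.zero : Lam 0 := by
  refine ⟨0, by simp, by simp, ?_⟩
  have : hiSet 0 = ∅ := by ext i; simp
  rw [this]; exact empty_mem_supports_golayCode

theorem Lam.add {x y : GolayPt → ℤ} (hx : Lam x) (hy : Lam y) : Lam (x + y) := by
  obtain ⟨m, a1, a2, a3⟩ := hx
  obtain ⟨n, b1, b2, b3⟩ := hy
  refine ⟨m + n, fun i => ?_, ?_, ?_⟩
  · have := a1 i; have := b1 i; simp only [Pi.add_apply]; omega
  · simp only [Pi.add_apply, sum_add_distrib]; omega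
  · by_cases h : m % 2 = 1 ∧ n % 2 = 1
    · have e : hiSet (x + y) = (symmDiff (hiSet x) (hiSet y))ᶜ := by
        ext i
        have := a1 i; have := b1 i
        simp only [mem_hiSet, Pi.add_apply, mem_compl, Finset.mem_symmDiff]
        omega
      rw [e]; exact compl_mem_gSupports (symmDiff_mem_gSupports a3 b3)
    · have e : hiSet (x + y) = symmDiff (hiSet x) (hiSet y) := by
        ext i
        have := a1 i; have := b1 i
        simp only [mem_hiSet, Pi.add_apply, Finset.mem_symmDiff]
        omega
      rw [e]; exact symmDiff_mem_gSupports a3 b3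

theorem Lam.neg {x : GolayPt → ℤ} (hx : Lam x) : Lam (-x) := by
  obtain ⟨m, a1, a2, a3⟩ := hx
  refine ⟨m, fun i => ?_, ?_, ?_⟩
  · have := a1 i; simp only [Pi.neg_apply]; omega
  · simp only [Pi.neg_apply, sum_neg_distrib]; omega
  · by_cases h : m % 2 = 1
    · have e : hiSet (-x) = (hiSet x)ᶜ := by
        ext i
        have := a1 i
        simp only [mem_hiSet, Pi.neg_apply, mem_compl]
        omega
      rw [e]; exact compl_mem_gSupports a3
    · have e : hiSet (-x) = hiSet x := by
        ext i
        have := a1 i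
        simp only [mem_hiSet, Pi.neg_apply]
        omega
      rw [e]; exact a3

/-- the lattice as the subgroup described by `Lam` -/
def lamSub : AddSubgroup (GolayPt → ℤ) where
  carrier := {x | Lam x}
  zero_mem' := Lam.zero
  add_mem' := Lam.add
  neg_mem' := Lam.neg

theorem mem_leechLattice_iff {x : GolayPt → ℤ} : x ∈ leechLattice ↔ Lam x := by
  constructor
  · intro h
    have : leechLattice ≤ lamSub := (AddSubgroup.closure_le _).mpr fun y hy => mem_leechSet_iff.mp hy
    exact this h
  · intro h; exact AddSubgroup.subset_closure (mem_leechSet_iff.mpr h)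

theorem card_golayPt : Fintype.card GolayPt = 24 := by decide

theorem sqNorm_nonneg (x : GolayPt → ℤ) : 0 ≤ sqNorm x := sum_nonneg fun _ _ => sq_nonneg _

theorem eq_zero_of_sqNorm {x : GolayPt → ℤ} (h : sqNorm x = 0) : x = 0 := by
  funext i
  have := (sum_eq_zero_iff_of_nonneg (fun i _ => sq_nonneg (x i))).mp h i (mem_univ _)
  simpa using this

/-- if termwise lower bounds add up to at least the total, they are attained -/
theorem eq_of_sum_le {f g : GolayPt → ℤ} (h : ∀ i, g i ≤ f i) (hs : ∑ i, f i ≤ ∑ i, g i) (i : GolayPt) :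
    f i = g i := by
  have h0 : ∑ i, (f i - g i) = 0 := by
    apply le_antisymm
    · rw [sum_sub_distrib]; omega
    · exact sum_nonneg fun i _ => by have := h i; omega
  have := (sum_eq_zero_iff_of_nonneg (fun i _ => by have := h i; omega)).mp h0 i (mem_univ _)
  omega

/-- shape (±4, ±4, 0^22) -/
def Shape1 (x : GolayPt → ℤ) : Prop :=
  ∃ a b, a ≠ b ∧ (x a = 4 ∨ x a = -4) ∧ (x b = 4 ∨ x b = -4) ∧ ∀ i, i ≠ a → i ≠ b → x i = 0

/-- shape (±2^8, 0^16) -/
def Shape2 (x : GolayPt → ℤ) : Prop :=
  ∃ O ∈ gSupports, O.card = 8 ∧ (∀ i ∈ O, x i = 2 ∨ x i = -2) ∧ (∀ i ∉ O, x i = 0) ∧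
    (∑ i, x i) % 8 = 0

/-- shape (∓3, ±1^23) -/
def Shape3 (x : GolayPt → ℤ) : Prop :=
  ∃ c ∈ gSupports, ∃ j, x j = (if j ∈ c then 3 else -3) ∧ ∀ i ≠ j, x i = if i ∈ c then -1 else 1

theorem sum_ite_mem' (S : Finset GolayPt) (a b : ℤ) :
    ∑ i, (if i ∈ S then a else b) = a * S.card + b * (24 - S.card) := by
  have : ∀ i, (if i ∈ S then a else b) = b + if i ∈ S then a - b else 0 := by
    intro i; split_ifs <;> ring
  simp only [this, sum_add_distrib, sum_const, card_univ, card_golayPt, sum_ite_mem, univ_inter]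
  simp only [nsmul_eq_mul]; push_cast; ring

theorem shape_of_le {x : GolayPt → ℤ} (hx : Lam x) (hn : sqNorm x ≤ 32) :
    x = 0 ∨ (sqNorm x = 32 ∧ (Shape1 x ∨ Shape2 x ∨ Shape3 x)) := by
  obtain ⟨m, h1, h2, h3⟩ := hx
  have hw := card_of_mem_gSupports h3
  unfold sqNorm at hn ⊢
  by_cases hm : m % 2 = 1
  · right
    -- odd vectors
    have hex : ∃ j, x j ≠ 1 ∧ x j ≠ -1 := by
      by_contra hc
      push Not at hc
      have : ∀ i, x i = if i ∈ hiSet x then -1 else 1 := by
        intro i
        have := hc i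
        simp only [mem_hiSet]
        split_ifs <;> omega
      have h4 : ∑ i, x i = _ := (sum_congr rfl fun i _ => this i).trans (sum_ite_mem' _ _ _)
      omega
    obtain ⟨j, hj1, hj2⟩ := hex
    have hle : ∀ i, (if i ∈ ({j} : Finset GolayPt) then (9 : ℤ) else 1) ≤ x i ^ 2 := by
      intro i
      have := h1 i
      split_ifs with hi
      · rw [mem_singleton] at hi; subst hi
        have : x i ≥ 3 ∨ x i ≤ -3 := by omega
        rcases this with h | h <;> nlinarith
      · have : x i ≥ 1 ∨ x i ≤ -1 := by omega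
        rcases this with h | h <;> nlinarith
    have hs := sum_ite_mem' {j} 9 1
    rw [card_singleton] at hs
    have heq := eq_of_sum_le hle (by rw [hs]; push_cast; omega)
    refine ⟨?_, Or.inr (Or.inr ⟨hiSet x, h3, j, ?_, fun i hi => ?_⟩)⟩
    · rw [sum_congr rfl fun i _ => heq i, hs]; norm_num
    · have := heq j
      rw [if_pos (mem_singleton_self j)] at this
      have h5 : x j = 3 ∨ x j = -3 := by
        have : (x j - 3) * (x j + 3) = 0 := by ring_nf; omega
        rcases mul_eq_zero.mp this with h | h <;> omega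
      simp only [mem_hiSet]
      split_ifs <;> omega
    · have := heq i
      rw [if_neg (by simpa using hi)] at this
      have h5 : x i = 1 ∨ x i = -1 := by
        have : (x i - 1) * (x i + 1) = 0 := by ring_nf; omega
        rcases mul_eq_zero.mp this with h | h <;> omega
      simp only [mem_hiSet]
      split_ifs <;> omega
  · by_cases hS : (hiSet x).card = 0
    · -- all coordinates divisible by 4
      have h4 : ∀ i, x i % 4 = 0 := by
        intro i
        have h5 : i ∉ hiSet x := by rw [card_eq_zero.mp hS]; simp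
        have := h1 i
        simp only [mem_hiSet] at h5
        omega
      by_cases h0 : x = 0
      · exact Or.inl h0
      right
      obtain ⟨a, ha⟩ := Function.ne_iff.mp h0
      simp only [Pi.zero_apply] at ha
      have hsq : ∀ i, x i ≠ 0 → 16 ≤ x i ^ 2 := by
        intro i hi
        have := h4 i
        have : x i ≥ 4 ∨ x i ≤ -4 := by omega
        rcases this with h | h <;> nlinarith
      have hb : ∃ b, b ≠ a ∧ x b ≠ 0 := by
        by_contra hc
        push Not at hc
        have e1 : ∑ i, x i = x a := sum_eq_single a (fun b _ hb => hc b hb) (by simp)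
        have e2 : ∑ i, x i ^ 2 = x a ^ 2 :=
          sum_eq_single a (fun b _ hb => by rw [hc b hb]; simp) (by simp)
        have : x a ≥ 8 ∨ x a ≤ -8 := by omega
        rcases this with h | h <;> nlinarith
      obtain ⟨b, hba, hb⟩ := hb
      have hle : ∀ i, (if i ∈ ({a, b} : Finset GolayPt) then (16 : ℤ) else 0) ≤ x i ^ 2 := by
        intro i
        split_ifs with hi
        · simp only [mem_insert, mem_singleton] at hi
          rcases hi with rfl | rfl
          · exact hsq _ ha
          · exact hsq _ hb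
        · exact sq_nonneg _
      have hs := sum_ite_mem' {a, b} 16 0
      rw [card_pair hba.symm] at hs
      have heq := eq_of_sum_le hle (by rw [hs]; push_cast; omega)
      have h16 : ∀ i, x i ^ 2 = 16 → x i = 4 ∨ x i = -4 := by
        intro i hi
        have : (x i - 4) * (x i + 4) = 0 := by ring_nf; omega
        rcases mul_eq_zero.mp this with h | h <;> omega
      refine ⟨?_, Or.inl ⟨a, b, hba.symm, h16 a ?_, h16 b ?_, fun i hi1 hi2 => ?_⟩⟩
      · rw [sum_congr rfl fun i _ => heq i, hs]; norm_num
      · rw [heq a, if_pos (by simp)]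
      · rw [heq b, if_pos (by simp)]
      · have := heq i
        rw [if_neg (by simp [hi1, hi2])] at this
        simpa using this
    · right
      have hle : ∀ i, (if i ∈ hiSet x then (4 : ℤ) else 0) ≤ x i ^ 2 := by
        intro i
        split_ifs with hi
        · have := h1 i
          rw [mem_hiSet] at hi
          have : x i ≥ 2 ∨ x i ≤ -2 := by omega
          rcases this with h | h <;> nlinarith
        · exact sq_nonneg _
      have hs := sum_ite_mem' (hiSet x) 4 0
      have hle2 := sum_le_sum fun i (_ : i ∈ (univ : Finset GolayPt)) => hle i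
      have h8 : (hiSet x).card = 8 := by omega
      rw [h8] at hs
      have heq := eq_of_sum_le hle (by rw [hs]; push_cast; omega)
      refine ⟨?_, Or.inr (Or.inl ⟨hiSet x, h3, h8, fun i hi => ?_, fun i hi => ?_, by omega⟩)⟩
      · rw [sum_congr rfl fun i _ => heq i, hs]; norm_num
      · have := heq i
        rw [if_pos hi] at this
        have : (x i - 2) * (x i + 2) = 0 := by ring_nf; omega
        rcases mul_eq_zero.mp this with h | h <;> omega
      · have := heq i
        rw [if_neg hi] at this
        simpa using this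

theorem Lam.eq_zero_of_lt {x : GolayPt → ℤ} (hx : Lam x) (hn : sqNorm x < 32) : x = 0 := by
  rcases shape_of_le hx hn.le with h | h
  · exact h
  · omega

theorem Lam.shape {x : GolayPt → ℤ} (hx : Lam x) (hn : sqNorm x = 32) :
    Shape1 x ∨ Shape2 x ∨ Shape3 x := by
  rcases shape_of_le hx hn.le with h | h
  · rw [h] at hn; simp [sqNorm] at hn
  · exact h.2

theorem lam_eight_smul (x : GolayPt → ℤ) : Lam ((8 : ℤ) • x) := by
  refine ⟨0, fun i => ?_, ?_, ?_⟩
  · simp only [Pi.smul_apply, smul_eq_mul]; omega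
  · simp only [Pi.smul_apply, smul_eq_mul, ← mul_sum]; omega
  · have : hiSet ((8 : ℤ) • x) = ∅ := by
      ext i; simp only [mem_hiSet, Pi.smul_apply, smul_eq_mul, notMem_empty, iff_false]; omega
    rw [this]; exact empty_mem_supports_golayCode

theorem lam_four_smul {x : GolayPt → ℤ} (h : (∑ i, x i) % 2 = 0) : Lam ((4 : ℤ) • x) := by
  refine ⟨0, fun i => ?_, ?_, ?_⟩
  · simp only [Pi.smul_apply, smul_eq_mul]; omega
  · simp only [Pi.smul_apply, smul_eq_mul, ← mul_sum]; omega
  · have : hiSet ((4 : ℤ) • x) = ∅ := by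
      ext i; simp only [mem_hiSet, Pi.smul_apply, smul_eq_mul, notMem_empty, iff_false]; omega
    rw [this]; exact empty_mem_supports_golayCode

/-- twice the indicator of a set -/
def twoInd (c : Finset GolayPt) : GolayPt → ℤ := fun i => if i ∈ c then 2 else 0

theorem hiSet_twoInd (c : Finset GolayPt) : hiSet (twoInd c) = c := by
  ext i; simp only [mem_hiSet, twoInd]; split_ifs with h <;> simp [h]

theorem lam_twoInd {c : Finset GolayPt} : Lam (twoInd c) ↔ c ∈ gSupports := by
  constructor
  · rintro ⟨m, -, -, h⟩; rwa [hiSet_twoInd] at h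
  · intro h
    refine ⟨0, fun i => ?_, ?_, by rwa [hiSet_twoInd]⟩
    · simp only [twoInd]; split_ifs <;> rfl
    · have := card_of_mem_gSupports h
      simp only [twoInd]
      rw [sum_ite_mem']; omega

/-- a vector of the lattice divisible by 3 and short is zero -/
theorem eq_zero_of_three_dvd {x : GolayPt → ℤ} (hx : Lam x) (h3 : ∀ i, (3 : ℤ) ∣ x i)
    (hn : sqNorm x < 288) : x = 0 := by
  choose w hw using h3
  have e : w = (3 : ℤ) • x + -((8 : ℤ) • w) := by
    funext i; simp only [Pi.add_apply, Pi.smul_apply, Pi.neg_apply, smul_eq_mul, hw i]; ring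
  have hl : Lam w := by
    rw [e]
    exact (mem_leechLattice_iff.mp (leechLattice.zsmul_mem (mem_leechLattice_iff.mpr hx) 3)).add
      (lam_eight_smul w).neg
  have : sqNorm x = 9 * sqNorm w := by
    simp only [sqNorm, hw, mul_sum]; apply sum_congr rfl; intro i _; ring
  have h0 := hl.eq_zero_of_lt (by omega)
  funext i; rw [hw i, h0]; simp

theorem sqNorm_sub_le (x y : GolayPt → ℤ) : sqNorm (x - y) ≤ 2 * sqNorm x + 2 * sqNorm y := by
  simp only [sqNorm, mul_sum, ← sum_add_distrib, Pi.sub_apply]
  apply sum_le_sum; intro i _; nlinarith [sq_nonneg (x i + y i)]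

theorem sqNorm_add (x y : GolayPt → ℤ) : sqNorm (x + y) = sqNorm x + 2 * dotInt x y + sqNorm y := by
  simp only [sqNorm, dotInt, mul_sum, ← sum_add_distrib, Pi.add_apply]
  apply sum_congr rfl; intro i _; ring

/-! ### Elements of `Co0` -/

theorem Co0_add {f : Equiv.Perm leechLattice} (hf : f ∈ Co0) (x y : leechLattice) :
    f (x + y) = f x + f y := hf.1 x y

theorem Co0_norm {f : Equiv.Perm leechLattice} (hf : f ∈ Co0) (x : leechLattice) :
    sqNorm ((f x : leechLattice) : GolayPt → ℤ) = sqNorm (x : GolayPt → ℤ) := hf.2 x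

/-- an element of `Co0` as an additive map -/
def co0Hom {f : Equiv.Perm leechLattice} (hf : f ∈ Co0) : leechLattice →+ leechLattice :=
  AddMonoidHom.mk' f hf.1

theorem Co0_dot {f : Equiv.Perm leechLattice} (hf : f ∈ Co0) (x y : leechLattice) :
    dotInt ((f x : leechLattice) : GolayPt → ℤ) (f y) = dotInt (x : GolayPt → ℤ) y := by
  have h1 := Co0_norm hf (x + y)
  rw [Co0_add hf, AddSubgroup.coe_add, AddSubgroup.coe_add, sqNorm_add, sqNorm_add, Co0_norm hf,
    Co0_norm hf] at h1
  omega

/-- the frame vector `8 e_j` -/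
def e8 (j : GolayPt) : leechLattice :=
  ⟨(8 : ℤ) • Pi.single j 1, mem_leechLattice_iff.mpr (lam_eight_smul _)⟩

theorem e8_apply (j i : GolayPt) : (e8 j : GolayPt → ℤ) i = if i = j then 8 else 0 := by
  simp only [e8, Pi.smul_apply, Pi.single_apply, smul_eq_mul]; split_ifs <;> simp

theorem sqNorm_e8 (j : GolayPt) : sqNorm (e8 j : GolayPt → ℤ) = 64 := by
  simp only [sqNorm, e8_apply]
  rw [sum_eq_single j (fun b _ hb => by simp [hb]) (by simp)]; simp

theorem eight_smul_eq (x : leechLattice) :
    (8 : ℤ) • x = ∑ j, (x : GolayPt → ℤ) j • e8 j := by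
  apply Subtype.ext
  funext i
  rw [AddSubgroup.val_finsetSum]
  simp only [AddSubgroup.coe_zsmul, Pi.smul_apply, smul_eq_mul, Finset.sum_apply, e8_apply]
  rw [sum_eq_single i (fun b _ hb => by simp [hb.symm]) (by simp)]; simp [mul_comm]

theorem Co0_apply {f : Equiv.Perm leechLattice} (hf : f ∈ Co0) (x : leechLattice) (i : GolayPt) :
    8 * ((f x : leechLattice) : GolayPt → ℤ) i =
      ∑ j, (x : GolayPt → ℤ) j * ((f (e8 j) : leechLattice) : GolayPt → ℤ) i := by
  have h : (8 : ℤ) • f x = ∑ j, (x : GolayPt → ℤ) j • f (e8 j) := by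
    have := congrArg (co0Hom hf) (eight_smul_eq x)
    rw [map_zsmul, map_sum] at this
    simp only [map_zsmul] at this
    exact this
  have := congrFun (congrArg Subtype.val h) i
  rw [AddSubgroup.val_finsetSum] at this
  simpa only [AddSubgroup.coe_zsmul, Pi.smul_apply, smul_eq_mul, Finset.sum_apply] using this

theorem Co0_ext {f g : Equiv.Perm leechLattice} (hf : f ∈ Co0) (hg : g ∈ Co0)
    (h : ∀ j, f (e8 j) = g (e8 j)) : f = g := by
  apply Equiv.ext
  intro x
  apply Subtype.ext
  funext i
  have h1 := Co0_apply hf x i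
  have h2 := Co0_apply hg x i
  simp only [h] at h1
  omega

theorem eq_of_mod_three {x y : leechLattice} (hn : sqNorm (x : GolayPt → ℤ) ≤ 64)
    (hn' : sqNorm (y : GolayPt → ℤ) ≤ 64)
    (h : ∀ i, (((x : GolayPt → ℤ) i : ℤ) : ZMod 3) = (((y : GolayPt → ℤ) i : ℤ) : ZMod 3)) : x = y := by
  have := eq_zero_of_three_dvd (mem_leechLattice_iff.mp (x - y).2) (fun i => by
    have := (ZMod.intCast_eq_intCast_iff_dvd_sub _ _ 3).mp (h i).symm
    simpa using this) (by
      have := sqNorm_sub_le (x : GolayPt → ℤ) y
      rw [AddSubgroup.coe_sub]; omega)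
  exact sub_eq_zero.mp (Subtype.ext this)

end Cfsg.Agent.H9
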