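import Cfsg.Agent.H9.CodeRA
import Cfsg.Agent.H9.Co0Bound

/-! Numbered actions of subgroups of `Co0` on vectors modulo 3 and on pairs of such vectors. -/

set_option autoImplicit false

namespace Cfsg.Agent.H9

open Finset Cfsg Cfsg.Spor

/-- the rows of a code as functionals on the lattice -/
def sem (V : ℕ) (x : leechLattice) (i : GolayPt) : ZMod 3 :=
  ∑ j, (P3.ent V (idx i) (idx j) : ZMod 3) * (((x : GolayPt → ℤ) j : ℤ) : ZMod 3)

theorem sem_mul {a V : ℕ} {f : Equiv.Perm leechLattice} (hf : LRep a f) (hV : P3.Valid V) :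
    sem (P3.mul V a) = sem V ∘ f := by
  funext x i
  simp only [sem, Function.comp, hf.2.2, mul_sum]
  rw [sum_comm]
  apply sum_congr rfl
  intro j _
  rw [PM.ent_mul P3_ok hV hf.2.1 (idx_lt i) (idx_lt j)]
  have e : P3.p = 3 := rfl
  have e' : P3.N = 24 := rfl
  rw [e, e', ZMod.natCast_mod, ← sum_idx]
  push_cast
  rw [sum_mul]
  apply sum_congr rfl
  intro l _; ring

theorem sem_inj {a b : ℕ} (ha : P3.Valid a) (hb : P3.Valid b) (h : sem a = sem b) : a = b := by
  apply PM.eq_of_ent P3_ok ha hb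
  intro i hi j hj
  have h1 := congrFun (congrFun h (e8 (pt j))) (pt i)
  simp only [sem, e8_apply] at h1
  rw [sum_eq_single (pt j) (fun b _ hb => by simp [hb]) (by simp),
    sum_eq_single (pt j) (fun b _ hb => by simp [hb]) (by simp), idx_pt hi, idx_pt hj] at h1
  have h2 : P3.ent a i j < 3 := ha.2 _
  have h3 : P3.ent b i j < 3 := hb.2 _
  simp only [if_true] at h1
  generalize P3.ent a i j = u at *
  generalize P3.ent b i j = v at *
  interval_cases u <;> interval_cases v <;> first | rfl | exact absurd h1 (by decide)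

theorem sem_lin {U V : ℕ} (hU : P3.Valid U) (hV : P3.Valid V) :
    sem (P3.lin U 2 V) = sem U - sem V := by
  funext x i
  simp only [sem, Pi.sub_apply, ← sum_sub_distrib]
  apply sum_congr rfl
  intro j _
  rw [PM.ent_lin P3_ok (by decide) hU hV (idx_lt i) (idx_lt j)]
  have e : P3.p = 3 := rfl
  rw [e, ZMod.natCast_mod]
  push_cast
  have : (2 : ZMod 3) = -1 := rfl
  rw [this]; ring

/-- mask for the first row -/
def m3 : ℕ := 0x1800c006003001800c006003001800c006003001800c006003001800c006003001800c006003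

/-- quick validity test for row vectors -/
def vOK (V : ℕ) : Bool := Nat.beq (Nat.land V m3) V && Nat.beq (P3.red V) V

theorem valid_of_vOK {V : ℕ} (h : vOK V = true) : P3.Valid V := by
  simp only [vOK, Bool.and_eq_true, Nat.beq_eq] at h
  refine PM.valid_of_mask P3_ok (m := m3) (by decide +kernel)
    (PM.look_le_of_lt (n := 24) (by decide +kernel) (by decide +kernel)) h.1 h.2

/-- the letter `s` is given by the integer matrix `Xs s` with reduction `as s` -/
noncomputable def genB (P : ℕ → Bool) (Xs as : ℕ → ℕ) (s : ℕ) : Bool :=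
  checkCo0 (Xs s) && checkRed (Xs s) (as s) && P (as s)

theorem exists_gens {H : Subgroup (Equiv.Perm leechLattice)} {P : ℕ → Bool}
    (hP : ∀ a f, LRep a f → P a = true → f ∈ H) {k : ℕ} {Xs as : ℕ → ℕ}
    (h : allLt k (genB P Xs as) = true) : ∃ g : ℕ → H, ∀ s < k, LRep (as s) (g s) := by
  have key : ∀ s, ∃ f : H, s < k → LRep (as s) f := by
    intro s
    by_cases hs : s < k
    · have h1 := (allLt_iff _ _).mp h s hs
      simp only [genB, Bool.and_eq_true] at h1
      have h2 := lrep_co0Of h1.1.1 h1.1.2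
      exact ⟨⟨_, hP _ _ h2 h1.2⟩, fun _ => h2⟩
    · exact ⟨1, fun h => absurd h hs⟩
  choose g hg using key
  exact ⟨g, hg⟩

/-- check of the point `c`, single vectors -/
noncomputable def vecB (V : ℕ → ℕ) (T : ℕ → ℕ → ℕ) (as : ℕ → ℕ) (N k c : ℕ) : Bool :=
  Nat.rec (motive := fun _ => Bool) false (fun u _ =>
    vOK u && (Nat.beq c 0 || Nat.blt (V (Nat.pred c)) u) &&
    allLt k fun s => Nat.blt (T c s) N && Nat.beq (P3.mul u (as s)) (V (T c s))) (Nat.succ (V c))

/-- check of the point `c`, pairs of vectors with sum `U` -/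
noncomputable def pairB (U : ℕ) (V : ℕ → ℕ) (T : ℕ → ℕ → ℕ) (as : ℕ → ℕ) (N k c : ℕ) : Bool :=
  Nat.rec (motive := fun _ => Bool) false (fun u _ =>
    vOK u && (Nat.beq c 0 || Nat.blt (V (Nat.pred c)) u) && Nat.blt u (P3.lin U 2 u) &&
    allLt k fun s => Nat.blt (T c s) N &&
      Nat.rec (motive := fun _ => Bool) false (fun y _ =>
        Nat.rec (motive := fun _ => Bool) false (fun z _ =>
          Nat.beq y z || Nat.beq y (P3.lin U 2 z)) (Nat.succ (V (T c s))))
        (Nat.succ (P3.mul u (as s)))) (Nat.succ (V c))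

theorem exists_ra_vec {H : Subgroup (Equiv.Perm leechLattice)} {N k : ℕ} {V as : ℕ → ℕ}
    {T : ℕ → ℕ → ℕ} {g : ℕ → H} (hg : ∀ s < k, LRep (as s) (g s))
    (h : ∀ c < N, vecB V T as N k c = true)
    (hfull : ∀ (K : Subgroup H) (A : RA K N) (g0 : ℕ → K), A.Tab g0 k T → K = ⊤) :
    ∃ A : RA H N, A.Tab g k T := by
  have h' : ∀ c < N, (vOK (V c) = true ∧ (c = 0 ∨ V (c - 1) < V c)) ∧
      ∀ s < k, T c s < N ∧ P3.mul (V c) (as s) = V (T c s) := by
    intro c hc
    have : (vOK (V c) && (Nat.beq c 0 || Nat.blt (V (c - 1)) (V c)) &&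
      allLt k fun s => Nat.blt (T c s) N && Nat.beq (P3.mul (V c) (as s)) (V (T c s))) = true := h c hc
    simpa only [Bool.and_eq_true, Bool.or_eq_true, Nat.beq_eq, Nat.blt_eq, allLt_iff] using this
  obtain ⟨A, hA, -⟩ := exists_ra_hom (N := N) (k := k) (T := T)
    (fun (φ : leechLattice → GolayPt → ZMod 3) (x : H) => φ ∘ x.1) (fun _ => rfl) (fun _ _ _ => rfl)
    (MonoidHom.id H) (fun c => sem (V c))
    (fun c hc d hd e => inj_of_incr (fun c hc => (h' c hc).1.2) c hc d hd
      (sem_inj (valid_of_vOK (h' c hc).1.1) (valid_of_vOK (h' d hd).1.1) e))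
    (fun x hx c _ => by have : x = 1 := hx; rw [this]; rfl) g
    (fun s hs c hc => ⟨((h' c hc).2 s hs).1, by
      rw [← ((h' c hc).2 s hs).2, sem_mul (hg s hs) (valid_of_vOK (h' c hc).1.1)]⟩) hfull
  exact ⟨A, hA⟩

theorem exists_ra_pair {H : Subgroup (Equiv.Perm leechLattice)} {G : Type*} [Group G] (f : H →* G)
    {N k U : ℕ} {V as : ℕ → ℕ} {T : ℕ → ℕ → ℕ} {g : ℕ → H} (hg : ∀ s < k, LRep (as s) (g s))
    (hU : (vOK U && allLt k fun s => Nat.beq (P3.mul U (as s)) U) = true)
    (hker : ∀ x, f x = 1 → x = 1 ∨ (U = 0 ∧ ∀ y, x.1 y = -y))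
    (h : ∀ c < N, pairB U V T as N k c = true)
    (hfull : ∀ (K : Subgroup G) (A : RA K N) (g0 : ℕ → K), A.Tab g0 k T → K = ⊤) :
    ∃ A : RA G N, A.Tab (fun s => f (g s)) k T := by
  have h' : ∀ c < N, ((vOK (V c) = true ∧ (c = 0 ∨ V (c - 1) < V c)) ∧ V c < P3.lin U 2 (V c)) ∧
      ∀ s < k, T c s < N ∧ (P3.mul (V c) (as s) = V (T c s) ∨
        P3.mul (V c) (as s) = P3.lin U 2 (V (T c s))) := by
    intro c hc
    have : (vOK (V c) && (Nat.beq c 0 || Nat.blt (V (c - 1)) (V c)) &&
      Nat.blt (V c) (P3.lin U 2 (V c)) &&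
      allLt k fun s => Nat.blt (T c s) N && (Nat.beq (P3.mul (V c) (as s)) (V (T c s)) ||
        Nat.beq (P3.mul (V c) (as s)) (P3.lin U 2 (V (T c s))))) = true := h c hc
    simpa only [Bool.and_eq_true, Bool.or_eq_true, Nat.beq_eq, Nat.blt_eq, allLt_iff] using this
  simp only [Bool.and_eq_true, allLt_iff, Nat.beq_eq] at hU
  have hUv := valid_of_vOK hU.1
  have hv : ∀ c < N, P3.Valid (V c) := fun c hc => valid_of_vOK (h' c hc).1.1.1
  have hl : ∀ c < N, P3.Valid (P3.lin U 2 (V c)) := fun c hc =>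
    PM.valid_lin P3_ok (by decide) hUv (hv c hc)
  obtain ⟨A, hA, -⟩ := exists_ra_hom (N := N) (k := k) (T := T)
    (fun (S : Set (leechLattice → GolayPt → ZMod 3)) (x : H) => (fun φ => φ ∘ x.1) '' S)
    (fun S => by simp) (fun S a b => by rw [Set.image_image]; rfl)
    f (fun c => {sem (V c), sem U - sem (V c)})
    (fun c hc d hd e => by
      have h1 : sem (V c) ∈ ({sem (V d), sem U - sem (V d)} : Set _) := e ▸ Or.inl rfl
      rcases h1 with h1 | h1
      · exact inj_of_incr (fun c hc => (h' c hc).1.1.2) c hc d hd (sem_inj (hv c hc) (hv d hd) h1)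
      · exfalso
        have h2 : V c = P3.lin U 2 (V d) :=
          sem_inj (hv c hc) (hl d hd) (by rw [sem_lin hUv (hv d hd)]; exact h1)
        have h3 : V d = P3.lin U 2 (V c) :=
          sem_inj (hv d hd) (hl c hc) (by rw [sem_lin hUv (hv c hc), h1]; simp)
        have := (h' c hc).1.2
        have := (h' d hd).1.2
        omega)
    (fun x hx c _ => by
      rcases hker x hx with rfl | ⟨h0, h1⟩
      · simp
      · have h2 : ∀ W, sem W ∘ x.1 = -sem W := fun W => by
          funext y i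
          simp [sem, h1]
        have h3 : sem 0 = 0 := by
          funext y i
          simp [sem, PM.ent, look_eq]
        have h4 : (-sem (V c)) ∘ x.1 = sem (V c) := by
          funext y i
          simp [sem, h1]
        rw [Set.image_pair, h0, h3, zero_sub, h2, h4, Set.pair_comm]) g
    (fun s hs c hc => ⟨((h' c hc).2 s hs).1, by
      have h1 : (sem U - sem (V c)) ∘ (g s).1 = sem U - sem (V c) ∘ (g s).1 := by
        have h0 := sem_mul (hg s hs) hUv
        rw [hU.2 s hs] at h0
        generalize sem U = φ at h0 ⊢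
        generalize sem (V c) = ψ
        funext y
        rw [Function.comp_apply, Pi.sub_apply, Pi.sub_apply, congrFun h0 y]
        rfl
      rw [Set.image_pair, h1, ← sem_mul (hg s hs) (hv c hc)]
      rcases ((h' c hc).2 s hs).2 with h2 | h2
      · rw [h2]
      · rw [h2, sem_lin hUv (hv _ ((h' c hc).2 s hs).1), Set.pair_comm]; simp⟩) hfull
  exact ⟨A, hA⟩

theorem memHS : ∀ a f, LRep a f →
    (fun a => mapsVec a resV resV && mapsVec a resU' resU') a = true → f ∈ HS := fun _ _ h h1 => by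
  simp only [Bool.and_eq_true] at h1
  exact h.mem_HS h1.1 h1.2

theorem memMcL : ∀ a f, LRep a f →
    (fun a => mapsVec a resV resV && mapsVec a resU resU) a = true → f ∈ McL := fun _ _ h h1 => by
  simp only [Bool.and_eq_true] at h1
  exact h.mem_McL h1.1 h1.2

theorem memCo3 : ∀ a f, LRep a f → (fun a => mapsVec a resV resV) a = true → f ∈ Co3 :=
  fun _ _ h h1 => h.mem_Co3 h1

theorem memCo2 : ∀ a f, LRep a f → (fun a => mapsVec a resU resU) a = true → f ∈ Co2 :=
  fun _ _ h h1 => h.mem_Co2 h1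

theorem memCo0 : ∀ a f, LRep a f → (fun _ => true) a = true → f ∈ Co0 := fun _ _ h _ => h.1

end Cfsg.Agent.H9
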