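import Cfsg.Agent.H9.LeechRA
import Cfsg.Agent.H9.Big2

/-! The quotient of `Co0` by the sign. -/

set_option autoImplicit false

namespace Cfsg.Agent.H9

open Cfsg Cfsg.Spor

/-- pull an action back along a homomorphism -/
def RA.comap {G H : Type*} [Group G] [Group H] {N : ℕ} (A : RA G N) (f : H →* G) : RA H N where
  act c x := A.act c (f x)
  lt hc _ := A.lt hc _
  one hc := by rw [map_one, A.one hc]
  mul hc x y := by rw [map_mul, A.mul hc]

theorem zpowers_negOne_le : Subgroup.zpowers negOne ≤ Subgroup.center Co0 :=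
  (Subgroup.zpowers_le_of_mem negOne_mem_center)

instance instNormalNegOne : (Subgroup.zpowers negOne).Normal :=
  ⟨fun n hn g => by
    rw [Subgroup.mem_center_iff.mp (zpowers_negOne_le hn) g, mul_inv_cancel_right]; exact hn⟩

/-- `Co0` modulo the sign -/
abbrev Co0q : Type := Co0 ⧸ Subgroup.zpowers negOne

theorem orderOf_negOne : orderOf negOne = 2 :=
  orderOf_eq_prime (by rw [sq, negOne_mul_self]) negOne_ne_one

theorem card_Co0q_le : Nat.card Co0q ≤ 4157776806543360000 := by
  have h1 := Subgroup.card_eq_card_quotient_mul_card_subgroup (Subgroup.zpowers negOne)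
  rw [Nat.card_zpowers, orderOf_negOne] at h1
  have h3 := card_Co0_le
  show Nat.card (Co0 ⧸ Subgroup.zpowers negOne) ≤ _
  omega

theorem ker_negOne : ∀ x : Co0, QuotientGroup.mk' (Subgroup.zpowers negOne) x = 1 →
    x = 1 ∨ (nat_lit 0 = 0 ∧ ∀ y, x.1 y = -y) := by
  intro x hx
  rw [QuotientGroup.mk'_apply, QuotientGroup.eq_one_iff] at hx
  classical
  rw [mem_zpowers_iff_mem_range_orderOf, orderOf_negOne] at hx
  obtain ⟨m, hm, rfl⟩ := Finset.mem_image.mp hx
  rw [Finset.mem_range] at hm
  interval_cases m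
  · exact Or.inl (pow_zero _)
  · exact Or.inr ⟨rfl, fun y => by rw [pow_one]; rfl⟩

end Cfsg.Agent.H9
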