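import Cfsg.Agent.H9.OutChk
import Cfsg.Agent.H9.M24Bound

/-! The action of subgroups of the symmetric group on the 24 points as a numbered action. -/

set_option autoImplicit false

namespace Cfsg.Agent.H9

open Cfsg Cfsg.Spor

/-- the action on the numbers of the 24 points -/
def mathRA (H : Subgroup (Equiv.Perm GolayPt)) : RA H 24 where
  act c σ := idx (σ.1⁻¹ (pt c))
  lt _ _ := idx_lt _
  one hc := idx_pt hc
  mul _ x y := by simp [pt_idx]

/-- the column `s` of `T` is the table `t` with inverse `ti`, in `M24`, with the extra property -/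
noncomputable def colB (T : ℕ → ℕ → ℕ) (P : ℕ → Bool) (ts tis : ℕ → ℕ) (s : ℕ) : Bool :=
  checkPerm (ts s) (tis s) && checkM24 (ts s) && P (ts s) &&
    allLt 24 fun c => Nat.beq (T c s) (look 5 (ts s) c)

theorem exists_tab_math {H : Subgroup (Equiv.Perm GolayPt)} {T : ℕ → ℕ → ℕ} {P : ℕ → Bool}
    (hP : ∀ σ t, Rep σ t → checkM24 t = true → P t = true → σ ∈ H) {k : ℕ} {ts tis : ℕ → ℕ}
    (h : allLt k (colB T P ts tis) = true) : ∃ g : ℕ → H, (mathRA H).Tab g k T := by
  have key : ∀ s, ∃ σ : H, s < k → ∀ c < 24, T c s = (mathRA H).act c σ := by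
    intro s
    by_cases hs : s < k
    · have h1 := (allLt_iff _ _).mp h s hs
      simp only [colB, Bool.and_eq_true, allLt_iff, Nat.beq_eq] at h1
      have hr := rep_permOf _ _ h1.1.1.1
      refine ⟨⟨(permOf _ _ h1.1.1.1)⁻¹, inv_mem (hP _ _ hr h1.1.1.2 h1.1.2)⟩, fun _ c hc => ?_⟩
      show _ = idx ((permOf _ _ h1.1.1.1)⁻¹⁻¹ (pt c))
      rw [inv_inv, hr, idx_pt hc, h1.2 c hc]
    · exact ⟨1, fun h => absurd h hs⟩
  choose g hg using key
  exact ⟨g, fun s hs => hg s hs⟩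

theorem memP24 : ∀ σ t, Rep σ t → checkM24 t = true → (fun _ => true) t = true → σ ∈ M24 :=
  fun _ _ h h1 _ => h.mem_M24 h1

theorem memP23 : ∀ σ t, Rep σ t → checkM24 t = true →
    (fun t => Nat.beq (look 5 t 23) 23) t = true → σ ∈ M23 :=
  fun _ _ h h1 h2 => h.mem_M23 h1 (Nat.eq_of_beq_eq_true h2)

theorem memP22 : ∀ σ t, Rep σ t → checkM24 t = true →
    (fun t => Nat.beq (look 5 t 23) 23 && Nat.beq (look 5 t 0) 0) t = true → σ ∈ M22 :=
  fun _ _ h h1 h2 => by
    simp only [Bool.and_eq_true, Nat.beq_eq] at h2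
    exact h.mem_M22 h1 h2.1 h2.2

theorem memP12 : ∀ σ t, Rep σ t → checkM24 t = true →
    (fun t => Nat.beq (preMask t 340831) 340831) t = true → σ ∈ M12 :=
  fun _ _ h h1 h2 => h.mem_M12 h1 (Nat.eq_of_beq_eq_true h2)

theorem memP11 : ∀ σ t, Rep σ t → checkM24 t = true →
    (fun t => Nat.beq (preMask t 340831) 340831 && Nat.beq (look 5 t 0) 0) t = true → σ ∈ M11 :=
  fun _ _ h h1 h2 => by
    simp only [Bool.and_eq_true, Nat.beq_eq] at h2
    exact h.mem_M11 h1 h2.1 h2.2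

end Cfsg.Agent.H9
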