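import Cfsg.Agent.H9.Co0Model

/-! Counting minimal vectors of the Leech lattice with prescribed invariants. -/

set_option autoImplicit false
set_option maxRecDepth 100000

namespace Cfsg.Agent.H9

open Cfsg Cfsg.Spor Finset

/-- at most `n` elements satisfy `P` -/
def Covers {X : Type*} (n : ℕ) (P : X → Prop) : Prop := ∃ S : Finset X, S.card ≤ n ∧ ∀ x, P x → x ∈ S

theorem Covers.mono {X : Type*} {n : ℕ} {P Q : X → Prop} (h : Covers n P) (H : ∀ x, Q x → P x) :
    Covers n Q := by
  obtain ⟨S, h1, h2⟩ := h
  exact ⟨S, h1, fun x hx => h2 x (H x hx)⟩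

theorem Covers.or {X : Type*} {n m : ℕ} {P Q : X → Prop} (h : Covers n P) (h' : Covers m Q) :
    Covers (n + m) fun x => P x ∨ Q x := by
  classical
  obtain ⟨S, h1, h2⟩ := h
  obtain ⟨T, h3, h4⟩ := h'
  refine ⟨S ∪ T, (card_union_le _ _).trans (Nat.add_le_add h1 h3), fun x hx => ?_⟩
  rcases hx with hx | hx
  · exact mem_union_left _ (h2 x hx)
  · exact mem_union_right _ (h4 x hx)

theorem Covers.false {X : Type*} (n : ℕ) : Covers n fun _ : X => False := ⟨∅, by simp, by simp⟩

/-- 1 or 0 -/
noncomputable def ind (b : Bool) : ℕ := Bool.rec (motive := fun _ => ℕ) 0 1 b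

theorem Covers.single {X : Type*} (b : Bool) (x0 : X) : Covers (ind b) fun x => b = true ∧ x = x0 := by
  cases b with
  | false => exact (Covers.false _).mono (by simp)
  | true => exact ⟨{x0}, by simp [ind], by simp⟩

/-- `n` if `b`, else 0 -/
noncomputable def guard (b : Bool) (n : ℕ) : ℕ := Bool.rec (motive := fun _ => ℕ) 0 n b

theorem Covers.guard {X : Type*} (b : Bool) {n : ℕ} {P : X → Prop} (h : b = true → Covers n P) :
    Covers (guard b n) fun x => b = true ∧ P x := by
  cases b with
  | false => exact (Covers.false _).mono (by simp)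
  | true => exact (h rfl).mono (by simp)

theorem Covers.sumN {X : Type*} (n : ℕ) {f : ℕ → ℕ} {P : ℕ → X → Prop}
    (h : ∀ i < n, Covers (f i) (P i)) : Covers (sumN n f) fun x => ∃ i < n, P i x := by
  induction n with
  | zero => exact (Covers.false _).mono (by simp)
  | succ n ih =>
    refine ((ih fun i hi => h i (by omega)).or (h n (by omega))).mono ?_
    rintro x ⟨i, hi, hx⟩
    rcases Nat.lt_succ_iff_lt_or_eq.mp hi with h1 | rfl
    · exact Or.inl ⟨i, h1, hx⟩
    · exact Or.inr hx

/-- sum of `f (acc ^^^ m)` over the span -/
noncomputable def sumSpan (f : ℕ → ℕ) (bs : List ℕ) : ℕ → ℕ :=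
  List.rec (motive := fun _ => ℕ → ℕ) f
    (fun b _ ih acc => Nat.add (ih acc) (ih (Nat.xor acc b))) bs

theorem Covers.sumSpan {X : Type*} {f : ℕ → ℕ} {P : ℕ → X → Prop} (h : ∀ m, Covers (f m) (P m))
    (bs : List ℕ) (acc : ℕ) :
    Covers (sumSpan f bs acc) fun x => ∃ m, InSpan bs m ∧ P (acc ^^^ m) x := by
  induction bs generalizing acc with
  | nil =>
    refine (h acc).mono ?_
    rintro x ⟨m, hm, hx⟩
    simp only [InSpan] at hm
    rwa [hm, Nat.xor_zero] at hx
  | cons b bs ih =>
    refine ((ih acc).or (ih (acc ^^^ b))).mono ?_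
    rintro x ⟨m, hm | hm, hx⟩
    · exact Or.inl ⟨m, hm, hx⟩
    · refine Or.inr ⟨_, hm, ?_⟩
      rwa [Nat.xor_assoc, Nat.xor_comm m b, ← Nat.xor_assoc b b, Nat.xor_self, Nat.zero_xor]

/-- the single-bit masks of the set bits below `n` -/
noncomputable def bitsOf (O n : ℕ) : List ℕ :=
  Nat.rec (motive := fun _ => List ℕ) []
    (fun i ih => Bool.rec (motive := fun _ => List ℕ) ih (Nat.shiftLeft 1 i :: ih) (tb O i)) n

theorem inSpan_bitsOf (O n s : ℕ) (hs : s < 2 ^ n) (h : ∀ i, s.testBit i = true → O.testBit i = true) :
    InSpan (bitsOf O n) s := by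
  induction n generalizing s with
  | zero =>
    show s = 0
    omega
  | succ n ih =>
    have e : bitsOf O (n + 1) = Bool.rec (motive := fun _ => List ℕ) (bitsOf O n)
      ((1 <<< n) :: bitsOf O n) (tb O n) := rfl
    have hi : ∀ i, n < i → s.testBit i = false := fun i hi =>
      Nat.testBit_lt_two_pow (lt_of_lt_of_le hs (Nat.pow_le_pow_right (by norm_num) hi))
    rw [e, tb_eq]
    cases hsn : s.testBit n with
    | false =>
      have : InSpan (bitsOf O n) s := by
        apply ih _ _ h
        apply Nat.lt_pow_two_of_testBit
        intro i hi'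
        rcases Nat.eq_or_lt_of_le hi' with rfl | h2
        · exact hsn
        · exact hi i h2
      cases O.testBit n with
      | false => exact this
      | true => exact Or.inl this
    | true =>
      rw [h n hsn]
      right
      apply ih
      · apply Nat.lt_pow_two_of_testBit
        intro i hi'
        rw [Nat.testBit_xor, Nat.one_shiftLeft, Nat.testBit_two_pow]
        rcases Nat.eq_or_lt_of_le hi' with rfl | h2
        · simp [hsn]
        · simp [hi i h2, h2.ne]
      · intro i hi'
        rw [Nat.testBit_xor, Nat.one_shiftLeft, Nat.testBit_two_pow] at hi'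
        by_cases h2 : n = i
        · subst h2; exact h n hsn
        · simp [h2] at hi'; exact h i hi'

/-- table of the bit counts of the numbers below 4096 -/
def popT : ℕ := 0xcbbabaa9baa9a998baa9a998a9989887baa9a998a9989887a998988798878776baa9a998a9989887a998988798878776a9989887988787769887877687767665baa9a998a9989887a998988798878776a9989887988787769887877687767665a998988798878776988787768776766598878776877676658776766576656554baa9a998a9989887a998988798878776a9989887988787769887877687767665a998988798878776988787768776766598878776877676658776766576656554a9989887988787769887877687767665988787768776766587767665766565549887877687767665877676657665655487767665766565547665655465545443baa9a998a9989887a998988798878776a9989887988787769887877687767665a998988798878776988787768776766598878776877676658776766576656554a9989887988787769887877687767665988787768776766587767665766565549887877687767665877676657665655487767665766565547665655465545443a9989887988787769887877687767665988787768776766587767665766565549887877687767665877676657665655487767665766565547665655465545443988787768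77676658776766576656554877676657665655476656554655454438776766576656554766565546554544376656554655454436554544354434332baa9a998a9989887a998988798878776a9989887988787769887877687767665a998988798878776988787768776766598878776877676658776766576656554a9989887988787769887877687767665988787768776766587767665766565549887877687767665877676657665655487767665766565547665655465545443a998988798878776988787768776766598878776877676658776766576656554988787768776766587767665766565548776766576656554766565546554544398878776877676658776766576656554877676657665655476656554655454438776766576656554766565546554544376656554655454436554544354434332a9989887988787769887877687767665988787768776766587767665766565549887877687767665877676657665655487767665766565547665655465545443988787768776766587767665766565548776766576656554766565546554544387767665766565547665655465545443766565546554544365545443544343329887877687767665877676657665655487767665766565547665655465545443877676657665655476656554655454437665655465545443655454435443433287767665766565547665655465545443766565546554544365545443544343327665655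465545443655454435443433265545443544343325443433243323221baa9a998a9989887a998988798878776a9989887988787769887877687767665a998988798878776988787768776766598878776877676658776766576656554a9989887988787769887877687767665988787768776766587767665766565549887877687767665877676657665655487767665766565547665655465545443a998988798878776988787768776766598878776877676658776766576656554988787768776766587767665766565548776766576656554766565546554544398878776877676658776766576656554877676657665655476656554655454438776766576656554766565546554544376656554655454436554544354434332a9989887988787769887877687767665988787768776766587767665766565549887877687767665877676657665655487767665766565547665655465545443988787768776766587767665766565548776766576656554766565546554544387767665766565547665655465545443766565546554544365545443544343329887877687767665877676657665655487767665766565547665655465545443877676657665655476656554655454437665655465545443655454435443433287767665766565547665655465545443766565546554544365545443544343327665655465545443655454435443433265545443544343325443433243323221a9989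88798878776988787768776766598878776877676658776766576656554988787768776766587767665766565548776766576656554766565546554544398878776877676658776766576656554877676657665655476656554655454438776766576656554766565546554544376656554655454436554544354434332988787768776766587767665766565548776766576656554766565546554544387767665766565547665655465545443766565546554544365545443544343328776766576656554766565546554544376656554655454436554544354434332766565546554544365545443544343326554544354434332544343324332322198878776877676658776766576656554877676657665655476656554655454438776766576656554766565546554544376656554655454436554544354434332877676657665655476656554655454437665655465545443655454435443433276656554655454436554544354434332655454435443433254434332433232218776766576656554766565546554544376656554655454436554544354434332766565546554544365545443544343326554544354434332544343324332322176656554655454436554544354434332655454435443433254434332433232216554544354434332544343324332322154434332433232214332322132212110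

/-- fast bit count for 24-bit masks -/
def pop24 (s : ℕ) : ℕ := Nat.add (look 4 popT (Nat.mod s 4096)) (look 4 popT (Nat.shiftRight s 12))

theorem popT_ok : allLt 4096 (fun i => Nat.beq (look 4 popT i) (pop i 12)) = true := by
  decide +kernel

theorem pop_eq_sum (m n : ℕ) : pop m n = ∑ i ∈ range n, bit m i := by
  induction n with
  | zero => rfl
  | succ n ih => rw [sum_range_succ, ← ih]; rfl

theorem pop24_eq {s : ℕ} (hs : s < 2 ^ 24) : pop24 s = pop s 24 := by
  have H := (allLt_iff _ _).mp popT_ok
  have h1 := Nat.eq_of_beq_eq_true (H (s % 4096) (Nat.mod_lt _ (by norm_num)))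
  have h2 := Nat.eq_of_beq_eq_true (H (s >>> 12) (by rw [Nat.shiftRight_eq_div_pow]; omega))
  show look 4 popT (s % 4096) + look 4 popT (s >>> 12) = _
  rw [h1, h2, pop_eq_sum, pop_eq_sum, pop_eq_sum, show 24 = 12 + 12 from rfl, sum_range_add]
  have : ∑ i ∈ range 12, bit (s % 4096) i = ∑ i ∈ range 12, bit s i := by
    apply sum_congr rfl
    intro i hi
    rw [bit_eq, bit_eq, show 4096 = 2 ^ 12 from rfl, Nat.testBit_mod_two_pow]
    simp [mem_range.mp hi]
  rw [this, add_right_inj]
  apply sum_congr rfl
  intro i _
  rw [bit_eq, bit_eq, Nat.testBit_shiftRight]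

theorem beq_false_of_ne' {a b : ℕ} (h : a ≠ b) : Nat.beq a b = false := by
  cases h1 : Nat.beq a b with
  | false => rfl
  | true => exact absurd (Nat.eq_of_beq_eq_true h1) h

theorem exists_mask (s : Finset GolayPt) : ∃ m < 2 ^ 24, setOf m = s := by
  refine ⟨mkMask 24 fun i => decide (pt i ∈ s), mkMask_lt _ _, ?_⟩
  ext p
  rw [mem_setOf, testBit_mkMask]
  simp [idx_lt p, pt_idx]

/-- the invariants: coordinate at the extra point, coordinate at 0 (both plus 4), sum plus 32 -/
def HasInv (x : GolayPt → ℤ) (a b s : ℕ) : Prop :=
  x none + 4 = a ∧ x (some 0) + 4 = b ∧ ∑ i, x i + 32 = s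

/-- offset coordinate of a shape-1 vector -/
noncomputable def c1 (a b sa sb i : ℕ) : ℕ :=
  Bool.rec (motive := fun _ => ℕ) (Bool.rec (motive := fun _ => ℕ) 4 (8 * sb) (Nat.beq i b)) (8 * sa)
    (Nat.beq i a)

/-- offset coordinate of a shape-2 vector -/
noncomputable def c2 (O s i : ℕ) : ℕ :=
  Bool.rec (motive := fun _ => ℕ) 4 (Bool.rec (motive := fun _ => ℕ) 6 2 (tb s i)) (tb O i)

/-- offset coordinate of a shape-3 vector -/
noncomputable def c3 (c j i : ℕ) : ℕ :=
  Bool.rec (motive := fun _ => ℕ) (Bool.rec (motive := fun _ => ℕ) 5 3 (tb c i))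
    (Bool.rec (motive := fun _ => ℕ) 1 7 (tb c i)) (Nat.beq i j)

/-- number of shape-1 vectors satisfying `Q` -/
noncomputable def cnt1 (Q : ℕ → ℕ → ℕ → Bool) : ℕ :=
  sumN 24 fun a => sumN a fun b => sumN 2 fun sa => sumN 2 fun sb =>
    ind (Q (c1 a b sa sb 23) (c1 a b sa sb 0) (8 * sa + 8 * sb + 24))

/-- number of shape-2 vectors satisfying `Q` -/
noncomputable def cnt2 (Q : ℕ → ℕ → ℕ → Bool) : ℕ :=
  sumSpan (fun O => guard (Nat.beq (pop24 O) 8) (sumSpan (fun s =>
    guard (Nat.beq (Nat.mod (pop24 s) 2) 0)
      (ind (Q (c2 O s 23) (c2 O s 0) (Nat.sub 48 (Nat.mul 4 (pop24 s)))))) (bitsOf O 24) 0)) gBasis 0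

/-- number of shape-3 vectors satisfying `Q` -/
noncomputable def cnt3 (Q : ℕ → ℕ → ℕ → Bool) : ℕ :=
  sumSpan (fun c => sumN 24 fun j => ind (Q (c3 c j 23) (c3 c j 0)
    (Nat.sub (Bool.rec (motive := fun _ => ℕ) 52 60 (tb c j)) (Nat.mul 2 (pop24 c))))) gBasis 0

theorem HasInv.unique {x : GolayPt → ℤ} {a b s a' b' s' : ℕ} (h : HasInv x a b s)
    (h1 : x none + 4 = a') (h2 : x (some 0) + 4 = b') (h3 : ∑ i, x i + 32 = s') :
    a = a' ∧ b = b' ∧ s = s' := by
  obtain ⟨e1, e2, e3⟩ := h
  omega

theorem covers1 (Q : ℕ → ℕ → ℕ → Bool) :
    Covers (cnt1 Q) fun x => Shape1 x ∧ ∃ a b s, HasInv x a b s ∧ Q a b s = true := by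
  refine (Covers.sumN 24 fun a _ => Covers.sumN a fun b _ => Covers.sumN 2 fun sa _ =>
    Covers.sumN 2 fun sb _ => Covers.single _ (fun p => (c1 a b sa sb (idx p) : ℤ) - 4)).mono ?_
  rintro x ⟨⟨a, b, hab, ha, hb, h0⟩, a', b', s', hi, hQ⟩
  wlog hlt : idx b < idx a generalizing a b
  · refine this b a hab.symm hb ha (fun i h1 h2 => h0 i h2 h1) ?_
    have := idx_injective.ne hab
    omega
  obtain ⟨sa, hsa, ea⟩ : ∃ sa : ℕ, sa < 2 ∧ x a = 8 * sa - 4 := by
    rcases ha with h | h
    · exact ⟨1, by norm_num, by rw [h]; norm_num⟩
    · exact ⟨0, by norm_num, by rw [h]; norm_num⟩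
  obtain ⟨sb, hsb, eb⟩ : ∃ sb : ℕ, sb < 2 ∧ x b = 8 * sb - 4 := by
    rcases hb with h | h
    · exact ⟨1, by norm_num, by rw [h]; norm_num⟩
    · exact ⟨0, by norm_num, by rw [h]; norm_num⟩
  have hx : ∀ p, x p + 4 = (c1 (idx a) (idx b) sa sb (idx p) : ℤ) := by
    intro p
    unfold c1
    by_cases h1 : p = a
    · subst h1; rw [Nat.beq_refl]; push_cast; omega
    · rw [beq_false_of_ne' (idx_injective.ne h1)]
      by_cases h2 : p = b
      · subst h2; rw [Nat.beq_refl]; push_cast; omega
      · rw [beq_false_of_ne' (idx_injective.ne h2), h0 p h1 h2]; rfl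
  have hs : ∑ i, x i = x a + x b := by
    rw [← sum_pair hab]
    symm
    apply sum_subset (subset_univ _)
    intro i _ hi
    simp only [mem_insert, mem_singleton, not_or] at hi
    exact h0 i hi.1 hi.2
  obtain ⟨rfl, rfl, rfl⟩ := hi.unique (hx none) (hx (some 0))
    (s' := 8 * sa + 8 * sb + 24) (by push_cast; omega)
  exact ⟨idx a, idx_lt a, idx b, hlt, sa, hsa, sb, hsb, hQ, funext fun p => by have := hx p; omega⟩

theorem covers2 (Q : ℕ → ℕ → ℕ → Bool) :
    Covers (cnt2 Q) fun x => Shape2 x ∧ ∃ a b s, HasInv x a b s ∧ Q a b s = true := by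
  refine (Covers.sumSpan (fun O => Covers.guard _ fun _ => Covers.sumSpan (fun s =>
    Covers.guard _ fun _ => Covers.single _ (fun p => (c2 O s (idx p) : ℤ) - 4)) _ _) _ _).mono ?_
  rintro x ⟨⟨O, hO, h8, h2, h0, hs⟩, a', b', s', hi, hQ⟩
  obtain ⟨m, hm, rfl⟩ := mem_gSupports.mp hO
  obtain ⟨s, hslt, hse⟩ := exists_mask (univ.filter fun i => x i = -2)
  have hs1 : ∀ p, s.testBit (idx p) = true ↔ x p = -2 := by
    intro p; rw [← mem_setOf, hse]; simp
  have hx : ∀ p, x p + 4 = (c2 m s (idx p) : ℤ) := by
    intro p
    unfold c2
    rw [tb_eq, tb_eq]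
    cases h1 : m.testBit (idx p) with
    | false => rw [h0 p (by simp [h1])]; rfl
    | true =>
      have := h2 p (by simp [h1])
      cases h3 : s.testBit (idx p) with
      | false =>
        have : ¬ x p = -2 := by rw [← hs1, h3]; simp
        show _ = ((6 : ℕ) : ℤ)
        omega
      | true =>
        rw [(hs1 p).mp h3]; rfl
  have hsum : ∑ i, x i = 16 - 4 * (pop24 s : ℤ) := by
    have : ∀ p, x p = (if p ∈ setOf m then 2 else 0) + (if p ∈ setOf s then -4 else 0) := by
      intro p
      have a1 := h2 p
      have a2 := h0 p
      have a3 := hs1 p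
      rw [← mem_setOf] at a3
      split_ifs with c1 c2 c2
      · rw [a3.mp c2]; rfl
      · have := a1 c1; have := mt a3.mpr c2; omega
      · have := a2 c1; have := a3.mp c2; omega
      · rw [a2 c1]; rfl
    rw [sum_congr rfl fun p _ => this p, sum_add_distrib, sum_ite_mem', sum_ite_mem', h8,
      pop24_eq hslt, card_setOf]
    push_cast; ring
  have hle : pop24 s ≤ 8 := by
    rw [pop24_eq hslt, ← card_setOf, ← h8]
    apply card_le_card
    intro p hp
    by_contra hc
    have := h0 p hc
    have := (hs1 p).mp (mem_setOf.mp hp)
    omega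
  obtain ⟨rfl, rfl, rfl⟩ := hi.unique (hx none) (hx (some 0))
    (s' := 48 - 4 * pop24 s) (by omega)
  refine ⟨m, hm, ?_, s, ?_, ?_, ?_, ?_⟩
  · rw [Nat.zero_xor, pop24_eq hm.lt, ← card_setOf, h8]; rfl
  · rw [Nat.zero_xor]
    apply inSpan_bitsOf _ _ _ hslt
    intro i hi
    have hi24 : i < 24 := by
      by_contra hc
      rw [Nat.testBit_lt_two_pow (lt_of_lt_of_le hslt (Nat.pow_le_pow_right (by norm_num) (by omega)))] at hi
      exact absurd hi (by simp)
    rw [← idx_pt hi24] at hi ⊢
    by_contra hc
    have := h0 (pt i) (by rwa [mem_setOf])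
    have := (hs1 _).mp hi
    omega
  · rw [Nat.zero_xor, Nat.beq_eq]
    show pop24 s % 2 = 0
    omega
  · simp only [Nat.zero_xor]; exact hQ
  · simp only [Nat.zero_xor]; exact funext fun p => by have := hx p; omega

theorem covers3 (Q : ℕ → ℕ → ℕ → Bool) :
    Covers (cnt3 Q) fun x => Shape3 x ∧ ∃ a b s, HasInv x a b s ∧ Q a b s = true := by
  refine (Covers.sumSpan (fun c => Covers.sumN 24 fun j _ =>
    Covers.single _ (fun p => (c3 c j (idx p) : ℤ) - 4)) _ _).mono ?_
  rintro x ⟨⟨c, hc, j, hj, h0⟩, a', b', s', hi, hQ⟩
  obtain ⟨m, hm, rfl⟩ := mem_gSupports.mp hc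
  have hx : ∀ p, x p + 4 = (c3 m (idx j) (idx p) : ℤ) := by
    intro p
    unfold c3
    rw [tb_eq]
    by_cases h1 : p = j
    · subst h1
      rw [Nat.beq_refl, hj]
      simp only [mem_setOf]
      cases m.testBit (idx p) <;> rfl
    · rw [beq_false_of_ne' (idx_injective.ne h1), h0 p h1]
      simp only [mem_setOf]
      cases m.testBit (idx p) <;> rfl
  have hle : pop24 m ≤ 24 := by
    rw [pop24_eq hm.lt, ← card_setOf, ← card_golayPt]; exact card_le_univ _
  have hsum : ∑ i, x i + 32 =
      ((Bool.rec (motive := fun _ => ℕ) 52 60 (tb m (idx j)) - 2 * pop24 m : ℕ) : ℤ) := by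
    have : ∀ p, x p = (if p ∈ setOf m then -1 else 1) +
        (if p ∈ ({j} : Finset GolayPt) then (if j ∈ setOf m then 4 else -4) else 0) := by
      intro p
      by_cases h1 : p = j
      · subst h1; rw [hj]; simp only [mem_singleton, if_true]; split_ifs <;> rfl
      · rw [h0 p h1]; simp [h1]
    rw [sum_congr rfl fun p _ => this p, sum_add_distrib, sum_ite_mem', sum_ite_mem', card_setOf,
      ← pop24_eq hm.lt, card_singleton, tb_eq]
    simp only [mem_setOf]
    cases m.testBit (idx j) with
    | false =>
      show _ = ((52 - 2 * pop24 m : ℕ) : ℤ)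
      simp only [Bool.false_eq_true, if_false]; omega
    | true =>
      show _ = ((60 - 2 * pop24 m : ℕ) : ℤ)
      simp only [if_true]; omega
  obtain ⟨rfl, rfl, rfl⟩ := hi.unique (hx none) (hx (some 0)) hsum
  refine ⟨m, hm, idx j, idx_lt j, ?_, ?_⟩
  · simp only [Nat.zero_xor]; exact hQ
  · simp only [Nat.zero_xor]; exact funext fun p => by have := hx p; omega

theorem exists_hasInv {x : GolayPt → ℤ} (hx : Lam x) (hn : sqNorm x = 32) :
    ∃ a b s, HasInv x a b s := by
  have h1 : ∀ i, -4 ≤ x i := by
    intro i
    rcases hx.shape hn with ⟨a, b, -, ha, hb, h0⟩ | ⟨O, -, -, h2, h0, -⟩ | ⟨c, -, j, hj, h0⟩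
    · by_cases h1 : i = a
      · subst h1; omega
      · by_cases h2 : i = b
        · subst h2; omega
        · rw [h0 i h1 h2]; norm_num
    · by_cases h1 : i ∈ O
      · have := h2 i h1; omega
      · rw [h0 i h1]; norm_num
    · by_cases h1 : i = j
      · subst h1; rw [hj]; split_ifs <;> norm_num
      · rw [h0 i h1]; split_ifs <;> norm_num
  have h2 : 0 ≤ ∑ i, x i + 32 := by
    rw [← hn, sqNorm, ← sum_add_distrib]
    apply sum_nonneg
    intro i _
    rcases le_or_gt 0 (x i) with h | h <;> nlinarith
  exact ⟨(x none + 4).toNat, (x (some 0) + 4).toNat, (∑ i, x i + 32).toNat,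
    by have := h1 none; omega, by have := h1 (some 0); omega, by omega⟩

/-- the minimal vectors whose invariants satisfy `Q` are covered by the three counts -/
theorem covers_min (Q : ℕ → ℕ → ℕ → Bool) {n1 n2 n3 : ℕ} (h1 : cnt1 Q = n1) (h2 : cnt2 Q = n2)
    (h3 : cnt3 Q = n3) :
    ∃ S : Finset leechLattice, S.card ≤ n1 + n2 + n3 ∧ ∀ x : leechLattice,
      sqNorm (x : GolayPt → ℤ) = 32 → (∀ a b s, HasInv x a b s → Q a b s = true) → x ∈ S := by
  classical
  obtain ⟨S, hS, hS'⟩ := ((covers1 Q).or (covers2 Q)).or (covers3 Q)
  rw [h1, h2, h3] at hS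
  refine ⟨S.preimage Subtype.val Subtype.val_injective.injOn, ?_, fun x hn hQ => ?_⟩
  · refine le_trans ?_ hS
    rw [card_preimage]
    exact card_filter_le _ _
  · rw [mem_preimage]
    have hx := mem_leechLattice_iff.mp x.2
    obtain ⟨a, b, s, hi⟩ := exists_hasInv hx hn
    apply hS'
    rcases hx.shape hn with h | h | h
    · exact Or.inl (Or.inl ⟨h, a, b, s, hi, hQ a b s hi⟩)
    · exact Or.inl (Or.inr ⟨h, a, b, s, hi, hQ a b s hi⟩)
    · exact Or.inr ⟨h, a, b, s, hi, hQ a b s hi⟩

end Cfsg.Agent.H9
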