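import Cfsg.Agent.H9.MinCount

/-! The five counts of minimal vectors. -/

set_option autoImplicit false
set_option maxRecDepth 100000

namespace Cfsg.Agent.H9

def qAll (_ _ _ : ℕ) : Bool := true
def qCo2 (a b _ : ℕ) : Bool := Nat.beq (Nat.add a b) 6
def qCo3 (a _ s : ℕ) : Bool := Nat.beq (Nat.add (Nat.mul 4 a) s) 72
noncomputable def qMcL (a b s : ℕ) : Bool :=
  Bool.rec (motive := fun _ => Bool) false (Nat.beq (Nat.add (Nat.mul 4 a) s) 64) (Nat.beq (Nat.add a b) 8)
noncomputable def qHS (a b s : ℕ) : Bool :=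
  Bool.rec (motive := fun _ => Bool) false (Nat.beq (Nat.add (Nat.mul 4 a) s) 72) (Nat.beq a b)

theorem cnt1_all : cnt1 qAll = 1104 := by decide +kernel
theorem cnt2_all : cnt2 qAll = 97152 := by decide +kernel
theorem cnt3_all : cnt3 qAll = 98304 := by decide +kernel
theorem cnt1_co2 : cnt1 qCo2 = 0 := by decide +kernel
theorem cnt2_co2 : cnt2 qCo2 = 22528 := by decide +kernel
theorem cnt3_co2 : cnt3 qCo2 = 24576 := by decide +kernel
theorem cnt1_co3 : cnt1 qCo3 = 23 := by decide +kernel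
theorem cnt2_co3 : cnt2 qCo3 = 253 := by decide +kernel
theorem cnt3_co3 : cnt3 qCo3 = 276 := by decide +kernel
theorem cnt1_mcl : cnt1 qMcL = 1 := by decide +kernel
theorem cnt2_mcl : cnt2 qMcL = 792 := by decide +kernel
theorem cnt3_mcl : cnt3 qMcL = 1232 := by decide +kernel
theorem cnt1_hs : cnt1 qHS = 1 := by decide +kernel
theorem cnt2_hs : cnt2 qHS = 77 := by decide +kernel
theorem cnt3_hs : cnt3 qHS = 22 := by decide +kernel

end Cfsg.Agent.H9
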