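import Cfsg.Agent.H9.ModelRA

/-! Actions of coded groups: conjugation of involutions, and row vectors. -/

set_option autoImplicit false

namespace Cfsg.Agent.H9

open Cfsg.Agent.L0 (ev ev_nil ev_cons ev_append ev_mem nthW)

theorem Model.rep_ev {G : Type*} [Monoid G] (M : Model G) {c : ℕ → ℕ} {g : ℕ → G} {K : ℕ}
    (h : ∀ j < K, M.Rep (c j) (g j)) {w : List ℕ} (hw : ltB K w = true) :
    M.Rep (evalL M.mul c w M.one) (ev g w) := by
  have := M.rep_evalL c g w (fun a ha => h a (ltB_iff.mp hw a ha)) M.rep_one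
  rwa [one_mul] at this

/-- new generators as words in the old ones, and conversely -/
noncomputable def regenB (mul : ℕ → ℕ → ℕ) (one : ℕ) (c : ℕ → ℕ) (K : ℕ) (V : ℕ → ℕ) (k : ℕ)
    (ws tw : List (List ℕ)) : Bool :=
  (allLt k fun s => ltB K (nthW ws s) && Nat.beq (V s) (evalL mul c (nthW ws s) one)) &&
  allLt K fun j => ltB k (nthW tw j) && Nat.beq (c j) (evalL mul V (nthW tw j) one)

theorem Model.regen {Γ : Type*} [Group Γ] (M : Model Γ) {c : ℕ → ℕ} {x : ℕ → Γ} {K : ℕ}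
    (hx : ∀ j < K, M.Rep (c j) (x j)) (hgen : ∀ S : Subgroup Γ, (∀ j < K, x j ∈ S) → S = ⊤)
    {V : ℕ → ℕ} {k : ℕ} {ws tw : List (List ℕ)} (h : regenB M.mul M.one c K V k ws tw = true) :
    (∀ s < k, M.Rep (V s) (ev x (nthW ws s))) ∧
      ∀ S : Subgroup Γ, (∀ s < k, ev x (nthW ws s) ∈ S) → S = ⊤ := by
  simp only [regenB, Bool.and_eq_true, allLt_iff, Nat.beq_eq] at h
  have h1 : ∀ s < k, M.Rep (V s) (ev x (nthW ws s)) := fun s hs =>
    (h.1 s hs).2 ▸ M.rep_ev hx (h.1 s hs).1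
  refine ⟨h1, fun S hS => hgen S fun j hj => ?_⟩
  have h2 := M.rep_ev h1 (h.2 j hj).1
  rw [← (h.2 j hj).2] at h2
  rw [M.rep_unique (hx j hj) h2]
  exact ev_mem _ _ fun y hy => hS y (ltB_iff.mp (h.2 j hj).1 y hy)

/-- the action on a class of generating involutions -/
theorem Model.exists_ra_inv {Γ : Type*} [Group Γ] (M : Model Γ)
    (h2 : ∀ {a b x}, M.Rep a x → M.Rep b x → a = b) {k : ℕ} {g : ℕ → Γ} {V : ℕ → ℕ}
    (h0 : ∀ c < k, M.Rep (V c) (g c)) (hgen : ∀ S : Subgroup Γ, (∀ s < k, g s ∈ S) → S = ⊤)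
    {T : ℕ → ℕ → ℕ} {par ord : ℕ → ℕ} {N : ℕ}
    (hk : (Nat.ble k N && allLt k fun s => Nat.beq (M.mul (V s) (V s)) M.one) = true)
    (h : ∀ c < N, orbB (conjStep M.mul V) V T par ord N k k c = true) :
    ∃ (A : RA (Γ ⧸ Subgroup.center Γ) N) (v : ℕ → Γ),
      A.Tab (fun s => QuotientGroup.mk (g s)) k T ∧ A.IsBase (List.range k) ∧
      (∀ c < N, M.Rep (V c) (v c)) ∧ (∀ c < N, ∀ d < N, v c = v d → c = d) ∧
      ∀ x : Γ, ∀ c < N, v (A.act c (QuotientGroup.mk x)) = x⁻¹ * v c * x := by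
  simp only [Bool.and_eq_true, allLt_iff, Nat.beq_eq, Nat.ble_eq] at hk
  refine exists_ra_conj M.Rep M.rep_unique h2 (fun s hs a x hx => ?_) hk.1 h0 h hgen
  have h3 := M.rep_mul (h0 s hs) (h0 s hs)
  rw [hk.2 s hs] at h3
  rw [inv_eq_of_mul_eq_one_right (M.rep_unique h3 M.rep_one)]
  exact M.rep_mul (M.rep_mul (h0 s hs) hx) (h0 s hs)

/-- right multiplication, on codes -/
noncomputable def rightStep (mul : ℕ → ℕ → ℕ) (C : ℕ → ℕ) (a s : ℕ) : ℕ := mul a (C s)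

/-- the action on an orbit under right multiplication -/
theorem Model.exists_ra_right {Γ X : Type*} [Group Γ] [Monoid X] (M : Model X) (f : Γ →* X)
    (h2 : ∀ {a b x}, M.Rep a x → M.Rep b x → a = b) {k : ℕ} {g : ℕ → Γ} {C V : ℕ → ℕ}
    (hC : ∀ s < k, M.Rep (C s) (f (g s))) (hgen : ∀ S : Subgroup Γ, (∀ s < k, g s ∈ S) → S = ⊤)
    {m : ℕ} (h0 : ∀ c < m, ∃ x, M.Rep (V c) x) {T : ℕ → ℕ → ℕ} {par ord : ℕ → ℕ} {N : ℕ}
    (h : ∀ c < N, orbB (rightStep M.mul C) V T par ord N k m c = true) :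
    ∃ (A : RA Γ N) (v : ℕ → X), A.Tab g k T ∧ (∀ c < N, M.Rep (V c) (v c)) ∧
      ∀ x : Γ, ∀ c < N, v (A.act c x) = v c * f x := by
  haveI : Nonempty X := ⟨1⟩
  obtain ⟨v, a1, a2, a3⟩ := exists_family M.Rep M.rep_unique h2 (fun x s => x * f (g s))
    (fun s hs a x hx => M.rep_mul hx (hC s hs)) h0 h
  obtain ⟨A, b1, b2⟩ := exists_ra_gen (fun (y : X) (x : Γ) => y * f x) (by simp)
    (by simp [mul_assoc]) (MonoidHom.id Γ) Function.surjective_id v a2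
    (fun x hx c _ => by rw [show x = 1 from hx, map_one, mul_one]) g a3 hgen
  exact ⟨A, v, b1, a1, b2⟩

end Cfsg.Agent.H9
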