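import Cfsg.Agent.H9.OHND

/-! Outer automorphisms of the group HN. Checks. -/

set_option autoImplicit false
set_option maxRecDepth 100000

namespace Cfsg.Agent.H9.OHN

set_option Elab.async false

theorem syB1 : DB.sylB e d1 cB1 = true := by decide +kernel

theorem df_57 : dfB 57 = true := by decide +kernel

theorem slp_0 : allPow (below (nat_lit 1408) (slpB (mix L0.HNFB.P.k L0.HNFB.P.T T1) WH L0.HNFB.P.k)) 8 (0 * 2 ^ 8) = true := by decide +kernel

theorem slp_2 : allPow (below (nat_lit 1408) (slpB (mix L0.HNFB.P.k L0.HNFB.P.T T1) WH L0.HNFB.P.k)) 8 (2 * 2 ^ 8) = true := by decide +kernel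

theorem slp_4 : allPow (below (nat_lit 1408) (slpB (mix L0.HNFB.P.k L0.HNFB.P.T T1) WH L0.HNFB.P.k)) 8 (4 * 2 ^ 8) = true := by decide +kernel

theorem rl7 : allL Rl7 (P.relB fun j => Mt (ren L0.HNFB.P.k (nat_lit 45) j)) = true := by decide +kernel

theorem df_49 : dfB 49 = true := by decide +kernel

theorem clB_1 : all2 (((([] :: CLB)).drop (1 * 42)).take 42) (clE e.U e.K X ([] :: CLB) (DB.DH ++ DB.DG)) clBq1 = true := by decide +kernel

theorem df_53 : dfB 53 = true := by decide +kernel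

theorem e2 : (slpW WH L0.HNFB.P.k && Nat.beq (L0.HNFB.P.k + WH.length) (nat_lit 45) && slpW WG ((nat_lit 45) + 2) &&
      Nat.beq ((nat_lit 45) + 2 + WG.length) (nat_lit 64) && P.topB (nat_lit 1) E0 &&
      (allLt (L0.HNFB.P.k + 2) fun j => !(Nat.beq (Mt (ren L0.HNFB.P.k (nat_lit 45) j)) 0) && P.okV (Mt (ren L0.HNFB.P.k (nat_lit 45) j))) &&
      (allLt L0.HNFB.P.k fun j => P.inW (nat_lit 1) (P.tabF Mt (mkDf L0.HNFB.P.k (nat_lit 45) WH WG) (nat_lit 64) E0 j)) &&
      (allL Wd fun d => (mkEnv P 1408 L0.HNFB.P.k (nat_lit 45) (nat_lit 64) (mix L0.HNFB.P.k L0.HNFB.P.T T1) L0.HNFB.P.bs Mt WH WG E0 (nat_lit 1)).dcB d &&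
        !(P.inW (nat_lit 1) (tr (P.tabF Mt (mkDf L0.HNFB.P.k (nat_lit 45) WH WG) (nat_lit 64)) d.w E0))) &&
      L0.HNClo.L.all fun i => L0.HNFB.P.W i == [] || ((L0.HNFB.P.W i).all (fun a => decide (a < L0.HNFB.P.k + 2)) &&
        Wd.any fun d => d.w == (L0.HNFB.P.W i).map (ren L0.HNFB.P.k (nat_lit 45)))) = true := by decide +kernel

theorem rhB0_0 : allPow (below (nat_lit 1408) (rhB rhoB0)) 8 (0 * 2 ^ 8) = true := by decide +kernel

theorem rhB0_3 : allPow (below (nat_lit 1408) (rhB rhoB0)) 8 (3 * 2 ^ 8) = true := by decide +kernel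

theorem rhB1_1 : allPow (below (nat_lit 1408) (rhB rhoB1)) 8 (1 * 2 ^ 8) = true := by decide +kernel

theorem rhB1_4 : allPow (below (nat_lit 1408) (rhB rhoB1)) 8 (4 * 2 ^ 8) = true := by decide +kernel

theorem df_55 : dfB 55 = true := by decide +kernel

theorem slp_5 : allPow (below (nat_lit 1408) (slpB (mix L0.HNFB.P.k L0.HNFB.P.T T1) WH L0.HNFB.P.k)) 8 (5 * 2 ^ 8) = true := by decide +kernel

theorem df_56 : dfB 56 = true := by decide +kernel

theorem df_27 : dfB 27 = true := by decide +kernel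

theorem hsB : (invB e.T e.k e.B iv && ltB e.k DB.y && statSB e.T e.k e.B DB.y (LB0 :: LBs) [] &&
    DB.linkB (LB0 :: LBs) && centB e.T iv (tr e.T DB.y) LBs (genP (tr e.T DB.y) [] LB0.xs LB0.β) &&
    allL DB.rho (ltB e.k)) = true := by decide +kernel

theorem s3d : eqW e.U e.K X (fm Y bw) b1 = true := by decide +kernel

theorem df_59 : dfB 59 = true := by decide +kernel

theorem rhB0_5 : allPow (below (nat_lit 1408) (rhB rhoB0)) 8 (5 * 2 ^ 8) = true := by decide +kernel

theorem scB_0 : allPow (below (nat_lit 1408) (scanB e.T iv (tr e.T DB.y) LB0 LBs [])) 11 (0 * 2 ^ 11) = true := by decide +kernel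

theorem rhB1_5 : allPow (below (nat_lit 1408) (rhB rhoB1)) 8 (5 * 2 ^ 8) = true := by decide +kernel

theorem df_20 : dfB 20 = true := by decide +kernel

theorem df_21 : dfB 21 = true := by decide +kernel

theorem hP : P.ok2 = true := by decide +kernel

theorem v1l0b_0 : allPow (below (nat_lit 180) (e.orbB (Env.sing v1l0S) v1l0r v1l0 v1l0t (nat_lit 256))) 8 (0 * 2 ^ 8) = true := by decide +kernel

theorem rB6x5c : DB.repB e X d6 rB6x5 = true := by decide +kernel

theorem df_16 : dfB 16 = true := by decide +kernel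

theorem df_19 : dfB 19 = true := by decide +kernel

theorem v2l1b_0 : allPow (below (nat_lit 125) (e.orbB (Env.sing v2l1S) v2l1r v2l1 v2l1t (nat_lit 128))) 7 (0 * 2 ^ 7) = true := by decide +kernel

theorem s3a : eqW e.U e.K X (fm S aw) DA.b = true := by decide +kernel

theorem df_28 : dfB 28 = true := by decide +kernel

theorem hBB : DB.hB e = true := by decide +kernel

theorem gn : e.genB X [t2, DB.b, DA.b] (nat_lit 2198721265664) ((LB0 :: LBs).map SLv.toLv) zw (nat_lit 27) hu hv = true := by decide +kernel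

theorem hBA : DA.hB e = true := by decide +kernel

theorem s2 : (allLt 7 fun i => ltB 7 (L0.nthW Pre i) && eqW e.U e.K X (fm Y (L0.nthW Pre i)) (L0.nthW S i)) = true := by decide +kernel

theorem rB6x1c : DB.repB e X d6 rB6x1 = true := by decide +kernel

theorem syB7 : DB.sylB e d7 cB7 = true := by decide +kernel

theorem rB1x0c : DB.repB e X d1 rB1x0 = true := by decide +kernel

theorem c1l0c_0 : allPow (below (nat_lit 50) (L0.levT e.T c1l0S c1l0r c1l0 e.N)) 6 (0 * 2 ^ 6) = true := by decide +kernel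

theorem c2l1c_0 : allPow (below (nat_lit 42) (L0.levT e.T c2l1S c2l1r c2l1 e.N)) 6 (0 * 2 ^ 6) = true := by decide +kernel

theorem c9l0a : allL c9l0S (e.inT d9) = true := by decide +kernel

theorem c3l0a : allL c3l0S (e.inT d3) = true := by decide +kernel

theorem c6l2a : allL c6l2S (e.inT d6) = true := by decide +kernel

theorem v1l1a : (L0.lettersB e.K (Env.sing v1l1S) && Nat.blt v1l1.β e.M && Nat.ble v1l1.n 162 && Nat.blt (nat_lit 150) v1l1.n &&
    Nat.beq (Nat.land (v1l1r (nat_lit 150)) v1l1.pm) v1l1.β && e.subB v1l1S [] v1l1.β) = true := by decide +kernel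

theorem v2l1a : (L0.lettersB e.K (Env.sing v2l1S) && Nat.blt v2l1.β e.M && Nat.ble v2l1.n 125 && Nat.blt (nat_lit 19) v2l1.n &&
    Nat.beq (Nat.land (v2l1r (nat_lit 19)) v2l1.pm) v2l1.β && e.subB v2l1S v2l2S v2l1.β) = true := by decide +kernel

theorem syA1 : DA.sylB e d1 cA1 = true := by decide +kernel

theorem syA5 : DA.sylB e d5 cA5 = true := by decide +kernel

theorem syA8 : DA.sylB e d8 cA8 = true := by decide +kernel

theorem c5l0a : allL c5l0S (e.inT d5) = true := by decide +kernel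

theorem c6l1c_0 : allPow (below (nat_lit 25) (L0.levT e.T c6l1S c6l1r c6l1 e.N)) 5 (0 * 2 ^ 5) = true := by decide +kernel

theorem c5l1a : allL c5l1S (e.inT d5) = true := by decide +kernel

theorem c9l3a : allL c9l3S (e.inT d9) = true := by decide +kernel

theorem c9l2a : allL c9l2S (e.inT d9) = true := by decide +kernel

theorem c1l2b : (L0.lettersB e.k c1l2S && L0.RAct.fixB e.T c1l2S [c1l1.β, c1l0.β] && Nat.blt c1l2.β e.N && Nat.ble c1l2.n 5) = true := by decide +kernel

theorem c2l4b : (L0.lettersB e.k c2l4S && L0.RAct.fixB e.T c2l4S [c2l3.β, c2l2.β, c2l1.β, c2l0.β] && Nat.blt c2l4.β e.N && Nat.ble c2l4.n 2) = true := by decide +kernel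

theorem c2l1b : (L0.lettersB e.k c2l1S && L0.RAct.fixB e.T c2l1S [c2l0.β] && Nat.blt c2l1.β e.N && Nat.ble c2l1.n 42) = true := by decide +kernel

theorem c3l2b : (L0.lettersB e.k c3l2S && L0.RAct.fixB e.T c3l2S [c3l1.β, c3l0.β] && Nat.blt c3l2.β e.N && Nat.ble c3l2.n 6) = true := by decide +kernel

theorem c5l4b : (L0.lettersB e.k c5l4S && L0.RAct.fixB e.T c5l4S [c5l3.β, c5l2.β, c5l1.β, c5l0.β] && Nat.blt c5l4.β e.N && Nat.ble c5l4.n 2) = true := by decide +kernel

theorem c5l1b : (L0.lettersB e.k c5l1S && L0.RAct.fixB e.T c5l1S [c5l0.β] && Nat.blt c5l1.β e.N && Nat.ble c5l1.n 6) = true := by decide +kernel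

theorem c6l1b : (L0.lettersB e.k c6l1S && L0.RAct.fixB e.T c6l1S [c6l0.β] && Nat.blt c6l1.β e.N && Nat.ble c6l1.n 25) = true := by decide +kernel

theorem c8l0b : (L0.lettersB e.k c8l0S && L0.RAct.fixB e.T c8l0S [] && Nat.blt c8l0.β e.N && Nat.ble c8l0.n 160) = true := by decide +kernel

theorem c9l1b : (L0.lettersB e.k c9l1S && L0.RAct.fixB e.T c9l1S [c9l0.β] && Nat.blt c9l1.β e.N && Nat.ble c9l1.n 6) = true := by decide +kernel

theorem c2l2a : allL c2l2S (e.inT d2) = true := by decide +kernel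

theorem c5l3a : allL c5l3S (e.inT d5) = true := by decide +kernel

theorem c1l4a : allL c1l4S (e.inT d1) = true := by decide +kernel

theorem gBB : DB.gB e X = true := by decide +kernel

theorem df_0 : dfB 0 = true := by decide +kernel

theorem df_3 : dfB 3 = true := by decide +kernel

theorem df_6 : dfB 6 = true := by decide +kernel

theorem df_9 : dfB 9 = true := by decide +kernel

theorem df_30 : dfB 30 = true := by decide +kernel

theorem df_33 : dfB 33 = true := by decide +kernel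

theorem df_36 : dfB 36 = true := by decide +kernel

theorem df_39 : dfB 39 = true := by decide +kernel

theorem df_43 : dfB 43 = true := by decide +kernel

theorem df_46 : dfB 46 = true := by decide +kernel

theorem c2l3c_0 : allPow (below (nat_lit 6) (L0.levT e.T c2l3S c2l3r c2l3 e.N)) 3 (0 * 2 ^ 3) = true := by decide +kernel

theorem c3l2c_0 : allPow (below (nat_lit 6) (L0.levT e.T c3l2S c3l2r c3l2 e.N)) 3 (0 * 2 ^ 3) = true := by decide +kernel

theorem c1l3c_0 : allPow (below (nat_lit 6) (L0.levT e.T c1l3S c1l3r c1l3 e.N)) 3 (0 * 2 ^ 3) = true := by decide +kernel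

theorem c5l3c_0 : allPow (below (nat_lit 5) (L0.levT e.T c5l3S c5l3r c5l3 e.N)) 3 (0 * 2 ^ 3) = true := by decide +kernel

theorem c1l4c_0 : allPow (below (nat_lit 2) (L0.levT e.T c1l4S c1l4r c1l4 e.N)) 1 (0 * 2 ^ 1) = true := by decide +kernel

theorem c9l3c_0 : allPow (below (nat_lit 2) (L0.levT e.T c9l3S c9l3r c9l3 e.N)) 1 (0 * 2 ^ 1) = true := by decide +kernel

theorem c9l2c_0 : allPow (below (nat_lit 2) (L0.levT e.T c9l2S c9l2r c9l2 e.N)) 1 (0 * 2 ^ 1) = true := by decide +kernel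

end Cfsg.Agent.H9.OHN
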