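import Cfsg.Agent.H9.OHND

/-! Outer automorphisms of the group HN. Checks. -/

set_option autoImplicit false
set_option maxRecDepth 100000

namespace Cfsg.Agent.H9.OHN

set_option Elab.async false

theorem syB6 : DB.sylB e d6 cB6 = true := by decide +kernel

theorem rl6 : allL Rl6 (P.relB fun j => Mt (ren L0.HNFB.P.k (nat_lit 45) j)) = true := by decide +kernel

theorem slp_1 : allPow (below (nat_lit 1408) (slpB (mix L0.HNFB.P.k L0.HNFB.P.T T1) WH L0.HNFB.P.k)) 8 (1 * 2 ^ 8) = true := by decide +kernel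

theorem slp_3 : allPow (below (nat_lit 1408) (slpB (mix L0.HNFB.P.k L0.HNFB.P.T T1) WH L0.HNFB.P.k)) 8 (3 * 2 ^ 8) = true := by decide +kernel

theorem rl4 : allL Rl4 (P.relB fun j => Mt (ren L0.HNFB.P.k (nat_lit 45) j)) = true := by decide +kernel

theorem df_54 : dfB 54 = true := by decide +kernel

theorem df_58 : dfB 58 = true := by decide +kernel

theorem rl0 : allL Rl0 (P.relB fun j => Mt (ren L0.HNFB.P.k (nat_lit 45) j)) = true := by decide +kernel

theorem bsc_0 : allPow (below (nat_lit 240) (L0.levT e.U bsS bsr bs e.M)) 8 (0 * 2 ^ 8) = true := by decide +kernel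

theorem rl2 : allL Rl2 (P.relB fun j => Mt (ren L0.HNFB.P.k (nat_lit 45) j)) = true := by decide +kernel

theorem rhB0_1 : allPow (below (nat_lit 1408) (rhB rhoB0)) 8 (1 * 2 ^ 8) = true := by decide +kernel

theorem rhB0_4 : allPow (below (nat_lit 1408) (rhB rhoB0)) 8 (4 * 2 ^ 8) = true := by decide +kernel

theorem rhB1_2 : allPow (below (nat_lit 1408) (rhB rhoB1)) 8 (2 * 2 ^ 8) = true := by decide +kernel

theorem sB0_0 : all2 (((([] :: CLB)).drop (0 * 100)).take 100) (stgB e.U e.K X [DB.b, aw0] [DB.b, aw0] relB t2 t2 ([DB.b, aw0] == [DB.b, DA.b]) false) sB0q0 = true := by decide +kernel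

theorem rl3 : allL Rl3 (P.relB fun j => Mt (ren L0.HNFB.P.k (nat_lit 45) j)) = true := by decide +kernel

theorem df_62 : dfB 62 = true := by decide +kernel

theorem df_51 : dfB 51 = true := by decide +kernel

theorem df_25 : dfB 25 = true := by decide +kernel

theorem hsA : (invB e.T e.k e.B iv && ltB e.k DA.y && statSB e.T e.k e.B DA.y (LA0 :: LAs) [] &&
    DA.linkB (LA0 :: LAs) && centB e.T iv (tr e.T DA.y) LAs (genP (tr e.T DA.y) [] LA0.xs LA0.β) &&
    allL DA.rho (ltB e.k)) = true := by decide +kernel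

theorem df_52 : dfB 52 = true := by decide +kernel

theorem df_60 : dfB 60 = true := by decide +kernel

theorem c9l0c_0 : allPow (below (nat_lit 1280) (L0.levT e.T c9l0S c9l0r c9l0 e.N)) 11 (0 * 2 ^ 11) = true := by decide +kernel

theorem ptA_0 : allPow (below (nat_lit 1408) (LA0.toLv.ptB e.T e.N)) 11 (0 * 2 ^ 11) = true := by decide +kernel

theorem rl8 : allL Rl8 (P.relB fun j => Mt (ren L0.HNFB.P.k (nat_lit 45) j)) = true := by decide +kernel

theorem df_13 : dfB 13 = true := by decide +kernel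

theorem df_14 : dfB 14 = true := by decide +kernel

theorem clA_0 : all2 (((([] :: CLA)).drop (0 * 22)).take 22) (clE e.U e.K X ([] :: CLA) (DA.DH ++ DA.DG)) clAq0 = true := by decide +kernel

theorem s4 : (allL ([] :: CLA) fun c => neW e.U e.K X (c ++ DB.b) (b1 ++ c)) = true := by decide +kernel

theorem rB6x4c : DB.repB e X d6 rB6x4 = true := by decide +kernel

theorem df_15 : dfB 15 = true := by decide +kernel

theorem df_18 : dfB 18 = true := by decide +kernel

theorem df_23 : dfB 23 = true := by decide +kernel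

theorem rB : relsB e.U e.K X [t2, DB.b, DA.b] relB = true := by decide +kernel

theorem df_11 : dfB 11 = true := by decide +kernel

theorem v2l0b_0 : allPow (below (nat_lit 80) (e.orbB (Env.sing v2l0S) v2l0r v2l0 v2l0t (nat_lit 128))) 7 (0 * 2 ^ 7) = true := by decide +kernel

theorem v2l2b_0 : allPow (below (nat_lit 50) (e.orbB (Env.sing v2l2S) v2l2r v2l2 v2l2t (nat_lit 64))) 6 (0 * 2 ^ 6) = true := by decide +kernel

theorem syB8 : DB.sylB e d8 cB8 = true := by decide +kernel

theorem syB9 : DB.sylB e d9 cB9 = true := by decide +kernel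

theorem rB6x2c : DB.repB e X d6 rB6x2 = true := by decide +kernel

theorem rB6x0c : DB.repB e X d6 rB6x0 = true := by decide +kernel

theorem c3l0c_0 : allPow (below (nat_lit 84) (L0.levT e.T c3l0S c3l0r c3l0 e.N)) 7 (0 * 2 ^ 7) = true := by decide +kernel

theorem ab : abB e.U e.K X DA.b DB.b 11 2 (1539000 * 177408000) reps relA = true := by decide +kernel

theorem c1l1c_0 : allPow (below (nat_lit 42) (L0.levT e.T c1l1S c1l1r c1l1 e.N)) 6 (0 * 2 ^ 6) = true := by decide +kernel

theorem c2l0c_0 : allPow (below (nat_lit 32) (L0.levT e.T c2l0S c2l0r c2l0 e.N)) 5 (0 * 2 ^ 5) = true := by decide +kernel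

theorem c3l1a : allL c3l1S (e.inT d3) = true := by decide +kernel

theorem c2l0a : allL c2l0S (e.inT d2) = true := by decide +kernel

theorem v0l0a : (L0.lettersB e.K (Env.sing v0l0S) && Nat.blt v0l0.β e.M && Nat.ble v0l0.n 256 && Nat.blt (nat_lit 211) v0l0.n &&
    Nat.beq (Nat.land (v0l0r (nat_lit 211)) v0l0.pm) v0l0.β && e.subB v0l0S v0l1S v0l0.β) = true := by decide +kernel

theorem v2l2a : (L0.lettersB e.K (Env.sing v2l2S) && Nat.blt v2l2.β e.M && Nat.ble v2l2.n 50 && Nat.blt (nat_lit 39) v2l2.n &&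
    Nat.beq (Nat.land (v2l2r (nat_lit 39)) v2l2.pm) v2l2.β && e.subB v2l2S [] v2l2.β) = true := by decide +kernel

theorem v3l0a : (L0.lettersB e.K (Env.sing v3l0S) && Nat.blt v3l0.β e.M && Nat.ble v3l0.n 19 && Nat.blt (nat_lit 17) v3l0.n &&
    Nat.beq (Nat.land (v3l0r (nat_lit 17)) v3l0.pm) v3l0.β && e.subB v3l0S [] v3l0.β) = true := by decide +kernel

theorem syA3 : DA.sylB e d3 cA3 = true := by decide +kernel

theorem syA7 : DA.sylB e d7 cA7 = true := by decide +kernel

theorem c2l1a : allL c2l1S (e.inT d2) = true := by decide +kernel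

theorem c8l0a : allL c8l0S (e.inT d8) = true := by decide +kernel

theorem c3l2a : allL c3l2S (e.inT d3) = true := by decide +kernel

theorem c1l1a : allL c1l1S (e.inT d1) = true := by decide +kernel

theorem c1l3a : allL c1l3S (e.inT d1) = true := by decide +kernel

theorem c1l1b : (L0.lettersB e.k c1l1S && L0.RAct.fixB e.T c1l1S [c1l0.β] && Nat.blt c1l1.β e.N && Nat.ble c1l1.n 42) = true := by decide +kernel

theorem c2l3b : (L0.lettersB e.k c2l3S && L0.RAct.fixB e.T c2l3S [c2l2.β, c2l1.β, c2l0.β] && Nat.blt c2l3.β e.N && Nat.ble c2l3.n 6) = true := by decide +kernel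

theorem c2l0b : (L0.lettersB e.k c2l0S && L0.RAct.fixB e.T c2l0S [] && Nat.blt c2l0.β e.N && Nat.ble c2l0.n 32) = true := by decide +kernel

theorem c3l1b : (L0.lettersB e.k c3l1S && L0.RAct.fixB e.T c3l1S [c3l0.β] && Nat.blt c3l1.β e.N && Nat.ble c3l1.n 5) = true := by decide +kernel

theorem c5l3b : (L0.lettersB e.k c5l3S && L0.RAct.fixB e.T c5l3S [c5l2.β, c5l1.β, c5l0.β] && Nat.blt c5l3.β e.N && Nat.ble c5l3.n 5) = true := by decide +kernel

theorem c5l0b : (L0.lettersB e.k c5l0S && L0.RAct.fixB e.T c5l0S [] && Nat.blt c5l0.β e.N && Nat.ble c5l0.n 4) = true := by decide +kernel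

theorem c6l0b : (L0.lettersB e.k c6l0S && L0.RAct.fixB e.T c6l0S [] && Nat.blt c6l0.β e.N && Nat.ble c6l0.n 2) = true := by decide +kernel

theorem c9l3b : (L0.lettersB e.k c9l3S && L0.RAct.fixB e.T c9l3S [c9l2.β, c9l1.β, c9l0.β] && Nat.blt c9l3.β e.N && Nat.ble c9l3.n 2) = true := by decide +kernel

theorem c9l0b : (L0.lettersB e.k c9l0S && L0.RAct.fixB e.T c9l0S [] && Nat.blt c9l0.β e.N && Nat.ble c9l0.n 1280) = true := by decide +kernel

theorem c3l3a : allL c3l3S (e.inT d3) = true := by decide +kernel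

theorem c6l0a : allL c6l0S (e.inT d6) = true := by decide +kernel

theorem c2l4a : allL c2l4S (e.inT d2) = true := by decide +kernel

theorem c6l2c_0 : allPow (below (nat_lit 10) (L0.levT e.T c6l2S c6l2r c6l2 e.N)) 4 (0 * 2 ^ 4) = true := by decide +kernel

theorem df_2 : dfB 2 = true := by decide +kernel

theorem df_5 : dfB 5 = true := by decide +kernel

theorem df_8 : dfB 8 = true := by decide +kernel

theorem df_29 : dfB 29 = true := by decide +kernel

theorem df_32 : dfB 32 = true := by decide +kernel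

theorem df_35 : dfB 35 = true := by decide +kernel

theorem df_38 : dfB 38 = true := by decide +kernel

theorem df_42 : dfB 42 = true := by decide +kernel

theorem df_45 : dfB 45 = true := by decide +kernel

theorem stB : LB0.toLv.statB e.T e.N e.k [] = true := by decide +kernel

theorem c9l1c_0 : allPow (below (nat_lit 6) (L0.levT e.T c9l1S c9l1r c9l1 e.N)) 3 (0 * 2 ^ 3) = true := by decide +kernel

theorem c3l1c_0 : allPow (below (nat_lit 5) (L0.levT e.T c3l1S c3l1r c3l1 e.N)) 3 (0 * 2 ^ 3) = true := by decide +kernel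

theorem c2l2c_0 : allPow (below (nat_lit 5) (L0.levT e.T c2l2S c2l2r c2l2 e.N)) 3 (0 * 2 ^ 3) = true := by decide +kernel

theorem c8l1c_0 : allPow (below (nat_lit 4) (L0.levT e.T c8l1S c8l1r c8l1 e.N)) 2 (0 * 2 ^ 2) = true := by decide +kernel

theorem c5l4c_0 : allPow (below (nat_lit 2) (L0.levT e.T c5l4S c5l4r c5l4 e.N)) 1 (0 * 2 ^ 1) = true := by decide +kernel

theorem c6l0c_0 : allPow (below (nat_lit 2) (L0.levT e.T c6l0S c6l0r c6l0 e.N)) 1 (0 * 2 ^ 1) = true := by decide +kernel

end Cfsg.Agent.H9.OHN
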