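import Cfsg.Agent.H9.OHNC0
import Cfsg.Agent.H9.OHNC1
import Cfsg.Agent.H9.OHNC2

/-! Outer automorphisms of the group HN. -/

set_option autoImplicit false
set_option maxRecDepth 100000

namespace Cfsg.Agent.H9.OHN

theorem slp : ∀ i < 1408, (slpB (mix L0.HNFB.P.k L0.HNFB.P.T T1) WH L0.HNFB.P.k) i = true :=
  all_of_blocks (d := 8) (m := 6) (by decide) (forall_lt_succ'' (forall_lt_succ'' (forall_lt_succ'' (forall_lt_succ'' (forall_lt_succ'' (forall_lt_succ'' forall_lt_zero'' slp_0) slp_1) slp_2) slp_3) slp_4) slp_5)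

theorem rel : ∀ r ∈ Rl, P.relB (fun j => Mt (ren L0.HNFB.P.k (nat_lit 45) j)) r = true :=
  List.forall_mem_append.mpr ⟨(allL_iff _ _).mp rl0, List.forall_mem_append.mpr ⟨(allL_iff _ _).mp rl1, List.forall_mem_append.mpr ⟨(allL_iff _ _).mp rl2, List.forall_mem_append.mpr ⟨(allL_iff _ _).mp rl3, List.forall_mem_append.mpr ⟨(allL_iff _ _).mp rl4, List.forall_mem_append.mpr ⟨(allL_iff _ _).mp rl5, List.forall_mem_append.mpr ⟨(allL_iff _ _).mp rl6, List.forall_mem_append.mpr ⟨(allL_iff _ _).mp rl7, (allL_iff _ _).mp rl8⟩⟩⟩⟩⟩⟩⟩⟩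

theorem df_a0 : ∀ j < 30, dfB j = true :=
  (forall_lt_succ'' (forall_lt_succ'' (forall_lt_succ'' (forall_lt_succ'' (forall_lt_succ'' (forall_lt_succ'' (forall_lt_succ'' (forall_lt_succ'' (forall_lt_succ'' (forall_lt_succ'' (forall_lt_succ'' (forall_lt_succ'' (forall_lt_succ'' (forall_lt_succ'' (forall_lt_succ'' (forall_lt_succ'' (forall_lt_succ'' (forall_lt_succ'' (forall_lt_succ'' (forall_lt_succ'' (forall_lt_succ'' (forall_lt_succ'' (forall_lt_succ'' (forall_lt_succ'' (forall_lt_succ'' (forall_lt_succ'' (forall_lt_succ'' (forall_lt_succ'' (forall_lt_succ'' (forall_lt_succ'' forall_lt_zero'' df_0) df_1) df_2) df_3) df_4) df_5) df_6) df_7) df_8) df_9) df_10) df_11) df_12) df_13) df_14) df_15) df_16) df_17) df_18) df_19) df_20) df_21) df_22) df_23) df_24) df_25) df_26) df_27) df_28) df_29)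

theorem df_a30 : ∀ j < 60, dfB j = true :=
  (forall_lt_succ'' (forall_lt_succ'' (forall_lt_succ'' (forall_lt_succ'' (forall_lt_succ'' (forall_lt_succ'' (forall_lt_succ'' (forall_lt_succ'' (forall_lt_succ'' (forall_lt_succ'' (forall_lt_succ'' (forall_lt_succ'' (forall_lt_succ'' (forall_lt_succ'' (forall_lt_succ'' (forall_lt_succ'' (forall_lt_succ'' (forall_lt_succ'' (forall_lt_succ'' (forall_lt_succ'' (forall_lt_succ'' (forall_lt_succ'' (forall_lt_succ'' (forall_lt_succ'' (forall_lt_succ'' (forall_lt_succ'' (forall_lt_succ'' (forall_lt_succ'' (forall_lt_succ'' (forall_lt_succ'' df_a0 df_30) df_31) df_32) df_33) df_34) df_35) df_36) df_37) df_38) df_39) df_40) df_41) df_42) df_43) df_44) df_45) df_46) df_47) df_48) df_49) df_50) df_51) df_52) df_53) df_54) df_55) df_56) df_57) df_58) df_59)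

theorem df : ∀ j < 64, dfB j = true :=
  (forall_lt_succ'' (forall_lt_succ'' (forall_lt_succ'' (forall_lt_succ'' df_a30 df_60) df_61) df_62) df_63)

theorem c1l4c : ∀ i < 2, (L0.levT e.T c1l4S c1l4r c1l4 e.N) i = true :=
  all_of_blocks (d := 1) (m := 1) (by decide) (forall_lt_succ'' forall_lt_zero'' c1l4c_0)

theorem c1l3c : ∀ i < 6, (L0.levT e.T c1l3S c1l3r c1l3 e.N) i = true :=
  all_of_blocks (d := 3) (m := 1) (by decide) (forall_lt_succ'' forall_lt_zero'' c1l3c_0)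

theorem c1l2c : ∀ i < 5, (L0.levT e.T c1l2S c1l2r c1l2 e.N) i = true :=
  all_of_blocks (d := 3) (m := 1) (by decide) (forall_lt_succ'' forall_lt_zero'' c1l2c_0)

theorem c1l1c : ∀ i < 42, (L0.levT e.T c1l1S c1l1r c1l1 e.N) i = true :=
  all_of_blocks (d := 6) (m := 1) (by decide) (forall_lt_succ'' forall_lt_zero'' c1l1c_0)

theorem c1l0c : ∀ i < 50, (L0.levT e.T c1l0S c1l0r c1l0 e.N) i = true :=
  all_of_blocks (d := 6) (m := 1) (by decide) (forall_lt_succ'' forall_lt_zero'' c1l0c_0)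

theorem c2l4c : ∀ i < 2, (L0.levT e.T c2l4S c2l4r c2l4 e.N) i = true :=
  all_of_blocks (d := 1) (m := 1) (by decide) (forall_lt_succ'' forall_lt_zero'' c2l4c_0)

theorem c2l3c : ∀ i < 6, (L0.levT e.T c2l3S c2l3r c2l3 e.N) i = true :=
  all_of_blocks (d := 3) (m := 1) (by decide) (forall_lt_succ'' forall_lt_zero'' c2l3c_0)

theorem c2l2c : ∀ i < 5, (L0.levT e.T c2l2S c2l2r c2l2 e.N) i = true :=
  all_of_blocks (d := 3) (m := 1) (by decide) (forall_lt_succ'' forall_lt_zero'' c2l2c_0)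

theorem c2l1c : ∀ i < 42, (L0.levT e.T c2l1S c2l1r c2l1 e.N) i = true :=
  all_of_blocks (d := 6) (m := 1) (by decide) (forall_lt_succ'' forall_lt_zero'' c2l1c_0)

theorem c2l0c : ∀ i < 32, (L0.levT e.T c2l0S c2l0r c2l0 e.N) i = true :=
  all_of_blocks (d := 5) (m := 1) (by decide) (forall_lt_succ'' forall_lt_zero'' c2l0c_0)

theorem c3l3c : ∀ i < 2, (L0.levT e.T c3l3S c3l3r c3l3 e.N) i = true :=
  all_of_blocks (d := 1) (m := 1) (by decide) (forall_lt_succ'' forall_lt_zero'' c3l3c_0)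

theorem c3l2c : ∀ i < 6, (L0.levT e.T c3l2S c3l2r c3l2 e.N) i = true :=
  all_of_blocks (d := 3) (m := 1) (by decide) (forall_lt_succ'' forall_lt_zero'' c3l2c_0)

theorem c3l1c : ∀ i < 5, (L0.levT e.T c3l1S c3l1r c3l1 e.N) i = true :=
  all_of_blocks (d := 3) (m := 1) (by decide) (forall_lt_succ'' forall_lt_zero'' c3l1c_0)

theorem c3l0c : ∀ i < 84, (L0.levT e.T c3l0S c3l0r c3l0 e.N) i = true :=
  all_of_blocks (d := 7) (m := 1) (by decide) (forall_lt_succ'' forall_lt_zero'' c3l0c_0)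

theorem c5l4c : ∀ i < 2, (L0.levT e.T c5l4S c5l4r c5l4 e.N) i = true :=
  all_of_blocks (d := 1) (m := 1) (by decide) (forall_lt_succ'' forall_lt_zero'' c5l4c_0)

theorem c5l3c : ∀ i < 5, (L0.levT e.T c5l3S c5l3r c5l3 e.N) i = true :=
  all_of_blocks (d := 3) (m := 1) (by decide) (forall_lt_succ'' forall_lt_zero'' c5l3c_0)

theorem c5l2c : ∀ i < 6, (L0.levT e.T c5l2S c5l2r c5l2 e.N) i = true :=
  all_of_blocks (d := 3) (m := 1) (by decide) (forall_lt_succ'' forall_lt_zero'' c5l2c_0)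

theorem c5l1c : ∀ i < 6, (L0.levT e.T c5l1S c5l1r c5l1 e.N) i = true :=
  all_of_blocks (d := 3) (m := 1) (by decide) (forall_lt_succ'' forall_lt_zero'' c5l1c_0)

theorem c5l0c : ∀ i < 4, (L0.levT e.T c5l0S c5l0r c5l0 e.N) i = true :=
  all_of_blocks (d := 2) (m := 1) (by decide) (forall_lt_succ'' forall_lt_zero'' c5l0c_0)

theorem c6l2c : ∀ i < 10, (L0.levT e.T c6l2S c6l2r c6l2 e.N) i = true :=
  all_of_blocks (d := 4) (m := 1) (by decide) (forall_lt_succ'' forall_lt_zero'' c6l2c_0)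

theorem c6l1c : ∀ i < 25, (L0.levT e.T c6l1S c6l1r c6l1 e.N) i = true :=
  all_of_blocks (d := 5) (m := 1) (by decide) (forall_lt_succ'' forall_lt_zero'' c6l1c_0)

theorem c6l0c : ∀ i < 2, (L0.levT e.T c6l0S c6l0r c6l0 e.N) i = true :=
  all_of_blocks (d := 1) (m := 1) (by decide) (forall_lt_succ'' forall_lt_zero'' c6l0c_0)

theorem c8l1c : ∀ i < 4, (L0.levT e.T c8l1S c8l1r c8l1 e.N) i = true :=
  all_of_blocks (d := 2) (m := 1) (by decide) (forall_lt_succ'' forall_lt_zero'' c8l1c_0)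

theorem c8l0c : ∀ i < 160, (L0.levT e.T c8l0S c8l0r c8l0 e.N) i = true :=
  all_of_blocks (d := 8) (m := 1) (by decide) (forall_lt_succ'' forall_lt_zero'' c8l0c_0)

theorem c9l3c : ∀ i < 2, (L0.levT e.T c9l3S c9l3r c9l3 e.N) i = true :=
  all_of_blocks (d := 1) (m := 1) (by decide) (forall_lt_succ'' forall_lt_zero'' c9l3c_0)

theorem c9l2c : ∀ i < 2, (L0.levT e.T c9l2S c9l2r c9l2 e.N) i = true :=
  all_of_blocks (d := 1) (m := 1) (by decide) (forall_lt_succ'' forall_lt_zero'' c9l2c_0)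

theorem c9l1c : ∀ i < 6, (L0.levT e.T c9l1S c9l1r c9l1 e.N) i = true :=
  all_of_blocks (d := 3) (m := 1) (by decide) (forall_lt_succ'' forall_lt_zero'' c9l1c_0)

theorem c9l0c : ∀ i < 1280, (L0.levT e.T c9l0S c9l0r c9l0 e.N) i = true :=
  all_of_blocks (d := 11) (m := 1) (by decide) (forall_lt_succ'' forall_lt_zero'' c9l0c_0)

theorem bsc : ∀ i < 240, (L0.levT e.U bsS bsr bs e.M) i = true :=
  all_of_blocks (d := 8) (m := 1) (by decide) (forall_lt_succ'' forall_lt_zero'' bsc_0)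

theorem v0l1b : ∀ i < 192, (e.orbB (Env.sing v0l1S) v0l1r v0l1 v0l1t (nat_lit 256)) i = true :=
  all_of_blocks (d := 8) (m := 1) (by decide) (forall_lt_succ'' forall_lt_zero'' v0l1b_0)

theorem v0l0b : ∀ i < 256, (e.orbB (Env.sing v0l0S) v0l0r v0l0 v0l0t (nat_lit 256)) i = true :=
  all_of_blocks (d := 8) (m := 1) (by decide) (forall_lt_succ'' forall_lt_zero'' v0l0b_0)

theorem v1l1b : ∀ i < 162, (e.orbB (Env.sing v1l1S) v1l1r v1l1 v1l1t (nat_lit 256)) i = true :=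
  all_of_blocks (d := 8) (m := 1) (by decide) (forall_lt_succ'' forall_lt_zero'' v1l1b_0)

theorem v1l0b : ∀ i < 180, (e.orbB (Env.sing v1l0S) v1l0r v1l0 v1l0t (nat_lit 256)) i = true :=
  all_of_blocks (d := 8) (m := 1) (by decide) (forall_lt_succ'' forall_lt_zero'' v1l0b_0)

theorem v2l2b : ∀ i < 50, (e.orbB (Env.sing v2l2S) v2l2r v2l2 v2l2t (nat_lit 64)) i = true :=
  all_of_blocks (d := 6) (m := 1) (by decide) (forall_lt_succ'' forall_lt_zero'' v2l2b_0)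

theorem v2l1b : ∀ i < 125, (e.orbB (Env.sing v2l1S) v2l1r v2l1 v2l1t (nat_lit 128)) i = true :=
  all_of_blocks (d := 7) (m := 1) (by decide) (forall_lt_succ'' forall_lt_zero'' v2l1b_0)

theorem v2l0b : ∀ i < 80, (e.orbB (Env.sing v2l0S) v2l0r v2l0 v2l0t (nat_lit 128)) i = true :=
  all_of_blocks (d := 7) (m := 1) (by decide) (forall_lt_succ'' forall_lt_zero'' v2l0b_0)

theorem v3l0b : ∀ i < 19, (e.orbB (Env.sing v3l0S) v3l0r v3l0 v3l0t (nat_lit 32)) i = true :=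
  all_of_blocks (d := 5) (m := 1) (by decide) (forall_lt_succ'' forall_lt_zero'' v3l0b_0)

theorem ptA : ∀ i < 1408, (LA0.toLv.ptB e.T e.N) i = true :=
  all_of_blocks (d := 11) (m := 1) (by decide) (forall_lt_succ'' forall_lt_zero'' ptA_0)

theorem chA : ChainChk e.T e.N e.k ((LA0 :: LAs).map SLv.toLv) [] :=
  ⟨stA, ptA, chainChk_of cbA⟩

theorem scA : ∀ i < 1408, (scanB e.T iv (tr e.T DA.y) LA0 LAs []) i = true :=
  all_of_blocks (d := 11) (m := 1) (by decide) (forall_lt_succ'' forall_lt_zero'' scA_0)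

theorem h3A : ∀ d ∈ Wd, ∃ c : CC, DA.sylB e d c = true ∧ ∀ r ∈ c.reps, DA.repB e X d r = true :=
  List.forall_mem_cons.mpr ⟨⟨cA1, syA1, fun _ h => absurd h List.not_mem_nil⟩, List.forall_mem_cons.mpr ⟨⟨cA2, syA2, fun _ h => absurd h List.not_mem_nil⟩, List.forall_mem_cons.mpr ⟨⟨cA3, syA3, fun _ h => absurd h List.not_mem_nil⟩, List.forall_mem_cons.mpr ⟨⟨cA5, syA5, fun _ h => absurd h List.not_mem_nil⟩, List.forall_mem_cons.mpr ⟨⟨cA6, syA6, fun _ h => absurd h List.not_mem_nil⟩, List.forall_mem_cons.mpr ⟨⟨cA7, syA7, fun _ h => absurd h List.not_mem_nil⟩, List.forall_mem_cons.mpr ⟨⟨cA8, syA8, fun _ h => absurd h List.not_mem_nil⟩, List.forall_mem_cons.mpr ⟨⟨cA9, syA9, fun _ h => absurd h List.not_mem_nil⟩, fun _ h => absurd h List.not_mem_nil⟩⟩⟩⟩⟩⟩⟩⟩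

theorem clA : ∀ c ∈ ([] :: CLA), ∃ q, (clE e.U e.K X ([] :: CLA) (DA.DH ++ DA.DG)) c q = true :=
  forall_chunks 22 1 (forall_lt_succ'' forall_lt_zero'' (all2_ex clA_0)) (by decide +kernel)

theorem ptB : ∀ i < 1408, (LB0.toLv.ptB e.T e.N) i = true :=
  all_of_blocks (d := 11) (m := 1) (by decide) (forall_lt_succ'' forall_lt_zero'' ptB_0)

theorem chB : ChainChk e.T e.N e.k ((LB0 :: LBs).map SLv.toLv) [] :=
  ⟨stB, ptB, chainChk_of cbB⟩

theorem scB : ∀ i < 1408, (scanB e.T iv (tr e.T DB.y) LB0 LBs []) i = true :=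
  all_of_blocks (d := 11) (m := 1) (by decide) (forall_lt_succ'' forall_lt_zero'' scB_0)

theorem rhB0 : ∀ i < 1408, (rhB rhoB0) i = true :=
  all_of_blocks (d := 8) (m := 6) (by decide) (forall_lt_succ'' (forall_lt_succ'' (forall_lt_succ'' (forall_lt_succ'' (forall_lt_succ'' (forall_lt_succ'' forall_lt_zero'' rhB0_0) rhB0_1) rhB0_2) rhB0_3) rhB0_4) rhB0_5)

theorem rhB1 : ∀ i < 1408, (rhB rhoB1) i = true :=
  all_of_blocks (d := 8) (m := 6) (by decide) (forall_lt_succ'' (forall_lt_succ'' (forall_lt_succ'' (forall_lt_succ'' (forall_lt_succ'' (forall_lt_succ'' forall_lt_zero'' rhB1_0) rhB1_1) rhB1_2) rhB1_3) rhB1_4) rhB1_5)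

theorem h3B : ∀ d ∈ Wd, ∃ c : CC, DB.sylB e d c = true ∧ ∀ r ∈ c.reps, DB.repB e X d r = true :=
  List.forall_mem_cons.mpr ⟨⟨cB1, syB1, List.forall_mem_cons.mpr ⟨rB1x0c, List.forall_mem_cons.mpr ⟨rB1x1c, fun _ h => absurd h List.not_mem_nil⟩⟩⟩, List.forall_mem_cons.mpr ⟨⟨cB2, syB2, fun _ h => absurd h List.not_mem_nil⟩, List.forall_mem_cons.mpr ⟨⟨cB3, syB3, fun _ h => absurd h List.not_mem_nil⟩, List.forall_mem_cons.mpr ⟨⟨cB5, syB5, fun _ h => absurd h List.not_mem_nil⟩, List.forall_mem_cons.mpr ⟨⟨cB6, syB6, List.forall_mem_cons.mpr ⟨rB6x0c, List.forall_mem_cons.mpr ⟨rB6x1c, List.forall_mem_cons.mpr ⟨rB6x2c, List.forall_mem_cons.mpr ⟨rB6x3c, List.forall_mem_cons.mpr ⟨rB6x4c, List.forall_mem_cons.mpr ⟨rB6x5c, fun _ h => absurd h List.not_mem_nil⟩⟩⟩⟩⟩⟩⟩, List.forall_mem_cons.mpr ⟨⟨cB7, syB7, fun _ h => absurd h List.not_mem_nil⟩, List.forall_mem_cons.mpr ⟨⟨cB8, syB8, fun _ h => absurd h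 List.not_mem_nil⟩, List.forall_mem_cons.mpr ⟨⟨cB9, syB9, fun _ h => absurd h List.not_mem_nil⟩, fun _ h => absurd h List.not_mem_nil⟩⟩⟩⟩⟩⟩⟩⟩

theorem clB : ∀ c ∈ ([] :: CLB), ∃ q, (clE e.U e.K X ([] :: CLB) (DB.DH ++ DB.DG)) c q = true :=
  forall_chunks 42 3 (forall_lt_succ'' (forall_lt_succ'' (forall_lt_succ'' forall_lt_zero'' (all2_ex clB_0)) (all2_ex clB_1)) (all2_ex clB_2)) (by decide +kernel)

theorem sA : ∀ c ∈ ([] :: CLA), ∃ q, (stgB e.U e.K X [] [DA.b] relA DB.b b1 true true) c q = true :=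
  forall_chunks 22 1 (forall_lt_succ'' forall_lt_zero'' (all2_ex sA_0)) (by decide +kernel)

theorem sB0 : ∀ c ∈ ([] :: CLB), ∃ q, (stgB e.U e.K X [DB.b, aw0] [DB.b, aw0] relB t2 t2 ([DB.b, aw0] == [DB.b, DA.b]) false) c q = true :=
  forall_chunks 100 1 (forall_lt_succ'' forall_lt_zero'' (all2_ex sB0_0)) (by decide +kernel)

set_option linter.unusedSectionVars false
set_option linter.style.haveILetI false

section
variable {H G : Type} [Group H] [Group G] [Finite H] [Finite G] {A : RA H e.N} {g : ℕ → H}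
  {V : RA G e.M} {γ : ℕ → G} {φ : H →* G}

theorem le1 (C : Ctx e A g V γ φ Wd) : d1.s ≤ Nat.card (TT φ (L0.ev γ d1.w)) :=
  le_of_eq_of_le (b := c1l0.n * (c1l1.n * (c1l2.n * (c1l3.n * (c1l4.n * (1)))))) (by decide +kernel) (ChB.le (chB_cons (C.lev (.head _) (L0.ofRA_tab C.tab) c1l0a c1l0b c1l0c) (chB_cons (C.lev (.head _) (L0.ofRA_tab C.tab) c1l1a c1l1b c1l1c) (chB_cons (C.lev (.head _) (L0.ofRA_tab C.tab) c1l2a c1l2b c1l2c) (chB_cons (C.lev (.head _) (L0.ofRA_tab C.tab) c1l3a c1l3b c1l3c) (chB_cons (C.lev (.head _) (L0.ofRA_tab C.tab) c1l4a c1l4b c1l4c) chB_nil))))))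

theorem le2 (C : Ctx e A g V γ φ Wd) : d2.s ≤ Nat.card (TT φ (L0.ev γ d2.w)) :=
  le_of_eq_of_le (b := c2l0.n * (c2l1.n * (c2l2.n * (c2l3.n * (c2l4.n * (1)))))) (by decide +kernel) (ChB.le (chB_cons (C.lev (.tail _ (.head _)) (L0.ofRA_tab C.tab) c2l0a c2l0b c2l0c) (chB_cons (C.lev (.tail _ (.head _)) (L0.ofRA_tab C.tab) c2l1a c2l1b c2l1c) (chB_cons (C.lev (.tail _ (.head _)) (L0.ofRA_tab C.tab) c2l2a c2l2b c2l2c) (chB_cons (C.lev (.tail _ (.head _)) (L0.ofRA_tab C.tab) c2l3a c2l3b c2l3c) (chB_cons (C.lev (.tail _ (.head _)) (L0.ofRA_tab C.tab) c2l4a c2l4b c2l4c) chB_nil))))))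

theorem le3 (C : Ctx e A g V γ φ Wd) : d3.s ≤ Nat.card (TT φ (L0.ev γ d3.w)) :=
  le_of_eq_of_le (b := c3l0.n * (c3l1.n * (c3l2.n * (c3l3.n * (1))))) (by decide +kernel) (ChB.le (chB_cons (C.lev (.tail _ (.tail _ (.head _))) (L0.ofRA_tab C.tab) c3l0a c3l0b c3l0c) (chB_cons (C.lev (.tail _ (.tail _ (.head _))) (L0.ofRA_tab C.tab) c3l1a c3l1b c3l1c) (chB_cons (C.lev (.tail _ (.tail _ (.head _))) (L0.ofRA_tab C.tab) c3l2a c3l2b c3l2c) (chB_cons (C.lev (.tail _ (.tail _ (.head _))) (L0.ofRA_tab C.tab) c3l3a c3l3b c3l3c) chB_nil)))))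

theorem le5 (C : Ctx e A g V γ φ Wd) : d5.s ≤ Nat.card (TT φ (L0.ev γ d5.w)) :=
  le_of_eq_of_le (b := c5l0.n * (c5l1.n * (c5l2.n * (c5l3.n * (c5l4.n * (1)))))) (by decide +kernel) (ChB.le (chB_cons (C.lev (.tail _ (.tail _ (.tail _ (.head _)))) (L0.ofRA_tab C.tab) c5l0a c5l0b c5l0c) (chB_cons (C.lev (.tail _ (.tail _ (.tail _ (.head _)))) (L0.ofRA_tab C.tab) c5l1a c5l1b c5l1c) (chB_cons (C.lev (.tail _ (.tail _ (.tail _ (.head _)))) (L0.ofRA_tab C.tab) c5l2a c5l2b c5l2c) (chB_cons (C.lev (.tail _ (.tail _ (.tail _ (.head _)))) (L0.ofRA_tab C.tab) c5l3a c5l3b c5l3c) (chB_cons (C.lev (.tail _ (.tail _ (.tail _ (.head _)))) (L0.ofRA_tab C.tab) c5l4a c5l4b c5l4c) chB_nil))))))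

theorem le6 (C : Ctx e A g V γ φ Wd) : d6.s ≤ Nat.card (TT φ (L0.ev γ d6.w)) :=
  le_of_eq_of_le (b := c6l0.n * (c6l1.n * (c6l2.n * (1)))) (by decide +kernel) (ChB.le (chB_cons (C.lev (.tail _ (.tail _ (.tail _ (.tail _ (.head _))))) (L0.ofRA_tab C.tab) c6l0a c6l0b c6l0c) (chB_cons (C.lev (.tail _ (.tail _ (.tail _ (.tail _ (.head _))))) (L0.ofRA_tab C.tab) c6l1a c6l1b c6l1c) (chB_cons (C.lev (.tail _ (.tail _ (.tail _ (.tail _ (.head _))))) (L0.ofRA_tab C.tab) c6l2a c6l2b c6l2c) chB_nil))))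

theorem le8 (C : Ctx e A g V γ φ Wd) : d8.s ≤ Nat.card (TT φ (L0.ev γ d8.w)) :=
  le_of_eq_of_le (b := c8l0.n * (c8l1.n * (1))) (by decide +kernel) (ChB.le (chB_cons (C.lev (.tail _ (.tail _ (.tail _ (.tail _ (.tail _ (.tail _ (.head _))))))) (L0.ofRA_tab C.tab) c8l0a c8l0b c8l0c) (chB_cons (C.lev (.tail _ (.tail _ (.tail _ (.tail _ (.tail _ (.tail _ (.head _))))))) (L0.ofRA_tab C.tab) c8l1a c8l1b c8l1c) chB_nil)))

theorem le9 (C : Ctx e A g V γ φ Wd) : d9.s ≤ Nat.card (TT φ (L0.ev γ d9.w)) :=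
  le_of_eq_of_le (b := c9l0.n * (c9l1.n * (c9l2.n * (c9l3.n * (1))))) (by decide +kernel) (ChB.le (chB_cons (C.lev (.tail _ (.tail _ (.tail _ (.tail _ (.tail _ (.tail _ (.tail _ (.head _)))))))) (L0.ofRA_tab C.tab) c9l0a c9l0b c9l0c) (chB_cons (C.lev (.tail _ (.tail _ (.tail _ (.tail _ (.tail _ (.tail _ (.tail _ (.head _)))))))) (L0.ofRA_tab C.tab) c9l1a c9l1b c9l1c) (chB_cons (C.lev (.tail _ (.tail _ (.tail _ (.tail _ (.tail _ (.tail _ (.tail _ (.head _)))))))) (L0.ofRA_tab C.tab) c9l2a c9l2b c9l2c) (chB_cons (C.lev (.tail _ (.tail _ (.tail _ (.tail _ (.tail _ (.tail _ (.tail _ (.head _)))))))) (L0.ofRA_tab C.tab) c9l3a c9l3b c9l3c) chB_nil)))))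

theorem chb (C : Ctx e A g V γ φ Wd) : ChB ((L0.ofRA V).comap φ) (TT φ (L0.ev γ d7.w)) [] [bs.β] d7.s :=
  (show bs.n * 1 = d7.s by decide +kernel) ▸ chB_cons (C.lev (.tail _ (.tail _ (.tail _ (.tail _ (.tail _ (.head _)))))) C.tabV bsa bsb bsc) chB_nil

theorem le7 (C : Ctx e A g V γ φ Wd) : d7.s ≤ Nat.card (TT φ (L0.ev γ d7.w)) := (chb C).le

theorem dv0 (C : Ctx e A g V γ φ Wd) : 49152 ∣ Nat.card G :=
  (show v0l0.n * (v0l1.n * (1)) = 49152 by decide +kernel) ▸ (C.dvd_step v0l0a v0l0b (C.dvd_step v0l1a v0l1b (one_dvd _))).trans (Subgroup.card_subgroup_dvd_card _)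

theorem dv1 (C : Ctx e A g V γ φ Wd) : 29160 ∣ Nat.card G :=
  (show v1l0.n * (v1l1.n * (1)) = 29160 by decide +kernel) ▸ (C.dvd_step v1l0a v1l0b (C.dvd_step v1l1a v1l1b (one_dvd _))).trans (Subgroup.card_subgroup_dvd_card _)

theorem dv2 (C : Ctx e A g V γ φ Wd) : 500000 ∣ Nat.card G :=
  (show v2l0.n * (v2l1.n * (v2l2.n * (1))) = 500000 by decide +kernel) ▸ (C.dvd_step v2l0a v2l0b (C.dvd_step v2l1a v2l1b (C.dvd_step v2l2a v2l2b (one_dvd _)))).trans (Subgroup.card_subgroup_dvd_card _)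

theorem dv3 (C : Ctx e A g V γ φ Wd) : 19 ∣ Nat.card G :=
  (show v3l0.n * (1) = 19 by decide +kernel) ▸ (C.dvd_step v3l0a v3l0b (one_dvd _)).trans (Subgroup.card_subgroup_dvd_card _)

theorem ord (C : Ctx e A g V γ φ Wd) (hh : Nat.card H = 177408000) :
    Nat.card G ∣ 1539000 * 177408000 ∧ ∀ d ∈ Wd, Nat.card (TT φ (L0.ev γ d.w)) = d.s :=
  C.orders (D := (Nat.lcm 49152 (Nat.lcm 29160 (Nat.lcm 500000 19)))) hh (List.forall_mem_cons.mpr ⟨le1 C, List.forall_mem_cons.mpr ⟨le2 C, List.forall_mem_cons.mpr ⟨le3 C, List.forall_mem_cons.mpr ⟨le5 C, List.forall_mem_cons.mpr ⟨le6 C, List.forall_mem_cons.mpr ⟨le7 C, List.forall_mem_cons.mpr ⟨le8 C, List.forall_mem_cons.mpr ⟨le9 C, fun _ h => absurd h List.not_mem_nil⟩⟩⟩⟩⟩⟩⟩⟩)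
    (Nat.lcm_dvd (dv0 C) (Nat.lcm_dvd (dv1 C) (Nat.lcm_dvd (dv2 C) (dv3 C)))) (by decide +kernel)

theorem base (C : Ctx e A g V γ φ Wd) (hh : Nat.card H = 177408000) : V.IsBase X ∧ Function.Injective φ :=
  C.isBase (.tail _ (.tail _ (.tail _ (.tail _ (.tail _ (.head _)))))) ((ord C hh).2 _ (.tail _ (.tail _ (.tail _ (.tail _ (.tail _ (.head _))))))) (chb C)

theorem gdA (C : Ctx e A g V γ φ Wd) (hh : Nat.card H = 177408000) : A.Good g e.k e.T ((LA0 :: LAs).map SLv.toLv) [] :=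
  (RA.card_eq_of_chain C.tab chA (hh.le.trans (by decide +kernel))).2

theorem cHA (C : Ctx e A g V γ φ Wd) (hh : Nat.card H = 177408000) : CH g DA :=
  C.ch_of (gdA C hh) hsA scA (fun _ h => absurd h List.not_mem_nil)

theorem ceA (C : Ctx e A g V γ φ Wd) (hh : Nat.card H = 177408000) : ∀ x, L0.ev γ DA.b * x = x * L0.ev γ DA.b →
    ∃ c ∈ [] :: CLA, x = L0.ev γ c := fun x hx =>
  list_of_clE C.tabG (base C hh).1 clA x (C.cent (base C hh).1 (base C hh).2 (ord C hh).2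
    (show Nat.Prime 11 by norm_num) (cHA C hh) hBA gBA h3A x hx)

theorem gdB (C : Ctx e A g V γ φ Wd) (hh : Nat.card H = 177408000) : A.Good g e.k e.T ((LB0 :: LBs).map SLv.toLv) [] :=
  (RA.card_eq_of_chain C.tab chB (hh.le.trans (by decide +kernel))).2

theorem cHB (C : Ctx e A g V γ φ Wd) (hh : Nat.card H = 177408000) : CH g DB :=
  C.ch_of (gdB C hh) hsB scB (List.forall_mem_cons.mpr ⟨rhB0, List.forall_mem_cons.mpr ⟨rhB1, fun _ h => absurd h List.not_mem_nil⟩⟩)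

theorem ceB (C : Ctx e A g V γ φ Wd) (hh : Nat.card H = 177408000) : ∀ x, L0.ev γ DB.b * x = x * L0.ev γ DB.b →
    ∃ c ∈ [] :: CLB, x = L0.ev γ c := fun x hx =>
  list_of_clE C.tabG (base C hh).1 clB x (C.cent (base C hh).1 (base C hh).2 (ord C hh).2
    (show Nat.Prime 5 by norm_num) (cHB C hh) hBB gBB h3B x hx)

theorem rg0 (C : Ctx e A g V γ φ Wd) (hh : Nat.card H = 177408000) : Rig γ [DB.b, DA.b] [DB.b, aw0] :=
  rig_step (j := 1) (i := 0) C.tabG (base C hh).1 (ceB C hh)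
    (by rw [r0, rB]; decide +kernel) sB0 (rig_gen (C.gen_top (base C hh).1 (gdB C hh) gn))

theorem rg (C : Ctx e A g V γ φ Wd) (hh : Nat.card H = 177408000) : ∀ q ∈ reps, Rig γ [DB.b, DA.b] [DB.b, q.2] :=
  List.forall_mem_cons.mpr ⟨rg0 C hh, fun _ h => absurd h List.not_mem_nil⟩

theorem out (C : Ctx e A g V γ φ Wd) (hh : Nat.card H = 177408000) {x : ℕ → G}
    (hp : L0.IsPres x 7 L0.HNG.R) (hx : ∀ i < 7, x i = L0.ev γ (L0.nthW S i)) : Nat.card (Cfsg.Out G) = 2 := by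
  obtain ⟨σ, h1, h2⟩ := exists_sigma (aw := aw) (bw := bw) C.tabG (base C hh).1 hp hx ((allL_iff _ _).mp s1) s2
    (by rw [s3a, s3b, s3c, s3d]; decide +kernel)
  exact out_two_of C.tabG (base C hh).1 (by norm_num) (ord C hh).1 (ceA C hh) ab sA (rg C hh) h1 h2 s4

end

theorem card_out : Nat.card (Cfsg.Out Cfsg.Spor.HN) = 2 := by
  haveI := L0.HNG.finite
  obtain ⟨A, ht, hb, hc⟩ := L0.HNG.exists_act
  obtain ⟨B, hB⟩ := L0.HNActN.ex
  obtain ⟨φ, z, h1, h2⟩ := L0.HNG.br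
  have h : L0.Dce.CtxH L0.HNFB.P A (L0.PG.gen 11 L0.HNH.R) :=
    L0.Dce.ctxH_of (R := L0.HNH.R) ht hb (fun _ => L0.PG.rel) (by decide +kernel)
  obtain ⟨g, V, γ, h3, C⟩ := exists_ctx h (L0.PG.genL_range _ _) L0.HNG.isPres h1 h2
    (L0.HNClo.fin h (L0.Dce.ctxG_one h h2 (by decide +kernel)) hB hc.le
      (L0.Dce.gen_of L0.HNG.isPres.gen_top h1)).2 hP slp rel df e1 e2
  refine out C hc L0.HNG.isPres fun i hi => ?_
  rw [h1 i hi, (show ∀ i < 7, L0.nthW S i = (L0.HNG.s i).map (ren L0.HNFB.P.k (nat_lit 45)) by decide +kernel) i hi,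
    L0.ev_map]
  exact L0.ev_congr fun j hj =>
    (h3 j ((show ∀ i < 7, ∀ j ∈ L0.HNG.s i, j < L0.HNFB.P.k + 2 by decide +kernel) i hi j hj)).symm

end Cfsg.Agent.H9.OHN
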