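import Cfsg.Agent.H9.OHND

/-! Outer automorphisms of the group HN. Checks. -/

set_option autoImplicit false
set_option maxRecDepth 100000

namespace Cfsg.Agent.H9.OHN

set_option Elab.async false

theorem e1 : (L0.lettersLt (L0.HNFB.P.k + 2) Rl &&
      (L0.HNG.R.all fun r => L0.consB (L0.HNFB.P.k + 2) L0.HNFB.P.iv Rl (r.flatMap L0.HNG.s)) &&
      (List.range (L0.HNFB.P.k + 2)).all fun j => decide (L0.HNFB.P.iv j < L0.HNFB.P.k + 2) && Rl.contains [j, L0.HNFB.P.iv j] &&
        (L0.HNG.t j).all (fun a => decide (a < 7)) &&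
        (L0.consB (L0.HNFB.P.k + 2) L0.HNFB.P.iv Rl (L0.HNFB.P.iv j :: (L0.HNG.t j).flatMap L0.HNG.s) &&
          L0.consB (L0.HNFB.P.k + 2) L0.HNFB.P.iv (L0.HNG.K.map fun r => r.flatMap fun i => [i]) (L0.HNFB.P.iv j :: (L0.HNG.t j).flatMap L0.HNG.s))) = true := by decide +kernel

theorem df_48 : dfB 48 = true := by decide +kernel

theorem df_63 : dfB 63 = true := by decide +kernel

theorem df_47 : dfB 47 = true := by decide +kernel

theorem rl1 : allL Rl1 (P.relB fun j => Mt (ren L0.HNFB.P.k (nat_lit 45) j)) = true := by decide +kernel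

theorem rl5 : allL Rl5 (P.relB fun j => Mt (ren L0.HNFB.P.k (nat_lit 45) j)) = true := by decide +kernel

theorem rhB0_2 : allPow (below (nat_lit 1408) (rhB rhoB0)) 8 (2 * 2 ^ 8) = true := by decide +kernel

theorem rhB1_0 : allPow (below (nat_lit 1408) (rhB rhoB1)) 8 (0 * 2 ^ 8) = true := by decide +kernel

theorem rhB1_3 : allPow (below (nat_lit 1408) (rhB rhoB1)) 8 (3 * 2 ^ 8) = true := by decide +kernel

theorem clB_2 : all2 (((([] :: CLB)).drop (2 * 42)).take 42) (clE e.U e.K X ([] :: CLB) (DB.DH ++ DB.DG)) clBq2 = true := by decide +kernel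

theorem sA_0 : all2 (((([] :: CLA)).drop (0 * 22)).take 22) (stgB e.U e.K X [] [DA.b] relA DB.b b1 true true) sAq0 = true := by decide +kernel

theorem df_50 : dfB 50 = true := by decide +kernel

theorem clB_0 : all2 (((([] :: CLB)).drop (0 * 42)).take 42) (clE e.U e.K X ([] :: CLB) (DB.DH ++ DB.DG)) clBq0 = true := by decide +kernel

theorem df_41 : dfB 41 = true := by decide +kernel

theorem s3c : eqW e.U e.K X (fm S bw) DB.b = true := by decide +kernel

theorem df_26 : dfB 26 = true := by decide +kernel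

theorem df_61 : dfB 61 = true := by decide +kernel

theorem scA_0 : allPow (below (nat_lit 1408) (scanB e.T iv (tr e.T DA.y) LA0 LAs [])) 11 (0 * 2 ^ 11) = true := by decide +kernel

theorem ptB_0 : allPow (below (nat_lit 1408) (LB0.toLv.ptB e.T e.N)) 11 (0 * 2 ^ 11) = true := by decide +kernel

theorem v0l0b_0 : allPow (below (nat_lit 256) (e.orbB (Env.sing v0l0S) v0l0r v0l0 v0l0t (nat_lit 256))) 8 (0 * 2 ^ 8) = true := by decide +kernel

theorem v0l1b_0 : allPow (below (nat_lit 192) (e.orbB (Env.sing v0l1S) v0l1r v0l1 v0l1t (nat_lit 256))) 8 (0 * 2 ^ 8) = true := by decide +kernel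

theorem df_24 : dfB 24 = true := by decide +kernel

theorem s1 : (allL L0.HNG.R fun r => eqW e.U e.K X (fm Y r) []) = true := by decide +kernel

theorem v1l1b_0 : allPow (below (nat_lit 162) (e.orbB (Env.sing v1l1S) v1l1r v1l1 v1l1t (nat_lit 256))) 8 (0 * 2 ^ 8) = true := by decide +kernel

theorem df_12 : dfB 12 = true := by decide +kernel

theorem df_17 : dfB 17 = true := by decide +kernel

theorem df_22 : dfB 22 = true := by decide +kernel

theorem s3b : eqW e.U e.K X (fm Y aw) DA.b = true := by decide +kernel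

theorem cbB : chainB e.T e.N e.k (LBs.map SLv.toLv) [LB0.toLv.β] = true := by decide +kernel

theorem cbA : chainB e.T e.N e.k (LAs.map SLv.toLv) [LA0.toLv.β] = true := by decide +kernel

theorem syB2 : DB.sylB e d2 cB2 = true := by decide +kernel

theorem c8l0c_0 : allPow (below (nat_lit 160) (L0.levT e.T c8l0S c8l0r c8l0 e.N)) 8 (0 * 2 ^ 8) = true := by decide +kernel

theorem syB3 : DB.sylB e d3 cB3 = true := by decide +kernel

theorem rB6x3c : DB.repB e X d6 rB6x3 = true := by decide +kernel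

theorem rB1x1c : DB.repB e X d1 rB1x1 = true := by decide +kernel

theorem syB5 : DB.sylB e d5 cB5 = true := by decide +kernel

theorem v3l0b_0 : allPow (below (nat_lit 19) (e.orbB (Env.sing v3l0S) v3l0r v3l0 v3l0t (nat_lit 32))) 5 (0 * 2 ^ 5) = true := by decide +kernel

theorem c9l1a : allL c9l1S (e.inT d9) = true := by decide +kernel

theorem bsa : allL bsS (e.inT d7) = true := by decide +kernel

theorem c8l1a : allL c8l1S (e.inT d8) = true := by decide +kernel

theorem v0l1a : (L0.lettersB e.K (Env.sing v0l1S) && Nat.blt v0l1.β e.M && Nat.ble v0l1.n 192 && Nat.blt (nat_lit 167) v0l1.n &&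
    Nat.beq (Nat.land (v0l1r (nat_lit 167)) v0l1.pm) v0l1.β && e.subB v0l1S [] v0l1.β) = true := by decide +kernel

theorem v1l0a : (L0.lettersB e.K (Env.sing v1l0S) && Nat.blt v1l0.β e.M && Nat.ble v1l0.n 180 && Nat.blt (nat_lit 57) v1l0.n &&
    Nat.beq (Nat.land (v1l0r (nat_lit 57)) v1l0.pm) v1l0.β && e.subB v1l0S v1l1S v1l0.β) = true := by decide +kernel

theorem v2l0a : (L0.lettersB e.K (Env.sing v2l0S) && Nat.blt v2l0.β e.M && Nat.ble v2l0.n 80 && Nat.blt (nat_lit 29) v2l0.n &&
    Nat.beq (Nat.land (v2l0r (nat_lit 29)) v2l0.pm) v2l0.β && e.subB v2l0S v2l1S v2l0.β) = true := by decide +kernel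

theorem syA2 : DA.sylB e d2 cA2 = true := by decide +kernel

theorem syA6 : DA.sylB e d6 cA6 = true := by decide +kernel

theorem syA9 : DA.sylB e d9 cA9 = true := by decide +kernel

theorem c6l1a : allL c6l1S (e.inT d6) = true := by decide +kernel

theorem c5l2a : allL c5l2S (e.inT d5) = true := by decide +kernel

theorem c2l3a : allL c2l3S (e.inT d2) = true := by decide +kernel

theorem c1l0a : allL c1l0S (e.inT d1) = true := by decide +kernel

theorem c1l4b : (L0.lettersB e.k c1l4S && L0.RAct.fixB e.T c1l4S [c1l3.β, c1l2.β, c1l1.β, c1l0.β] && Nat.blt c1l4.β e.N && Nat.ble c1l4.n 2) = true := by decide +kernel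

theorem c1l3b : (L0.lettersB e.k c1l3S && L0.RAct.fixB e.T c1l3S [c1l2.β, c1l1.β, c1l0.β] && Nat.blt c1l3.β e.N && Nat.ble c1l3.n 6) = true := by decide +kernel

theorem c1l0b : (L0.lettersB e.k c1l0S && L0.RAct.fixB e.T c1l0S [] && Nat.blt c1l0.β e.N && Nat.ble c1l0.n 50) = true := by decide +kernel

theorem c2l2b : (L0.lettersB e.k c2l2S && L0.RAct.fixB e.T c2l2S [c2l1.β, c2l0.β] && Nat.blt c2l2.β e.N && Nat.ble c2l2.n 5) = true := by decide +kernel

theorem c3l3b : (L0.lettersB e.k c3l3S && L0.RAct.fixB e.T c3l3S [c3l2.β, c3l1.β, c3l0.β] && Nat.blt c3l3.β e.N && Nat.ble c3l3.n 2) = true := by decide +kernel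

theorem c3l0b : (L0.lettersB e.k c3l0S && L0.RAct.fixB e.T c3l0S [] && Nat.blt c3l0.β e.N && Nat.ble c3l0.n 84) = true := by decide +kernel

theorem c5l2b : (L0.lettersB e.k c5l2S && L0.RAct.fixB e.T c5l2S [c5l1.β, c5l0.β] && Nat.blt c5l2.β e.N && Nat.ble c5l2.n 6) = true := by decide +kernel

theorem c6l2b : (L0.lettersB e.k c6l2S && L0.RAct.fixB e.T c6l2S [c6l1.β, c6l0.β] && Nat.blt c6l2.β e.N && Nat.ble c6l2.n 10) = true := by decide +kernel

theorem c8l1b : (L0.lettersB e.k c8l1S && L0.RAct.fixB e.T c8l1S [c8l0.β] && Nat.blt c8l1.β e.N && Nat.ble c8l1.n 4) = true := by decide +kernel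

theorem c9l2b : (L0.lettersB e.k c9l2S && L0.RAct.fixB e.T c9l2S [c9l1.β, c9l0.β] && Nat.blt c9l2.β e.N && Nat.ble c9l2.n 2) = true := by decide +kernel

theorem bsb : (L0.lettersB e.k bsS && L0.RAct.fixB e.U bsS [] && Nat.blt bs.β e.M && Nat.ble bs.n 240) = true := by decide +kernel

theorem c5l4a : allL c5l4S (e.inT d5) = true := by decide +kernel

theorem c1l2a : allL c1l2S (e.inT d1) = true := by decide +kernel

theorem r0 : eqW e.U e.K X (DB.b ++ t2) (t2 ++ rp 1 DB.b) = true := by decide +kernel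

theorem df_1 : dfB 1 = true := by decide +kernel

theorem df_4 : dfB 4 = true := by decide +kernel

theorem df_7 : dfB 7 = true := by decide +kernel

theorem df_10 : dfB 10 = true := by decide +kernel

theorem df_31 : dfB 31 = true := by decide +kernel

theorem df_34 : dfB 34 = true := by decide +kernel

theorem df_37 : dfB 37 = true := by decide +kernel

theorem df_40 : dfB 40 = true := by decide +kernel

theorem df_44 : dfB 44 = true := by decide +kernel

theorem stA : LA0.toLv.statB e.T e.N e.k [] = true := by decide +kernel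

theorem c5l2c_0 : allPow (below (nat_lit 6) (L0.levT e.T c5l2S c5l2r c5l2 e.N)) 3 (0 * 2 ^ 3) = true := by decide +kernel

theorem c5l1c_0 : allPow (below (nat_lit 6) (L0.levT e.T c5l1S c5l1r c5l1 e.N)) 3 (0 * 2 ^ 3) = true := by decide +kernel

theorem c1l2c_0 : allPow (below (nat_lit 5) (L0.levT e.T c1l2S c1l2r c1l2 e.N)) 3 (0 * 2 ^ 3) = true := by decide +kernel

theorem c5l0c_0 : allPow (below (nat_lit 4) (L0.levT e.T c5l0S c5l0r c5l0 e.N)) 2 (0 * 2 ^ 2) = true := by decide +kernel

theorem c3l3c_0 : allPow (below (nat_lit 2) (L0.levT e.T c3l3S c3l3r c3l3 e.N)) 1 (0 * 2 ^ 1) = true := by decide +kernel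

theorem c2l4c_0 : allPow (below (nat_lit 2) (L0.levT e.T c2l4S c2l4r c2l4 e.N)) 1 (0 * 2 ^ 1) = true := by decide +kernel

theorem gBA : DA.gB e X = true := by decide +kernel

end Cfsg.Agent.H9.OHN
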