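import Cfsg.Agent.H9.DO
import Cfsg.Agent.L0.HN.Grp
import Cfsg.Agent.H9.OHNL0
import Cfsg.Agent.H9.OHNL1
import Cfsg.Agent.H9.OHNL2

/-! Outer automorphisms of the group HN. Data. -/

set_option autoImplicit false
set_option maxRecDepth 100000

namespace Cfsg.Agent.H9.OHN

noncomputable def P : PM := ⟨nat_lit 133, nat_lit 22, nat_lit 5, nat_lit 1639, nat_lit 13, cM, rM, oM⟩

noncomputable def MtB : L0.BT := (.node (.node (.node (.node (.node (.node (.leaf m0) (.leaf (nat_lit 0))) (.node (.leaf m16) (.leaf m48))) (.node (.node (.leaf m8) (.leaf (nat_lit 0))) (.node (.leaf m24) (.leaf m56)))) (.node (.node (.node (.leaf m4) (.leaf (nat_lit 0))) (.node (.leaf m20) (.leaf m52))) (.node (.node (.leaf m12) (.leaf (nat_lit 0))) (.node (.leaf m28) (.leaf m60))))) (.node (.node (.node (.node (.leaf m2) (.leaf (nat_lit 0))) (.node (.leaf m18) (.leaf m50))) (.node (.node (.leaf m10) (.leaf (nat_lit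 0))) (.node (.leaf m26) (.leaf m58)))) (.node (.node (.node (.leaf m6) (.leaf (nat_lit 0))) (.node (.leaf m22) (.leaf m54))) (.node (.node (.leaf m14) (.leaf m46)) (.node (.leaf (nat_lit 0)) (.leaf m62)))))) (.node (.node (.node (.node (.node (.leaf m1) (.leaf (nat_lit 0))) (.node (.leaf m17) (.leaf m49))) (.node (.node (.leaf m9) (.leaf m41)) (.node (.leaf m25) (.leaf m57)))) (.node (.node (.node (.leaf m5) (.leaf (nat_lit 0))) (.node (.leaf m21) (.leaf m53))) (.node (.node (.leaf m13) (.leaf m45)) (.node (.leaf (nat_lit 0)) (.leaf m61))))) (.node (.node (.node (.node (.leaf m3) (.leaf (nat_lit 0))) (.node (.leaf m19) (.leaf m51))) (.node (.node (.leaf m11) (.leaf (nat_lit 0))) (.node (.leaf m27) (.leaf m59)))) (.node (.node (.node (.leaf m7) (.leaf (nat_lit 0))) (.node (.leaf m23) (.leaf m55))) (.node (.node (.leaf m15) (.leaf m47)) (.node (.leaf (nat_lit 0)) (.leaf m63)))))))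

noncomputable def Mt (s : ℕ) : ℕ := L0.BT.get MtB s

noncomputable def T1B : L0.BT := (.node (.node (.node (.node (.node (.node (.node (.leaf T1B_0) (.leaf T1B_64)) (.leaf T1B_32)) (.node (.leaf T1B_16) (.leaf T1B_48))) (.node (.node (.leaf T1B_8) (.leaf T1B_40)) (.node (.leaf T1B_24) (.leaf T1B_56)))) (.node (.node (.node (.leaf T1B_4) (.leaf T1B_36)) (.node (.leaf T1B_20) (.leaf T1B_52))) (.node (.node (.leaf T1B_12) (.leaf T1B_44)) (.node (.leaf T1B_28) (.leaf T1B_60))))) (.node (.node (.node (.node (.node (.leaf T1B_2) (.leaf T1B_66)) (.leaf T1B_34)) (.node (.leaf T1B_18) (.leaf T1B_50))) (.node (.node (.leaf T1B_10) (.leaf T1B_42)) (.node (.leaf T1B_26) (.leaf T1B_58)))) (.node (.node (.node (.leaf T1B_6) (.leaf T1B_38)) (.node (.leaf T1B_22) (.leaf T1B_54))) (.node (.node (.leaf T1B_14) (.leaf T1B_46)) (.node (.leaf T1B_30) (.leaf T1B_62)))))) (.node (.node (.node (.node (.node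 (.node (.leaf T1B_1) (.leaf T1B_65)) (.leaf T1B_33)) (.node (.leaf T1B_17) (.leaf T1B_49))) (.node (.node (.leaf T1B_9) (.leaf T1B_41)) (.node (.leaf T1B_25) (.leaf T1B_57)))) (.node (.node (.node (.leaf T1B_5) (.leaf T1B_37)) (.node (.leaf T1B_21) (.leaf T1B_53))) (.node (.node (.leaf T1B_13) (.leaf T1B_45)) (.node (.leaf T1B_29) (.leaf T1B_61))))) (.node (.node (.node (.node (.node (.leaf T1B_3) (.leaf T1B_67)) (.leaf T1B_35)) (.node (.leaf T1B_19) (.leaf T1B_51))) (.node (.node (.leaf T1B_11) (.leaf T1B_43)) (.node (.leaf T1B_27) (.leaf T1B_59)))) (.node (.node (.node (.leaf T1B_7) (.leaf T1B_39)) (.node (.leaf T1B_23) (.leaf T1B_55))) (.node (.node (.leaf T1B_15) (.leaf T1B_47)) (.node (.leaf T1B_31) (.leaf T1B_63)))))))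

noncomputable def T1G (s j : ℕ) : ℕ := L0.BT.get T1B (Nat.add (Nat.mul s (nat_lit 2)) j)

noncomputable def T1 (c s : ℕ) : ℕ := Nat.rec (motive := fun _ => ℕ) 0 (fun j _ => Nat.land (Nat.shiftRight (T1G s j) (Nat.mul (nat_lit 11) (Nat.land c (nat_lit 1023)))) (nat_lit 2047)) (Nat.succ (Nat.shiftRight c (nat_lit 10)))

noncomputable def WH : List (List ℕ) := [[nat_lit 7, nat_lit 10], [nat_lit 2, nat_lit 10, nat_lit 8], [nat_lit 12, nat_lit 6, nat_lit 8, nat_lit 7, nat_lit 12, nat_lit 5, nat_lit 11], [nat_lit 5, nat_lit 9, nat_lit 11, nat_lit 5, nat_lit 11, nat_lit 10], [nat_lit 14, nat_lit 13, nat_lit 13], [nat_lit 14, nat_lit 13, nat_lit 15], [nat_lit 16, nat_lit 13, nat_lit 14], [nat_lit 14, nat_lit 15, nat_lit 13], [nat_lit 18, nat_lit 13, nat_lit 13], [nat_lit 17, nat_lit 15, nat_lit 17, nat_lit 14, nat_lit 15, nat_lit 14, nat_lit 16, nat_lit 13], [nat_lit 13, nat_lit 18, nat_lit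 13, nat_lit 18, nat_lit 16, nat_lit 15], [nat_lit 20, nat_lit 21, nat_lit 21], [nat_lit 20, nat_lit 22, nat_lit 20], [nat_lit 22, nat_lit 21, nat_lit 23, nat_lit 20, nat_lit 20], [nat_lit 0, nat_lit 14, nat_lit 5, nat_lit 17, nat_lit 18, nat_lit 13, nat_lit 23, nat_lit 20, nat_lit 24, nat_lit 21, nat_lit 21], [nat_lit 6, nat_lit 2, nat_lit 24, nat_lit 22, nat_lit 16, nat_lit 13, nat_lit 20, nat_lit 21, nat_lit 23], [nat_lit 6, nat_lit 12, nat_lit 6, nat_lit 20, nat_lit 18, nat_lit 13, nat_lit 23, nat_lit 23, nat_lit 21, nat_lit 21, nat_lit 24], [nat_lit 0, nat_lit 0], [nat_lit 26, nat_lit 26], [nat_lit 25, nat_lit 27], [nat_lit 27, nat_lit 25, nat_lit 30], [nat_lit 25, nat_lit 31, nat_lit 26, nat_lit 26, nat_lit 26, nat_lit 27, nat_lit 26, nat_lit 27], [nat_lit 31, nat_lit 31, nat_lit 25, nat_lit 26, nat_lit 26, nat_lit 31], [nat_lit 32, nat_lit 32, nat_lit 33], [nat_lit 33, nat_lit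 32, nat_lit 33], [nat_lit 33, nat_lit 32, nat_lit 34, nat_lit 34, nat_lit 32, nat_lit 32, nat_lit 34], [nat_lit 32, nat_lit 35, nat_lit 34, nat_lit 34, nat_lit 34, nat_lit 35, nat_lit 35], [nat_lit 32, nat_lit 34, nat_lit 35, nat_lit 32, nat_lit 35, nat_lit 32, nat_lit 35], [nat_lit 36, nat_lit 37, nat_lit 37, nat_lit 38, nat_lit 36], [nat_lit 38, nat_lit 36, nat_lit 36, nat_lit 37, nat_lit 37], [nat_lit 14, nat_lit 9, nat_lit 1, nat_lit 17, nat_lit 19, nat_lit 18, nat_lit 24, nat_lit 21, nat_lit 23, nat_lit 21, nat_lit 24], [nat_lit 6, nat_lit 2, nat_lit 24, nat_lit 22, nat_lit 16, nat_lit 13, nat_lit 20, nat_lit 21, nat_lit 23], [nat_lit 7, nat_lit 4, nat_lit 13, nat_lit 16, nat_lit 23, nat_lit 20, nat_lit 24, nat_lit 21], [nat_lit 8, nat_lit 0, nat_lit 0, nat_lit 19, nat_lit 15, nat_lit 13, nat_lit 22, nat_lit 24, nat_lit 20, nat_lit 20, nat_lit 21, nat_lit 24]]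

noncomputable def WG : List (List ℕ) := [[nat_lit 3, nat_lit 12, nat_lit 2, nat_lit 20, nat_lit 19, nat_lit 24, nat_lit 20, nat_lit 24, nat_lit 45, nat_lit 2, nat_lit 1, nat_lit 7, nat_lit 45, nat_lit 24, nat_lit 7, nat_lit 0, nat_lit 22, nat_lit 16, nat_lit 15, nat_lit 20, nat_lit 23, nat_lit 23, nat_lit 21, nat_lit 21, nat_lit 21], [nat_lit 23, nat_lit 7, nat_lit 22, nat_lit 21, nat_lit 13, nat_lit 21, nat_lit 21, nat_lit 23, nat_lit 45, nat_lit 7, nat_lit 0, nat_lit 45, nat_lit 0, nat_lit 7, nat_lit 45, nat_lit 7, nat_lit 6, nat_lit 15, nat_lit 17, nat_lit 15, nat_lit 20, nat_lit 24, nat_lit 20, nat_lit 20, nat_lit 24, nat_lit 21], [nat_lit 2, nat_lit 23, nat_lit 1, nat_lit 0, nat_lit 19, nat_lit 18, nat_lit 20, nat_lit 24, nat_lit 21, nat_lit 21, nat_lit 45, nat_lit 0, nat_lit 7, nat_lit 45, nat_lit 0, nat_lit 2, nat_lit 45, nat_lit 11, nat_lit 12, nat_lit 1, nat_lit 24, nat_lit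 16, nat_lit 19, nat_lit 21, nat_lit 23, nat_lit 21], [nat_lit 48, nat_lit 49, nat_lit 49, nat_lit 49, nat_lit 48, nat_lit 48, nat_lit 48, nat_lit 49, nat_lit 48, nat_lit 48, nat_lit 49, nat_lit 49], [nat_lit 49, nat_lit 48, nat_lit 48, nat_lit 49, nat_lit 48, nat_lit 48, nat_lit 49, nat_lit 48, nat_lit 48, nat_lit 48, nat_lit 48, nat_lit 49], [nat_lit 49, nat_lit 49, nat_lit 48, nat_lit 49, nat_lit 49, nat_lit 49, nat_lit 49, nat_lit 49, nat_lit 49, nat_lit 48], [nat_lit 19, nat_lit 8, nat_lit 19, nat_lit 23, nat_lit 14, nat_lit 21, nat_lit 21, nat_lit 24, nat_lit 45, nat_lit 0, nat_lit 7, nat_lit 45, nat_lit 0, nat_lit 2, nat_lit 45, nat_lit 19, nat_lit 6, nat_lit 2, nat_lit 17, nat_lit 22, nat_lit 15, nat_lit 24, nat_lit 22, nat_lit 20, nat_lit 21], [nat_lit 5, nat_lit 3, nat_lit 2, nat_lit 21, nat_lit 14, nat_lit 22, nat_lit 24, nat_lit 20, nat_lit 20, nat_lit 24, nat_lit 21, nat_lit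 21, nat_lit 45, nat_lit 0, nat_lit 7, nat_lit 45, nat_lit 0, nat_lit 15, nat_lit 2, nat_lit 17, nat_lit 16, nat_lit 15, nat_lit 23, nat_lit 23, nat_lit 24, nat_lit 21, nat_lit 24], [nat_lit 53, nat_lit 53, nat_lit 54, nat_lit 54, nat_lit 53, nat_lit 53, nat_lit 53, nat_lit 53, nat_lit 54, nat_lit 53, nat_lit 53, nat_lit 53, nat_lit 53, nat_lit 54], [nat_lit 53, nat_lit 54, nat_lit 54, nat_lit 53, nat_lit 53, nat_lit 54, nat_lit 53, nat_lit 54, nat_lit 54, nat_lit 53, nat_lit 53, nat_lit 54], [nat_lit 10, nat_lit 24, nat_lit 3, nat_lit 22, nat_lit 19, nat_lit 14, nat_lit 21, nat_lit 21, nat_lit 23, nat_lit 24, nat_lit 21, nat_lit 45, nat_lit 0, nat_lit 7, nat_lit 45, nat_lit 0, nat_lit 2, nat_lit 45, nat_lit 19, nat_lit 2, nat_lit 19, nat_lit 0, nat_lit 22, nat_lit 20, nat_lit 13, nat_lit 22, nat_lit 21, nat_lit 21, nat_lit 20, nat_lit 21, nat_lit 21, nat_lit 21], [nat_lit 6, nat_lit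 19, nat_lit 0, nat_lit 17, nat_lit 19, nat_lit 18, nat_lit 21, nat_lit 23, nat_lit 24, nat_lit 45, nat_lit 2, nat_lit 1, nat_lit 7, nat_lit 45, nat_lit 24, nat_lit 1, nat_lit 3, nat_lit 15, nat_lit 14, nat_lit 17, nat_lit 13, nat_lit 22, nat_lit 23, nat_lit 21, nat_lit 21, nat_lit 21], [nat_lit 57, nat_lit 58, nat_lit 57, nat_lit 58, nat_lit 58, nat_lit 57, nat_lit 57, nat_lit 57, nat_lit 58], [nat_lit 57, nat_lit 58, nat_lit 58, nat_lit 57, nat_lit 57, nat_lit 58, nat_lit 58, nat_lit 58, nat_lit 57], [nat_lit 59, nat_lit 60, nat_lit 60, nat_lit 59, nat_lit 59, nat_lit 60, nat_lit 60, nat_lit 59, nat_lit 59], [nat_lit 59, nat_lit 59, nat_lit 59, nat_lit 59, nat_lit 59, nat_lit 59, nat_lit 60, nat_lit 59, nat_lit 60, nat_lit 59, nat_lit 60, nat_lit 59, nat_lit 59], [nat_lit 4, nat_lit 12, nat_lit 21, nat_lit 19, nat_lit 21, nat_lit 21, nat_lit 23, nat_lit 21, nat_lit 21, nat_lit 45, nat_lit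 0, nat_lit 7, nat_lit 45, nat_lit 0, nat_lit 2, nat_lit 45, nat_lit 22, nat_lit 11, nat_lit 4, nat_lit 19, nat_lit 14, nat_lit 14, nat_lit 23, nat_lit 20, nat_lit 21, nat_lit 24]]

noncomputable def E0 : ℕ := nat_lit 0x1

noncomputable def e : Env := mkEnv P 1408 L0.HNFB.P.k (nat_lit 45) (nat_lit 64) (mix L0.HNFB.P.k L0.HNFB.P.T T1) L0.HNFB.P.bs Mt WH WG E0 (nat_lit 1)

noncomputable def IVt : L0.Dce.GT (List ℕ) := (.node (.node (.node (.node (.node (.node (.leaf [nat_lit 4]) (.leaf [nat_lit 32, nat_lit 32, nat_lit 32, nat_lit 32])) (.leaf [nat_lit 16, nat_lit 16, nat_lit 16, nat_lit 16, nat_lit 16, nat_lit 16])) (.node (.node (.leaf [nat_lit 7]) (.leaf [nat_lit 40])) (.leaf [nat_lit 24]))) (.node (.node (.node (.leaf [nat_lit 0]) (.leaf [nat_lit 36, nat_lit 36])) (.leaf [nat_lit 20, nat_lit 20, nat_lit 20])) (.node (.node (.leaf [nat_lit 7, nat_lit 9, nat_lit 2]) (.leaf [nat_lit 15,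 nat_lit 22, nat_lit 3, nat_lit 18, nat_lit 14, nat_lit 24, nat_lit 20, nat_lit 21])) (.leaf [nat_lit 28])))) (.node (.node (.node (.node (.leaf [nat_lit 2]) (.leaf [nat_lit 34, nat_lit 34, nat_lit 34, nat_lit 34])) (.leaf [nat_lit 18, nat_lit 18, nat_lit 18])) (.node (.node (.leaf [nat_lit 9]) (.leaf [nat_lit 12, nat_lit 24, nat_lit 5, nat_lit 18, nat_lit 23, nat_lit 15, nat_lit 24])) (.leaf [nat_lit 12, nat_lit 24, nat_lit 5, nat_lit 18, nat_lit 23, nat_lit 15, nat_lit 24]))) (.node (.node (.node (.leaf [nat_lit 3]) (.leaf [nat_lit 38, nat_lit 38, nat_lit 38])) (.leaf [nat_lit 22, nat_lit 22, nat_lit 22])) (.node (.leaf [nat_lit 14, nat_lit 14, nat_lit 14, nat_lit 14, nat_lit 14, nat_lit 14, nat_lit 14]) (.leaf [nat_lit 30, nat_lit 30, nat_lit 30, nat_lit 30, nat_lit 30, nat_lit 30, nat_lit 30]))))) (.node (.node (.node (.node (.node (.leaf [nat_lit 5]) (.leaf [nat_lit 33, nat_lit 33,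 nat_lit 33, nat_lit 33, nat_lit 33, nat_lit 33, nat_lit 33, nat_lit 33, nat_lit 33])) (.leaf [nat_lit 17, nat_lit 17, nat_lit 17, nat_lit 17, nat_lit 17, nat_lit 17, nat_lit 17])) (.node (.node (.leaf [nat_lit 10]) (.leaf [nat_lit 41, nat_lit 41, nat_lit 41, nat_lit 41, nat_lit 41, nat_lit 41, nat_lit 41, nat_lit 41, nat_lit 41])) (.leaf [nat_lit 0, nat_lit 20, nat_lit 6, nat_lit 16, nat_lit 18, nat_lit 14, nat_lit 22, nat_lit 23]))) (.node (.node (.node (.leaf [nat_lit 1]) (.leaf [nat_lit 37, nat_lit 37])) (.leaf [nat_lit 24, nat_lit 21, nat_lit 24])) (.node (.leaf [nat_lit 13, nat_lit 13, nat_lit 13, nat_lit 13, nat_lit 13, nat_lit 13]) (.leaf [nat_lit 29, nat_lit 29, nat_lit 29, nat_lit 29])))) (.node (.node (.node (.node (.leaf [nat_lit 6]) (.leaf [nat_lit 35, nat_lit 35, nat_lit 35, nat_lit 35, nat_lit 35, nat_lit 35, nat_lit 35])) (.leaf [nat_lit 19, nat_lit 19, nat_lit 19, nat_lit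 19, nat_lit 19, nat_lit 19, nat_lit 19])) (.node (.node (.leaf [nat_lit 9, nat_lit 8]) (.leaf [nat_lit 43, nat_lit 43, nat_lit 43, nat_lit 43, nat_lit 43, nat_lit 43, nat_lit 43, nat_lit 43, nat_lit 43])) (.leaf [nat_lit 27, nat_lit 27, nat_lit 27, nat_lit 27, nat_lit 27, nat_lit 27, nat_lit 27, nat_lit 27, nat_lit 27]))) (.node (.node (.node (.leaf [nat_lit 8]) (.leaf [nat_lit 39])) (.leaf [nat_lit 21, nat_lit 23, nat_lit 21])) (.node (.leaf [nat_lit 15, nat_lit 13, nat_lit 20, nat_lit 20, nat_lit 24, nat_lit 21]) (.leaf [nat_lit 31, nat_lit 31, nat_lit 31, nat_lit 31, nat_lit 31, nat_lit 31]))))))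

noncomputable def iv (s : ℕ) : List ℕ := L0.Dce.GT.get IVt s

noncomputable def dE1 : ℕ := nat_lit 0x100000000000000000000000000000000000000000000000000000000000000000000000000000000000000000000000000000000000000000000000000000000000000000000000000000000000000000000000000000000000000000000000000000000000000000000000000000000000000000000000000

noncomputable def d1 : DCo := ⟨[nat_lit 45], dE1, nat_lit 126000⟩

noncomputable def d2 : DCo := ⟨[nat_lit 45, nat_lit 0, nat_lit 2, nat_lit 45], dE2, nat_lit 80640⟩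

noncomputable def d3 : DCo := ⟨[nat_lit 45, nat_lit 2, nat_lit 0, nat_lit 45], dE3, nat_lit 5040⟩

noncomputable def d5 : DCo := ⟨[nat_lit 45, nat_lit 0, nat_lit 7, nat_lit 45], dE5, nat_lit 1440⟩

noncomputable def d6 : DCo := ⟨[nat_lit 45, nat_lit 2, nat_lit 1, nat_lit 7, nat_lit 45], dE6, nat_lit 500⟩

noncomputable def d7 : DCo := ⟨[nat_lit 45, nat_lit 0, nat_lit 7, nat_lit 45, nat_lit 0, nat_lit 2, nat_lit 45], dE7, nat_lit 240⟩

noncomputable def d8 : DCo := ⟨[nat_lit 45, nat_lit 7, nat_lit 0, nat_lit 45, nat_lit 0, nat_lit 7, nat_lit 45], dE8, nat_lit 640⟩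

noncomputable def d9 : DCo := ⟨[nat_lit 45, nat_lit 0, nat_lit 8, nat_lit 45, nat_lit 0, nat_lit 7, nat_lit 45, nat_lit 0, nat_lit 2, nat_lit 45], dE9, nat_lit 30720⟩

noncomputable def Wd : List DCo := [d1, d2, d3, d5, d6, d7, d8, d9]

noncomputable def Rl0 : List (List ℕ) := [[nat_lit 0, nat_lit 4], [nat_lit 1, nat_lit 5], [nat_lit 2, nat_lit 2], [nat_lit 3, nat_lit 6], [nat_lit 4, nat_lit 0], [nat_lit 5, nat_lit 1], [nat_lit 6, nat_lit 3], [nat_lit 7, nat_lit 8], [nat_lit 8, nat_lit 7], [nat_lit 9, nat_lit 10], [nat_lit 10, nat_lit 9], [nat_lit 11, nat_lit 12], [nat_lit 12, nat_lit 11]]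

noncomputable def Rl1 : List (List ℕ) := [[nat_lit 1, nat_lit 1, nat_lit 1, nat_lit 1, nat_lit 1, nat_lit 1], [nat_lit 0, nat_lit 0, nat_lit 1, nat_lit 0, nat_lit 0, nat_lit 5], [nat_lit 4, nat_lit 5, nat_lit 0, nat_lit 1, nat_lit 4, nat_lit 5, nat_lit 0, nat_lit 1, nat_lit 4, nat_lit 5, nat_lit 0, nat_lit 1]]

noncomputable def Rl2 : List (List ℕ) := [[nat_lit 4, nat_lit 1, nat_lit 1, nat_lit 0, nat_lit 1, nat_lit 1, nat_lit 1, nat_lit 4, nat_lit 1, nat_lit 1, nat_lit 0, nat_lit 1, nat_lit 1, nat_lit 1, nat_lit 4, nat_lit 1, nat_lit 1, nat_lit 0, nat_lit 1, nat_lit 1, nat_lit 1]]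

noncomputable def Rl3 : List (List ℕ) := [[nat_lit 0, nat_lit 1, nat_lit 0, nat_lit 1, nat_lit 0, nat_lit 1, nat_lit 0, nat_lit 1, nat_lit 0, nat_lit 1, nat_lit 0, nat_lit 1, nat_lit 0, nat_lit 1, nat_lit 0, nat_lit 1]]

noncomputable def Rl4 : List (List ℕ) := [[nat_lit 0, nat_lit 1, nat_lit 0, nat_lit 1, nat_lit 1, nat_lit 1, nat_lit 0, nat_lit 1, nat_lit 0, nat_lit 1, nat_lit 1, nat_lit 1, nat_lit 0, nat_lit 1, nat_lit 0, nat_lit 1, nat_lit 1, nat_lit 1, nat_lit 0, nat_lit 1, nat_lit 0, nat_lit 1, nat_lit 1, nat_lit 1], [nat_lit 2, nat_lit 0, nat_lit 2, nat_lit 0]]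

noncomputable def Rl5 : List (List ℕ) := [[nat_lit 2, nat_lit 1, nat_lit 4, nat_lit 5, nat_lit 5, nat_lit 4, nat_lit 5, nat_lit 4, nat_lit 5, nat_lit 2, nat_lit 1, nat_lit 0, nat_lit 1, nat_lit 0, nat_lit 1, nat_lit 1, nat_lit 0, nat_lit 5, nat_lit 4, nat_lit 4]]

noncomputable def Rl6 : List (List ℕ) := [[nat_lit 2, nat_lit 5, nat_lit 4, nat_lit 5, nat_lit 4, nat_lit 5, nat_lit 5, nat_lit 5, nat_lit 2, nat_lit 1, nat_lit 1, nat_lit 1, nat_lit 0, nat_lit 1, nat_lit 0, nat_lit 1, nat_lit 0, nat_lit 5, nat_lit 4, nat_lit 5, nat_lit 4, nat_lit 5, nat_lit 5, nat_lit 5, nat_lit 2, nat_lit 1, nat_lit 1, nat_lit 1, nat_lit 0, nat_lit 1, nat_lit 0, nat_lit 1, nat_lit 0, nat_lit 5, nat_lit 4, nat_lit 5, nat_lit 4, nat_lit 5, nat_lit 5, nat_lit 5, nat_lit 2, nat_lit 1, nat_lit 1, nat_lit 1, nat_lit 0, nat_lit 1, nat_lit 0, nat_lit 1, nat_lit 0]]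

noncomputable def Rl7 : List (List ℕ) := [[nat_lit 11, nat_lit 11, nat_lit 11, nat_lit 11, nat_lit 11], [nat_lit 4, nat_lit 11, nat_lit 0, nat_lit 11, nat_lit 11], [nat_lit 12, nat_lit 5, nat_lit 11, nat_lit 1], [nat_lit 2, nat_lit 11, nat_lit 2, nat_lit 11, nat_lit 2, nat_lit 11], [nat_lit 6, nat_lit 4, nat_lit 1, nat_lit 0], [nat_lit 8, nat_lit 2, nat_lit 1, nat_lit 2]]

noncomputable def Rl8 : List (List ℕ) := [[nat_lit 10, nat_lit 1, nat_lit 0, nat_lit 1, nat_lit 0, nat_lit 1, nat_lit 1, nat_lit 0, nat_lit 5]]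

noncomputable def Rl : List (List ℕ) := Rl0 ++ (Rl1 ++ (Rl2 ++ (Rl3 ++ (Rl4 ++ (Rl5 ++ (Rl6 ++ (Rl7 ++ (Rl8))))))))

noncomputable def dfB (j : ℕ) : Bool := Nat.blt j L0.HNFB.P.k || Nat.beq j (nat_lit 45) || Nat.beq j ((nat_lit 45) + 1) ||
  P.defB Mt (mkDf L0.HNFB.P.k (nat_lit 45) WH WG) (nat_lit 64) j

noncomputable def c1l4rD : ℕ := nat_lit 0x878c014

noncomputable def c1l4r (c : ℕ) : ℕ := Nat.land (Nat.shiftRight c1l4rD (Nat.mul (nat_lit 14) c)) (nat_lit 16383)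

noncomputable def c1l4 : L0.LvP := ⟨nat_lit 2047, nat_lit 11, nat_lit 1, nat_lit 12, nat_lit 1, nat_lit 13, nat_lit 2, nat_lit 20⟩

noncomputable def c1l4S : List (List ℕ) := [[nat_lit 7, nat_lit 16, nat_lit 18, nat_lit 13, nat_lit 23, nat_lit 23, nat_lit 22, nat_lit 20, nat_lit 21, nat_lit 21, nat_lit 24]]

noncomputable def c1l3rD : ℕ := nat_lit 0x2379f29e3ecb3a229500280009

noncomputable def c1l3r (c : ℕ) : ℕ := Nat.land (Nat.shiftRight c1l3rD (Nat.mul (nat_lit 17) c)) (nat_lit 131071)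

noncomputable def c1l3 : L0.LvP := ⟨nat_lit 2047, nat_lit 11, nat_lit 1, nat_lit 12, nat_lit 7, nat_lit 15, nat_lit 6, nat_lit 9⟩

noncomputable def c1l3S : List (List ℕ) := [[nat_lit 5, nat_lit 17, nat_lit 14, nat_lit 14, nat_lit 24, nat_lit 21, nat_lit 20, nat_lit 20, nat_lit 24], [nat_lit 23, nat_lit 3, nat_lit 13, nat_lit 23, nat_lit 14, nat_lit 20, nat_lit 23, nat_lit 21, nat_lit 24]]

noncomputable def c1l2rD : ℕ := nat_lit 0x81a25054db0bc882cc0008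

noncomputable def c1l2r (c : ℕ) : ℕ := Nat.land (Nat.shiftRight c1l2rD (Nat.mul (nat_lit 18) c)) (nat_lit 262143)

noncomputable def c1l2 : L0.LvP := ⟨nat_lit 2047, nat_lit 11, nat_lit 1, nat_lit 12, nat_lit 7, nat_lit 15, nat_lit 5, nat_lit 8⟩

noncomputable def c1l2S : List (List ℕ) := [[nat_lit 16, nat_lit 9, nat_lit 20, nat_lit 14, nat_lit 14, nat_lit 24, nat_lit 22, nat_lit 20, nat_lit 24, nat_lit 21, nat_lit 21]]

noncomputable def c1l1rD : ℕ := nat_lit 0x817afa43cf4790239e7f6973d34c1e3654e85686ef1d3451519b610ccd3259e862a8d79536b85e4722ef92167a50b154852c6c28dce141e889fa284ec982228710f1f085200405481fe8b091238449341fa3e0f72706b230336140e47e06a0e031460148ac052a60271a01000007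

noncomputable def c1l1r (c : ℕ) : ℕ := Nat.land (Nat.shiftRight c1l1rD (Nat.mul (nat_lit 21) c)) (nat_lit 2097151)

noncomputable def c1l1 : L0.LvP := ⟨nat_lit 2047, nat_lit 11, nat_lit 1, nat_lit 12, nat_lit 63, nat_lit 18, nat_lit 42, nat_lit 7⟩

noncomputable def c1l1S : List (List ℕ) := [[nat_lit 1, nat_lit 9, nat_lit 4, nat_lit 16, nat_lit 23, nat_lit 14, nat_lit 22, nat_lit 21, nat_lit 21, nat_lit 20], [nat_lit 13, nat_lit 21, nat_lit 0, nat_lit 22, nat_lit 23, nat_lit 13, nat_lit 24, nat_lit 20, nat_lit 20]]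

noncomputable def c1l0r (c : ℕ) : ℕ := Nat.land (Nat.shiftRight c1l0rD (Nat.mul (nat_lit 21) c)) (nat_lit 2097151)

noncomputable def c1l0 : L0.LvP := ⟨nat_lit 2047, nat_lit 11, nat_lit 1, nat_lit 12, nat_lit 63, nat_lit 18, nat_lit 50, nat_lit 2⟩

noncomputable def c1l0S : List (List ℕ) := [[nat_lit 8, nat_lit 5, nat_lit 0, nat_lit 20, nat_lit 19, nat_lit 13, nat_lit 24, nat_lit 20, nat_lit 23, nat_lit 21], [nat_lit 14, nat_lit 13, nat_lit 1, nat_lit 17, nat_lit 24, nat_lit 21, nat_lit 13, nat_lit 22, nat_lit 20, nat_lit 21, nat_lit 24]]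

noncomputable def c2l4rD : ℕ := nat_lit 0x8f3c009

noncomputable def c2l4r (c : ℕ) : ℕ := Nat.land (Nat.shiftRight c2l4rD (Nat.mul (nat_lit 14) c)) (nat_lit 16383)

noncomputable def c2l4 : L0.LvP := ⟨nat_lit 2047, nat_lit 11, nat_lit 1, nat_lit 12, nat_lit 1, nat_lit 13, nat_lit 2, nat_lit 9⟩

noncomputable def c2l4S : List (List ℕ) := [[nat_lit 8, nat_lit 21, nat_lit 19, nat_lit 21, nat_lit 20, nat_lit 21, nat_lit 21, nat_lit 21]]

noncomputable def c2l3rD : ℕ := nat_lit 0x90f3db9e34059d08a5040509009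

noncomputable def c2l3r (c : ℕ) : ℕ := Nat.land (Nat.shiftRight c2l3rD (Nat.mul (nat_lit 18) c)) (nat_lit 262143)

noncomputable def c2l3 : L0.LvP := ⟨nat_lit 2047, nat_lit 11, nat_lit 1, nat_lit 12, nat_lit 7, nat_lit 15, nat_lit 6, nat_lit 20⟩

noncomputable def c2l3S : List (List ℕ) := [[nat_lit 8, nat_lit 1, nat_lit 16, nat_lit 18, nat_lit 23, nat_lit 21], [nat_lit 16, nat_lit 20, nat_lit 0, nat_lit 18, nat_lit 17, nat_lit 13, nat_lit 20, nat_lit 21, nat_lit 23, nat_lit 21, nat_lit 21, nat_lit 24]]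

noncomputable def c2l2rD : ℕ := nat_lit 0x131a22054dc0bc882cc0008

noncomputable def c2l2r (c : ℕ) : ℕ := Nat.land (Nat.shiftRight c2l2rD (Nat.mul (nat_lit 18) c)) (nat_lit 262143)

noncomputable def c2l2 : L0.LvP := ⟨nat_lit 2047, nat_lit 11, nat_lit 1, nat_lit 12, nat_lit 7, nat_lit 15, nat_lit 5, nat_lit 8⟩

noncomputable def c2l2S : List (List ℕ) := [[nat_lit 11, nat_lit 10, nat_lit 5, nat_lit 19, nat_lit 14, nat_lit 14, nat_lit 20, nat_lit 23, nat_lit 24, nat_lit 21, nat_lit 21]]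

noncomputable def c2l1rD : ℕ := nat_lit 0x1c67af563cfa550253e7f6a63d2e39e34b8e83066ec803451419bb04ccc2459e522a99b153a245e30e2ed821670c0b120452c6a28ea1140ce89f9204ed282229610f2288594c402861fe33090ce0448641fc880f58606b5e833d3c0e69c06a97031248144bc054260254201000007

noncomputable def c2l1r (c : ℕ) : ℕ := Nat.land (Nat.shiftRight c2l1rD (Nat.mul (nat_lit 21) c)) (nat_lit 2097151)

noncomputable def c2l1 : L0.LvP := ⟨nat_lit 2047, nat_lit 11, nat_lit 1, nat_lit 12, nat_lit 63, nat_lit 18, nat_lit 42, nat_lit 7⟩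

noncomputable def c2l1S : List (List ℕ) := [[nat_lit 22, nat_lit 19, nat_lit 0, nat_lit 18, nat_lit 15, nat_lit 16, nat_lit 24, nat_lit 20, nat_lit 23, nat_lit 21], [nat_lit 11, nat_lit 8, nat_lit 0, nat_lit 13, nat_lit 13, nat_lit 13, nat_lit 13, nat_lit 23, nat_lit 23, nat_lit 24, nat_lit 21, nat_lit 24]]

noncomputable def c2l0rD : ℕ := nat_lit 0x5da0ca64f39a8610c9af043574c92a34de51045a146ad07bde7dd7c3ccad18795cbd2fa57e0523a208de2286537c30d3314ed209280837a8e1ad460b3018555dc201be0e4400590202343005bb0011dc00400000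

noncomputable def c2l0r (c : ℕ) : ℕ := Nat.land (Nat.shiftRight c2l0rD (Nat.mul (nat_lit 21) c)) (nat_lit 2097151)

noncomputable def c2l0 : L0.LvP := ⟨nat_lit 2047, nat_lit 11, nat_lit 1, nat_lit 12, nat_lit 31, nat_lit 17, nat_lit 32, nat_lit 0⟩

noncomputable def c2l0S : List (List ℕ) := [[nat_lit 14, nat_lit 12, nat_lit 4, nat_lit 15, nat_lit 16, nat_lit 14, nat_lit 24, nat_lit 21, nat_lit 20, nat_lit 20, nat_lit 24, nat_lit 21, nat_lit 21], [nat_lit 13, nat_lit 21, nat_lit 9, nat_lit 14, nat_lit 24, nat_lit 13, nat_lit 20, nat_lit 20, nat_lit 21, nat_lit 24]]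

noncomputable def c3l3rD : ℕ := nat_lit 0x878c014

noncomputable def c3l3r (c : ℕ) : ℕ := Nat.land (Nat.shiftRight c3l3rD (Nat.mul (nat_lit 14) c)) (nat_lit 16383)

noncomputable def c3l3 : L0.LvP := ⟨nat_lit 2047, nat_lit 11, nat_lit 1, nat_lit 12, nat_lit 1, nat_lit 13, nat_lit 2, nat_lit 20⟩

noncomputable def c3l3S : List (List ℕ) := [[nat_lit 7, nat_lit 16, nat_lit 18, nat_lit 13, nat_lit 23, nat_lit 23, nat_lit 22, nat_lit 20, nat_lit 21, nat_lit 21, nat_lit 24]]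

noncomputable def c3l2rD : ℕ := nat_lit 0x1079f39e344b3d629750280009

noncomputable def c3l2r (c : ℕ) : ℕ := Nat.land (Nat.shiftRight c3l2rD (Nat.mul (nat_lit 17) c)) (nat_lit 131071)

noncomputable def c3l2 : L0.LvP := ⟨nat_lit 2047, nat_lit 11, nat_lit 1, nat_lit 12, nat_lit 7, nat_lit 15, nat_lit 6, nat_lit 9⟩

noncomputable def c3l2S : List (List ℕ) := [[nat_lit 8, nat_lit 21, nat_lit 19, nat_lit 21, nat_lit 20, nat_lit 21, nat_lit 21, nat_lit 21], [nat_lit 16, nat_lit 8, nat_lit 5, nat_lit 21, nat_lit 22, nat_lit 13, nat_lit 24, nat_lit 21, nat_lit 20, nat_lit 24]]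

noncomputable def c3l1rD : ℕ := nat_lit 0x81a2d0a9d22f351660008

noncomputable def c3l1r (c : ℕ) : ℕ := Nat.land (Nat.shiftRight c3l1rD (Nat.mul (nat_lit 17) c)) (nat_lit 131071)

noncomputable def c3l1 : L0.LvP := ⟨nat_lit 2047, nat_lit 11, nat_lit 1, nat_lit 12, nat_lit 7, nat_lit 15, nat_lit 5, nat_lit 8⟩

noncomputable def c3l1S : List (List ℕ) := [[nat_lit 24, nat_lit 17, nat_lit 0, nat_lit 15, nat_lit 14, nat_lit 17, nat_lit 13, nat_lit 22, nat_lit 22, nat_lit 20, nat_lit 24, nat_lit 21, nat_lit 21], [nat_lit 0, nat_lit 20, nat_lit 6, nat_lit 20, nat_lit 21, nat_lit 16, nat_lit 23, nat_lit 23, nat_lit 24, nat_lit 21, nat_lit 21]]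

noncomputable def c3l0r (c : ℕ) : ℕ := Nat.land (Nat.shiftRight c3l0rD (Nat.mul (nat_lit 23) c)) (nat_lit 8388607)

noncomputable def c3l0 : L0.LvP := ⟨nat_lit 2047, nat_lit 11, nat_lit 1, nat_lit 12, nat_lit 127, nat_lit 19, nat_lit 84, nat_lit 7⟩

noncomputable def c3l0S : List (List ℕ) := [[nat_lit 5, nat_lit 14, nat_lit 3, nat_lit 21, nat_lit 13, nat_lit 13, nat_lit 24, nat_lit 21, nat_lit 20, nat_lit 20, nat_lit 21, nat_lit 21], [nat_lit 16, nat_lit 12, nat_lit 6, nat_lit 13, nat_lit 18, nat_lit 13, nat_lit 24, nat_lit 21, nat_lit 20, nat_lit 21, nat_lit 21, nat_lit 21]]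

noncomputable def c5l4rD : ℕ := nat_lit 0x878c014

noncomputable def c5l4r (c : ℕ) : ℕ := Nat.land (Nat.shiftRight c5l4rD (Nat.mul (nat_lit 14) c)) (nat_lit 16383)

noncomputable def c5l4 : L0.LvP := ⟨nat_lit 2047, nat_lit 11, nat_lit 1, nat_lit 12, nat_lit 1, nat_lit 13, nat_lit 2, nat_lit 20⟩

noncomputable def c5l4S : List (List ℕ) := [[nat_lit 7, nat_lit 16, nat_lit 18, nat_lit 13, nat_lit 23, nat_lit 23, nat_lit 22, nat_lit 20, nat_lit 21, nat_lit 21, nat_lit 24]]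

noncomputable def c5l3rD : ℕ := nat_lit 0x211a24854c80bc6c2cc0008

noncomputable def c5l3r (c : ℕ) : ℕ := Nat.land (Nat.shiftRight c5l3rD (Nat.mul (nat_lit 18) c)) (nat_lit 262143)

noncomputable def c5l3 : L0.LvP := ⟨nat_lit 2047, nat_lit 11, nat_lit 1, nat_lit 12, nat_lit 7, nat_lit 15, nat_lit 5, nat_lit 8⟩

noncomputable def c5l3S : List (List ℕ) := [[nat_lit 15, nat_lit 1, nat_lit 24, nat_lit 17, nat_lit 16, nat_lit 24, nat_lit 20, nat_lit 23, nat_lit 21]]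

noncomputable def c5l2rD : ℕ := nat_lit 0x2779e89fd40ddd228e60340007

noncomputable def c5l2r (c : ℕ) : ℕ := Nat.land (Nat.shiftRight c5l2rD (Nat.mul (nat_lit 17) c)) (nat_lit 131071)

noncomputable def c5l2 : L0.LvP := ⟨nat_lit 2047, nat_lit 11, nat_lit 1, nat_lit 12, nat_lit 7, nat_lit 15, nat_lit 6, nat_lit 7⟩

noncomputable def c5l2S : List (List ℕ) := [[nat_lit 16, nat_lit 3, nat_lit 0, nat_lit 21, nat_lit 20, nat_lit 19, nat_lit 22, nat_lit 24, nat_lit 20, nat_lit 20, nat_lit 21, nat_lit 21], [nat_lit 1, nat_lit 8, nat_lit 18, nat_lit 16, nat_lit 23, nat_lit 20, nat_lit 21, nat_lit 21]]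

noncomputable def c5l1rD : ℕ := nat_lit 0x8866489545027d9085520240002

noncomputable def c5l1r (c : ℕ) : ℕ := Nat.land (Nat.shiftRight c5l1rD (Nat.mul (nat_lit 18) c)) (nat_lit 262143)

noncomputable def c5l1 : L0.LvP := ⟨nat_lit 2047, nat_lit 11, nat_lit 1, nat_lit 12, nat_lit 7, nat_lit 15, nat_lit 6, nat_lit 2⟩

noncomputable def c5l1S : List (List ℕ) := [[nat_lit 13, nat_lit 1, nat_lit 1, nat_lit 21, nat_lit 17, nat_lit 24, nat_lit 20, nat_lit 23, nat_lit 21, nat_lit 21], [nat_lit 1, nat_lit 8, nat_lit 23, nat_lit 20, nat_lit 20, nat_lit 24, nat_lit 21, nat_lit 21]]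

noncomputable def c5l0rD : ℕ := nat_lit 0xa8e7401b480f0000

noncomputable def c5l0r (c : ℕ) : ℕ := Nat.land (Nat.shiftRight c5l0rD (Nat.mul (nat_lit 16) c)) (nat_lit 65535)

noncomputable def c5l0 : L0.LvP := ⟨nat_lit 2047, nat_lit 11, nat_lit 1, nat_lit 12, nat_lit 3, nat_lit 14, nat_lit 4, nat_lit 0⟩

noncomputable def c5l0S : List (List ℕ) := [[nat_lit 21, nat_lit 10, nat_lit 0, nat_lit 21, nat_lit 19, nat_lit 13, nat_lit 22, nat_lit 22, nat_lit 20, nat_lit 24, nat_lit 21], [nat_lit 10, nat_lit 2, nat_lit 6, nat_lit 13, nat_lit 17, nat_lit 13, nat_lit 21, nat_lit 20, nat_lit 23, nat_lit 21, nat_lit 24]]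

noncomputable def c6l2rD : ℕ := nat_lit 0xe0f5e3bcf4266e7199d0296788540113483de20200007

noncomputable def c6l2r (c : ℕ) : ℕ := Nat.land (Nat.shiftRight c6l2rD (Nat.mul (nat_lit 18) c)) (nat_lit 262143)

noncomputable def c6l2 : L0.LvP := ⟨nat_lit 2047, nat_lit 11, nat_lit 1, nat_lit 12, nat_lit 15, nat_lit 16, nat_lit 10, nat_lit 7⟩

noncomputable def c6l2S : List (List ℕ) := [[nat_lit 16, nat_lit 4, nat_lit 1, nat_lit 17, nat_lit 20, nat_lit 16, nat_lit 20, nat_lit 23, nat_lit 23, nat_lit 21, nat_lit 24], [nat_lit 15, nat_lit 3, nat_lit 14, nat_lit 15, nat_lit 18, nat_lit 20, nat_lit 23, nat_lit 23, nat_lit 21, nat_lit 21]]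

noncomputable def c6l1rD : ℕ := nat_lit 0x84c926c3d788bcf43a04201d0431bb8d9a2b099b9799997154b28b3678b1540a5738a38b89fa10886c8855487fa58448283d7581a20816730088200700002

noncomputable def c6l1r (c : ℕ) : ℕ := Nat.land (Nat.shiftRight c6l1rD (Nat.mul (nat_lit 20) c)) (nat_lit 1048575)

noncomputable def c6l1 : L0.LvP := ⟨nat_lit 2047, nat_lit 11, nat_lit 1, nat_lit 12, nat_lit 31, nat_lit 17, nat_lit 25, nat_lit 2⟩

noncomputable def c6l1S : List (List ℕ) := [[nat_lit 7, nat_lit 0, nat_lit 18, nat_lit 23, nat_lit 13, nat_lit 20, nat_lit 23, nat_lit 23, nat_lit 24], [nat_lit 16, nat_lit 4, nat_lit 1, nat_lit 19, nat_lit 18, nat_lit 23, nat_lit 22, nat_lit 20, nat_lit 24, nat_lit 21, nat_lit 24]]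

noncomputable def c6l0rD : ℕ := nat_lit 0x82a4000

noncomputable def c6l0r (c : ℕ) : ℕ := Nat.land (Nat.shiftRight c6l0rD (Nat.mul (nat_lit 14) c)) (nat_lit 16383)

noncomputable def c6l0 : L0.LvP := ⟨nat_lit 2047, nat_lit 11, nat_lit 1, nat_lit 12, nat_lit 1, nat_lit 13, nat_lit 2, nat_lit 0⟩

noncomputable def c6l0S : List (List ℕ) := [[nat_lit 8, nat_lit 13, nat_lit 2, nat_lit 15, nat_lit 19, nat_lit 15, nat_lit 23, nat_lit 24]]

noncomputable def c8l1rD : ℕ := nat_lit 0x4bcf99a240b10007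

noncomputable def c8l1r (c : ℕ) : ℕ := Nat.land (Nat.shiftRight c8l1rD (Nat.mul (nat_lit 16) c)) (nat_lit 65535)

noncomputable def c8l1 : L0.LvP := ⟨nat_lit 2047, nat_lit 11, nat_lit 1, nat_lit 12, nat_lit 3, nat_lit 14, nat_lit 4, nat_lit 7⟩

noncomputable def c8l1S : List (List ℕ) := [[nat_lit 20, nat_lit 3, nat_lit 19, nat_lit 23, nat_lit 15, nat_lit 24, nat_lit 22, nat_lit 20, nat_lit 24, nat_lit 21], [nat_lit 15, nat_lit 18, nat_lit 0, nat_lit 16, nat_lit 15, nat_lit 15, nat_lit 22, nat_lit 24, nat_lit 20, nat_lit 20, nat_lit 21]]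

noncomputable def c8l0r (c : ℕ) : ℕ := Nat.land (Nat.shiftRight c8l0rD (Nat.mul (nat_lit 24) c)) (nat_lit 16777215)

noncomputable def c8l0 : L0.LvP := ⟨nat_lit 2047, nat_lit 11, nat_lit 1, nat_lit 12, nat_lit 255, nat_lit 20, nat_lit 160, nat_lit 0⟩

noncomputable def c8l0S : List (List ℕ) := [[nat_lit 1, nat_lit 22, nat_lit 2, nat_lit 22, nat_lit 24, nat_lit 13, nat_lit 21, nat_lit 23, nat_lit 24], [nat_lit 21, nat_lit 21, nat_lit 1, nat_lit 24, nat_lit 15, nat_lit 15, nat_lit 21]]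

noncomputable def c9l3rD : ℕ := nat_lit 0x878c014

noncomputable def c9l3r (c : ℕ) : ℕ := Nat.land (Nat.shiftRight c9l3rD (Nat.mul (nat_lit 14) c)) (nat_lit 16383)

noncomputable def c9l3 : L0.LvP := ⟨nat_lit 2047, nat_lit 11, nat_lit 1, nat_lit 12, nat_lit 1, nat_lit 13, nat_lit 2, nat_lit 20⟩

noncomputable def c9l3S : List (List ℕ) := [[nat_lit 7, nat_lit 16, nat_lit 18, nat_lit 13, nat_lit 23, nat_lit 23, nat_lit 22, nat_lit 20, nat_lit 21, nat_lit 21, nat_lit 24]]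

noncomputable def c9l2rD : ℕ := nat_lit 0x801c002

noncomputable def c9l2r (c : ℕ) : ℕ := Nat.land (Nat.shiftRight c9l2rD (Nat.mul (nat_lit 14) c)) (nat_lit 16383)

noncomputable def c9l2 : L0.LvP := ⟨nat_lit 2047, nat_lit 11, nat_lit 1, nat_lit 12, nat_lit 1, nat_lit 13, nat_lit 2, nat_lit 2⟩

noncomputable def c9l2S : List (List ℕ) := [[nat_lit 21, nat_lit 20, nat_lit 18, nat_lit 20, nat_lit 21, nat_lit 21, nat_lit 21]]

noncomputable def c9l1rD : ℕ := nat_lit 0x2479e89e3e8b3a029680280009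

noncomputable def c9l1r (c : ℕ) : ℕ := Nat.land (Nat.shiftRight c9l1rD (Nat.mul (nat_lit 17) c)) (nat_lit 131071)

noncomputable def c9l1 : L0.LvP := ⟨nat_lit 2047, nat_lit 11, nat_lit 1, nat_lit 12, nat_lit 7, nat_lit 15, nat_lit 6, nat_lit 9⟩

noncomputable def c9l1S : List (List ℕ) := [[nat_lit 16, nat_lit 20, nat_lit 0, nat_lit 14, nat_lit 18, nat_lit 13, nat_lit 23, nat_lit 23, nat_lit 22, nat_lit 20, nat_lit 21, nat_lit 24], [nat_lit 18, nat_lit 15, nat_lit 1, nat_lit 24, nat_lit 13, nat_lit 22, nat_lit 21, nat_lit 20, nat_lit 24, nat_lit 21, nat_lit 21]]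

noncomputable def c9l0r (c : ℕ) : ℕ := Nat.land (Nat.shiftRight c9l0rD (Nat.mul (nat_lit 27) c)) (nat_lit 134217727)

noncomputable def c9l0 : L0.LvP := ⟨nat_lit 2047, nat_lit 11, nat_lit 1, nat_lit 12, nat_lit 2047, nat_lit 23, nat_lit 1280, nat_lit 0⟩

noncomputable def c9l0S : List (List ℕ) := [[nat_lit 9, nat_lit 5, nat_lit 12, nat_lit 13, nat_lit 17, nat_lit 16, nat_lit 20, nat_lit 24, nat_lit 21], [nat_lit 22, nat_lit 10, nat_lit 17, nat_lit 18, nat_lit 22, nat_lit 20, nat_lit 20, nat_lit 21, nat_lit 21]]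

noncomputable def bsrB : L0.BT := (.node (.node (.node (.node (.node (.leaf bsrB_0) (.leaf bsrB_16)) (.node (.leaf bsrB_8) (.leaf bsrB_24))) (.node (.node (.leaf bsrB_4) (.leaf bsrB_20)) (.node (.leaf bsrB_12) (.leaf bsrB_28)))) (.node (.node (.node (.leaf bsrB_2) (.leaf bsrB_18)) (.node (.leaf bsrB_10) (.leaf bsrB_26))) (.node (.node (.leaf bsrB_6) (.leaf bsrB_22)) (.leaf bsrB_14)))) (.node (.node (.node (.node (.leaf bsrB_1) (.leaf bsrB_17)) (.node (.leaf bsrB_9) (.leaf bsrB_25))) (.node (.node (.leaf bsrB_5) (.leaf bsrB_21)) (.node (.leaf bsrB_13) (.leaf bsrB_29)))) (.node (.node (.node (.leaf bsrB_3) (.leaf bsrB_19)) (.node (.leaf bsrB_11) (.leaf bsrB_27))) (.node (.node (.leaf bsrB_7) (.leaf bsrB_23)) (.leaf bsrB_15)))))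

noncomputable def bsr (c : ℕ) : ℕ := L0.rowOf bsrB (nat_lit 3) (nat_lit 7) (nat_lit 2939) (nat_lit 533528049067240492096975314413577707907708608827902130557085785978630420023479242325609191443470191883887234473986523100461460281844076901883647639564830158374792996847926174116507874088388985752307341302208589142918835448523397826508505944514576178544375547993977817074143531391134571844351139685112632051529206585836466872487324341532274712595108532828883303925972215812568870227150677044169738012482184509722688981409707434521943855379340502661725164006743563397137372850010978726936428434534625587268647846440155830696354133806948059523334469948040614027982081083619176485907513042464262830961097689378280024405339701210153122305943708993042471191538542861605144292641810279116247771629537331731555508875318666072891634317463489231503762402296576567597501424204658411980696886105714784891922400746706997814452002624164868469685379960153058959593473988291211168536565643546500005887)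 c

noncomputable def bs : L0.LvP := ⟨pmV, nat_lit 2926, nat_lit 1, nat_lit 2927, nat_lit 255, nat_lit 2935, nat_lit 240, bv⟩

noncomputable def bsS : List (List ℕ) := [[nat_lit 5, nat_lit 18, nat_lit 3, nat_lit 13, nat_lit 15, nat_lit 20, nat_lit 24, nat_lit 20, nat_lit 20, nat_lit 24, nat_lit 21, nat_lit 21], [nat_lit 16, nat_lit 12, nat_lit 18, nat_lit 0, nat_lit 22, nat_lit 14, nat_lit 18, nat_lit 20, nat_lit 21, nat_lit 23, nat_lit 21, nat_lit 21, nat_lit 24]]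

noncomputable def X : List ℕ := [bs.β] ++ [e.E, d7.E]

noncomputable def v0l1rB : L0.BT := (.node (.node (.node (.node (.node (.leaf v0l1rB_0) (.leaf v0l1rB_16)) (.leaf v0l1rB_8)) (.node (.node (.leaf v0l1rB_4) (.leaf v0l1rB_20)) (.leaf v0l1rB_12))) (.node (.node (.node (.leaf v0l1rB_2) (.leaf v0l1rB_18)) (.leaf v0l1rB_10)) (.node (.node (.leaf v0l1rB_6) (.leaf v0l1rB_22)) (.leaf v0l1rB_14)))) (.node (.node (.node (.node (.leaf v0l1rB_1) (.leaf v0l1rB_17)) (.leaf v0l1rB_9)) (.node (.node (.leaf v0l1rB_5) (.leaf v0l1rB_21)) (.leaf v0l1rB_13))) (.node (.node (.node (.leaf v0l1rB_3) (.leaf v0l1rB_19)) (.leaf v0l1rB_11)) (.node (.node (.leaf v0l1rB_7) (.leaf v0l1rB_23)) (.leaf v0l1rB_15)))))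

noncomputable def v0l1r (c : ℕ) : ℕ := L0.rowOf v0l1rB (nat_lit 3) (nat_lit 7) (nat_lit 2939) (nat_lit 533528049067240492096975314413577707907708608827902130557085785978630420023479242325609191443470191883887234473986523100461460281844076901883647639564830158374792996847926174116507874088388985752307341302208589142918835448523397826508505944514576178544375547993977817074143531391134571844351139685112632051529206585836466872487324341532274712595108532828883303925972215812568870227150677044169738012482184509722688981409707434521943855379340502661725164006743563397137372850010978726936428434534625587268647846440155830696354133806948059523334469948040614027982081083619176485907513042464262830961097689378280024405339701210153122305943708993042471191538542861605144292641810279116247771629537331731555508875318666072891634317463489231503762402296576567597501424204658411980696886105714784891922400746706997814452002624164868469685379960153058959593473988291211168536565643546500005887)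 c

noncomputable def v0l1 : L0.LvP := ⟨pmV, nat_lit 2926, nat_lit 3, nat_lit 2928, nat_lit 255, nat_lit 2936, nat_lit 192, v0l1v⟩

noncomputable def v0l1t (c : ℕ) : ℕ := Nat.land (Nat.shiftRight v0l1tD (Nat.mul (nat_lit 24) c)) (nat_lit 16777215)

noncomputable def v0l1S : List ℕ := [nat_lit 50, nat_lit 51, nat_lit 52]

noncomputable def v0l0rB : L0.BT := (.node (.node (.node (.node (.node (.leaf v0l0rB_0) (.leaf v0l0rB_16)) (.node (.leaf v0l0rB_8) (.leaf v0l0rB_24))) (.node (.node (.leaf v0l0rB_4) (.leaf v0l0rB_20)) (.node (.leaf v0l0rB_12) (.leaf v0l0rB_28)))) (.node (.node (.node (.leaf v0l0rB_2) (.leaf v0l0rB_18)) (.node (.leaf v0l0rB_10) (.leaf v0l0rB_26))) (.node (.node (.leaf v0l0rB_6) (.leaf v0l0rB_22)) (.node (.leaf v0l0rB_14) (.leaf v0l0rB_30))))) (.node (.node (.node (.node (.leaf v0l0rB_1) (.leaf v0l0rB_17)) (.node (.leaf v0l0rB_9) (.leaf v0l0rB_25))) (.node (.node (.leaf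 v0l0rB_5) (.leaf v0l0rB_21)) (.node (.leaf v0l0rB_13) (.leaf v0l0rB_29)))) (.node (.node (.node (.leaf v0l0rB_3) (.leaf v0l0rB_19)) (.node (.leaf v0l0rB_11) (.leaf v0l0rB_27))) (.node (.node (.leaf v0l0rB_7) (.leaf v0l0rB_23)) (.node (.leaf v0l0rB_15) (.leaf v0l0rB_31))))))

noncomputable def v0l0r (c : ℕ) : ℕ := L0.rowOf v0l0rB (nat_lit 3) (nat_lit 7) (nat_lit 2939) (nat_lit 533528049067240492096975314413577707907708608827902130557085785978630420023479242325609191443470191883887234473986523100461460281844076901883647639564830158374792996847926174116507874088388985752307341302208589142918835448523397826508505944514576178544375547993977817074143531391134571844351139685112632051529206585836466872487324341532274712595108532828883303925972215812568870227150677044169738012482184509722688981409707434521943855379340502661725164006743563397137372850010978726936428434534625587268647846440155830696354133806948059523334469948040614027982081083619176485907513042464262830961097689378280024405339701210153122305943708993042471191538542861605144292641810279116247771629537331731555508875318666072891634317463489231503762402296576567597501424204658411980696886105714784891922400746706997814452002624164868469685379960153058959593473988291211168536565643546500005887)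 c

noncomputable def v0l0 : L0.LvP := ⟨pmV, nat_lit 2926, nat_lit 1, nat_lit 2927, nat_lit 255, nat_lit 2935, nat_lit 256, v0l0v⟩

noncomputable def v0l0t (c : ℕ) : ℕ := Nat.land (Nat.shiftRight v0l0tD (Nat.mul (nat_lit 16) c)) (nat_lit 65535)

noncomputable def v0l0S : List ℕ := [nat_lit 48, nat_lit 49]

noncomputable def v1l1rB : L0.BT := (.node (.node (.node (.node (.node (.leaf v1l1rB_0) (.leaf v1l1rB_16)) (.leaf v1l1rB_8)) (.node (.node (.leaf v1l1rB_4) (.leaf v1l1rB_20)) (.leaf v1l1rB_12))) (.node (.node (.node (.leaf v1l1rB_2) (.leaf v1l1rB_18)) (.leaf v1l1rB_10)) (.node (.leaf v1l1rB_6) (.leaf v1l1rB_14)))) (.node (.node (.node (.node (.leaf v1l1rB_1) (.leaf v1l1rB_17)) (.leaf v1l1rB_9)) (.node (.leaf v1l1rB_5) (.leaf v1l1rB_13))) (.node (.node (.node (.leaf v1l1rB_3) (.leaf v1l1rB_19)) (.leaf v1l1rB_11)) (.node (.leaf v1l1rB_7) (.leaf v1l1rB_15)))))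

noncomputable def v1l1r (c : ℕ) : ℕ := L0.rowOf v1l1rB (nat_lit 3) (nat_lit 7) (nat_lit 2939) (nat_lit 533528049067240492096975314413577707907708608827902130557085785978630420023479242325609191443470191883887234473986523100461460281844076901883647639564830158374792996847926174116507874088388985752307341302208589142918835448523397826508505944514576178544375547993977817074143531391134571844351139685112632051529206585836466872487324341532274712595108532828883303925972215812568870227150677044169738012482184509722688981409707434521943855379340502661725164006743563397137372850010978726936428434534625587268647846440155830696354133806948059523334469948040614027982081083619176485907513042464262830961097689378280024405339701210153122305943708993042471191538542861605144292641810279116247771629537331731555508875318666072891634317463489231503762402296576567597501424204658411980696886105714784891922400746706997814452002624164868469685379960153058959593473988291211168536565643546500005887)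 c

noncomputable def v1l1 : L0.LvP := ⟨pmV, nat_lit 2926, nat_lit 1, nat_lit 2927, nat_lit 255, nat_lit 2935, nat_lit 162, v1l1v⟩

noncomputable def v1l1t (c : ℕ) : ℕ := Nat.land (Nat.shiftRight v1l1tD (Nat.mul (nat_lit 16) c)) (nat_lit 65535)

noncomputable def v1l1S : List ℕ := [nat_lit 55, nat_lit 56]

noncomputable def v1l0rB : L0.BT := (.node (.node (.node (.node (.node (.leaf v1l0rB_0) (.leaf v1l0rB_16)) (.leaf v1l0rB_8)) (.node (.node (.leaf v1l0rB_4) (.leaf v1l0rB_20)) (.leaf v1l0rB_12))) (.node (.node (.node (.leaf v1l0rB_2) (.leaf v1l0rB_18)) (.leaf v1l0rB_10)) (.node (.node (.leaf v1l0rB_6) (.leaf v1l0rB_22)) (.leaf v1l0rB_14)))) (.node (.node (.node (.node (.leaf v1l0rB_1) (.leaf v1l0rB_17)) (.leaf v1l0rB_9)) (.node (.node (.leaf v1l0rB_5) (.leaf v1l0rB_21)) (.leaf v1l0rB_13))) (.node (.node (.node (.leaf v1l0rB_3) (.leaf v1l0rB_19)) (.leaf v1l0rB_11)) (.node (.leaf v1l0rB_7)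 (.leaf v1l0rB_15)))))

noncomputable def v1l0r (c : ℕ) : ℕ := L0.rowOf v1l0rB (nat_lit 3) (nat_lit 7) (nat_lit 2939) (nat_lit 533528049067240492096975314413577707907708608827902130557085785978630420023479242325609191443470191883887234473986523100461460281844076901883647639564830158374792996847926174116507874088388985752307341302208589142918835448523397826508505944514576178544375547993977817074143531391134571844351139685112632051529206585836466872487324341532274712595108532828883303925972215812568870227150677044169738012482184509722688981409707434521943855379340502661725164006743563397137372850010978726936428434534625587268647846440155830696354133806948059523334469948040614027982081083619176485907513042464262830961097689378280024405339701210153122305943708993042471191538542861605144292641810279116247771629537331731555508875318666072891634317463489231503762402296576567597501424204658411980696886105714784891922400746706997814452002624164868469685379960153058959593473988291211168536565643546500005887)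 c

noncomputable def v1l0 : L0.LvP := ⟨pmV, nat_lit 2926, nat_lit 1, nat_lit 2927, nat_lit 255, nat_lit 2935, nat_lit 180, v1l0v⟩

noncomputable def v1l0t (c : ℕ) : ℕ := Nat.land (Nat.shiftRight v1l0tD (Nat.mul (nat_lit 16) c)) (nat_lit 65535)

noncomputable def v1l0S : List ℕ := [nat_lit 53, nat_lit 54]

noncomputable def v2l2rB : L0.BT := (.node (.node (.node (.leaf v2l2rB_0) (.leaf v2l2rB_4)) (.node (.leaf v2l2rB_2) (.leaf v2l2rB_6))) (.node (.node (.leaf v2l2rB_1) (.leaf v2l2rB_5)) (.leaf v2l2rB_3)))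

noncomputable def v2l2r (c : ℕ) : ℕ := L0.rowOf v2l2rB (nat_lit 3) (nat_lit 7) (nat_lit 2936) (nat_lit 66691006133405061512121914301697213488463576103487766319635723247328802502934905290701148930433773985485904309248315387557682535230509612735455954945603769796849124605990771764563484261048623219038417662776073642864854431065424728313563243064322022318046943499247227134267941423891821480543892460639079006441150823229558359060915542691534339074388566603610412990746526976571108778393834630521217251560273063715336122676213429315242981922417562832715645500842945424642171606251372340867053554316828198408580980805019478837044266725868507440416808743505076753497760135452397060738439130308032853870137211172285003050667462651269140288242963624130308898942317857700643036580226284889530971453692166466444438609414833259111454289682936153937970300287072070949687678025582301497587110763214348111490300093338374726806500328020608558710672495019132369949184248536401396067070705443312500735)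 c

noncomputable def v2l2 : L0.LvP := ⟨pmV, nat_lit 2926, nat_lit 1, nat_lit 2927, nat_lit 63, nat_lit 2933, nat_lit 50, v2l2v⟩

noncomputable def v2l2tD : ℕ := nat_lit 0x783c45ae555492242e29d8cfb02a6d5d5c1c98669366c26f71739f00b96089bbcda9e1411a71210639d12293cca2bb662e84ea74ebb16190b00c78505128165a46c04987da3044491ca348

noncomputable def v2l2t (c : ℕ) : ℕ := Nat.land (Nat.shiftRight v2l2tD (Nat.mul (nat_lit 12) c)) (nat_lit 4095)

noncomputable def v2l2S : List ℕ := [nat_lit 61, nat_lit 62]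

noncomputable def v2l1rB : L0.BT := (.node (.node (.node (.node (.leaf v2l1rB_0) (.leaf v2l1rB_8)) (.node (.leaf v2l1rB_4) (.leaf v2l1rB_12))) (.node (.node (.leaf v2l1rB_2) (.leaf v2l1rB_10)) (.node (.leaf v2l1rB_6) (.leaf v2l1rB_14)))) (.node (.node (.node (.leaf v2l1rB_1) (.leaf v2l1rB_9)) (.node (.leaf v2l1rB_5) (.leaf v2l1rB_13))) (.node (.node (.leaf v2l1rB_3) (.leaf v2l1rB_11)) (.node (.leaf v2l1rB_7) (.leaf v2l1rB_15)))))

noncomputable def v2l1r (c : ℕ) : ℕ := L0.rowOf v2l1rB (nat_lit 3) (nat_lit 7) (nat_lit 2938) (nat_lit 26676402453362024604848765720678885395385430441395106527854289298931521001173962116280459572173509594194361723699326155023073014092203845094182381978241507918739649842396308705825393704419449287615367065110429457145941772426169891325425297225728808927218777399698890853707176569556728592217556984255631602576460329291823343624366217076613735629755426641444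1651962986107906284435113575338522084869006241092254861344490704853717260971927689670251330862582003371781698568686425005489363468214217267312793634323923220077915348177066903474029761667234974020307013991040541809588242953756521232131415480548844689140012202669850605076561152971854496521235595769271430802572146320905139558123885814768665865777754437659333036445817158731744615751881201148288283798750712102329205990348443052857392445961200373353498907226001312082434234842689980076529479796736994145605584268282821773250002943) c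

noncomputable def v2l1 : L0.LvP := ⟨pmV, nat_lit 2926, nat_lit 1, nat_lit 2927, nat_lit 127, nat_lit 2934, nat_lit 125, v2l1v⟩

noncomputable def v2l1t (c : ℕ) : ℕ := Nat.land (Nat.shiftRight v2l1tD (Nat.mul (nat_lit 14) c)) (nat_lit 16383)

noncomputable def v2l1S : List ℕ := [nat_lit 59, nat_lit 60]

noncomputable def v2l0rB : L0.BT := (.node (.node (.node (.node (.leaf v2l0rB_0) (.leaf v2l0rB_8)) (.leaf v2l0rB_4)) (.node (.leaf v2l0rB_2) (.leaf v2l0rB_6))) (.node (.node (.node (.leaf v2l0rB_1) (.leaf v2l0rB_9)) (.leaf v2l0rB_5)) (.node (.leaf v2l0rB_3) (.leaf v2l0rB_7))))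

noncomputable def v2l0r (c : ℕ) : ℕ := L0.rowOf v2l0rB (nat_lit 3) (nat_lit 7) (nat_lit 2938) (nat_lit 266764024533620246048487657206788853953854304413951065278542892989315210011739621162804595721735095941943617236993261550230730140922038450941823819782415079187396498423963087058253937044194492876153670651104294571459417724261698913254252972257288089272187773996988908537071765695567285922175569842556316025764603292918233436243662170766137356297554266414441651962986107906284435113575338522084869006241092254861344490704853717260971927689670251330862582003371781698568686425005489363468214217267312793634323923220077915348177066903474029761667234974020307013991040541809588242953756521232131415480548844689140012202669850605076561152971854496521235595769271430802572146320905139558123885814768665865777754437659333036445817158731744615751881201148288283798750712102329205990348443052857392445961200373353498907226001312082434234842689980076529479796736994145605584268282821773250002943)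 c

noncomputable def v2l0 : L0.LvP := ⟨pmV, nat_lit 2926, nat_lit 1, nat_lit 2927, nat_lit 127, nat_lit 2934, nat_lit 80, v2l0v⟩

noncomputable def v2l0t (c : ℕ) : ℕ := Nat.land (Nat.shiftRight v2l0tD (Nat.mul (nat_lit 14) c)) (nat_lit 16383)

noncomputable def v2l0S : List ℕ := [nat_lit 57, nat_lit 58]

noncomputable def v3l0rB : L0.BT := (.node (.node (.leaf v3l0rB_0) (.leaf v3l0rB_2)) (.leaf v3l0rB_1))

noncomputable def v3l0r (c : ℕ) : ℕ := L0.rowOf v3l0rB (nat_lit 3) (nat_lit 7) (nat_lit 2937) (nat_lit 1333820122668101230242438286033944269769271522069755326392714464946576050058698105814022978608675479709718086184966307751153650704610192254709119098912075395936982492119815435291269685220972464380768353255521472857297088621308494566271264861286440446360938869984944542685358828477836429610877849212781580128823016464591167181218310853830686781487771332072208259814930539531422175567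87669261042434503120546127430672245352426858630485963844835125665431291001685890849284343212502744681734107108633656396817161961610038957674088533451737014880833617487010153506995520270904794121476878260616065707740274422344570006101334925302538280576485927248260617797884635715401286073160452569779061942907384332932888877218829666518222908579365872307875940600574144141899375356051164602995174221526428696222980600186676749453613000656041217117421344990038264739898368497072802792134141410886625001471) c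

noncomputable def v3l0 : L0.LvP := ⟨pmV, nat_lit 2926, nat_lit 1, nat_lit 2927, nat_lit 31, nat_lit 2932, nat_lit 19, v3l0v⟩

noncomputable def v3l0tD : ℕ := nat_lit 0x31674244329026541d2045ed

noncomputable def v3l0t (c : ℕ) : ℕ := Nat.land (Nat.shiftRight v3l0tD (Nat.mul (nat_lit 5) c)) (nat_lit 31)

noncomputable def v3l0S : List ℕ := [nat_lit 63]

noncomputable def LA0t (c : ℕ) : ℕ := Nat.land (Nat.shiftRight LA0tD (Nat.mul (nat_lit 5) c)) (nat_lit 31)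

noncomputable def LA0 : SLv := ⟨⟨nat_lit 261, LA0t, nat_lit 33554431, nat_lit 5, nat_lit 1408, fun i => i⟩, true, [nat_lit 1099, nat_lit 1347, nat_lit 545, nat_lit 1396, nat_lit 853, nat_lit 681, nat_lit 622, nat_lit 1092, nat_lit 567, nat_lit 989, nat_lit 261], [nat_lit 25], nat_lit 10, [(nat_lit 320, [nat_lit 28])]⟩

noncomputable def LA1t (c : ℕ) : ℕ := Nat.land (Nat.shiftRight LA1tD (Nat.mul (nat_lit 5) c)) (nat_lit 31)

noncomputable def LA1p (c : ℕ) : ℕ := Nat.land (Nat.shiftRight LA1pD (Nat.mul (nat_lit 11) c)) (nat_lit 2047)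

noncomputable def LA1 : SLv := ⟨⟨nat_lit 1099, LA1t, nat_lit 33546240, nat_lit 5, nat_lit 350, LA1p⟩, false, [], [], nat_lit 0, []⟩

noncomputable def LA2t (c : ℕ) : ℕ := Nat.land (Nat.shiftRight LA2tD (Nat.mul (nat_lit 5) c)) (nat_lit 31)

noncomputable def LA2pD : ℕ := nat_lit 0xaaf50e9acee9db2ea59c137e4f69b8353642ba541a164267a8f21c637c67cbe15d28a4d09412121c32c570930f81c025040

noncomputable def LA2p (c : ℕ) : ℕ := Nat.land (Nat.shiftRight LA2pD (Nat.mul (nat_lit 11) c)) (nat_lit 2047)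

noncomputable def LA2 : SLv := ⟨⟨nat_lit 1347, LA2t, nat_lit 32505856, nat_lit 5, nat_lit 36, LA2p⟩, false, [], [], nat_lit 0, []⟩

noncomputable def LA3t (c : ℕ) : ℕ := Nat.land (Nat.shiftRight LA3tD (Nat.mul (nat_lit 5) c)) (nat_lit 31)

noncomputable def LA3pD : ℕ := nat_lit 0x2283e174cc454ca2142e2703d03a

noncomputable def LA3p (c : ℕ) : ℕ := Nat.land (Nat.shiftRight LA3pD (Nat.mul (nat_lit 11) c)) (nat_lit 2047)

noncomputable def LA3 : SLv := ⟨⟨nat_lit 545, LA3t, nat_lit 18874368, nat_lit 4, nat_lit 10, LA3p⟩, false, [], [], nat_lit 0, []⟩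

noncomputable def LAs : List SLv := [LA1, LA2, LA3]

noncomputable def DA : CD := ⟨[nat_lit 25], [nat_lit 25], nat_lit 1, nat_lit 11, [nat_lit 25, nat_lit 28], [],
  [[([nat_lit 0], nat_lit 0), ([nat_lit 1], nat_lit 0)]],
  [[nat_lit 25], [nat_lit 28]], [], []⟩

noncomputable def rhA (r : List ℕ) (i : ℕ) : Bool := force (LA0.pts i) (fun δ => cand e.T iv LA0 (emptyB e.T iv LAs)
  (tr e.T r) (genP (tr e.T r) [] LA0.xs δ) δ) false

noncomputable def cA1 : CC := ⟨[], [(nat_lit 5632375936, [])],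
  [⟨nat_lit 1, nat_lit 99, [], []⟩],
  []⟩

noncomputable def cA2 : CC := ⟨[], [(nat_lit 5632375936, [])],
  [⟨nat_lit 1, nat_lit 99, [], []⟩],
  []⟩

noncomputable def cA3 : CC := ⟨[], [(nat_lit 5632375936, [])],
  [⟨nat_lit 1, nat_lit 99, [], []⟩],
  []⟩

noncomputable def cA5 : CC := ⟨[], [(nat_lit 5632375936, [])],
  [⟨nat_lit 1, nat_lit 99, [], []⟩],
  []⟩

noncomputable def cA6 : CC := ⟨[], [(nat_lit 5632375936, [])],
  [⟨nat_lit 1, nat_lit 99, [], []⟩],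
  []⟩

noncomputable def cA7 : CC := ⟨[], [(nat_lit 5632375936, [])],
  [⟨nat_lit 1, nat_lit 99, [], []⟩],
  []⟩

noncomputable def cA8 : CC := ⟨[], [(nat_lit 5632375936, [])],
  [⟨nat_lit 1, nat_lit 99, [], []⟩],
  []⟩

noncomputable def cA9 : CC := ⟨[], [(nat_lit 5632375936, [])],
  [⟨nat_lit 1, nat_lit 99, [], []⟩],
  []⟩

noncomputable def CLA : List (List ℕ) := [[nat_lit 25], [nat_lit 28], [nat_lit 25, nat_lit 25], [nat_lit 25, nat_lit 28], [nat_lit 25, nat_lit 25, nat_lit 25], [nat_lit 25, nat_lit 25, nat_lit 28], [nat_lit 25, nat_lit 25, nat_lit 25, nat_lit 25], [nat_lit 25, nat_lit 25, nat_lit 25, nat_lit 28], [nat_lit 25, nat_lit 25, nat_lit 25, nat_lit 25, nat_lit 25], [nat_lit 25, nat_lit 25, nat_lit 25, nat_lit 25, nat_lit 28], [nat_lit 25, nat_lit 25, nat_lit 25, nat_lit 25, nat_lit 25, nat_lit 25], [nat_lit 25, nat_lit 25, nat_lit 25, nat_lit 25, nat_lit 25, nat_lit 28],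 [nat_lit 25, nat_lit 25, nat_lit 25, nat_lit 25, nat_lit 25, nat_lit 25, nat_lit 25], [nat_lit 25, nat_lit 25, nat_lit 25, nat_lit 25, nat_lit 25, nat_lit 25, nat_lit 28], [nat_lit 25, nat_lit 25, nat_lit 25, nat_lit 25, nat_lit 25, nat_lit 25, nat_lit 25, nat_lit 25], [nat_lit 25, nat_lit 25, nat_lit 25, nat_lit 25, nat_lit 25, nat_lit 25, nat_lit 25, nat_lit 28], [nat_lit 25, nat_lit 25, nat_lit 25, nat_lit 25, nat_lit 25, nat_lit 25, nat_lit 25, nat_lit 25, nat_lit 25], [nat_lit 25, nat_lit 25, nat_lit 25, nat_lit 25, nat_lit 25, nat_lit 25, nat_lit 25, nat_lit 25, nat_lit 28], [nat_lit 25, nat_lit 25, nat_lit 25, nat_lit 25, nat_lit 25, nat_lit 25, nat_lit 25, nat_lit 25, nat_lit 25, nat_lit 25], [nat_lit 25, nat_lit 25, nat_lit 25, nat_lit 25, nat_lit 25, nat_lit 25, nat_lit 25, nat_lit 25, nat_lit 25, nat_lit 28], [nat_lit 25, nat_lit 25, nat_lit 25, nat_lit 25, nat_lit 25, nat_lit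 25, nat_lit 25, nat_lit 25, nat_lit 25, nat_lit 25, nat_lit 28]]

noncomputable def clAq0 : List (List ℕ) := [[nat_lit 1, nat_lit 2], [nat_lit 3, nat_lit 4], [nat_lit 4, nat_lit 0], [nat_lit 5, nat_lit 6], [nat_lit 6, nat_lit 1], [nat_lit 7, nat_lit 8], [nat_lit 8, nat_lit 3], [nat_lit 9, nat_lit 10], [nat_lit 10, nat_lit 5], [nat_lit 11, nat_lit 12], [nat_lit 12, nat_lit 7], [nat_lit 13, nat_lit 14], [nat_lit 14, nat_lit 9], [nat_lit 15, nat_lit 16], [nat_lit 16, nat_lit 11], [nat_lit 17, nat_lit 18], [nat_lit 18, nat_lit 13], [nat_lit 19, nat_lit 20], [nat_lit 20, nat_lit 15], [nat_lit 0, nat_lit 21], [nat_lit 21, nat_lit 17], [nat_lit 2, nat_lit 19]]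

noncomputable def LB0t (c : ℕ) : ℕ := Nat.land (Nat.shiftRight LB0tD (Nat.mul (nat_lit 6) c)) (nat_lit 63)

noncomputable def LB0 : SLv := ⟨⟨nat_lit 82, LB0t, nat_lit 2198184394752, nat_lit 5, nat_lit 1408, fun i => i⟩, true, [nat_lit 1166, nat_lit 858, nat_lit 637, nat_lit 910, nat_lit 82], [nat_lit 42], nat_lit 9, [(nat_lit 294, [nat_lit 42, nat_lit 42, nat_lit 42, nat_lit 44, nat_lit 42]), (nat_lit 104, [nat_lit 42, nat_lit 43, nat_lit 44, nat_lit 42, nat_lit 44]), (nat_lit 103, [nat_lit 43, nat_lit 43, nat_lit 43, nat_lit 44]), (nat_lit 369, [nat_lit 42, nat_lit 42, nat_lit 44, nat_lit 44]), (nat_lit 125, [nat_lit 42, nat_lit 42, nat_lit 43, nat_lit 43, nat_lit 44]), (nat_lit 176, [nat_lit 44, nat_lit 44, nat_lit 44, nat_lit 42]), (nat_lit 313, [nat_lit 43, nat_lit 44, nat_lit 44, nat_lit 44]), (nat_lit 254, [nat_lit 42, nat_lit 42, nat_lit 44, nat_lit 44, nat_lit 44]), (nat_lit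 168, [nat_lit 42, nat_lit 42, nat_lit 43, nat_lit 44, nat_lit 44, nat_lit 42, nat_lit 44])]⟩

noncomputable def LB1t (c : ℕ) : ℕ := Nat.land (Nat.shiftRight LB1tD (Nat.mul (nat_lit 6) c)) (nat_lit 63)

noncomputable def LB1p (c : ℕ) : ℕ := Nat.land (Nat.shiftRight LB1pD (Nat.mul (nat_lit 11) c)) (nat_lit 2047)

noncomputable def LB1 : SLv := ⟨⟨nat_lit 1166, LB1t, nat_lit 2194728288256, nat_lit 5, nat_lit 350, LB1p⟩, false, [], [], nat_lit 0, []⟩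

noncomputable def LB2t (c : ℕ) : ℕ := Nat.land (Nat.shiftRight LB2tD (Nat.mul (nat_lit 6) c)) (nat_lit 63)

noncomputable def LB2pD : ℕ := nat_lit 0xad344a7b4f49e53726cc808cb08e103c76f8de5ad3025bab6563ab65609dd2fa514067ccd99b22a6498858c016829422018

noncomputable def LB2p (c : ℕ) : ℕ := Nat.land (Nat.shiftRight LB2pD (Nat.mul (nat_lit 11) c)) (nat_lit 2047)

noncomputable def LB2 : SLv := ⟨⟨nat_lit 858, LB2t, nat_lit 2130303778816, nat_lit 5, nat_lit 36, LB2p⟩, false, [], [], nat_lit 0, []⟩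

noncomputable def LB3t (c : ℕ) : ℕ := Nat.land (Nat.shiftRight LB3tD (Nat.mul (nat_lit 6) c)) (nat_lit 63)

noncomputable def LB3pD : ℕ := nat_lit 0x2ae4f78fd0bdbfa7d4b48d11216d

noncomputable def LB3p (c : ℕ) : ℕ := Nat.land (Nat.shiftRight LB3pD (Nat.mul (nat_lit 11) c)) (nat_lit 2047)

noncomputable def LB3 : SLv := ⟨⟨nat_lit 637, LB3t, nat_lit 1649267441664, nat_lit 6, nat_lit 10, LB3p⟩, false, [], [], nat_lit 0, []⟩

noncomputable def LBs : List SLv := [LB1, LB2, LB3]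

noncomputable def rhoB0 : List ℕ := [nat_lit 16, nat_lit 4, nat_lit 1, nat_lit 23, nat_lit 15, nat_lit 24, nat_lit 21, nat_lit 20, nat_lit 24, nat_lit 21, nat_lit 21]

noncomputable def rhoB1 : List ℕ := [nat_lit 11, nat_lit 8, nat_lit 0, nat_lit 17, nat_lit 21, nat_lit 14, nat_lit 13, nat_lit 20, nat_lit 20, nat_lit 21]

noncomputable def DB : CD := ⟨[nat_lit 26], [nat_lit 29], nat_lit 2, nat_lit 5, [nat_lit 42, nat_lit 43, nat_lit 44], [[nat_lit 8, nat_lit 0, nat_lit 0, nat_lit 19, nat_lit 15, nat_lit 13, nat_lit 22, nat_lit 24, nat_lit 20, nat_lit 20, nat_lit 21, nat_lit 24], [nat_lit 6, nat_lit 13, nat_lit 1, nat_lit 17, nat_lit 13, nat_lit 16, nat_lit 22, nat_lit 20, nat_lit 24, nat_lit 21, nat_lit 24], [nat_lit 8, nat_lit 22, nat_lit 3, nat_lit 21, nat_lit 15, nat_lit 18, nat_lit 21, nat_lit 21, nat_lit 20, nat_lit 21, nat_lit 21, nat_lit 24], [nat_lit 12, nat_lit 13, nat_lit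 7, nat_lit 0, nat_lit 21, nat_lit 13, nat_lit 13, nat_lit 20, nat_lit 23, nat_lit 21, nat_lit 21, nat_lit 21]],
  [[([nat_lit 0], nat_lit 0), ([nat_lit 1, nat_lit 1, nat_lit 1], nat_lit 0), ([], nat_lit 1)], [([nat_lit 0], nat_lit 2), ([nat_lit 1, nat_lit 1, nat_lit 1], nat_lit 1), ([nat_lit 1], nat_lit 3)], [([nat_lit 0], nat_lit 1), ([nat_lit 1, nat_lit 1, nat_lit 1], nat_lit 2), ([nat_lit 1, nat_lit 1, nat_lit 1, nat_lit 1], nat_lit 0)], [([nat_lit 0, nat_lit 0, nat_lit 1], nat_lit 4), ([nat_lit 1, nat_lit 1, nat_lit 1], nat_lit 3), ([nat_lit 0, nat_lit 0, nat_lit 0], nat_lit 4)], [([nat_lit 0, nat_lit 0, nat_lit 1], nat_lit 3), ([nat_lit 1, nat_lit 1, nat_lit 1], nat_lit 4), ([nat_lit 0, nat_lit 1, nat_lit 1, nat_lit 1, nat_lit 1], nat_lit 2)]],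
  [[nat_lit 26], [nat_lit 41]], [[nat_lit 47]], [rhoB0, rhoB1]⟩

noncomputable def rhB (r : List ℕ) (i : ℕ) : Bool := force (LB0.pts i) (fun δ => cand e.T iv LB0 (emptyB e.T iv LBs)
  (tr e.T r) (genP (tr e.T r) [] LB0.xs δ) δ) false

noncomputable def rB1x0 : RP := ⟨[nat_lit 6, nat_lit 1, nat_lit 23, nat_lit 14, nat_lit 14, nat_lit 21, nat_lit 20, nat_lit 20, nat_lit 24, nat_lit 21, nat_lit 24], [nat_lit 3, nat_lit 10, nat_lit 13, nat_lit 13, nat_lit 17, nat_lit 23, nat_lit 23], [⟨nat_lit 0, nat_lit 0, [nat_lit 18, nat_lit 12, nat_lit 7, nat_lit 20, nat_lit 19, nat_lit 14, nat_lit 23, nat_lit 23, nat_lit 21, nat_lit 21, nat_lit 21], []⟩, ⟨nat_lit 0, nat_lit 0, [nat_lit 19, nat_lit 10, nat_lit 12, nat_lit 17, nat_lit 22, nat_lit 15, nat_lit 20, nat_lit 24, nat_lit 21, nat_lit 24], []⟩, ⟨nat_lit 0, nat_lit 0, [nat_lit 2, nat_lit 9, nat_lit 3, nat_lit 21, nat_lit 21, nat_lit 18, nat_lit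 24, nat_lit 20, nat_lit 20, nat_lit 24, nat_lit 21, nat_lit 24], []⟩, ⟨nat_lit 0, nat_lit 0, [nat_lit 2, nat_lit 14, nat_lit 1, nat_lit 19, nat_lit 15, nat_lit 13, nat_lit 21, nat_lit 20, nat_lit 23, nat_lit 21, nat_lit 24], []⟩, ⟨nat_lit 0, nat_lit 0, [nat_lit 15, nat_lit 2, nat_lit 21, nat_lit 22, nat_lit 16, nat_lit 21, nat_lit 20, nat_lit 20, nat_lit 24], []⟩]⟩

noncomputable def rB1x1 : RP := ⟨[nat_lit 6, nat_lit 18, nat_lit 0, nat_lit 21, nat_lit 18, nat_lit 20, nat_lit 24, nat_lit 20, nat_lit 20], [nat_lit 8, nat_lit 14, nat_lit 3, nat_lit 14, nat_lit 19, nat_lit 15, nat_lit 23, nat_lit 20, nat_lit 23, nat_lit 21, nat_lit 21, nat_lit 21], [⟨nat_lit 0, nat_lit 0, [nat_lit 19, nat_lit 12, nat_lit 0, nat_lit 19, nat_lit 16, nat_lit 13, nat_lit 20, nat_lit 23, nat_lit 23, nat_lit 21, nat_lit 21, nat_lit 24], []⟩, ⟨nat_lit 0, nat_lit 0, [nat_lit 14, nat_lit 2, nat_lit 9, nat_lit 22,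 nat_lit 19, nat_lit 14, nat_lit 23, nat_lit 22, nat_lit 20, nat_lit 21], []⟩, ⟨nat_lit 0, nat_lit 0, [nat_lit 2, nat_lit 3, nat_lit 5, nat_lit 23, nat_lit 18, nat_lit 23, nat_lit 23, nat_lit 21, nat_lit 21, nat_lit 24], []⟩, ⟨nat_lit 0, nat_lit 0, [nat_lit 3, nat_lit 2, nat_lit 3, nat_lit 17, nat_lit 21, nat_lit 15, nat_lit 21, nat_lit 21, nat_lit 20, nat_lit 24, nat_lit 21, nat_lit 21], []⟩, ⟨nat_lit 0, nat_lit 0, [nat_lit 7, nat_lit 17, nat_lit 12, nat_lit 14, nat_lit 16, nat_lit 13, nat_lit 21, nat_lit 20, nat_lit 21, nat_lit 21], []⟩]⟩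

noncomputable def cB1 : CC := ⟨[[nat_lit 22, nat_lit 21, nat_lit 0, nat_lit 13, nat_lit 18, nat_lit 23, nat_lit 20, nat_lit 23, nat_lit 24, nat_lit 21, nat_lit 24], [nat_lit 13, nat_lit 13, nat_lit 1, nat_lit 15, nat_lit 21, nat_lit 14, nat_lit 20, nat_lit 24]], [(nat_lit 5629459968, [nat_lit 0, nat_lit 0, nat_lit 1, nat_lit 0, nat_lit 0, nat_lit 0, nat_lit 0]), (nat_lit 5632375936, []), (nat_lit 5724452096, [nat_lit 0, nat_lit 0, nat_lit 0, nat_lit 1, nat_lit 1, nat_lit 0, nat_lit 1, nat_lit 1]), (nat_lit 7145397248, [nat_lit 1, nat_lit 1, nat_lit 0, nat_lit 0]), (nat_lit 7270303744, [nat_lit 0, nat_lit 0, nat_lit 0, nat_lit 1, nat_lit 1, nat_lit 1]), (nat_lit 22694476288, [nat_lit 0, nat_lit 0, nat_lit 0, nat_lit 1]), (nat_lit 23112722688, [nat_lit 1, nat_lit 1, nat_lit 1]), (nat_lit 23190027520, [nat_lit 0, nat_lit 0, nat_lit 0, nat_lit 1, nat_lit 1, nat_lit 0]), (nat_lit 23818768512,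 [nat_lit 0, nat_lit 1, nat_lit 1, nat_lit 1, nat_lit 1, nat_lit 0, nat_lit 1]), (nat_lit 23827112320, [nat_lit 1, nat_lit 1, nat_lit 1, nat_lit 1, nat_lit 0]), (nat_lit 25490240512, [nat_lit 0, nat_lit 0, nat_lit 1, nat_lit 1, nat_lit 0, nat_lit 0]), (nat_lit 25806860288, [nat_lit 0, nat_lit 1, nat_lit 0, nat_lit 1, nat_lit 1, nat_lit 1, nat_lit 1]), (nat_lit 26004581504, [nat_lit 0, nat_lit 0, nat_lit 0, nat_lit 0, nat_lit 1, nat_lit 1, nat_lit 0, nat_lit 1]), (nat_lit 26038848000, [nat_lit 1, nat_lit 0, nat_lit 1, nat_lit 1, nat_lit 1]), (nat_lit 26623673472, [nat_lit 0, nat_lit 1, nat_lit 0, nat_lit 0]), (nat_lit 28172193280, [nat_lit 1, nat_lit 1, nat_lit 0, nat_lit 1, nat_lit 1, nat_lit 1]), (nat_lit 28219527424, [nat_lit 1, nat_lit 0, nat_lit 0]), (nat_lit 28751179776, [nat_lit 0, nat_lit 0, nat_lit 0, nat_lit 0, nat_lit 1, nat_lit 1, nat_lit 1, nat_lit 0, nat_lit 1]), (nat_lit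 29395812864, [nat_lit 0, nat_lit 1, nat_lit 0, nat_lit 1, nat_lit 0]), (nat_lit 29655379072, [nat_lit 0, nat_lit 0, nat_lit 0, nat_lit 0, nat_lit 1, nat_lit 1, nat_lit 1]), (nat_lit 61548450304, [nat_lit 0, nat_lit 0, nat_lit 1, nat_lit 1, nat_lit 1, nat_lit 0]), (nat_lit 61701812480, [nat_lit 0, nat_lit 0, nat_lit 0, nat_lit 0, nat_lit 1, nat_lit 1, nat_lit 1, nat_lit 1]), (nat_lit 61743454080, [nat_lit 0, nat_lit 0, nat_lit 0, nat_lit 0, nat_lit 1, nat_lit 1, nat_lit 1, nat_lit 0, nat_lit 1, nat_lit 1]), (nat_lit 62413688832, [nat_lit 0, nat_lit 0, nat_lit 0, nat_lit 0, nat_lit 1, nat_lit 0, nat_lit 0]), (nat_lit 62440319744, [nat_lit 0, nat_lit 1, nat_lit 1, nat_lit 0]), (nat_lit 67104177536, [nat_lit 0, nat_lit 1, nat_lit 1, nat_lit 1, nat_lit 1, nat_lit 0]), (nat_lit 67688055424, [nat_lit 0, nat_lit 0, nat_lit 0, nat_lit 0, nat_lit 1, nat_lit 0, nat_lit 1, nat_lit 1, nat_lit 0]),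 (nat_lit 67893360128, [nat_lit 0, nat_lit 0, nat_lit 1, nat_lit 0, nat_lit 0]), (nat_lit 67988153728, [nat_lit 0, nat_lit 0, nat_lit 0]), (nat_lit 68573101696, [nat_lit 1, nat_lit 1]), (nat_lit 78883459072, [nat_lit 0, nat_lit 0, nat_lit 0, nat_lit 0, nat_lit 1, nat_lit 0, nat_lit 0, nat_lit 0, nat_lit 0]), (nat_lit 78958916608, [nat_lit 0, nat_lit 1, nat_lit 1, nat_lit 1, nat_lit 0, nat_lit 1, nat_lit 1]), (nat_lit 79031441280, [nat_lit 1, nat_lit 1, nat_lit 1, nat_lit 0, nat_lit 1]), (nat_lit 79829732224, [nat_lit 0, nat_lit 0, nat_lit 0, nat_lit 1, nat_lit 0, nat_lit 1, nat_lit 1, nat_lit 0]), (nat_lit 80765349632, [nat_lit 0, nat_lit 0, nat_lit 0, nat_lit 1, nat_lit 0, nat_lit 1]), (nat_lit 148077918208, [nat_lit 1, nat_lit 1, nat_lit 0, nat_lit 1]), (nat_lit 148202375552, [nat_lit 0, nat_lit 0, nat_lit 0, nat_lit 0, nat_lit 1]), (nat_lit 148715628160, [nat_lit 0, nat_lit 0, nat_lit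 0, nat_lit 1, nat_lit 0, nat_lit 1, nat_lit 0]), (nat_lit 149679209856, [nat_lit 0, nat_lit 0, nat_lit 1, nat_lit 1, nat_lit 1, nat_lit 0, nat_lit 1, nat_lit 1]), (nat_lit 149917692672, [nat_lit 0, nat_lit 1, nat_lit 1, nat_lit 0, nat_lit 1, nat_lit 1]), (nat_lit 151019521664, [nat_lit 0, nat_lit 1, nat_lit 0, nat_lit 1]), (nat_lit 151078757632, [nat_lit 1, nat_lit 0]), (nat_lit 151509074816, [nat_lit 0, nat_lit 0, nat_lit 0, nat_lit 0, nat_lit 1, nat_lit 1, nat_lit 0, nat_lit 1, nat_lit 1, nat_lit 1]), (nat_lit 152678890496, [nat_lit 0, nat_lit 0, nat_lit 1, nat_lit 1, nat_lit 0, nat_lit 1]), (nat_lit 152692446720, [nat_lit 0, nat_lit 0, nat_lit 0, nat_lit 1, nat_lit 1, nat_lit 1, nat_lit 1, nat_lit 0]), (nat_lit 170401975040, [nat_lit 0, nat_lit 0, nat_lit 0, nat_lit 0, nat_lit 1, nat_lit 0, nat_lit 1]), (nat_lit 170551072384, [nat_lit 0, nat_lit 0, nat_lit 1, nat_lit 0, nat_lit 1,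 nat_lit 1, nat_lit 1, nat_lit 1]), (nat_lit 170653674752, [nat_lit 0, nat_lit 1, nat_lit 1, nat_lit 1]), (nat_lit 171021103616, [nat_lit 0, nat_lit 1, nat_lit 0, nat_lit 0, nat_lit 0]), (nat_lit 172979344384, [nat_lit 0, nat_lit 0, nat_lit 1, nat_lit 1, nat_lit 1, nat_lit 1]), (nat_lit 201713010048, [nat_lit 0, nat_lit 0, nat_lit 1, nat_lit 1, nat_lit 1]), (nat_lit 201798767104, [nat_lit 0, nat_lit 1, nat_lit 1]), (nat_lit 202070495616, [nat_lit 0, nat_lit 0, nat_lit 0, nat_lit 0, nat_lit 1, nat_lit 0]), (nat_lit 202789368320, [nat_lit 0, nat_lit 0, nat_lit 0, nat_lit 1, nat_lit 1, nat_lit 1, nat_lit 0, nat_lit 1, nat_lit 1]), (nat_lit 203614732288, [nat_lit 0, nat_lit 0, nat_lit 1, nat_lit 0, nat_lit 1, nat_lit 1, nat_lit 1]), (nat_lit 357757413376, [nat_lit 1, nat_lit 0, nat_lit 1, nat_lit 1, nat_lit 0]), (nat_lit 357993156224, [nat_lit 0, nat_lit 0, nat_lit 0, nat_lit 1, nat_lit 1,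 nat_lit 0, nat_lit 1, nat_lit 1, nat_lit 1]), (nat_lit 358083289344, [nat_lit 0, nat_lit 0, nat_lit 0, nat_lit 1, nat_lit 1, nat_lit 1, nat_lit 1]), (nat_lit 358200768640, [nat_lit 1]), (nat_lit 359282487168, [nat_lit 0, nat_lit 0, nat_lit 0, nat_lit 0, nat_lit 1, nat_lit 1, nat_lit 0, nat_lit 0]), (nat_lit 376950837120, [nat_lit 0, nat_lit 1, nat_lit 1, nat_lit 0, nat_lit 0]), (nat_lit 377147323520, [nat_lit 0, nat_lit 0, nat_lit 0, nat_lit 0, nat_lit 1, nat_lit 1, nat_lit 1, nat_lit 1, nat_lit 0]), (nat_lit 378563233664, [nat_lit 0, nat_lit 0, nat_lit 0, nat_lit 0, nat_lit 1, nat_lit 0, nat_lit 0, nat_lit 0]), (nat_lit 379280947584, [nat_lit 1, nat_lit 1, nat_lit 1, nat_lit 0, nat_lit 1, nat_lit 1]), (nat_lit 379506583808, [nat_lit 0, nat_lit 0, nat_lit 0, nat_lit 1, nat_lit 0, nat_lit 1, nat_lit 1]), (nat_lit 438577812992, [nat_lit 0, nat_lit 0, nat_lit 1, nat_lit 1, nat_lit 0, nat_lit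 1, nat_lit 1]), (nat_lit 438926778752, [nat_lit 0, nat_lit 0, nat_lit 0, nat_lit 1, nat_lit 0, nat_lit 0]), (nat_lit 439184210432, [nat_lit 0, nat_lit 1, nat_lit 0, nat_lit 1, nat_lit 1]), (nat_lit 440013200000, [nat_lit 0, nat_lit 0, nat_lit 0, nat_lit 1, nat_lit 1, nat_lit 1, nat_lit 1, nat_lit 0, nat_lit 1]), (nat_lit 440990899712, [nat_lit 1, nat_lit 0, nat_lit 1]), (nat_lit 455103689216, [nat_lit 0, nat_lit 0, nat_lit 0, nat_lit 1, nat_lit 1, nat_lit 1, nat_lit 0]), (nat_lit 455297430016, [nat_lit 0]), (nat_lit 456481925504, [nat_lit 0, nat_lit 0, nat_lit 1]), (nat_lit 456670400384, [nat_lit 0, nat_lit 0, nat_lit 1, nat_lit 0, nat_lit 1]), (nat_lit 456829580416, [nat_lit 0, nat_lit 0, nat_lit 0, nat_lit 0, nat_lit 1, nat_lit 0, nat_lit 1, nat_lit 1, nat_lit 1]), (nat_lit 499926966528, [nat_lit 0, nat_lit 0, nat_lit 0, nat_lit 1, nat_lit 0, nat_lit 1, nat_lit 1, nat_lit 1, nat_lit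 1]), (nat_lit 500547031424, [nat_lit 0, nat_lit 1, nat_lit 1, nat_lit 1, nat_lit 0]), (nat_lit 500548987136, [nat_lit 0, nat_lit 1, nat_lit 0, nat_lit 0, nat_lit 0, nat_lit 0]), (nat_lit 501473884032, [nat_lit 0, nat_lit 0, nat_lit 1, nat_lit 1, nat_lit 1, nat_lit 1, nat_lit 0]), (nat_lit 502308202880, [nat_lit 0, nat_lit 0, nat_lit 0, nat_lit 0, nat_lit 1, nat_lit 0, nat_lit 1, nat_lit 0]), (nat_lit 522262081792, [nat_lit 1, nat_lit 0, nat_lit 1, nat_lit 0]), (nat_lit 523536292224, [nat_lit 0, nat_lit 0, nat_lit 0, nat_lit 1, nat_lit 0, nat_lit 1, nat_lit 1, nat_lit 1]), (nat_lit 523641444480, [nat_lit 0, nat_lit 1, nat_lit 0, nat_lit 1, nat_lit 1, nat_lit 0]), (nat_lit 523913574272, [nat_lit 0, nat_lit 0, nat_lit 0, nat_lit 0, nat_lit 1, nat_lit 1, nat_lit 1, nat_lit 1, nat_lit 0, nat_lit 1]), (nat_lit 524516085632, [nat_lit 0, nat_lit 0, nat_lit 0, nat_lit 1, nat_lit 0, nat_lit 0,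 nat_lit 0]), (nat_lit 525044919168, [nat_lit 0, nat_lit 0, nat_lit 1, nat_lit 1, nat_lit 0]), (nat_lit 525656968320, [nat_lit 0, nat_lit 1, nat_lit 0]), (nat_lit 526265908608, [nat_lit 0, nat_lit 0, nat_lit 0, nat_lit 0, nat_lit 1, nat_lit 1, nat_lit 0, nat_lit 1, nat_lit 1]), (nat_lit 527196003840, [nat_lit 1, nat_lit 0, nat_lit 1, nat_lit 1, nat_lit 1, nat_lit 1]), (nat_lit 527419267584, [nat_lit 0, nat_lit 0, nat_lit 1, nat_lit 0, nat_lit 1, nat_lit 1, nat_lit 0]), (nat_lit 946382484608, [nat_lit 0, nat_lit 0, nat_lit 1, nat_lit 1, nat_lit 1, nat_lit 1, nat_lit 0, nat_lit 1]), (nat_lit 947246206720, [nat_lit 0, nat_lit 0, nat_lit 0, nat_lit 1, nat_lit 0]), (nat_lit 947810631680, [nat_lit 0, nat_lit 1, nat_lit 1, nat_lit 1, nat_lit 0, nat_lit 1]), (nat_lit 948003665664, [nat_lit 1, nat_lit 1, nat_lit 1, nat_lit 0]), (nat_lit 948173526784, [nat_lit 0, nat_lit 0, nat_lit 0, nat_lit 1,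 nat_lit 1, nat_lit 0, nat_lit 0]), (nat_lit 949099296640, [nat_lit 1, nat_lit 1, nat_lit 0]), (nat_lit 950592669312, [nat_lit 0, nat_lit 0, nat_lit 1, nat_lit 1, nat_lit 1, nat_lit 0, nat_lit 1]), (nat_lit 950765304192, [nat_lit 0, nat_lit 1, nat_lit 1, nat_lit 0, nat_lit 1]), (nat_lit 950775060224, [nat_lit 0, nat_lit 0, nat_lit 0, nat_lit 0]), (nat_lit 950881445888, [nat_lit 0, nat_lit 0, nat_lit 1, nat_lit 0, nat_lit 0, nat_lit 0]), (nat_lit 1002756674304, [nat_lit 0, nat_lit 0, nat_lit 0, nat_lit 0, nat_lit 1, nat_lit 1, nat_lit 1, nat_lit 0]), (nat_lit 1003668817536, [nat_lit 1, nat_lit 1, nat_lit 0, nat_lit 1, nat_lit 1]), (nat_lit 1003806113024, [nat_lit 0, nat_lit 0, nat_lit 0, nat_lit 0, nat_lit 1, nat_lit 1]), (nat_lit 1003853934336, [nat_lit 0, nat_lit 1, nat_lit 1, nat_lit 0, nat_lit 1, nat_lit 1, nat_lit 1]), (nat_lit 1004837612416, [nat_lit 1, nat_lit 0, nat_lit 0, nat_lit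 0]), (nat_lit 1141759139840, [nat_lit 0, nat_lit 1, nat_lit 0, nat_lit 1, nat_lit 1, nat_lit 1]), (nat_lit 1142560704384, [nat_lit 0, nat_lit 0, nat_lit 0, nat_lit 0, nat_lit 1, nat_lit 1, nat_lit 0]), (nat_lit 1142570195712, [nat_lit 0, nat_lit 0, nat_lit 1, nat_lit 1, nat_lit 0, nat_lit 1, nat_lit 1, nat_lit 1]), (nat_lit 1142651742848, [nat_lit 1, nat_lit 0, nat_lit 0, nat_lit 0, nat_lit 0]), (nat_lit 1143267057152, [nat_lit 1, nat_lit 0, nat_lit 1, nat_lit 1]), (nat_lit 1147598363648, [nat_lit 0, nat_lit 1, nat_lit 1, nat_lit 1, nat_lit 1]), (nat_lit 1147895208064, [nat_lit 0, nat_lit 0, nat_lit 1, nat_lit 0, nat_lit 1, nat_lit 0]), (nat_lit 1148772324480, [nat_lit 0, nat_lit 0]), (nat_lit 1149675693056, [nat_lit 0, nat_lit 0, nat_lit 0, nat_lit 0, nat_lit 1, nat_lit 0, nat_lit 1, nat_lit 1]), (nat_lit 1149898126080, [nat_lit 0, nat_lit 0, nat_lit 1, nat_lit 0]), (nat_lit 1236817312896,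 [nat_lit 0, nat_lit 0, nat_lit 0, nat_lit 1, nat_lit 0, nat_lit 0, nat_lit 0, nat_lit 0]), (nat_lit 1237358204544, [nat_lit 1, nat_lit 1, nat_lit 1, nat_lit 1, nat_lit 0, nat_lit 1]), (nat_lit 1238295550976, [nat_lit 0, nat_lit 0, nat_lit 0, nat_lit 1, nat_lit 1]), (nat_lit 1238361846656, [nat_lit 0, nat_lit 0, nat_lit 0, nat_lit 1, nat_lit 1, nat_lit 0, nat_lit 1]), (nat_lit 1238978495744, [nat_lit 1, nat_lit 1, nat_lit 1, nat_lit 1]), (nat_lit 1365962806912, [nat_lit 0, nat_lit 1]), (nat_lit 1366042227968, [nat_lit 0, nat_lit 0, nat_lit 0, nat_lit 1, nat_lit 1, nat_lit 1, nat_lit 0, nat_lit 1]), (nat_lit 1366546090624, [nat_lit 0, nat_lit 0, nat_lit 1, nat_lit 1]), (nat_lit 1366618330880, [nat_lit 0, nat_lit 0, nat_lit 1, nat_lit 0, nat_lit 1, nat_lit 1]), (nat_lit 1366921263488, [nat_lit 0, nat_lit 0, nat_lit 0, nat_lit 0, nat_lit 1, nat_lit 0, nat_lit 1, nat_lit 1, nat_lit 1, nat_lit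 1])],
  [⟨nat_lit 1, nat_lit 0, [], []⟩, ⟨nat_lit 1, nat_lit 99, [], []⟩, ⟨nat_lit 1, nat_lit 0, [nat_lit 14, nat_lit 15, nat_lit 7, nat_lit 21, nat_lit 15, nat_lit 13, nat_lit 24, nat_lit 20, nat_lit 24], []⟩, ⟨nat_lit 1, nat_lit 0, [nat_lit 13, nat_lit 0, nat_lit 14, nat_lit 15, nat_lit 24, nat_lit 20, nat_lit 20, nat_lit 21, nat_lit 21], []⟩, ⟨nat_lit 1, nat_lit 0, [nat_lit 3, nat_lit 10, nat_lit 0, nat_lit 16, nat_lit 13, nat_lit 13, nat_lit 22, nat_lit 23, nat_lit 24], []⟩, ⟨nat_lit 1, nat_lit 0, [nat_lit 15, nat_lit 18, nat_lit 0, nat_lit 17, nat_lit 13, nat_lit 16, nat_lit 22, nat_lit 21, nat_lit 20, nat_lit 21, nat_lit 21, nat_lit 24], []⟩, ⟨nat_lit 2, nat_lit 0, [], []⟩, ⟨nat_lit 2, nat_lit 0, [nat_lit 24, nat_lit 8, nat_lit 18, nat_lit 16, nat_lit 13, nat_lit 22, nat_lit 24, nat_lit 20, nat_lit 20, nat_lit 24, nat_lit 21], []⟩, ⟨nat_lit 2, nat_lit 1, [], []⟩, ⟨nat_lit 2, nat_lit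 1, [nat_lit 7, nat_lit 6, nat_lit 5, nat_lit 14, nat_lit 20, nat_lit 18, nat_lit 13, nat_lit 24, nat_lit 20, nat_lit 24], []⟩, ⟨nat_lit 2, nat_lit 0, [nat_lit 10, nat_lit 0, nat_lit 21, nat_lit 13, nat_lit 14, nat_lit 21, nat_lit 20, nat_lit 23, nat_lit 24, nat_lit 21, nat_lit 21], []⟩, ⟨nat_lit 2, nat_lit 1, [nat_lit 22, nat_lit 11, nat_lit 1, nat_lit 20, nat_lit 18, nat_lit 13, nat_lit 23, nat_lit 22, nat_lit 20, nat_lit 21, nat_lit 21], []⟩, ⟨nat_lit 2, nat_lit 0, [nat_lit 5, nat_lit 5, nat_lit 20, nat_lit 21, nat_lit 19, nat_lit 22, nat_lit 23, nat_lit 24, nat_lit 21, nat_lit 24], []⟩, ⟨nat_lit 2, nat_lit 1, [nat_lit 9, nat_lit 16, nat_lit 1, nat_lit 15, nat_lit 16, nat_lit 13, nat_lit 20, nat_lit 21, nat_lit 23, nat_lit 21, nat_lit 21, nat_lit 21], []⟩, ⟨nat_lit 1, nat_lit 0, [nat_lit 16, nat_lit 9, nat_lit 19, nat_lit 19, nat_lit 13, nat_lit 22, nat_lit 21, nat_lit 20, nat_lit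 21], []⟩, ⟨nat_lit 2, nat_lit 1, [nat_lit 19, nat_lit 23, nat_lit 0, nat_lit 15, nat_lit 19, nat_lit 13, nat_lit 20, nat_lit 23, nat_lit 20, nat_lit 21, nat_lit 24], []⟩, ⟨nat_lit 2, nat_lit 0, [nat_lit 9, nat_lit 21, nat_lit 1, nat_lit 15, nat_lit 19, nat_lit 20, nat_lit 21, nat_lit 23], []⟩, ⟨nat_lit 2, nat_lit 0, [nat_lit 22, nat_lit 19, nat_lit 0, nat_lit 15, nat_lit 23, nat_lit 13, nat_lit 13, nat_lit 23, nat_lit 23, nat_lit 21, nat_lit 21, nat_lit 24], []⟩, ⟨nat_lit 2, nat_lit 1, [nat_lit 9, nat_lit 20, nat_lit 1, nat_lit 21, nat_lit 22, nat_lit 13, nat_lit 20, nat_lit 21, nat_lit 21, nat_lit 21], []⟩, ⟨nat_lit 1, nat_lit 0, [nat_lit 3, nat_lit 1, nat_lit 12, nat_lit 21, nat_lit 14, nat_lit 13, nat_lit 22, nat_lit 20, nat_lit 21, nat_lit 21, nat_lit 21], []⟩, ⟨nat_lit 1, nat_lit 0, [nat_lit 10, nat_lit 7, nat_lit 17, nat_lit 19, nat_lit 17, nat_lit 24], []⟩, ⟨nat_lit 1, nat_lit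 0, [nat_lit 15, nat_lit 12, nat_lit 9, nat_lit 0, nat_lit 21, nat_lit 13, nat_lit 13, nat_lit 24, nat_lit 20, nat_lit 23, nat_lit 21, nat_lit 21, nat_lit 24], []⟩, ⟨nat_lit 1, nat_lit 1, [], []⟩, ⟨nat_lit 1, nat_lit 0, [nat_lit 15, nat_lit 15, nat_lit 3, nat_lit 14, nat_lit 20, nat_lit 21, nat_lit 21], []⟩, ⟨nat_lit 1, nat_lit 0, [nat_lit 0, nat_lit 16, nat_lit 19, nat_lit 17, nat_lit 20, nat_lit 23, nat_lit 21, nat_lit 21, nat_lit 21], []⟩, ⟨nat_lit 1, nat_lit 0, [nat_lit 10, nat_lit 8, nat_lit 15, nat_lit 16, nat_lit 13, nat_lit 24, nat_lit 21, nat_lit 20, nat_lit 21, nat_lit 21], []⟩, ⟨nat_lit 2, nat_lit 0, [nat_lit 21, nat_lit 9, nat_lit 5, nat_lit 23, nat_lit 22, nat_lit 13, nat_lit 22, nat_lit 21, nat_lit 21, nat_lit 20, nat_lit 24, nat_lit 21, nat_lit 24], []⟩, ⟨nat_lit 2, nat_lit 1, [nat_lit 8, nat_lit 5, nat_lit 0, nat_lit 21, nat_lit 19, nat_lit 17, nat_lit 20, nat_lit 23,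 nat_lit 23, nat_lit 24, nat_lit 21, nat_lit 21], []⟩, ⟨nat_lit 2, nat_lit 1, [nat_lit 18, nat_lit 11, nat_lit 23, nat_lit 24, nat_lit 13, nat_lit 23, nat_lit 20, nat_lit 20, nat_lit 24, nat_lit 21], []⟩, ⟨nat_lit 2, nat_lit 0, [nat_lit 19, nat_lit 5, nat_lit 0, nat_lit 20, nat_lit 16, nat_lit 13, nat_lit 22, nat_lit 20, nat_lit 20], []⟩, ⟨nat_lit 1, nat_lit 0, [nat_lit 11, nat_lit 10, nat_lit 5, nat_lit 17, nat_lit 15, nat_lit 14, nat_lit 13, nat_lit 21, nat_lit 20, nat_lit 20, nat_lit 21, nat_lit 21, nat_lit 24], []⟩, ⟨nat_lit 2, nat_lit 1, [nat_lit 22, nat_lit 21, nat_lit 0, nat_lit 23, nat_lit 15, nat_lit 13, nat_lit 13, nat_lit 23, nat_lit 20, nat_lit 24, nat_lit 21, nat_lit 24], []⟩, ⟨nat_lit 2, nat_lit 1, [nat_lit 7, nat_lit 9, nat_lit 1, nat_lit 23, nat_lit 21, nat_lit 13, nat_lit 23, nat_lit 20, nat_lit 20, nat_lit 24, nat_lit 21, nat_lit 24], []⟩, ⟨nat_lit 2, nat_lit 0, [nat_lit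 22, nat_lit 21, nat_lit 0, nat_lit 23, nat_lit 15, nat_lit 13, nat_lit 13, nat_lit 23, nat_lit 20, nat_lit 24, nat_lit 21, nat_lit 24], []⟩, ⟨nat_lit 2, nat_lit 0, [nat_lit 9, nat_lit 24, nat_lit 6, nat_lit 14, nat_lit 19, nat_lit 20, nat_lit 23, nat_lit 24, nat_lit 21, nat_lit 24], []⟩, ⟨nat_lit 2, nat_lit 0, [nat_lit 7, nat_lit 9, nat_lit 0, nat_lit 15, nat_lit 18, nat_lit 15, nat_lit 20, nat_lit 20, nat_lit 24, nat_lit 21, nat_lit 21], []⟩, ⟨nat_lit 2, nat_lit 1, [nat_lit 7, nat_lit 9, nat_lit 1, nat_lit 16, nat_lit 18, nat_lit 13, nat_lit 20, nat_lit 20, nat_lit 21, nat_lit 21], []⟩, ⟨nat_lit 2, nat_lit 0, [nat_lit 13, nat_lit 5, nat_lit 14, nat_lit 17, nat_lit 20, nat_lit 23, nat_lit 20, nat_lit 21, nat_lit 24], []⟩, ⟨nat_lit 2, nat_lit 1, [nat_lit 6, nat_lit 1, nat_lit 14, nat_lit 16, nat_lit 13, nat_lit 21, nat_lit 21, nat_lit 23, nat_lit 21, nat_lit 21], []⟩, ⟨nat_lit 1, nat_lit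 0, [nat_lit 10, nat_lit 14, nat_lit 5, nat_lit 16, nat_lit 15, nat_lit 17, nat_lit 20, nat_lit 21, nat_lit 23, nat_lit 24, nat_lit 21], []⟩, ⟨nat_lit 1, nat_lit 0, [nat_lit 6, nat_lit 9, nat_lit 0, nat_lit 15, nat_lit 16, nat_lit 13, nat_lit 23, nat_lit 20, nat_lit 20, nat_lit 24, nat_lit 21, nat_lit 24], []⟩, ⟨nat_lit 1, nat_lit 0, [nat_lit 5, nat_lit 15, nat_lit 17, nat_lit 15, nat_lit 23, nat_lit 23, nat_lit 22, nat_lit 20, nat_lit 21, nat_lit 24], []⟩, ⟨nat_lit 1, nat_lit 1, [nat_lit 14, nat_lit 15, nat_lit 7, nat_lit 15, nat_lit 24, nat_lit 13, nat_lit 21, nat_lit 23, nat_lit 24], []⟩, ⟨nat_lit 1, nat_lit 0, [nat_lit 19, nat_lit 5, nat_lit 0, nat_lit 13, nat_lit 18, nat_lit 13, nat_lit 20, nat_lit 23, nat_lit 21, nat_lit 24], []⟩, ⟨nat_lit 1, nat_lit 0, [nat_lit 0, nat_lit 0, nat_lit 19, nat_lit 24, nat_lit 13, nat_lit 20, nat_lit 20, nat_lit 24, nat_lit 21, nat_lit 24], []⟩, ⟨nat_lit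 2, nat_lit 0, [nat_lit 13, nat_lit 17, nat_lit 13, nat_lit 23, nat_lit 21, nat_lit 21], []⟩, ⟨nat_lit 2, nat_lit 1, [nat_lit 19, nat_lit 5, nat_lit 0, nat_lit 20, nat_lit 16, nat_lit 13, nat_lit 22, nat_lit 20, nat_lit 20], []⟩, ⟨nat_lit 2, nat_lit 0, [nat_lit 9, nat_lit 19, nat_lit 0, nat_lit 13, nat_lit 13, nat_lit 15, nat_lit 20, nat_lit 21, nat_lit 23, nat_lit 24, nat_lit 21], []⟩, ⟨nat_lit 2, nat_lit 1, [nat_lit 15, nat_lit 22, nat_lit 3, nat_lit 23, nat_lit 22, nat_lit 13, nat_lit 23, nat_lit 23, nat_lit 22, nat_lit 20, nat_lit 21, nat_lit 21, nat_lit 24], []⟩, ⟨nat_lit 1, nat_lit 0, [nat_lit 20, nat_lit 16, nat_lit 0, nat_lit 22, nat_lit 18, nat_lit 20, nat_lit 23, nat_lit 23, nat_lit 21, nat_lit 24], []⟩, ⟨nat_lit 2, nat_lit 1, [nat_lit 24, nat_lit 8, nat_lit 18, nat_lit 16, nat_lit 13, nat_lit 22, nat_lit 24, nat_lit 20, nat_lit 20, nat_lit 24, nat_lit 21], []⟩, ⟨nat_lit 1,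 nat_lit 0, [nat_lit 0, nat_lit 8, nat_lit 1, nat_lit 19, nat_lit 14, nat_lit 14, nat_lit 23, nat_lit 23, nat_lit 22, nat_lit 20, nat_lit 24], []⟩, ⟨nat_lit 2, nat_lit 0, [nat_lit 18, nat_lit 15, nat_lit 1, nat_lit 20, nat_lit 19, nat_lit 13, nat_lit 20, nat_lit 24, nat_lit 20, nat_lit 20, nat_lit 24], []⟩, ⟨nat_lit 2, nat_lit 1, [nat_lit 19, nat_lit 5, nat_lit 14, nat_lit 17, nat_lit 24, nat_lit 22, nat_lit 20, nat_lit 21, nat_lit 21, nat_lit 24], []⟩, ⟨nat_lit 2, nat_lit 0, [nat_lit 15, nat_lit 22, nat_lit 3, nat_lit 23, nat_lit 22, nat_lit 13, nat_lit 23, nat_lit 23, nat_lit 22, nat_lit 20, nat_lit 21, nat_lit 21, nat_lit 24], []⟩, ⟨nat_lit 2, nat_lit 1, [nat_lit 9, nat_lit 24, nat_lit 6, nat_lit 19, nat_lit 23, nat_lit 15, nat_lit 22, nat_lit 20, nat_lit 20, nat_lit 21, nat_lit 21], []⟩, ⟨nat_lit 2, nat_lit 1, [nat_lit 15, nat_lit 11, nat_lit 16, nat_lit 18, nat_lit 20, nat_lit 23,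 nat_lit 20, nat_lit 24], []⟩, ⟨nat_lit 2, nat_lit 0, [nat_lit 7, nat_lit 9, nat_lit 1, nat_lit 16, nat_lit 18, nat_lit 13, nat_lit 20, nat_lit 20, nat_lit 21, nat_lit 21], []⟩, ⟨nat_lit 2, nat_lit 0, [nat_lit 15, nat_lit 11, nat_lit 16, nat_lit 18, nat_lit 20, nat_lit 23, nat_lit 20, nat_lit 24], []⟩, ⟨nat_lit 1, nat_lit 0, [nat_lit 9, nat_lit 19, nat_lit 0, nat_lit 13, nat_lit 16, nat_lit 21, nat_lit 21, nat_lit 20, nat_lit 20, nat_lit 21, nat_lit 21, nat_lit 21], []⟩, ⟨nat_lit 2, nat_lit 1, [nat_lit 0, nat_lit 9, nat_lit 18, nat_lit 22, nat_lit 20, nat_lit 21, nat_lit 21], []⟩, ⟨nat_lit 2, nat_lit 0, [nat_lit 19, nat_lit 23, nat_lit 0, nat_lit 13, nat_lit 20, nat_lit 16, nat_lit 20, nat_lit 21, nat_lit 23], []⟩, ⟨nat_lit 2, nat_lit 0, [nat_lit 7, nat_lit 6, nat_lit 5, nat_lit 14, nat_lit 20, nat_lit 18, nat_lit 13, nat_lit 24, nat_lit 20, nat_lit 24], []⟩, ⟨nat_lit 2, nat_lit 1, [nat_lit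 16, nat_lit 17, nat_lit 0, nat_lit 19, nat_lit 16, nat_lit 17, nat_lit 21, nat_lit 20], []⟩, ⟨nat_lit 1, nat_lit 0, [nat_lit 16, nat_lit 8, nat_lit 1, nat_lit 18, nat_lit 20, nat_lit 13, nat_lit 23, nat_lit 20, nat_lit 21, nat_lit 21, nat_lit 21], []⟩, ⟨nat_lit 2, nat_lit 0, [nat_lit 4, nat_lit 9, nat_lit 13, nat_lit 14, nat_lit 13, nat_lit 24, nat_lit 20, nat_lit 24, nat_lit 21, nat_lit 24], []⟩, ⟨nat_lit 2, nat_lit 0, [nat_lit 18, nat_lit 15, nat_lit 1, nat_lit 19, nat_lit 16, nat_lit 17, nat_lit 22, nat_lit 22, nat_lit 20, nat_lit 24], []⟩, ⟨nat_lit 2, nat_lit 1, [nat_lit 9, nat_lit 24, nat_lit 6, nat_lit 24, nat_lit 20, nat_lit 15, nat_lit 20, nat_lit 21, nat_lit 23, nat_lit 21, nat_lit 21, nat_lit 21], []⟩, ⟨nat_lit 2, nat_lit 1, [nat_lit 18, nat_lit 3, nat_lit 15, nat_lit 13, nat_lit 24, nat_lit 21, nat_lit 23, nat_lit 24, nat_lit 21, nat_lit 24], []⟩, ⟨nat_lit 1, nat_lit 0, [nat_lit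 15, nat_lit 9, nat_lit 6, nat_lit 13, nat_lit 14, nat_lit 13, nat_lit 22, nat_lit 22, nat_lit 20, nat_lit 24, nat_lit 21, nat_lit 24], []⟩, ⟨nat_lit 1, nat_lit 0, [nat_lit 4, nat_lit 10, nat_lit 3, nat_lit 16, nat_lit 13, nat_lit 13, nat_lit 24, nat_lit 20, nat_lit 23, nat_lit 21, nat_lit 21, nat_lit 21], []⟩, ⟨nat_lit 2, nat_lit 1, [nat_lit 16, nat_lit 17, nat_lit 0, nat_lit 18, nat_lit 19, nat_lit 24, nat_lit 22, nat_lit 20, nat_lit 21, nat_lit 21, nat_lit 24], []⟩, ⟨nat_lit 2, nat_lit 0, [nat_lit 7, nat_lit 9, nat_lit 1, nat_lit 23, nat_lit 21, nat_lit 13, nat_lit 23, nat_lit 20, nat_lit 20, nat_lit 24, nat_lit 21, nat_lit 24], []⟩, ⟨nat_lit 2, nat_lit 1, [nat_lit 14, nat_lit 8, nat_lit 0, nat_lit 19, nat_lit 13, nat_lit 15, nat_lit 22, nat_lit 21, nat_lit 21, nat_lit 20, nat_lit 24], []⟩, ⟨nat_lit 2, nat_lit 0, [nat_lit 16, nat_lit 17, nat_lit 0, nat_lit 19, nat_lit 16, nat_lit 17,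 nat_lit 21, nat_lit 20], []⟩, ⟨nat_lit 2, nat_lit 1, [nat_lit 18, nat_lit 15, nat_lit 1, nat_lit 19, nat_lit 16, nat_lit 17, nat_lit 22, nat_lit 22, nat_lit 20, nat_lit 24], []⟩, ⟨nat_lit 2, nat_lit 1, [nat_lit 9, nat_lit 24, nat_lit 6, nat_lit 14, nat_lit 19, nat_lit 20, nat_lit 23, nat_lit 24, nat_lit 21, nat_lit 24], []⟩, ⟨nat_lit 2, nat_lit 0, [nat_lit 18, nat_lit 3, nat_lit 15, nat_lit 13, nat_lit 24, nat_lit 21, nat_lit 23, nat_lit 24, nat_lit 21, nat_lit 24], []⟩, ⟨nat_lit 2, nat_lit 0, [nat_lit 15, nat_lit 22, nat_lit 3, nat_lit 14, nat_lit 17, nat_lit 14, nat_lit 20, nat_lit 23, nat_lit 20, nat_lit 21, nat_lit 21, nat_lit 21], []⟩, ⟨nat_lit 1, nat_lit 0, [nat_lit 0, nat_lit 20, nat_lit 6, nat_lit 16, nat_lit 18, nat_lit 13, nat_lit 22, nat_lit 21, nat_lit 21, nat_lit 20, nat_lit 21, nat_lit 21], []⟩, ⟨nat_lit 1, nat_lit 0, [nat_lit 12, nat_lit 23, nat_lit 2, nat_lit 17, nat_lit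 15, nat_lit 15, nat_lit 23, nat_lit 23, nat_lit 21, nat_lit 24], []⟩, ⟨nat_lit 1, nat_lit 0, [nat_lit 10, nat_lit 10, nat_lit 20, nat_lit 18, nat_lit 16, nat_lit 20, nat_lit 20, nat_lit 24, nat_lit 21, nat_lit 24], []⟩, ⟨nat_lit 1, nat_lit 0, [nat_lit 0, nat_lit 20, nat_lit 2, nat_lit 0, nat_lit 16, nat_lit 23, nat_lit 23, nat_lit 21, nat_lit 21, nat_lit 21], []⟩, ⟨nat_lit 1, nat_lit 1, [nat_lit 22, nat_lit 1, nat_lit 1, nat_lit 15, nat_lit 13, nat_lit 13, nat_lit 22, nat_lit 21, nat_lit 20, nat_lit 24], []⟩, ⟨nat_lit 1, nat_lit 0, [nat_lit 20, nat_lit 9, nat_lit 1, nat_lit 16, nat_lit 15, nat_lit 17, nat_lit 24, nat_lit 20, nat_lit 20, nat_lit 24, nat_lit 21, nat_lit 24], []⟩, ⟨nat_lit 2, nat_lit 1, [nat_lit 10, nat_lit 0, nat_lit 16, nat_lit 20, nat_lit 13, nat_lit 21, nat_lit 20, nat_lit 23, nat_lit 21, nat_lit 24], []⟩, ⟨nat_lit 2, nat_lit 0, [nat_lit 0, nat_lit 9, nat_lit 1, nat_lit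 16, nat_lit 19, nat_lit 22, nat_lit 21, nat_lit 20, nat_lit 21, nat_lit 21, nat_lit 24], []⟩, ⟨nat_lit 2, nat_lit 0, [nat_lit 16, nat_lit 17, nat_lit 0, nat_lit 18, nat_lit 19, nat_lit 24, nat_lit 22, nat_lit 20, nat_lit 21, nat_lit 21, nat_lit 24], []⟩, ⟨nat_lit 2, nat_lit 1, [nat_lit 0, nat_lit 14, nat_lit 1, nat_lit 16, nat_lit 13, nat_lit 13, nat_lit 21, nat_lit 21, nat_lit 23], []⟩, ⟨nat_lit 1, nat_lit 0, [nat_lit 23, nat_lit 12, nat_lit 17, nat_lit 19, nat_lit 22, nat_lit 21, nat_lit 21, nat_lit 20], []⟩, ⟨nat_lit 2, nat_lit 1, [nat_lit 13, nat_lit 17, nat_lit 13, nat_lit 23, nat_lit 21, nat_lit 21], []⟩, ⟨nat_lit 2, nat_lit 1, [nat_lit 9, nat_lit 16, nat_lit 1, nat_lit 14, nat_lit 22, nat_lit 17, nat_lit 22, nat_lit 24, nat_lit 20, nat_lit 20, nat_lit 21], []⟩, ⟨nat_lit 1, nat_lit 0, [nat_lit 24, nat_lit 22, nat_lit 1, nat_lit 18, nat_lit 19, nat_lit 14, nat_lit 24, nat_lit 21,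 nat_lit 23, nat_lit 21], []⟩, ⟨nat_lit 2, nat_lit 0, [nat_lit 9, nat_lit 20, nat_lit 1, nat_lit 21, nat_lit 22, nat_lit 13, nat_lit 20, nat_lit 21, nat_lit 21, nat_lit 21], []⟩, ⟨nat_lit 2, nat_lit 0, [nat_lit 21, nat_lit 3, nat_lit 5, nat_lit 18, nat_lit 16, nat_lit 22, nat_lit 22, nat_lit 20, nat_lit 24, nat_lit 21], []⟩, ⟨nat_lit 1, nat_lit 0, [nat_lit 8, nat_lit 19, nat_lit 8, nat_lit 14, nat_lit 18, nat_lit 22, nat_lit 21, nat_lit 20, nat_lit 21], []⟩, ⟨nat_lit 2, nat_lit 0, [nat_lit 9, nat_lit 16, nat_lit 1, nat_lit 14, nat_lit 22, nat_lit 17, nat_lit 22, nat_lit 24, nat_lit 20, nat_lit 20, nat_lit 21], []⟩, ⟨nat_lit 2, nat_lit 1, [nat_lit 24, nat_lit 8, nat_lit 17, nat_lit 22, nat_lit 18, nat_lit 23, nat_lit 20, nat_lit 20], []⟩, ⟨nat_lit 2, nat_lit 1, [nat_lit 18, nat_lit 10, nat_lit 0, nat_lit 18, nat_lit 17, nat_lit 16, nat_lit 22, nat_lit 22, nat_lit 20, nat_lit 24, nat_lit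 21], []⟩, ⟨nat_lit 2, nat_lit 0, [nat_lit 19, nat_lit 5, nat_lit 21, nat_lit 19, nat_lit 13, nat_lit 22, nat_lit 21, nat_lit 21, nat_lit 20, nat_lit 24, nat_lit 21], []⟩, ⟨nat_lit 2, nat_lit 0, [nat_lit 14, nat_lit 15, nat_lit 7, nat_lit 16, nat_lit 20, nat_lit 14, nat_lit 21, nat_lit 21, nat_lit 23, nat_lit 24, nat_lit 21, nat_lit 24], []⟩, ⟨nat_lit 2, nat_lit 1, [nat_lit 0, nat_lit 9, nat_lit 1, nat_lit 16, nat_lit 19, nat_lit 22, nat_lit 21, nat_lit 20, nat_lit 21, nat_lit 21, nat_lit 24], []⟩, ⟨nat_lit 2, nat_lit 0, [nat_lit 9, nat_lit 24, nat_lit 6, nat_lit 24, nat_lit 20, nat_lit 15, nat_lit 20, nat_lit 21, nat_lit 23, nat_lit 21, nat_lit 21, nat_lit 21], []⟩, ⟨nat_lit 2, nat_lit 1, [nat_lit 13, nat_lit 5, nat_lit 22, nat_lit 20, nat_lit 13, nat_lit 23, nat_lit 20, nat_lit 20, nat_lit 21, nat_lit 24], []⟩, ⟨nat_lit 1, nat_lit 0, [nat_lit 23, nat_lit 4, nat_lit 21, nat_lit 21, nat_lit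 14, nat_lit 20, nat_lit 23, nat_lit 24], []⟩, ⟨nat_lit 1, nat_lit 0, [nat_lit 11, nat_lit 11, nat_lit 3, nat_lit 14, nat_lit 17, nat_lit 15, nat_lit 23, nat_lit 20, nat_lit 20, nat_lit 21, nat_lit 21], []⟩, ⟨nat_lit 2, nat_lit 0, [nat_lit 14, nat_lit 15, nat_lit 7, nat_lit 24, nat_lit 22, nat_lit 16, nat_lit 13, nat_lit 21, nat_lit 21, nat_lit 21], []⟩, ⟨nat_lit 2, nat_lit 1, [nat_lit 21, nat_lit 3, nat_lit 5, nat_lit 18, nat_lit 16, nat_lit 22, nat_lit 22, nat_lit 20, nat_lit 24, nat_lit 21], []⟩, ⟨nat_lit 2, nat_lit 1, [nat_lit 15, nat_lit 22, nat_lit 3, nat_lit 14, nat_lit 17, nat_lit 14, nat_lit 20, nat_lit 23, nat_lit 20, nat_lit 21, nat_lit 21, nat_lit 21], []⟩, ⟨nat_lit 2, nat_lit 0, [nat_lit 19, nat_lit 10, nat_lit 19, nat_lit 16, nat_lit 14, nat_lit 20, nat_lit 21], []⟩, ⟨nat_lit 2, nat_lit 1, [nat_lit 14, nat_lit 11, nat_lit 4, nat_lit 21, nat_lit 23, nat_lit 19, nat_lit 24,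 nat_lit 20, nat_lit 20, nat_lit 21, nat_lit 21], []⟩, ⟨nat_lit 2, nat_lit 0, [nat_lit 24, nat_lit 8, nat_lit 17, nat_lit 22, nat_lit 18, nat_lit 23, nat_lit 20, nat_lit 20], []⟩, ⟨nat_lit 2, nat_lit 1, [nat_lit 5, nat_lit 5, nat_lit 20, nat_lit 21, nat_lit 19, nat_lit 22, nat_lit 23, nat_lit 24, nat_lit 21, nat_lit 24], []⟩, ⟨nat_lit 2, nat_lit 0, [nat_lit 22, nat_lit 11, nat_lit 1, nat_lit 20, nat_lit 18, nat_lit 13, nat_lit 23, nat_lit 22, nat_lit 20, nat_lit 21, nat_lit 21], []⟩, ⟨nat_lit 1, nat_lit 0, [nat_lit 2, nat_lit 1, nat_lit 0, nat_lit 20, nat_lit 22, nat_lit 16, nat_lit 22, nat_lit 21, nat_lit 20, nat_lit 21, nat_lit 24], []⟩, ⟨nat_lit 2, nat_lit 0, [nat_lit 9, nat_lit 16, nat_lit 1, nat_lit 15, nat_lit 16, nat_lit 13, nat_lit 20, nat_lit 21, nat_lit 23, nat_lit 21, nat_lit 21, nat_lit 21], []⟩, ⟨nat_lit 2, nat_lit 1, [nat_lit 22, nat_lit 19, nat_lit 0, nat_lit 15, nat_lit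 23, nat_lit 13, nat_lit 13, nat_lit 23, nat_lit 23, nat_lit 21, nat_lit 21, nat_lit 24], []⟩, ⟨nat_lit 2, nat_lit 1, [nat_lit 19, nat_lit 10, nat_lit 19, nat_lit 16, nat_lit 14, nat_lit 20, nat_lit 21], []⟩, ⟨nat_lit 1, nat_lit 0, [nat_lit 14, nat_lit 19, nat_lit 0, nat_lit 21, nat_lit 18, nat_lit 21, nat_lit 20, nat_lit 23, nat_lit 21, nat_lit 21, nat_lit 24], []⟩, ⟨nat_lit 2, nat_lit 0, [nat_lit 0, nat_lit 14, nat_lit 1, nat_lit 16, nat_lit 13, nat_lit 13, nat_lit 21, nat_lit 21, nat_lit 23], []⟩, ⟨nat_lit 1, nat_lit 0, [nat_lit 16, nat_lit 22, nat_lit 1, nat_lit 16, nat_lit 18, nat_lit 14, nat_lit 22, nat_lit 23, nat_lit 21], []⟩, ⟨nat_lit 1, nat_lit 0, [nat_lit 10, nat_lit 14, nat_lit 0, nat_lit 17, nat_lit 24, nat_lit 13, nat_lit 22, nat_lit 20, nat_lit 20], []⟩, ⟨nat_lit 1, nat_lit 0, [nat_lit 17, nat_lit 3, nat_lit 14, nat_lit 18, nat_lit 13, nat_lit 23, nat_lit 23, nat_lit 21,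 nat_lit 21, nat_lit 24], []⟩, ⟨nat_lit 1, nat_lit 0, [nat_lit 16, nat_lit 9, nat_lit 1, nat_lit 21, nat_lit 13, nat_lit 15, nat_lit 22, nat_lit 24, nat_lit 20, nat_lit 20, nat_lit 24, nat_lit 21, nat_lit 21], []⟩, ⟨nat_lit 1, nat_lit 1, [nat_lit 11, nat_lit 1, nat_lit 1, nat_lit 20, nat_lit 24, nat_lit 16, nat_lit 21, nat_lit 21, nat_lit 20, nat_lit 20, nat_lit 21, nat_lit 24], []⟩],
  [rB1x0, rB1x1]⟩

noncomputable def cB2 : CC := ⟨[[nat_lit 20, nat_lit 10, nat_lit 1, nat_lit 17, nat_lit 24, nat_lit 21, nat_lit 13, nat_lit 23, nat_lit 23, nat_lit 22, nat_lit 20, nat_lit 24, nat_lit 21, nat_lit 21]], [(nat_lit 5632375936, []), (nat_lit 123279332463, [nat_lit 0, nat_lit 0]), (nat_lit 300932859677, [nat_lit 0]), (nat_lit 1823179286768, [nat_lit 0, nat_lit 0, nat_lit 0]), (nat_lit 2928851302350, [nat_lit 0, nat_lit 0, nat_lit 0, nat_lit 0])],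
  [⟨nat_lit 1, nat_lit 99, [], []⟩, ⟨nat_lit 1, nat_lit 0, [nat_lit 24, nat_lit 1, nat_lit 0, nat_lit 14, nat_lit 21, nat_lit 14, nat_lit 22, nat_lit 24, nat_lit 20, nat_lit 20, nat_lit 21, nat_lit 21, nat_lit 24], []⟩, ⟨nat_lit 1, nat_lit 0, [nat_lit 17, nat_lit 13, nat_lit 1, nat_lit 20, nat_lit 21, nat_lit 13, nat_lit 24, nat_lit 21, nat_lit 20, nat_lit 24, nat_lit 21, nat_lit 21], []⟩, ⟨nat_lit 1, nat_lit 0, [nat_lit 10, nat_lit 21, nat_lit 0, nat_lit 22, nat_lit 20, nat_lit 15, nat_lit 22, nat_lit 23], []⟩, ⟨nat_lit 1, nat_lit 0, [nat_lit 16, nat_lit 0, nat_lit 24, nat_lit 16, nat_lit 14, nat_lit 21, nat_lit 20, nat_lit 24, nat_lit 21, nat_lit 21], []⟩],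
  []⟩

noncomputable def cB3 : CC := ⟨[[nat_lit 13, nat_lit 13, nat_lit 1, nat_lit 13, nat_lit 13, nat_lit 17, nat_lit 21, nat_lit 20, nat_lit 20, nat_lit 21, nat_lit 21]], [(nat_lit 5629459968, [nat_lit 0, nat_lit 0, nat_lit 0, nat_lit 0]), (nat_lit 5632375936, []), (nat_lit 5724452096, [nat_lit 0]), (nat_lit 7145397248, [nat_lit 0, nat_lit 0, nat_lit 0]), (nat_lit 7270303744, [nat_lit 0, nat_lit 0])],
  [⟨nat_lit 1, nat_lit 0, [], []⟩, ⟨nat_lit 1, nat_lit 99, [], []⟩, ⟨nat_lit 1, nat_lit 0, [nat_lit 14, nat_lit 15, nat_lit 7, nat_lit 21, nat_lit 15, nat_lit 13, nat_lit 24, nat_lit 20, nat_lit 24], []⟩, ⟨nat_lit 1, nat_lit 0, [nat_lit 13, nat_lit 0, nat_lit 14, nat_lit 15, nat_lit 24, nat_lit 20, nat_lit 20, nat_lit 21, nat_lit 21], []⟩, ⟨nat_lit 1, nat_lit 0, [nat_lit 3, nat_lit 10, nat_lit 0, nat_lit 16, nat_lit 13, nat_lit 13, nat_lit 22, nat_lit 23, nat_lit 24], []⟩],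
  []⟩

noncomputable def cB5 : CC := ⟨[[nat_lit 11, nat_lit 10, nat_lit 17, nat_lit 18, nat_lit 13, nat_lit 22, nat_lit 21, nat_lit 20, nat_lit 24]], [(nat_lit 5632375936, []), (nat_lit 25823385984, [nat_lit 0, nat_lit 0, nat_lit 0, nat_lit 0]), (nat_lit 372745978880, [nat_lit 0, nat_lit 0, nat_lit 0]), (nat_lit 443932611584, [nat_lit 0]), (nat_lit 949830782208, [nat_lit 0, nat_lit 0])],
  [⟨nat_lit 1, nat_lit 99, [], []⟩, ⟨nat_lit 1, nat_lit 0, [nat_lit 18, nat_lit 1, nat_lit 0, nat_lit 21, nat_lit 17, nat_lit 16, nat_lit 13, nat_lit 21, nat_lit 21, nat_lit 23, nat_lit 21, nat_lit 21], []⟩, ⟨nat_lit 1, nat_lit 0, [nat_lit 4, nat_lit 8, nat_lit 14], []⟩, ⟨nat_lit 1, nat_lit 0, [nat_lit 20, nat_lit 3, nat_lit 21, nat_lit 14, nat_lit 21, nat_lit 21, nat_lit 20, nat_lit 20, nat_lit 24, nat_lit 21, nat_lit 21], []⟩, ⟨nat_lit 1, nat_lit 0, [nat_lit 22, nat_lit 6, nat_lit 15, nat_lit 20, nat_lit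 13, nat_lit 22, nat_lit 21, nat_lit 20, nat_lit 24, nat_lit 21], []⟩],
  []⟩

noncomputable def rB6x0 : RP := ⟨[nat_lit 13, nat_lit 1, nat_lit 1, nat_lit 21, nat_lit 17, nat_lit 24, nat_lit 21, nat_lit 20, nat_lit 20], [nat_lit 18, nat_lit 3, nat_lit 0, nat_lit 19, nat_lit 17, nat_lit 13, nat_lit 22, nat_lit 22, nat_lit 20], [⟨nat_lit 0, nat_lit 0, [nat_lit 12, nat_lit 18, nat_lit 0, nat_lit 21, nat_lit 13, nat_lit 21, nat_lit 23, nat_lit 24, nat_lit 21], []⟩, ⟨nat_lit 0, nat_lit 0, [nat_lit 2, nat_lit 9, nat_lit 6, nat_lit 14, nat_lit 18, nat_lit 14, nat_lit 21, nat_lit 21, nat_lit 23, nat_lit 24, nat_lit 21], []⟩, ⟨nat_lit 0, nat_lit 0, [nat_lit 2, nat_lit 13, nat_lit 7, nat_lit 0, nat_lit 22, nat_lit 18, nat_lit 21, nat_lit 21, nat_lit 20, nat_lit 21], []⟩, ⟨nat_lit 0, nat_lit 0, [nat_lit 2, nat_lit 9, nat_lit 3, nat_lit 19, nat_lit 24, nat_lit 18, nat_lit 22, nat_lit 22, nat_lit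 20], []⟩, ⟨nat_lit 0, nat_lit 0, [nat_lit 8, nat_lit 0, nat_lit 2, nat_lit 20, nat_lit 19, nat_lit 13, nat_lit 21, nat_lit 21, nat_lit 20, nat_lit 24, nat_lit 21, nat_lit 24], []⟩]⟩

noncomputable def rB6x1 : RP := ⟨[nat_lit 4, nat_lit 11, nat_lit 0, nat_lit 16, nat_lit 16, nat_lit 16, nat_lit 21, nat_lit 20, nat_lit 20, nat_lit 21, nat_lit 24], [nat_lit 1, nat_lit 10, nat_lit 1, nat_lit 24, nat_lit 17, nat_lit 16, nat_lit 24, nat_lit 21, nat_lit 20, nat_lit 20, nat_lit 21], [⟨nat_lit 0, nat_lit 0, [nat_lit 17, nat_lit 2, nat_lit 13, nat_lit 17, nat_lit 13, nat_lit 21, nat_lit 20, nat_lit 23, nat_lit 24, nat_lit 21], []⟩, ⟨nat_lit 0, nat_lit 0, [nat_lit 7, nat_lit 0, nat_lit 2, nat_lit 13, nat_lit 19, nat_lit 23, nat_lit 22, nat_lit 20, nat_lit 21, nat_lit 24], []⟩, ⟨nat_lit 0, nat_lit 0, [nat_lit 4, nat_lit 18, nat_lit 12, nat_lit 20, nat_lit 22, nat_lit 16, nat_lit 21, nat_lit 21,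 nat_lit 20, nat_lit 21, nat_lit 21], []⟩, ⟨nat_lit 0, nat_lit 0, [nat_lit 2, nat_lit 22, nat_lit 0, nat_lit 24, nat_lit 17, nat_lit 19, nat_lit 24, nat_lit 22, nat_lit 20], []⟩, ⟨nat_lit 0, nat_lit 0, [nat_lit 5, nat_lit 17, nat_lit 2, nat_lit 13, nat_lit 24, nat_lit 13, nat_lit 24, nat_lit 22, nat_lit 20, nat_lit 24, nat_lit 21, nat_lit 21], []⟩]⟩

noncomputable def rB6x2 : RP := ⟨[nat_lit 13, nat_lit 13, nat_lit 1, nat_lit 20, nat_lit 23, nat_lit 15, nat_lit 22, nat_lit 21, nat_lit 20], [nat_lit 16, nat_lit 14, nat_lit 1, nat_lit 21, nat_lit 20, nat_lit 19, nat_lit 24, nat_lit 22, nat_lit 20, nat_lit 24, nat_lit 21, nat_lit 21], [⟨nat_lit 0, nat_lit 0, [nat_lit 12, nat_lit 20, nat_lit 0, nat_lit 19, nat_lit 19, nat_lit 15, nat_lit 23, nat_lit 20, nat_lit 23, nat_lit 21], []⟩, ⟨nat_lit 0, nat_lit 0, [nat_lit 12, nat_lit 10, nat_lit 6, nat_lit 15, nat_lit 23, nat_lit 13, nat_lit 13,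 nat_lit 23, nat_lit 22, nat_lit 20, nat_lit 21], []⟩, ⟨nat_lit 0, nat_lit 0, [nat_lit 13, nat_lit 12, nat_lit 1, nat_lit 18, nat_lit 16, nat_lit 24, nat_lit 20, nat_lit 24], []⟩, ⟨nat_lit 0, nat_lit 0, [nat_lit 22, nat_lit 12, nat_lit 18, nat_lit 13, nat_lit 22, nat_lit 22, nat_lit 20, nat_lit 24], []⟩, ⟨nat_lit 0, nat_lit 0, [nat_lit 12, nat_lit 22, nat_lit 4, nat_lit 22, nat_lit 20, nat_lit 15, nat_lit 20, nat_lit 23, nat_lit 23], []⟩]⟩

noncomputable def rB6x3 : RP := ⟨[nat_lit 20, nat_lit 4, nat_lit 1, nat_lit 13, nat_lit 17, nat_lit 22, nat_lit 20, nat_lit 24, nat_lit 21], [nat_lit 18, nat_lit 1, nat_lit 1, nat_lit 18, nat_lit 17, nat_lit 16, nat_lit 20, nat_lit 20, nat_lit 24, nat_lit 21], [⟨nat_lit 0, nat_lit 0, [nat_lit 12, nat_lit 19, nat_lit 3, nat_lit 23, nat_lit 20, nat_lit 13, nat_lit 22, nat_lit 20, nat_lit 21, nat_lit 24], []⟩, ⟨nat_lit 0, nat_lit 0, [nat_lit 7, nat_lit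 12, nat_lit 1, nat_lit 23, nat_lit 21, nat_lit 13, nat_lit 22, nat_lit 23, nat_lit 24], []⟩, ⟨nat_lit 0, nat_lit 0, [nat_lit 21, nat_lit 1, nat_lit 2, nat_lit 15, nat_lit 23, nat_lit 14, nat_lit 24, nat_lit 21, nat_lit 20, nat_lit 21, nat_lit 21, nat_lit 21], []⟩, ⟨nat_lit 0, nat_lit 0, [nat_lit 23, nat_lit 12, nat_lit 19, nat_lit 17, nat_lit 13, nat_lit 21, nat_lit 20, nat_lit 20, nat_lit 24], []⟩, ⟨nat_lit 0, nat_lit 0, [nat_lit 12, nat_lit 13, nat_lit 1, nat_lit 20, nat_lit 22, nat_lit 13, nat_lit 24, nat_lit 22, nat_lit 20, nat_lit 21, nat_lit 21, nat_lit 24], []⟩]⟩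

noncomputable def rB6x4 : RP := ⟨[nat_lit 7, nat_lit 0, nat_lit 20, nat_lit 19, nat_lit 13, nat_lit 20, nat_lit 23, nat_lit 20, nat_lit 24, nat_lit 21], [nat_lit 20, nat_lit 6, nat_lit 2, nat_lit 22, nat_lit 18, nat_lit 13, nat_lit 21, nat_lit 23, nat_lit 24], [⟨nat_lit 1, nat_lit 0, [nat_lit 5, nat_lit 2, nat_lit 0, nat_lit 16, nat_lit 19, nat_lit 20, nat_lit 24, nat_lit 21, nat_lit 24], [nat_lit 0, nat_lit 0, nat_lit 2, nat_lit 1, nat_lit 2, nat_lit 1, nat_lit 2]⟩, ⟨nat_lit 1, nat_lit 0, [nat_lit 20, nat_lit 6, nat_lit 1, nat_lit 21, nat_lit 20, nat_lit 13, nat_lit 20, nat_lit 24, nat_lit 20, nat_lit 20, nat_lit 24, nat_lit 21, nat_lit 24], [nat_lit 2, nat_lit 1, nat_lit 2]⟩, ⟨nat_lit 1, nat_lit 0, [nat_lit 21, nat_lit 3, nat_lit 5, nat_lit 23, nat_lit 13, nat_lit 17, nat_lit 21, nat_lit 20, nat_lit 23, nat_lit 21, nat_lit 24], [nat_lit 2, nat_lit 1, nat_lit 2, nat_lit 1]⟩, ⟨nat_lit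 1, nat_lit 0, [nat_lit 4, nat_lit 11, nat_lit 0, nat_lit 13, nat_lit 17, nat_lit 23, nat_lit 20, nat_lit 21], [nat_lit 1, nat_lit 1, nat_lit 2, nat_lit 1, nat_lit 2]⟩, ⟨nat_lit 1, nat_lit 0, [nat_lit 16, nat_lit 9, nat_lit 1, nat_lit 23, nat_lit 20, nat_lit 13, nat_lit 21, nat_lit 21, nat_lit 20, nat_lit 21], [nat_lit 0, nat_lit 0, nat_lit 0, nat_lit 0, nat_lit 0, nat_lit 1, nat_lit 2, nat_lit 1, nat_lit 2]⟩]⟩

noncomputable def rB6x5 : RP := ⟨[nat_lit 15, nat_lit 18, nat_lit 0, nat_lit 19, nat_lit 14, nat_lit 13, nat_lit 24, nat_lit 22, nat_lit 20, nat_lit 21, nat_lit 24], [nat_lit 4, nat_lit 10, nat_lit 2, nat_lit 21, nat_lit 23, nat_lit 19, nat_lit 22, nat_lit 20, nat_lit 24], [⟨nat_lit 1, nat_lit 0, [nat_lit 4, nat_lit 15, nat_lit 6, nat_lit 18, nat_lit 23, nat_lit 15, nat_lit 24, nat_lit 21, nat_lit 20, nat_lit 20, nat_lit 21, nat_lit 21, nat_lit 24], [nat_lit 0, nat_lit 1, nat_lit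 2]⟩, ⟨nat_lit 1, nat_lit 0, [nat_lit 12, nat_lit 8, nat_lit 5, nat_lit 20, nat_lit 22, nat_lit 21, nat_lit 13, nat_lit 22, nat_lit 21, nat_lit 21, nat_lit 20, nat_lit 24, nat_lit 21, nat_lit 24], [nat_lit 0, nat_lit 0, nat_lit 2, nat_lit 1]⟩, ⟨nat_lit 1, nat_lit 0, [nat_lit 0, nat_lit 7, nat_lit 17, nat_lit 22, nat_lit 13, nat_lit 22, nat_lit 23, nat_lit 21, nat_lit 21, nat_lit 21], [nat_lit 0, nat_lit 1, nat_lit 1, nat_lit 1, nat_lit 1, nat_lit 2, nat_lit 1]⟩, ⟨nat_lit 1, nat_lit 0, [nat_lit 8, nat_lit 9, nat_lit 19, nat_lit 19, nat_lit 14, nat_lit 13, nat_lit 24, nat_lit 21, nat_lit 21], [nat_lit 0, nat_lit 0, nat_lit 0, nat_lit 0, nat_lit 0, nat_lit 2]⟩, ⟨nat_lit 1, nat_lit 0, [nat_lit 21, nat_lit 4, nat_lit 1, nat_lit 15, nat_lit 19, nat_lit 15, nat_lit 23, nat_lit 22, nat_lit 20], [nat_lit 1, nat_lit 1, nat_lit 1, nat_lit 2]⟩]⟩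

noncomputable def cB6 : CC := ⟨[[nat_lit 13, nat_lit 1, nat_lit 1, nat_lit 15, nat_lit 17, nat_lit 15, nat_lit 22, nat_lit 23, nat_lit 21, nat_lit 21, nat_lit 24], [nat_lit 15, nat_lit 11, nat_lit 22, nat_lit 16, nat_lit 13]], [(nat_lit 5632375936, []), (nat_lit 5850125952, [nat_lit 0, nat_lit 0, nat_lit 0, nat_lit 1, nat_lit 1, nat_lit 1, nat_lit 1, nat_lit 0]), (nat_lit 6260394624, [nat_lit 0, nat_lit 0, nat_lit 0, nat_lit 0, nat_lit 1, nat_lit 0, nat_lit 0]), (nat_lit 6395647104, [nat_lit 0, nat_lit 0, nat_lit 1, nat_lit 1]), (nat_lit 6484896000, [nat_lit 0, nat_lit 1, nat_lit 0, nat_lit 1, nat_lit 1, nat_lit 0]), (nat_lit 19699057664, [nat_lit 0, nat_lit 0, nat_lit 0, nat_lit 0, nat_lit 1, nat_lit 1, nat_lit 0, nat_lit 1, nat_lit 1]), (nat_lit 19933424896, [nat_lit 0, nat_lit 0, nat_lit 0, nat_lit 1, nat_lit 0, nat_lit 1, nat_lit 1]), (nat_lit 20343621760, [nat_lit 1, nat_lit 1,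 nat_lit 1, nat_lit 1, nat_lit 0, nat_lit 1]), (nat_lit 20442391552, [nat_lit 0, nat_lit 0, nat_lit 1, nat_lit 0, nat_lit 1]), (nat_lit 20450953600, [nat_lit 1, nat_lit 0, nat_lit 0]), (nat_lit 22694467840, [nat_lit 0, nat_lit 0, nat_lit 0, nat_lit 1, nat_lit 1, nat_lit 0, nat_lit 1, nat_lit 1, nat_lit 1]), (nat_lit 22714971136, [nat_lit 0, nat_lit 1, nat_lit 1, nat_lit 1, nat_lit 0]), (nat_lit 23164451200, [nat_lit 0, nat_lit 0, nat_lit 1, nat_lit 0, nat_lit 0, nat_lit 0]), (nat_lit 23234403456, [nat_lit 0, nat_lit 0, nat_lit 1, nat_lit 1, nat_lit 0, nat_lit 1, nat_lit 1]), (nat_lit 23854514816, [nat_lit 0, nat_lit 1, nat_lit 1]), (nat_lit 61691560832, [nat_lit 0, nat_lit 0, nat_lit 0, nat_lit 0, nat_lit 1, nat_lit 1, nat_lit 1, nat_lit 1, nat_lit 0, nat_lit 1]), (nat_lit 61772675712, [nat_lit 0, nat_lit 0, nat_lit 0, nat_lit 1, nat_lit 1, nat_lit 1, nat_lit 0, nat_lit 1]), (nat_lit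 62319278208, [nat_lit 1, nat_lit 1, nat_lit 0, nat_lit 0]), (nat_lit 62413276288, [nat_lit 1, nat_lit 0]), (nat_lit 63861650688, [nat_lit 0, nat_lit 0, nat_lit 1, nat_lit 1, nat_lit 1, nat_lit 0]), (nat_lit 72734317568, [nat_lit 0, nat_lit 0, nat_lit 0, nat_lit 0, nat_lit 1, nat_lit 1, nat_lit 0, nat_lit 1, nat_lit 1, nat_lit 1]), (nat_lit 73609748608, [nat_lit 0, nat_lit 0, nat_lit 0, nat_lit 1, nat_lit 0, nat_lit 1, nat_lit 1, nat_lit 1]), (nat_lit 74098517504, [nat_lit 0, nat_lit 0, nat_lit 1, nat_lit 0, nat_lit 0, nat_lit 0, nat_lit 0]), (nat_lit 74307747712, [nat_lit 0, nat_lit 1, nat_lit 1, nat_lit 0]), (nat_lit 75263216512, [nat_lit 0, nat_lit 0, nat_lit 1, nat_lit 0, nat_lit 1, nat_lit 1]), (nat_lit 170552335360, [nat_lit 0, nat_lit 0, nat_lit 0, nat_lit 0, nat_lit 1, nat_lit 1, nat_lit 1, nat_lit 1, nat_lit 0]), (nat_lit 170654283008, [nat_lit 0, nat_lit 0, nat_lit 0, nat_lit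 1, nat_lit 0, nat_lit 0, nat_lit 0, nat_lit 0]), (nat_lit 170947021696, [nat_lit 1, nat_lit 0, nat_lit 1, nat_lit 1, nat_lit 1, nat_lit 1]), (nat_lit 172061212928, [nat_lit 0, nat_lit 0, nat_lit 0, nat_lit 1, nat_lit 1, nat_lit 1, nat_lit 0]), (nat_lit 172959709824, [nat_lit 0, nat_lit 1, nat_lit 0, nat_lit 1, nat_lit 0]), (nat_lit 190223078144, [nat_lit 0, nat_lit 0, nat_lit 0, nat_lit 0, nat_lit 1, nat_lit 0]), (nat_lit 190486947200, [nat_lit 0, nat_lit 0, nat_lit 0, nat_lit 0, nat_lit 1, nat_lit 0, nat_lit 1, nat_lit 0]), (nat_lit 190720264064, [nat_lit 0, nat_lit 1, nat_lit 0, nat_lit 1, nat_lit 1]), (nat_lit 190844494720, [nat_lit 0, nat_lit 0, nat_lit 0, nat_lit 0]), (nat_lit 192360109568, [nat_lit 0, nat_lit 0, nat_lit 0, nat_lit 1, nat_lit 1, nat_lit 1, nat_lit 1]), (nat_lit 354763512576, [nat_lit 0, nat_lit 0, nat_lit 1, nat_lit 0, nat_lit 0]), (nat_lit 355330788736, [nat_lit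 0, nat_lit 0, nat_lit 0, nat_lit 1, nat_lit 0, nat_lit 1, nat_lit 0]), (nat_lit 355407748608, [nat_lit 0, nat_lit 1, nat_lit 1, nat_lit 1, nat_lit 0, nat_lit 1]), (nat_lit 357091233664, [nat_lit 0, nat_lit 1, nat_lit 1, nat_lit 1]), (nat_lit 357185772416, [nat_lit 0, nat_lit 0, nat_lit 1, nat_lit 1, nat_lit 0, nat_lit 1, nat_lit 1, nat_lit 1]), (nat_lit 371295507968, [nat_lit 1, nat_lit 1, nat_lit 1, nat_lit 1]), (nat_lit 371608638720, [nat_lit 0, nat_lit 0, nat_lit 1, nat_lit 0, nat_lit 1, nat_lit 1, nat_lit 0]), (nat_lit 372978494592, [nat_lit 0, nat_lit 0, nat_lit 1]), (nat_lit 373794123648, [nat_lit 0, nat_lit 1, nat_lit 1, nat_lit 0, nat_lit 0]), (nat_lit 373838989568, [nat_lit 1, nat_lit 1, nat_lit 0, nat_lit 1, nat_lit 1, nat_lit 1]), (nat_lit 379900882944, [nat_lit 0, nat_lit 0, nat_lit 0, nat_lit 1, nat_lit 1, nat_lit 0, nat_lit 0]), (nat_lit 380011913600, [nat_lit 0, nat_lit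 1, nat_lit 0, nat_lit 0, nat_lit 0]), (nat_lit 380431893248, [nat_lit 0, nat_lit 1, nat_lit 1, nat_lit 1, nat_lit 1, nat_lit 0]), (nat_lit 381141977216, [nat_lit 1, nat_lit 0, nat_lit 1, nat_lit 1]), (nat_lit 382168413440, [nat_lit 0, nat_lit 0, nat_lit 1, nat_lit 1, nat_lit 1, nat_lit 0, nat_lit 1, nat_lit 1]), (nat_lit 443868813696, [nat_lit 1, nat_lit 1, nat_lit 1]), (nat_lit 444729560704, [nat_lit 0, nat_lit 0]), (nat_lit 445342427904, [nat_lit 1, nat_lit 1, nat_lit 0, nat_lit 1, nat_lit 1]), (nat_lit 445608989056, [nat_lit 0, nat_lit 0, nat_lit 1, nat_lit 1, nat_lit 0, nat_lit 0]), (nat_lit 446327597056, [nat_lit 0, nat_lit 0, nat_lit 0, nat_lit 0, nat_lit 1, nat_lit 0, nat_lit 0, nat_lit 0, nat_lit 0]), (nat_lit 455143874944, [nat_lit 0, nat_lit 0, nat_lit 0, nat_lit 0, nat_lit 1, nat_lit 1, nat_lit 0]), (nat_lit 455347905408, [nat_lit 0, nat_lit 0, nat_lit 0, nat_lit 1, nat_lit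 0]), (nat_lit 455661390976, [nat_lit 0, nat_lit 0, nat_lit 0, nat_lit 0, nat_lit 1, nat_lit 0, nat_lit 1, nat_lit 1, nat_lit 0]), (nat_lit 455849071744, [nat_lit 0, nat_lit 1, nat_lit 1, nat_lit 0, nat_lit 1, nat_lit 1]), (nat_lit 457491820544, [nat_lit 0, nat_lit 0, nat_lit 1, nat_lit 0, nat_lit 1, nat_lit 1, nat_lit 1, nat_lit 1]), (nat_lit 460833448064, [nat_lit 0, nat_lit 0, nat_lit 0, nat_lit 1, nat_lit 1, nat_lit 1, nat_lit 0, nat_lit 1, nat_lit 1]), (nat_lit 460848112384, [nat_lit 0, nat_lit 1, nat_lit 0, nat_lit 0, nat_lit 0, nat_lit 0]), (nat_lit 461370376192, [nat_lit 1, nat_lit 0, nat_lit 1]), (nat_lit 462299290112, [nat_lit 1, nat_lit 0, nat_lit 1, nat_lit 1, nat_lit 0]), (nat_lit 463075627520, [nat_lit 0, nat_lit 0, nat_lit 1, nat_lit 1, nat_lit 1, nat_lit 0, nat_lit 1]), (nat_lit 494425859840, [nat_lit 0, nat_lit 0, nat_lit 0, nat_lit 0, nat_lit 1, nat_lit 1]), (nat_lit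 494475950848, [nat_lit 0, nat_lit 0, nat_lit 0, nat_lit 0, nat_lit 1, nat_lit 0, nat_lit 1, nat_lit 1]), (nat_lit 494866035840, [nat_lit 1, nat_lit 1, nat_lit 1, nat_lit 0, nat_lit 1]), (nat_lit 494875078016, [nat_lit 0, nat_lit 1, nat_lit 0, nat_lit 1, nat_lit 1, nat_lit 1, nat_lit 1]), (nat_lit 496750895872, [nat_lit 0, nat_lit 0, nat_lit 0, nat_lit 1]), (nat_lit 499927740928, [nat_lit 0, nat_lit 0, nat_lit 0, nat_lit 1, nat_lit 0, nat_lit 1, nat_lit 1, nat_lit 0]), (nat_lit 500509204096, [nat_lit 0, nat_lit 1, nat_lit 1, nat_lit 1, nat_lit 1, nat_lit 0, nat_lit 1]), (nat_lit 500547414400, [nat_lit 1, nat_lit 0, nat_lit 0, nat_lit 0]), (nat_lit 500679734016, [nat_lit 0, nat_lit 0, nat_lit 1, nat_lit 0, nat_lit 1, nat_lit 0]), (nat_lit 502238505472, [nat_lit 1, nat_lit 0, nat_lit 1, nat_lit 1, nat_lit 1]), (nat_lit 949095992064, [nat_lit 1, nat_lit 1]), (nat_lit 949429199488, [nat_lit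 0, nat_lit 0, nat_lit 1, nat_lit 1, nat_lit 1, nat_lit 1]), (nat_lit 949849388928, [nat_lit 1, nat_lit 1, nat_lit 0, nat_lit 1]), (nat_lit 950080614912, [nat_lit 1, nat_lit 0, nat_lit 0, nat_lit 0, nat_lit 0]), (nat_lit 951499380480, [nat_lit 0, nat_lit 0, nat_lit 1, nat_lit 1, nat_lit 1, nat_lit 1, nat_lit 0, nat_lit 1]), (nat_lit 1141697004800, [nat_lit 1]), (nat_lit 1142039310720, [nat_lit 0, nat_lit 0, nat_lit 0, nat_lit 1, nat_lit 1, nat_lit 1, nat_lit 1, nat_lit 0, nat_lit 1]), (nat_lit 1142511629952, [nat_lit 0, nat_lit 0, nat_lit 1, nat_lit 1, nat_lit 1]), (nat_lit 1142650550272, [nat_lit 1, nat_lit 1, nat_lit 0]), (nat_lit 1144334616832, [nat_lit 0, nat_lit 0, nat_lit 1, nat_lit 1, nat_lit 1, nat_lit 1, nat_lit 0]), (nat_lit 1147495689472, [nat_lit 0, nat_lit 0, nat_lit 0, nat_lit 0, nat_lit 1, nat_lit 1, nat_lit 1]), (nat_lit 1147640997888, [nat_lit 0, nat_lit 0, nat_lit 0,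 nat_lit 0, nat_lit 1, nat_lit 0, nat_lit 1, nat_lit 1, nat_lit 1]), (nat_lit 1148093905024, [nat_lit 0, nat_lit 1, nat_lit 0]), (nat_lit 1148751467776, [nat_lit 1, nat_lit 1, nat_lit 1, nat_lit 0, nat_lit 1, nat_lit 1]), (nat_lit 1149682147328, [nat_lit 0, nat_lit 0, nat_lit 0, nat_lit 1, nat_lit 1]), (nat_lit 1167180975488, [nat_lit 0, nat_lit 0, nat_lit 0, nat_lit 0, nat_lit 1, nat_lit 0, nat_lit 1]), (nat_lit 1167670955264, [nat_lit 0, nat_lit 0, nat_lit 0]), (nat_lit 1167771583616, [nat_lit 1, nat_lit 1, nat_lit 1, nat_lit 0]), (nat_lit 1168501810432, [nat_lit 0, nat_lit 1, nat_lit 0, nat_lit 1, nat_lit 1, nat_lit 1]), (nat_lit 1168557998080, [nat_lit 0, nat_lit 0, nat_lit 0, nat_lit 0, nat_lit 1]), (nat_lit 1236709779712, [nat_lit 0, nat_lit 0, nat_lit 0, nat_lit 0, nat_lit 1, nat_lit 1, nat_lit 0, nat_lit 1]), (nat_lit 1236817242496, [nat_lit 0, nat_lit 0, nat_lit 0, nat_lit 1,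 nat_lit 0, nat_lit 1]), (nat_lit 1236934102272, [nat_lit 0, nat_lit 1, nat_lit 1, nat_lit 0, nat_lit 1, nat_lit 1, nat_lit 1]), (nat_lit 1237555110528, [nat_lit 1, nat_lit 1, nat_lit 1, nat_lit 1, nat_lit 0]), (nat_lit 1239100743936, [nat_lit 0, nat_lit 0, nat_lit 1, nat_lit 0]), (nat_lit 1295561831168, [nat_lit 0, nat_lit 0, nat_lit 0, nat_lit 1, nat_lit 1, nat_lit 0]), (nat_lit 1295845485440, [nat_lit 0, nat_lit 1, nat_lit 1, nat_lit 1, nat_lit 1]), (nat_lit 1296001291904, [nat_lit 0, nat_lit 0, nat_lit 0, nat_lit 0, nat_lit 1, nat_lit 1, nat_lit 1, nat_lit 0]), (nat_lit 1296901506560, [nat_lit 0, nat_lit 1, nat_lit 1, nat_lit 1, nat_lit 0, nat_lit 1, nat_lit 1]), (nat_lit 1297621619712, [nat_lit 0, nat_lit 1, nat_lit 0, nat_lit 0]), (nat_lit 1441120389632, [nat_lit 0, nat_lit 1]), (nat_lit 1441149939328, [nat_lit 0, nat_lit 0, nat_lit 0, nat_lit 0, nat_lit 1, nat_lit 1, nat_lit 1,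 nat_lit 0, nat_lit 1, nat_lit 1]), (nat_lit 1441180963200, [nat_lit 1, nat_lit 0, nat_lit 1, nat_lit 0]), (nat_lit 1442106658432, [nat_lit 0, nat_lit 0, nat_lit 0, nat_lit 1, nat_lit 1, nat_lit 0, nat_lit 1, nat_lit 1]), (nat_lit 1442866229376, [nat_lit 0, nat_lit 0, nat_lit 1, nat_lit 1, nat_lit 0, nat_lit 1]), (nat_lit 2721686798336, [nat_lit 0, nat_lit 0, nat_lit 0, nat_lit 1, nat_lit 0, nat_lit 0]), (nat_lit 2722341343744, [nat_lit 0, nat_lit 1, nat_lit 1, nat_lit 0, nat_lit 1]), (nat_lit 2723317883264, [nat_lit 0, nat_lit 0, nat_lit 0, nat_lit 1, nat_lit 0, nat_lit 1, nat_lit 1, nat_lit 1, nat_lit 1]), (nat_lit 2723979401088, [nat_lit 0, nat_lit 0, nat_lit 1, nat_lit 0, nat_lit 1, nat_lit 1, nat_lit 1]), (nat_lit 2724121217664, [nat_lit 0, nat_lit 0, nat_lit 0, nat_lit 0, nat_lit 1, nat_lit 1, nat_lit 0, nat_lit 0]), (nat_lit 2744671761920, [nat_lit 0, nat_lit 0, nat_lit 0, nat_lit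 0, nat_lit 1, nat_lit 0, nat_lit 0, nat_lit 0]), (nat_lit 2744691549952, [nat_lit 0, nat_lit 0, nat_lit 0, nat_lit 0, nat_lit 1, nat_lit 1, nat_lit 1, nat_lit 0, nat_lit 1]), (nat_lit 2744861640576, [nat_lit 0]), (nat_lit 2744893706368, [nat_lit 0, nat_lit 0, nat_lit 0, nat_lit 1, nat_lit 1, nat_lit 0, nat_lit 1]), (nat_lit 2746365431040, [nat_lit 0, nat_lit 0, nat_lit 1, nat_lit 1, nat_lit 0]), (nat_lit 3266215072384, [nat_lit 0, nat_lit 1, nat_lit 0, nat_lit 1]), (nat_lit 3266225543680, [nat_lit 0, nat_lit 0, nat_lit 0, nat_lit 0, nat_lit 1, nat_lit 1, nat_lit 1, nat_lit 1]), (nat_lit 3266245407744, [nat_lit 0, nat_lit 0, nat_lit 0, nat_lit 0, nat_lit 1, nat_lit 0, nat_lit 1, nat_lit 1, nat_lit 1, nat_lit 1]), (nat_lit 3268340758144, [nat_lit 0, nat_lit 0, nat_lit 0, nat_lit 1, nat_lit 1, nat_lit 1]), (nat_lit 3268426909440, [nat_lit 0, nat_lit 0, nat_lit 0, nat_lit 1, nat_lit 0, nat_lit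 0, nat_lit 0])],
  [⟨nat_lit 1, nat_lit 99, [], []⟩, ⟨nat_lit 1, nat_lit 0, [nat_lit 13, nat_lit 11, nat_lit 22, nat_lit 18, nat_lit 13, nat_lit 20, nat_lit 21, nat_lit 23, nat_lit 21, nat_lit 21, nat_lit 21], []⟩, ⟨nat_lit 1, nat_lit 0, [nat_lit 10, nat_lit 11, nat_lit 6, nat_lit 14, nat_lit 18, nat_lit 24, nat_lit 21, nat_lit 23, nat_lit 24, nat_lit 21], []⟩, ⟨nat_lit 1, nat_lit 0, [nat_lit 6, nat_lit 20, nat_lit 0, nat_lit 14, nat_lit 19, nat_lit 21], []⟩, ⟨nat_lit 1, nat_lit 0, [nat_lit 21, nat_lit 6, nat_lit 21, nat_lit 14, nat_lit 19, nat_lit 21, nat_lit 21, nat_lit 20, nat_lit 21, nat_lit 21, nat_lit 21], []⟩, ⟨nat_lit 1, nat_lit 0, [nat_lit 14, nat_lit 3, nat_lit 20, nat_lit 13, nat_lit 19, nat_lit 22, nat_lit 20, nat_lit 20], []⟩, ⟨nat_lit 2, nat_lit 0, [], []⟩, ⟨nat_lit 2, nat_lit 1, [], []⟩, ⟨nat_lit 2, nat_lit 2, [], []⟩, ⟨nat_lit 2, nat_lit 3, [], []⟩, ⟨nat_lit 2, nat_lit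 1, [nat_lit 15, nat_lit 11, nat_lit 14, nat_lit 18, nat_lit 21, nat_lit 20, nat_lit 20, nat_lit 21, nat_lit 21, nat_lit 24], []⟩, ⟨nat_lit 2, nat_lit 2, [nat_lit 0, nat_lit 16, nat_lit 1, nat_lit 17, nat_lit 13, nat_lit 13, nat_lit 22, nat_lit 21, nat_lit 20, nat_lit 24], []⟩, ⟨nat_lit 1, nat_lit 0, [nat_lit 23, nat_lit 21, nat_lit 0, nat_lit 17, nat_lit 18, nat_lit 13, nat_lit 23, nat_lit 21, nat_lit 21, nat_lit 24], []⟩, ⟨nat_lit 2, nat_lit 3, [nat_lit 5, nat_lit 10, nat_lit 0, nat_lit 13, nat_lit 14, nat_lit 13, nat_lit 22, nat_lit 24, nat_lit 20, nat_lit 20, nat_lit 21], []⟩, ⟨nat_lit 2, nat_lit 0, [nat_lit 4, nat_lit 11, nat_lit 0, nat_lit 18, nat_lit 19, nat_lit 14, nat_lit 23, nat_lit 20, nat_lit 23, nat_lit 21, nat_lit 21, nat_lit 24], []⟩, ⟨nat_lit 1, nat_lit 1, [nat_lit 13, nat_lit 11, nat_lit 20, nat_lit 19, nat_lit 13, nat_lit 20, nat_lit 24, nat_lit 20, nat_lit 20, nat_lit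 24, nat_lit 21], []⟩, ⟨nat_lit 1, nat_lit 0, [nat_lit 17, nat_lit 5, nat_lit 14, nat_lit 18, nat_lit 13, nat_lit 21, nat_lit 20, nat_lit 20], []⟩, ⟨nat_lit 1, nat_lit 0, [nat_lit 5, nat_lit 19, nat_lit 1, nat_lit 13, nat_lit 18, nat_lit 13, nat_lit 21, nat_lit 21, nat_lit 20, nat_lit 21, nat_lit 24], []⟩, ⟨nat_lit 1, nat_lit 0, [nat_lit 1, nat_lit 11, nat_lit 0, nat_lit 13, nat_lit 16, nat_lit 17, nat_lit 20, nat_lit 23], []⟩, ⟨nat_lit 1, nat_lit 0, [nat_lit 4, nat_lit 9, nat_lit 3, nat_lit 24, nat_lit 17, nat_lit 19, nat_lit 24, nat_lit 21, nat_lit 20, nat_lit 20, nat_lit 24, nat_lit 21], []⟩, ⟨nat_lit 1, nat_lit 1, [nat_lit 6, nat_lit 8, nat_lit 1, nat_lit 18, nat_lit 15, nat_lit 13, nat_lit 20, nat_lit 24, nat_lit 21, nat_lit 21], []⟩, ⟨nat_lit 1, nat_lit 0, [nat_lit 11, nat_lit 11, nat_lit 0, nat_lit 23, nat_lit 14, nat_lit 17, nat_lit 23, nat_lit 23, nat_lit 22, nat_lit 20, nat_lit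 21, nat_lit 21, nat_lit 21], []⟩, ⟨nat_lit 1, nat_lit 0, [nat_lit 7, nat_lit 15, nat_lit 1, nat_lit 13, nat_lit 13, nat_lit 14, nat_lit 23, nat_lit 22, nat_lit 20, nat_lit 24, nat_lit 21, nat_lit 24], []⟩, ⟨nat_lit 1, nat_lit 0, [nat_lit 15, nat_lit 15, nat_lit 3, nat_lit 22, nat_lit 20, nat_lit 13, nat_lit 24], []⟩, ⟨nat_lit 1, nat_lit 0, [nat_lit 10, nat_lit 10, nat_lit 0, nat_lit 24, nat_lit 14, nat_lit 15, nat_lit 22, nat_lit 21, nat_lit 20, nat_lit 24, nat_lit 21, nat_lit 21], []⟩, ⟨nat_lit 1, nat_lit 0, [nat_lit 22, nat_lit 11, nat_lit 1, nat_lit 13, nat_lit 23, nat_lit 20, nat_lit 24], []⟩, ⟨nat_lit 2, nat_lit 3, [nat_lit 15, nat_lit 11, nat_lit 22, nat_lit 16, nat_lit 13], []⟩, ⟨nat_lit 2, nat_lit 1, [nat_lit 0, nat_lit 16, nat_lit 1, nat_lit 16, nat_lit 17, nat_lit 21, nat_lit 21, nat_lit 20, nat_lit 21, nat_lit 21, nat_lit 21], []⟩, ⟨nat_lit 2, nat_lit 0, [nat_lit 4, nat_lit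 11, nat_lit 0, nat_lit 16, nat_lit 16, nat_lit 16, nat_lit 21, nat_lit 20, nat_lit 20, nat_lit 21, nat_lit 24], []⟩, ⟨nat_lit 2, nat_lit 2, [nat_lit 13, nat_lit 1, nat_lit 1, nat_lit 21, nat_lit 13, nat_lit 15, nat_lit 22, nat_lit 22, nat_lit 20, nat_lit 21, nat_lit 24], []⟩, ⟨nat_lit 1, nat_lit 0, [nat_lit 3, nat_lit 7, nat_lit 0, nat_lit 13, nat_lit 13, nat_lit 13, nat_lit 22, nat_lit 20, nat_lit 24, nat_lit 21], []⟩, ⟨nat_lit 2, nat_lit 0, [nat_lit 15, nat_lit 11, nat_lit 14, nat_lit 18, nat_lit 21, nat_lit 20, nat_lit 20, nat_lit 21, nat_lit 21, nat_lit 24], []⟩, ⟨nat_lit 2, nat_lit 2, [nat_lit 18, nat_lit 21, nat_lit 0, nat_lit 21, nat_lit 15, nat_lit 15, nat_lit 22, nat_lit 20, nat_lit 20, nat_lit 21], []⟩, ⟨nat_lit 2, nat_lit 1, [nat_lit 10, nat_lit 11, nat_lit 20, nat_lit 18, nat_lit 24, nat_lit 21, nat_lit 20, nat_lit 20, nat_lit 21, nat_lit 21], []⟩, ⟨nat_lit 2, nat_lit 3,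 [nat_lit 7, nat_lit 13, nat_lit 0, nat_lit 21, nat_lit 16, nat_lit 14, nat_lit 22, nat_lit 20, nat_lit 21], []⟩, ⟨nat_lit 2, nat_lit 3, [nat_lit 8, nat_lit 13, nat_lit 2, nat_lit 21, nat_lit 19, nat_lit 13, nat_lit 20, nat_lit 20, nat_lit 21, nat_lit 21, nat_lit 21], []⟩, ⟨nat_lit 1, nat_lit 0, [nat_lit 3, nat_lit 18, nat_lit 0, nat_lit 21, nat_lit 17, nat_lit 16, nat_lit 13, nat_lit 21, nat_lit 23], []⟩, ⟨nat_lit 2, nat_lit 4, [], []⟩, ⟨nat_lit 2, nat_lit 2, [nat_lit 14, nat_lit 0, nat_lit 2, nat_lit 19, nat_lit 15, nat_lit 13, nat_lit 20, nat_lit 23, nat_lit 20, nat_lit 24, nat_lit 21, nat_lit 21], []⟩, ⟨nat_lit 2, nat_lit 5, [], []⟩, ⟨nat_lit 1, nat_lit 0, [nat_lit 10, nat_lit 7, nat_lit 15, nat_lit 24, nat_lit 13, nat_lit 23, nat_lit 22, nat_lit 20, nat_lit 24], []⟩, ⟨nat_lit 2, nat_lit 0, [nat_lit 13, nat_lit 1, nat_lit 1, nat_lit 13, nat_lit 18, nat_lit 13, nat_lit 23, nat_lit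 23, nat_lit 21, nat_lit 21], []⟩, ⟨nat_lit 2, nat_lit 3, [nat_lit 0, nat_lit 16, nat_lit 1, nat_lit 21, nat_lit 14, nat_lit 19, nat_lit 20, nat_lit 24, nat_lit 20, nat_lit 20, nat_lit 24, nat_lit 21], []⟩, ⟨nat_lit 2, nat_lit 2, [nat_lit 0, nat_lit 16, nat_lit 1, nat_lit 16, nat_lit 17, nat_lit 21, nat_lit 21, nat_lit 20, nat_lit 21, nat_lit 21, nat_lit 21], []⟩, ⟨nat_lit 2, nat_lit 1, [nat_lit 18, nat_lit 21, nat_lit 0, nat_lit 22, nat_lit 21, nat_lit 13, nat_lit 20, nat_lit 20, nat_lit 24, nat_lit 21, nat_lit 24], []⟩, ⟨nat_lit 1, nat_lit 0, [nat_lit 9, nat_lit 20, nat_lit 1, nat_lit 20, nat_lit 23, nat_lit 15, nat_lit 21, nat_lit 20, nat_lit 20, nat_lit 24], []⟩, ⟨nat_lit 2, nat_lit 3, [nat_lit 2, nat_lit 13, nat_lit 9, nat_lit 23, nat_lit 13, nat_lit 20, nat_lit 21, nat_lit 23, nat_lit 21, nat_lit 21, nat_lit 21], []⟩, ⟨nat_lit 2, nat_lit 4, [nat_lit 4, nat_lit 11, nat_lit 0, nat_lit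 16, nat_lit 16, nat_lit 16, nat_lit 21, nat_lit 20, nat_lit 20, nat_lit 21, nat_lit 24], []⟩, ⟨nat_lit 2, nat_lit 2, [nat_lit 14, nat_lit 8, nat_lit 2, nat_lit 14, nat_lit 15, nat_lit 23, nat_lit 20, nat_lit 23, nat_lit 24, nat_lit 21, nat_lit 21], []⟩, ⟨nat_lit 2, nat_lit 5, [nat_lit 0, nat_lit 16, nat_lit 1, nat_lit 16, nat_lit 17, nat_lit 21, nat_lit 21, nat_lit 20, nat_lit 21, nat_lit 21, nat_lit 21], []⟩, ⟨nat_lit 1, nat_lit 0, [nat_lit 20, nat_lit 18, nat_lit 2, nat_lit 24, nat_lit 13, nat_lit 22, nat_lit 20, nat_lit 20, nat_lit 21, nat_lit 24], []⟩, ⟨nat_lit 2, nat_lit 5, [nat_lit 10, nat_lit 11, nat_lit 20, nat_lit 18, nat_lit 24, nat_lit 21, nat_lit 20, nat_lit 20, nat_lit 21, nat_lit 21], []⟩, ⟨nat_lit 2, nat_lit 3, [nat_lit 12, nat_lit 20, nat_lit 1, nat_lit 19, nat_lit 13, nat_lit 24, nat_lit 21], []⟩, ⟨nat_lit 2, nat_lit 2, [nat_lit 10, nat_lit 16, nat_lit 2, nat_lit 16,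 nat_lit 16, nat_lit 14, nat_lit 20, nat_lit 21], []⟩, ⟨nat_lit 2, nat_lit 4, [nat_lit 15, nat_lit 11, nat_lit 14, nat_lit 18, nat_lit 21, nat_lit 20, nat_lit 20, nat_lit 21, nat_lit 21, nat_lit 24], []⟩, ⟨nat_lit 1, nat_lit 0, [nat_lit 12, nat_lit 19, nat_lit 2, nat_lit 17, nat_lit 16, nat_lit 15, nat_lit 24, nat_lit 20, nat_lit 20, nat_lit 21, nat_lit 21], []⟩, ⟨nat_lit 2, nat_lit 3, [nat_lit 20, nat_lit 15, nat_lit 2, nat_lit 15, nat_lit 20, nat_lit 13, nat_lit 24, nat_lit 21, nat_lit 24], []⟩, ⟨nat_lit 2, nat_lit 2, [nat_lit 18, nat_lit 11, nat_lit 2, nat_lit 17, nat_lit 13, nat_lit 16, nat_lit 20, nat_lit 23, nat_lit 23, nat_lit 21, nat_lit 24], []⟩, ⟨nat_lit 2, nat_lit 4, [nat_lit 13, nat_lit 1, nat_lit 1, nat_lit 13, nat_lit 18, nat_lit 13, nat_lit 23, nat_lit 23, nat_lit 21, nat_lit 21], []⟩, ⟨nat_lit 2, nat_lit 5, [nat_lit 18, nat_lit 21, nat_lit 0, nat_lit 22, nat_lit 21, nat_lit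 13, nat_lit 20, nat_lit 20, nat_lit 24, nat_lit 21, nat_lit 24], []⟩, ⟨nat_lit 2, nat_lit 1, [nat_lit 4, nat_lit 11, nat_lit 0, nat_lit 18, nat_lit 19, nat_lit 14, nat_lit 23, nat_lit 20, nat_lit 23, nat_lit 21, nat_lit 21, nat_lit 24], []⟩, ⟨nat_lit 1, nat_lit 0, [nat_lit 14, nat_lit 10, nat_lit 0, nat_lit 13, nat_lit 23, nat_lit 15, nat_lit 21, nat_lit 23, nat_lit 24, nat_lit 21], []⟩, ⟨nat_lit 2, nat_lit 0, [nat_lit 18, nat_lit 21, nat_lit 0, nat_lit 21, nat_lit 15, nat_lit 15, nat_lit 22, nat_lit 20, nat_lit 20, nat_lit 21], []⟩, ⟨nat_lit 2, nat_lit 2, [nat_lit 5, nat_lit 10, nat_lit 0, nat_lit 13, nat_lit 14, nat_lit 13, nat_lit 22, nat_lit 24, nat_lit 20, nat_lit 20, nat_lit 21], []⟩, ⟨nat_lit 2, nat_lit 3, [nat_lit 15, nat_lit 11, nat_lit 14, nat_lit 18, nat_lit 21, nat_lit 20, nat_lit 20, nat_lit 21, nat_lit 21, nat_lit 24], []⟩, ⟨nat_lit 2, nat_lit 2, [nat_lit 8, nat_lit 13,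 nat_lit 2, nat_lit 21, nat_lit 19, nat_lit 13, nat_lit 20, nat_lit 20, nat_lit 21, nat_lit 21, nat_lit 21], []⟩, ⟨nat_lit 1, nat_lit 0, [nat_lit 9, nat_lit 13, nat_lit 3, nat_lit 13, nat_lit 13, nat_lit 24, nat_lit 20, nat_lit 24, nat_lit 21, nat_lit 24], []⟩, ⟨nat_lit 2, nat_lit 3, [nat_lit 20, nat_lit 15, nat_lit 2, nat_lit 14, nat_lit 15, nat_lit 21, nat_lit 20, nat_lit 20], []⟩, ⟨nat_lit 2, nat_lit 5, [nat_lit 15, nat_lit 11, nat_lit 14, nat_lit 18, nat_lit 21, nat_lit 20, nat_lit 20, nat_lit 21, nat_lit 21, nat_lit 24], []⟩, ⟨nat_lit 2, nat_lit 4, [nat_lit 4, nat_lit 11, nat_lit 0, nat_lit 18, nat_lit 19, nat_lit 14, nat_lit 23, nat_lit 20, nat_lit 23, nat_lit 21, nat_lit 21, nat_lit 24], []⟩, ⟨nat_lit 1, nat_lit 0, [nat_lit 14, nat_lit 7, nat_lit 24, nat_lit 18, nat_lit 21, nat_lit 20, nat_lit 23, nat_lit 21, nat_lit 21, nat_lit 24], []⟩, ⟨nat_lit 2, nat_lit 5, [nat_lit 4, nat_lit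 11, nat_lit 0, nat_lit 18, nat_lit 19, nat_lit 14, nat_lit 23, nat_lit 20, nat_lit 23, nat_lit 21, nat_lit 21, nat_lit 24], []⟩, ⟨nat_lit 2, nat_lit 4, [nat_lit 18, nat_lit 21, nat_lit 0, nat_lit 21, nat_lit 15, nat_lit 15, nat_lit 22, nat_lit 20, nat_lit 20, nat_lit 21], []⟩, ⟨nat_lit 2, nat_lit 2, [nat_lit 8, nat_lit 13, nat_lit 2, nat_lit 15, nat_lit 19, nat_lit 15, nat_lit 23, nat_lit 24], []⟩, ⟨nat_lit 2, nat_lit 3, [nat_lit 2, nat_lit 13, nat_lit 9, nat_lit 16, nat_lit 17, nat_lit 13, nat_lit 20, nat_lit 23, nat_lit 24, nat_lit 21], []⟩, ⟨nat_lit 1, nat_lit 0, [nat_lit 19, nat_lit 8, nat_lit 0, nat_lit 18, nat_lit 17, nat_lit 13, nat_lit 21, nat_lit 20, nat_lit 20, nat_lit 21, nat_lit 21, nat_lit 21], []⟩, ⟨nat_lit 2, nat_lit 4, [nat_lit 15, nat_lit 11, nat_lit 22, nat_lit 16, nat_lit 13], []⟩, ⟨nat_lit 2, nat_lit 2, [nat_lit 2, nat_lit 13, nat_lit 9, nat_lit 16, nat_lit 17, nat_lit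 13, nat_lit 20, nat_lit 23, nat_lit 24, nat_lit 21], []⟩, ⟨nat_lit 2, nat_lit 3, [nat_lit 10, nat_lit 16, nat_lit 2, nat_lit 14, nat_lit 17, nat_lit 13, nat_lit 24, nat_lit 20, nat_lit 20, nat_lit 24], []⟩, ⟨nat_lit 2, nat_lit 5, [nat_lit 13, nat_lit 1, nat_lit 1, nat_lit 21, nat_lit 13, nat_lit 15, nat_lit 22, nat_lit 22, nat_lit 20, nat_lit 21, nat_lit 24], []⟩, ⟨nat_lit 1, nat_lit 0, [nat_lit 6, nat_lit 5, nat_lit 0, nat_lit 24, nat_lit 19, nat_lit 20, nat_lit 24, nat_lit 20, nat_lit 20, nat_lit 24], []⟩, ⟨nat_lit 2, nat_lit 1, [nat_lit 18, nat_lit 21, nat_lit 0, nat_lit 21, nat_lit 15, nat_lit 15, nat_lit 22, nat_lit 20, nat_lit 20, nat_lit 21], []⟩, ⟨nat_lit 2, nat_lit 2, [nat_lit 15, nat_lit 11, nat_lit 14, nat_lit 18, nat_lit 21, nat_lit 20, nat_lit 20, nat_lit 21, nat_lit 21, nat_lit 24], []⟩, ⟨nat_lit 2, nat_lit 0, [nat_lit 5, nat_lit 10, nat_lit 0, nat_lit 13, nat_lit 14, nat_lit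 13, nat_lit 22, nat_lit 24, nat_lit 20, nat_lit 20, nat_lit 21], []⟩, ⟨nat_lit 2, nat_lit 3, [nat_lit 10, nat_lit 11, nat_lit 20, nat_lit 16, nat_lit 24, nat_lit 21, nat_lit 23, nat_lit 21, nat_lit 24], []⟩, ⟨nat_lit 2, nat_lit 0, [nat_lit 15, nat_lit 11, nat_lit 22, nat_lit 16, nat_lit 13], []⟩, ⟨nat_lit 1, nat_lit 0, [nat_lit 4, nat_lit 18, nat_lit 2, nat_lit 18, nat_lit 24, nat_lit 19, nat_lit 20, nat_lit 23, nat_lit 23, nat_lit 21], []⟩, ⟨nat_lit 2, nat_lit 3, [nat_lit 4, nat_lit 11, nat_lit 0, nat_lit 16, nat_lit 16, nat_lit 16, nat_lit 21, nat_lit 20, nat_lit 20, nat_lit 21, nat_lit 24], []⟩, ⟨nat_lit 2, nat_lit 1, [nat_lit 13, nat_lit 1, nat_lit 1, nat_lit 21, nat_lit 13, nat_lit 15, nat_lit 22, nat_lit 22, nat_lit 20, nat_lit 21, nat_lit 24], []⟩, ⟨nat_lit 2, nat_lit 2, [nat_lit 21, nat_lit 21, nat_lit 1, nat_lit 13, nat_lit 24, nat_lit 17, nat_lit 22, nat_lit 21, nat_lit 20,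 nat_lit 24, nat_lit 21], []⟩, ⟨nat_lit 1, nat_lit 0, [nat_lit 15, nat_lit 3, nat_lit 16, nat_lit 19, nat_lit 23, nat_lit 20, nat_lit 21], []⟩, ⟨nat_lit 2, nat_lit 5, [nat_lit 15, nat_lit 11, nat_lit 22, nat_lit 16, nat_lit 13], []⟩, ⟨nat_lit 2, nat_lit 2, [nat_lit 12, nat_lit 20, nat_lit 1, nat_lit 19, nat_lit 13, nat_lit 24, nat_lit 21], []⟩, ⟨nat_lit 2, nat_lit 4, [nat_lit 0, nat_lit 16, nat_lit 1, nat_lit 16, nat_lit 17, nat_lit 21, nat_lit 21, nat_lit 20, nat_lit 21, nat_lit 21, nat_lit 21], []⟩, ⟨nat_lit 2, nat_lit 3, [nat_lit 2, nat_lit 14, nat_lit 3, nat_lit 22, nat_lit 19, nat_lit 15, nat_lit 23, nat_lit 20, nat_lit 23, nat_lit 21, nat_lit 21], []⟩, ⟨nat_lit 1, nat_lit 0, [nat_lit 8, nat_lit 22, nat_lit 3, nat_lit 22, nat_lit 16, nat_lit 17, nat_lit 13, nat_lit 22, nat_lit 20, nat_lit 21], []⟩, ⟨nat_lit 2, nat_lit 2, [nat_lit 2, nat_lit 14, nat_lit 3, nat_lit 22, nat_lit 19,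 nat_lit 15, nat_lit 23, nat_lit 20, nat_lit 23, nat_lit 21, nat_lit 21], []⟩, ⟨nat_lit 2, nat_lit 5, [nat_lit 18, nat_lit 21, nat_lit 0, nat_lit 21, nat_lit 15, nat_lit 15, nat_lit 22, nat_lit 20, nat_lit 20, nat_lit 21], []⟩, ⟨nat_lit 2, nat_lit 3, [nat_lit 22, nat_lit 0, nat_lit 2, nat_lit 19, nat_lit 15, nat_lit 13, nat_lit 24, nat_lit 20, nat_lit 20], []⟩, ⟨nat_lit 2, nat_lit 4, [nat_lit 5, nat_lit 10, nat_lit 0, nat_lit 13, nat_lit 14, nat_lit 13, nat_lit 22, nat_lit 24, nat_lit 20, nat_lit 20, nat_lit 21], []⟩, ⟨nat_lit 2, nat_lit 2, [nat_lit 13, nat_lit 4, nat_lit 12, nat_lit 23, nat_lit 19, nat_lit 13, nat_lit 22, nat_lit 20, nat_lit 24, nat_lit 21], []⟩, ⟨nat_lit 2, nat_lit 3, [nat_lit 14, nat_lit 0, nat_lit 2, nat_lit 19, nat_lit 15, nat_lit 13, nat_lit 20, nat_lit 23, nat_lit 20, nat_lit 24, nat_lit 21, nat_lit 21], []⟩, ⟨nat_lit 1, nat_lit 0, [nat_lit 21, nat_lit 3, nat_lit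 5, nat_lit 17, nat_lit 15, nat_lit 14, nat_lit 13, nat_lit 20, nat_lit 23, nat_lit 23, nat_lit 21, nat_lit 21], []⟩, ⟨nat_lit 2, nat_lit 5, [nat_lit 5, nat_lit 10, nat_lit 0, nat_lit 13, nat_lit 14, nat_lit 13, nat_lit 22, nat_lit 24, nat_lit 20, nat_lit 20, nat_lit 21], []⟩, ⟨nat_lit 2, nat_lit 4, [nat_lit 10, nat_lit 11, nat_lit 20, nat_lit 18, nat_lit 24, nat_lit 21, nat_lit 20, nat_lit 20, nat_lit 21, nat_lit 21], []⟩, ⟨nat_lit 1, nat_lit 0, [nat_lit 18, nat_lit 9, nat_lit 0, nat_lit 21, nat_lit 20, nat_lit 19, nat_lit 20, nat_lit 23, nat_lit 23, nat_lit 21, nat_lit 24], []⟩, ⟨nat_lit 1, nat_lit 1, [nat_lit 8, nat_lit 8, nat_lit 16, nat_lit 22, nat_lit 16, nat_lit 22, nat_lit 21, nat_lit 20, nat_lit 21, nat_lit 21, nat_lit 24], []⟩, ⟨nat_lit 1, nat_lit 0, [nat_lit 9, nat_lit 20, nat_lit 0, nat_lit 20, nat_lit 17, nat_lit 13, nat_lit 24, nat_lit 21, nat_lit 23], []⟩, ⟨nat_lit 1, nat_lit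 0, [nat_lit 14, nat_lit 0, nat_lit 7, nat_lit 22, nat_lit 23, nat_lit 13, nat_lit 23, nat_lit 23, nat_lit 22, nat_lit 20, nat_lit 21, nat_lit 24], []⟩, ⟨nat_lit 1, nat_lit 0, [nat_lit 6, nat_lit 0, nat_lit 22, nat_lit 14, nat_lit 15, nat_lit 21, nat_lit 21, nat_lit 20, nat_lit 24, nat_lit 21], []⟩, ⟨nat_lit 1, nat_lit 0, [nat_lit 16, nat_lit 4, nat_lit 16, nat_lit 20, nat_lit 13, nat_lit 22, nat_lit 21, nat_lit 20, nat_lit 21], []⟩, ⟨nat_lit 2, nat_lit 2, [nat_lit 10, nat_lit 11, nat_lit 20, nat_lit 16, nat_lit 24, nat_lit 21, nat_lit 23, nat_lit 21, nat_lit 24], []⟩, ⟨nat_lit 2, nat_lit 1, [nat_lit 5, nat_lit 10, nat_lit 0, nat_lit 13, nat_lit 14, nat_lit 13, nat_lit 22, nat_lit 24, nat_lit 20, nat_lit 20, nat_lit 21], []⟩, ⟨nat_lit 2, nat_lit 3, [nat_lit 4, nat_lit 11, nat_lit 0, nat_lit 18, nat_lit 19, nat_lit 14, nat_lit 23, nat_lit 20, nat_lit 23, nat_lit 21, nat_lit 21, nat_lit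 24], []⟩, ⟨nat_lit 2, nat_lit 0, [nat_lit 10, nat_lit 11, nat_lit 20, nat_lit 18, nat_lit 24, nat_lit 21, nat_lit 20, nat_lit 20, nat_lit 21, nat_lit 21], []⟩, ⟨nat_lit 2, nat_lit 3, [nat_lit 15, nat_lit 3, nat_lit 22, nat_lit 18, nat_lit 13, nat_lit 21, nat_lit 21, nat_lit 20, nat_lit 24], []⟩, ⟨nat_lit 1, nat_lit 0, [nat_lit 3, nat_lit 16, nat_lit 1, nat_lit 13, nat_lit 20, nat_lit 16, nat_lit 21, nat_lit 20, nat_lit 20, nat_lit 24], []⟩, ⟨nat_lit 2, nat_lit 1, [nat_lit 15, nat_lit 11, nat_lit 22, nat_lit 16, nat_lit 13], []⟩, ⟨nat_lit 2, nat_lit 0, [nat_lit 0, nat_lit 16, nat_lit 1, nat_lit 16, nat_lit 17, nat_lit 21, nat_lit 21, nat_lit 20, nat_lit 21, nat_lit 21, nat_lit 21], []⟩, ⟨nat_lit 2, nat_lit 2, [nat_lit 0, nat_lit 16, nat_lit 1, nat_lit 21, nat_lit 14, nat_lit 19, nat_lit 20, nat_lit 24, nat_lit 20, nat_lit 20, nat_lit 24, nat_lit 21], []⟩, ⟨nat_lit 1, nat_lit 0, [nat_lit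 10, nat_lit 7, nat_lit 9, nat_lit 14, nat_lit 21, nat_lit 13, nat_lit 22, nat_lit 20, nat_lit 24, nat_lit 21, nat_lit 21], []⟩, ⟨nat_lit 1, nat_lit 0, [nat_lit 15, nat_lit 23, nat_lit 0, nat_lit 24, nat_lit 16, nat_lit 13, nat_lit 22, nat_lit 20, nat_lit 20, nat_lit 21, nat_lit 21, nat_lit 24], []⟩, ⟨nat_lit 1, nat_lit 1, [nat_lit 9, nat_lit 3, nat_lit 19, nat_lit 13, nat_lit 15, nat_lit 23, nat_lit 21], []⟩, ⟨nat_lit 1, nat_lit 0, [nat_lit 14, nat_lit 11, nat_lit 4, nat_lit 15, nat_lit 16, nat_lit 15, nat_lit 22, nat_lit 21, nat_lit 20, nat_lit 21, nat_lit 21, nat_lit 21], []⟩, ⟨nat_lit 1, nat_lit 0, [nat_lit 12, nat_lit 22, nat_lit 4, nat_lit 13, nat_lit 24, nat_lit 17, nat_lit 22, nat_lit 22, nat_lit 20, nat_lit 24, nat_lit 21, nat_lit 21], []⟩],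
  [rB6x0, rB6x1, rB6x2, rB6x3, rB6x4, rB6x5]⟩

noncomputable def cB7 : CC := ⟨[[nat_lit 9, nat_lit 0, nat_lit 16, nat_lit 15, nat_lit 17, nat_lit 22, nat_lit 21, nat_lit 20, nat_lit 24, nat_lit 21]], [(nat_lit 5632375936, []), (nat_lit 6283704064, [nat_lit 0, nat_lit 0, nat_lit 0]), (nat_lit 6368868352, [nat_lit 0, nat_lit 0, nat_lit 0, nat_lit 0]), (nat_lit 7084757504, [nat_lit 0, nat_lit 0]), (nat_lit 7323802112, [nat_lit 0])],
  [⟨nat_lit 1, nat_lit 99, [], []⟩, ⟨nat_lit 1, nat_lit 0, [nat_lit 11, nat_lit 1, nat_lit 1, nat_lit 20, nat_lit 15, nat_lit 19, nat_lit 13, nat_lit 21, nat_lit 21, nat_lit 20, nat_lit 24, nat_lit 21], []⟩, ⟨nat_lit 1, nat_lit 0, [nat_lit 21, nat_lit 9, nat_lit 5, nat_lit 13, nat_lit 16, nat_lit 22, nat_lit 21, nat_lit 21, nat_lit 20], []⟩, ⟨nat_lit 1, nat_lit 0, [nat_lit 1, nat_lit 15, nat_lit 3, nat_lit 21, nat_lit 15, nat_lit 22, nat_lit 24, nat_lit 20,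 nat_lit 20, nat_lit 24, nat_lit 21], []⟩, ⟨nat_lit 1, nat_lit 0, [nat_lit 16, nat_lit 3, nat_lit 0, nat_lit 20, nat_lit 22, nat_lit 16, nat_lit 21, nat_lit 20, nat_lit 24, nat_lit 21], []⟩],
  []⟩

noncomputable def cB8 : CC := ⟨[[nat_lit 9, nat_lit 20, nat_lit 0, nat_lit 13, nat_lit 15, nat_lit 13, nat_lit 24, nat_lit 22, nat_lit 20, nat_lit 21, nat_lit 21, nat_lit 21]], [(nat_lit 5632375936, []), (nat_lit 1696678880763, [nat_lit 0, nat_lit 0, nat_lit 0]), (nat_lit 1998168300032, [nat_lit 0, nat_lit 0]), (nat_lit 2540519361739, [nat_lit 0, nat_lit 0, nat_lit 0, nat_lit 0]), (nat_lit 3280475802327, [nat_lit 0])],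
  [⟨nat_lit 1, nat_lit 99, [], []⟩, ⟨nat_lit 1, nat_lit 1, [nat_lit 14, nat_lit 14, nat_lit 0, nat_lit 14, nat_lit 17, nat_lit 13, nat_lit 23, nat_lit 20, nat_lit 23, nat_lit 24, nat_lit 21, nat_lit 24], []⟩, ⟨nat_lit 1, nat_lit 1, [nat_lit 13, nat_lit 10, nat_lit 0, nat_lit 16, nat_lit 14, nat_lit 21, nat_lit 21, nat_lit 23, nat_lit 21, nat_lit 21, nat_lit 21], []⟩, ⟨nat_lit 1, nat_lit 1, [nat_lit 14, nat_lit 11, nat_lit 1, nat_lit 17, nat_lit 18, nat_lit 13, nat_lit 24, nat_lit 21, nat_lit 20], []⟩, ⟨nat_lit 1, nat_lit 1, [nat_lit 17, nat_lit 10, nat_lit 0, nat_lit 17, nat_lit 15, nat_lit 14, nat_lit 13, nat_lit 23, nat_lit 23, nat_lit 21, nat_lit 24], []⟩],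
  []⟩

noncomputable def cB9 : CC := ⟨[[nat_lit 14, nat_lit 0, nat_lit 7, nat_lit 22, nat_lit 21, nat_lit 13, nat_lit 24, nat_lit 20, nat_lit 21, nat_lit 21, nat_lit 24]], [(nat_lit 5632375936, []), (nat_lit 53461116632, [nat_lit 0, nat_lit 0, nat_lit 0, nat_lit 0]), (nat_lit 1741352913027, [nat_lit 0, nat_lit 0]), (nat_lit 2169076280553, [nat_lit 0]), (nat_lit 3679202199274, [nat_lit 0, nat_lit 0, nat_lit 0])],
  [⟨nat_lit 1, nat_lit 99, [], []⟩, ⟨nat_lit 1, nat_lit 1, [nat_lit 1, nat_lit 10, nat_lit 4, nat_lit 14, nat_lit 13, nat_lit 14, nat_lit 22, nat_lit 21, nat_lit 20, nat_lit 24, nat_lit 21], []⟩, ⟨nat_lit 1, nat_lit 1, [nat_lit 19, nat_lit 1, nat_lit 24, nat_lit 22, nat_lit 16, nat_lit 13, nat_lit 23, nat_lit 20], []⟩, ⟨nat_lit 1, nat_lit 1, [nat_lit 17, nat_lit 11, nat_lit 0, nat_lit 22, nat_lit 13, nat_lit 23, nat_lit 20, nat_lit 23, nat_lit 21, nat_lit 24], []⟩, ⟨nat_lit 1,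 nat_lit 1, [nat_lit 17, nat_lit 5, nat_lit 22, nat_lit 20, nat_lit 14, nat_lit 20, nat_lit 23, nat_lit 20, nat_lit 21, nat_lit 21], []⟩],
  []⟩

noncomputable def CLB : List (List ℕ) := [[nat_lit 26], [nat_lit 41], [nat_lit 47], [nat_lit 26, nat_lit 26], [nat_lit 26, nat_lit 41], [nat_lit 26, nat_lit 47], [nat_lit 41, nat_lit 41], [nat_lit 41, nat_lit 47], [nat_lit 47, nat_lit 41], [nat_lit 26, nat_lit 26, nat_lit 26], [nat_lit 26, nat_lit 26, nat_lit 41], [nat_lit 26, nat_lit 26, nat_lit 47], [nat_lit 26, nat_lit 41, nat_lit 41], [nat_lit 26, nat_lit 41, nat_lit 47], [nat_lit 26, nat_lit 47, nat_lit 41], [nat_lit 41, nat_lit 41, nat_lit 41], [nat_lit 41, nat_lit 41, nat_lit 47], [nat_lit 41, nat_lit 47, nat_lit 41], [nat_lit 47, nat_lit 41, nat_lit 47], [nat_lit 26, nat_lit 26, nat_lit 26, nat_lit 26], [nat_lit 26, nat_lit 26, nat_lit 26, nat_lit 41], [nat_lit 26, nat_lit 26, nat_lit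 26, nat_lit 47], [nat_lit 26, nat_lit 26, nat_lit 41, nat_lit 47], [nat_lit 26, nat_lit 26, nat_lit 47, nat_lit 41], [nat_lit 26, nat_lit 41, nat_lit 41, nat_lit 41], [nat_lit 26, nat_lit 41, nat_lit 41, nat_lit 47], [nat_lit 26, nat_lit 41, nat_lit 47, nat_lit 41], [nat_lit 26, nat_lit 47, nat_lit 41, nat_lit 47], [nat_lit 41, nat_lit 41, nat_lit 41, nat_lit 41], [nat_lit 41, nat_lit 41, nat_lit 41, nat_lit 47], [nat_lit 41, nat_lit 41, nat_lit 47, nat_lit 41], [nat_lit 41, nat_lit 47, nat_lit 41, nat_lit 47], [nat_lit 47, nat_lit 41, nat_lit 47, nat_lit 41], [nat_lit 26, nat_lit 26, nat_lit 26, nat_lit 26, nat_lit 26], [nat_lit 26, nat_lit 26, nat_lit 26, nat_lit 26, nat_lit 41], [nat_lit 26, nat_lit 26, nat_lit 26, nat_lit 26, nat_lit 47], [nat_lit 26, nat_lit 26, nat_lit 26, nat_lit 41, nat_lit 47], [nat_lit 26, nat_lit 26, nat_lit 26, nat_lit 47, nat_lit 41], [nat_lit 26, nat_lit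 26, nat_lit 41, nat_lit 47, nat_lit 41], [nat_lit 26, nat_lit 26, nat_lit 47, nat_lit 41, nat_lit 47], [nat_lit 26, nat_lit 41, nat_lit 41, nat_lit 41, nat_lit 41], [nat_lit 26, nat_lit 41, nat_lit 41, nat_lit 41, nat_lit 47], [nat_lit 26, nat_lit 41, nat_lit 41, nat_lit 47, nat_lit 41], [nat_lit 26, nat_lit 41, nat_lit 47, nat_lit 41, nat_lit 47], [nat_lit 26, nat_lit 47, nat_lit 41, nat_lit 47, nat_lit 41], [nat_lit 41, nat_lit 41, nat_lit 41, nat_lit 41, nat_lit 41], [nat_lit 41, nat_lit 41, nat_lit 41, nat_lit 41, nat_lit 47], [nat_lit 41, nat_lit 41, nat_lit 41, nat_lit 47, nat_lit 41], [nat_lit 41, nat_lit 41, nat_lit 47, nat_lit 41, nat_lit 47], [nat_lit 41, nat_lit 47, nat_lit 41, nat_lit 47, nat_lit 41], [nat_lit 47, nat_lit 41, nat_lit 47, nat_lit 41, nat_lit 47], [nat_lit 26, nat_lit 26, nat_lit 26, nat_lit 26, nat_lit 26, nat_lit 41], [nat_lit 26, nat_lit 26, nat_lit 26,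 nat_lit 26, nat_lit 26, nat_lit 47], [nat_lit 26, nat_lit 26, nat_lit 26, nat_lit 26, nat_lit 41, nat_lit 47], [nat_lit 26, nat_lit 26, nat_lit 26, nat_lit 26, nat_lit 47, nat_lit 41], [nat_lit 26, nat_lit 26, nat_lit 26, nat_lit 41, nat_lit 47, nat_lit 41], [nat_lit 26, nat_lit 26, nat_lit 26, nat_lit 47, nat_lit 41, nat_lit 47], [nat_lit 26, nat_lit 26, nat_lit 41, nat_lit 47, nat_lit 41, nat_lit 47], [nat_lit 26, nat_lit 26, nat_lit 47, nat_lit 41, nat_lit 47, nat_lit 41], [nat_lit 26, nat_lit 41, nat_lit 41, nat_lit 41, nat_lit 41, nat_lit 41], [nat_lit 26, nat_lit 41, nat_lit 41, nat_lit 41, nat_lit 41, nat_lit 47], [nat_lit 26, nat_lit 41, nat_lit 41, nat_lit 41, nat_lit 47, nat_lit 41], [nat_lit 26, nat_lit 41, nat_lit 41, nat_lit 47, nat_lit 41, nat_lit 47], [nat_lit 26, nat_lit 47, nat_lit 41, nat_lit 47, nat_lit 41, nat_lit 47], [nat_lit 41, nat_lit 41, nat_lit 41, nat_lit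 41, nat_lit 41, nat_lit 47], [nat_lit 41, nat_lit 41, nat_lit 41, nat_lit 41, nat_lit 47, nat_lit 41], [nat_lit 41, nat_lit 41, nat_lit 41, nat_lit 47, nat_lit 41, nat_lit 47], [nat_lit 41, nat_lit 41, nat_lit 47, nat_lit 41, nat_lit 47, nat_lit 41], [nat_lit 41, nat_lit 47, nat_lit 41, nat_lit 47, nat_lit 41, nat_lit 47], [nat_lit 47, nat_lit 41, nat_lit 47, nat_lit 41, nat_lit 47, nat_lit 41], [nat_lit 26, nat_lit 26, nat_lit 26, nat_lit 26, nat_lit 26, nat_lit 41, nat_lit 47], [nat_lit 26, nat_lit 26, nat_lit 26, nat_lit 26, nat_lit 26, nat_lit 47, nat_lit 41], [nat_lit 26, nat_lit 26, nat_lit 26, nat_lit 26, nat_lit 41, nat_lit 47, nat_lit 41], [nat_lit 26, nat_lit 26, nat_lit 26, nat_lit 26, nat_lit 47, nat_lit 41, nat_lit 47], [nat_lit 26, nat_lit 26, nat_lit 26, nat_lit 41, nat_lit 47, nat_lit 41, nat_lit 47], [nat_lit 26, nat_lit 26, nat_lit 26, nat_lit 47, nat_lit 41, nat_lit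 47, nat_lit 41], [nat_lit 26, nat_lit 26, nat_lit 47, nat_lit 41, nat_lit 47, nat_lit 41, nat_lit 47], [nat_lit 26, nat_lit 41, nat_lit 41, nat_lit 41, nat_lit 41, nat_lit 41, nat_lit 47], [nat_lit 26, nat_lit 41, nat_lit 41, nat_lit 41, nat_lit 41, nat_lit 47, nat_lit 41], [nat_lit 41, nat_lit 41, nat_lit 41, nat_lit 41, nat_lit 41, nat_lit 47, nat_lit 41], [nat_lit 41, nat_lit 41, nat_lit 41, nat_lit 41, nat_lit 47, nat_lit 41, nat_lit 47], [nat_lit 41, nat_lit 41, nat_lit 41, nat_lit 47, nat_lit 41, nat_lit 47, nat_lit 41], [nat_lit 41, nat_lit 41, nat_lit 47, nat_lit 41, nat_lit 47, nat_lit 41, nat_lit 47], [nat_lit 41, nat_lit 47, nat_lit 41, nat_lit 47, nat_lit 41, nat_lit 47, nat_lit 41], [nat_lit 26, nat_lit 26, nat_lit 26, nat_lit 26, nat_lit 26, nat_lit 41, nat_lit 47, nat_lit 41], [nat_lit 26, nat_lit 26, nat_lit 26, nat_lit 26, nat_lit 26, nat_lit 47, nat_lit 41, nat_lit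 47], [nat_lit 26, nat_lit 26, nat_lit 26, nat_lit 26, nat_lit 41, nat_lit 47, nat_lit 41, nat_lit 47], [nat_lit 26, nat_lit 26, nat_lit 26, nat_lit 26, nat_lit 47, nat_lit 41, nat_lit 47, nat_lit 41], [nat_lit 26, nat_lit 26, nat_lit 26, nat_lit 47, nat_lit 41, nat_lit 47, nat_lit 41, nat_lit 47], [nat_lit 26, nat_lit 41, nat_lit 41, nat_lit 41, nat_lit 41, nat_lit 41, nat_lit 47, nat_lit 41], [nat_lit 41, nat_lit 41, nat_lit 41, nat_lit 41, nat_lit 41, nat_lit 47, nat_lit 41, nat_lit 47], [nat_lit 41, nat_lit 41, nat_lit 41, nat_lit 41, nat_lit 47, nat_lit 41, nat_lit 47, nat_lit 41], [nat_lit 41, nat_lit 41, nat_lit 41, nat_lit 47, nat_lit 41, nat_lit 47, nat_lit 41, nat_lit 47], [nat_lit 41, nat_lit 41, nat_lit 47, nat_lit 41, nat_lit 47, nat_lit 41, nat_lit 47, nat_lit 41], [nat_lit 26, nat_lit 26, nat_lit 26, nat_lit 26, nat_lit 26, nat_lit 41, nat_lit 47, nat_lit 41, nat_lit 47],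 [nat_lit 26, nat_lit 26, nat_lit 26, nat_lit 26, nat_lit 26, nat_lit 47, nat_lit 41, nat_lit 47, nat_lit 41], [nat_lit 26, nat_lit 26, nat_lit 26, nat_lit 26, nat_lit 47, nat_lit 41, nat_lit 47, nat_lit 41, nat_lit 47], [nat_lit 41, nat_lit 41, nat_lit 41, nat_lit 41, nat_lit 41, nat_lit 47, nat_lit 41, nat_lit 47, nat_lit 41], [nat_lit 41, nat_lit 41, nat_lit 41, nat_lit 41, nat_lit 47, nat_lit 41, nat_lit 47, nat_lit 41, nat_lit 47]]

noncomputable def clBq0 : List (List ℕ) := [[nat_lit 1, nat_lit 2, nat_lit 3], [nat_lit 4, nat_lit 5, nat_lit 6], [nat_lit 5, nat_lit 7, nat_lit 8], [nat_lit 6, nat_lit 9, nat_lit 0], [nat_lit 10, nat_lit 11, nat_lit 12], [nat_lit 11, nat_lit 13, nat_lit 14], [nat_lit 12, nat_lit 15, nat_lit 1], [nat_lit 13, nat_lit 16, nat_lit 17], [nat_lit 14, nat_lit 18, nat_lit 2], [nat_lit 15, nat_lit 17, nat_lit 19], [nat_lit 20, nat_lit 21, nat_lit 22], [nat_lit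 21, nat_lit 0, nat_lit 23], [nat_lit 22, nat_lit 24, nat_lit 4], [nat_lit 0, nat_lit 25, nat_lit 26], [nat_lit 23, nat_lit 27, nat_lit 5], [nat_lit 24, nat_lit 26, nat_lit 28], [nat_lit 25, nat_lit 29, nat_lit 30], [nat_lit 26, nat_lit 31, nat_lit 7], [nat_lit 27, nat_lit 30, nat_lit 32], [nat_lit 28, nat_lit 33, nat_lit 9], [nat_lit 34, nat_lit 35, nat_lit 36], [nat_lit 35, nat_lit 1, nat_lit 37], [nat_lit 36, nat_lit 38, nat_lit 10], [nat_lit 37, nat_lit 39, nat_lit 11], [nat_lit 38, nat_lit 3, nat_lit 40], [nat_lit 2, nat_lit 41, nat_lit 42], [nat_lit 3, nat_lit 43, nat_lit 13], [nat_lit 39, nat_lit 42, nat_lit 44], [nat_lit 40, nat_lit 45, nat_lit 15], [nat_lit 41, nat_lit 46, nat_lit 47], [nat_lit 42, nat_lit 48, nat_lit 16], [nat_lit 43, nat_lit 47, nat_lit 49], [nat_lit 44, nat_lit 50, nat_lit 18], [nat_lit 45, nat_lit 49, nat_lit 51], [nat_lit 29, nat_lit 52, nat_lit 53], [nat_lit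 52, nat_lit 4, nat_lit 54], [nat_lit 53, nat_lit 55, nat_lit 20], [nat_lit 54, nat_lit 56, nat_lit 21], [nat_lit 55, nat_lit 6, nat_lit 57], [nat_lit 56, nat_lit 8, nat_lit 58], [nat_lit 57, nat_lit 59, nat_lit 24], [nat_lit 7, nat_lit 60, nat_lit 61]]

noncomputable def clBq1 : List (List ℕ) := [[nat_lit 8, nat_lit 62, nat_lit 25], [nat_lit 9, nat_lit 61, nat_lit 63], [nat_lit 58, nat_lit 51, nat_lit 27], [nat_lit 59, nat_lit 63, nat_lit 64], [nat_lit 60, nat_lit 20, nat_lit 65], [nat_lit 61, nat_lit 66, nat_lit 29], [nat_lit 62, nat_lit 65, nat_lit 67], [nat_lit 63, nat_lit 68, nat_lit 31], [nat_lit 51, nat_lit 67, nat_lit 69], [nat_lit 64, nat_lit 70, nat_lit 33], [nat_lit 46, nat_lit 10, nat_lit 71], [nat_lit 47, nat_lit 72, nat_lit 34], [nat_lit 71, nat_lit 73, nat_lit 35], [nat_lit 72, nat_lit 12, nat_lit 74], [nat_lit 73, nat_lit 14, nat_lit 75], [nat_lit 74, nat_lit 76, nat_lit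 38], [nat_lit 75, nat_lit 64, nat_lit 39], [nat_lit 76, nat_lit 19, nat_lit 77], [nat_lit 16, nat_lit 34, nat_lit 78], [nat_lit 17, nat_lit 79, nat_lit 41], [nat_lit 18, nat_lit 78, nat_lit 70], [nat_lit 19, nat_lit 69, nat_lit 43], [nat_lit 77, nat_lit 32, nat_lit 45], [nat_lit 78, nat_lit 80, nat_lit 46], [nat_lit 79, nat_lit 36, nat_lit 81], [nat_lit 70, nat_lit 82, nat_lit 48], [nat_lit 69, nat_lit 81, nat_lit 83], [nat_lit 33, nat_lit 84, nat_lit 50], [nat_lit 32, nat_lit 83, nat_lit 62], [nat_lit 65, nat_lit 85, nat_lit 52], [nat_lit 66, nat_lit 22, nat_lit 86], [nat_lit 85, nat_lit 23, nat_lit 87], [nat_lit 86, nat_lit 88, nat_lit 55], [nat_lit 87, nat_lit 77, nat_lit 56], [nat_lit 88, nat_lit 28, nat_lit 89], [nat_lit 89, nat_lit 44, nat_lit 59], [nat_lit 30, nat_lit 90, nat_lit 60], [nat_lit 31, nat_lit 53, nat_lit 84], [nat_lit 90, nat_lit 54, nat_lit 91], [nat_lit 84, nat_lit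 92, nat_lit 66], [nat_lit 83, nat_lit 91, nat_lit 93], [nat_lit 50, nat_lit 94, nat_lit 68]]

noncomputable def clBq2 : List (List ℕ) := [[nat_lit 49, nat_lit 93, nat_lit 79], [nat_lit 80, nat_lit 37, nat_lit 95], [nat_lit 81, nat_lit 96, nat_lit 72], [nat_lit 95, nat_lit 89, nat_lit 73], [nat_lit 96, nat_lit 40, nat_lit 97], [nat_lit 97, nat_lit 58, nat_lit 76], [nat_lit 48, nat_lit 71, nat_lit 94], [nat_lit 94, nat_lit 98, nat_lit 80], [nat_lit 93, nat_lit 74, nat_lit 99], [nat_lit 68, nat_lit 86, nat_lit 82], [nat_lit 67, nat_lit 99, nat_lit 90], [nat_lit 91, nat_lit 97, nat_lit 85], [nat_lit 92, nat_lit 57, nat_lit 98], [nat_lit 98, nat_lit 75, nat_lit 88], [nat_lit 99, nat_lit 87, nat_lit 96], [nat_lit 82, nat_lit 95, nat_lit 92]]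

noncomputable def t2 : List ℕ := [nat_lit 47]

noncomputable def b1 : List ℕ := [nat_lit 26, nat_lit 28]

noncomputable def aw0 : List ℕ := [nat_lit 25]

noncomputable def reps : List (ℕ × List ℕ) := [(nat_lit 1, aw0)]

noncomputable def relA : List (List ℕ) := []

noncomputable def relB : List (List ℕ) := [[nat_lit 0, nat_lit 0], [nat_lit 0, nat_lit 2, nat_lit 0, nat_lit 2, nat_lit 0, nat_lit 2, nat_lit 0, nat_lit 2, nat_lit 0, nat_lit 2, nat_lit 0, nat_lit 2, nat_lit 0, nat_lit 2, nat_lit 0, nat_lit 2, nat_lit 0, nat_lit 2, nat_lit 0, nat_lit 2], [nat_lit 0, nat_lit 1, nat_lit 2, nat_lit 0, nat_lit 1, nat_lit 2, nat_lit 0, nat_lit 1, nat_lit 2, nat_lit 0, nat_lit 1, nat_lit 2, nat_lit 0, nat_lit 1, nat_lit 2, nat_lit 0, nat_lit 1, nat_lit 2, nat_lit 0, nat_lit 1, nat_lit 2, nat_lit 0, nat_lit 1, nat_lit 2, nat_lit 0, nat_lit 1, nat_lit 2, nat_lit 0, nat_lit 1, nat_lit 2, nat_lit 0,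 nat_lit 1, nat_lit 2, nat_lit 0, nat_lit 1, nat_lit 2, nat_lit 0, nat_lit 1, nat_lit 2, nat_lit 0, nat_lit 1, nat_lit 2, nat_lit 0, nat_lit 1, nat_lit 2], [nat_lit 0, nat_lit 1, nat_lit 1, nat_lit 2, nat_lit 1, nat_lit 0, nat_lit 2, nat_lit 0, nat_lit 1, nat_lit 1, nat_lit 2, nat_lit 1, nat_lit 0, nat_lit 2, nat_lit 0, nat_lit 1, nat_lit 1, nat_lit 2, nat_lit 1, nat_lit 0, nat_lit 2, nat_lit 0, nat_lit 1, nat_lit 1, nat_lit 2, nat_lit 1, nat_lit 0, nat_lit 2, nat_lit 0, nat_lit 1, nat_lit 1, nat_lit 2, nat_lit 1, nat_lit 0, nat_lit 2, nat_lit 0, nat_lit 1, nat_lit 1, nat_lit 2, nat_lit 1, nat_lit 0, nat_lit 2, nat_lit 0, nat_lit 1, nat_lit 1, nat_lit 2, nat_lit 1, nat_lit 0, nat_lit 2, nat_lit 0, nat_lit 1, nat_lit 1, nat_lit 2, nat_lit 1, nat_lit 0, nat_lit 2, nat_lit 0, nat_lit 1, nat_lit 1, nat_lit 2, nat_lit 1, nat_lit 0, nat_lit 2, nat_lit 0, nat_lit 1, nat_lit 1, nat_lit 2, nat_lit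 1, nat_lit 0, nat_lit 2, nat_lit 0, nat_lit 1, nat_lit 1, nat_lit 2, nat_lit 1, nat_lit 0, nat_lit 2, nat_lit 0, nat_lit 1, nat_lit 1, nat_lit 2, nat_lit 1, nat_lit 0, nat_lit 2]]

noncomputable def sAq0 : List TC := [⟨nat_lit 1, nat_lit 0, [], []⟩, ⟨nat_lit 1, nat_lit 0, [nat_lit 25, nat_lit 25], []⟩, ⟨nat_lit 2, nat_lit 0, [], []⟩, ⟨nat_lit 1, nat_lit 0, [nat_lit 25, nat_lit 25, nat_lit 25, nat_lit 25], []⟩, ⟨nat_lit 2, nat_lit 0, [nat_lit 25, nat_lit 25], []⟩, ⟨nat_lit 1, nat_lit 0, [nat_lit 25, nat_lit 25, nat_lit 25, nat_lit 25, nat_lit 25, nat_lit 25], []⟩, ⟨nat_lit 2, nat_lit 0, [nat_lit 25, nat_lit 25, nat_lit 25, nat_lit 25], []⟩, ⟨nat_lit 1, nat_lit 0, [nat_lit 25, nat_lit 25, nat_lit 25, nat_lit 25, nat_lit 25, nat_lit 25, nat_lit 25, nat_lit 25], []⟩, ⟨nat_lit 2, nat_lit 0, [nat_lit 25, nat_lit 25, nat_lit 25, nat_lit 25, nat_lit 25, nat_lit 25], []⟩, ⟨nat_lit 1, nat_lit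 0, [nat_lit 25, nat_lit 25, nat_lit 25, nat_lit 25, nat_lit 25, nat_lit 25, nat_lit 25, nat_lit 25, nat_lit 25, nat_lit 25], []⟩, ⟨nat_lit 2, nat_lit 0, [nat_lit 25, nat_lit 25, nat_lit 25, nat_lit 25, nat_lit 25, nat_lit 25, nat_lit 25, nat_lit 25], []⟩, ⟨nat_lit 1, nat_lit 0, [nat_lit 25], []⟩, ⟨nat_lit 2, nat_lit 0, [nat_lit 25, nat_lit 25, nat_lit 25, nat_lit 25, nat_lit 25, nat_lit 25, nat_lit 25, nat_lit 25, nat_lit 25, nat_lit 25], []⟩, ⟨nat_lit 1, nat_lit 0, [nat_lit 25, nat_lit 25, nat_lit 25], []⟩, ⟨nat_lit 2, nat_lit 0, [nat_lit 25], []⟩, ⟨nat_lit 1, nat_lit 0, [nat_lit 25, nat_lit 25, nat_lit 25, nat_lit 25, nat_lit 25], []⟩, ⟨nat_lit 2, nat_lit 0, [nat_lit 25, nat_lit 25, nat_lit 25], []⟩, ⟨nat_lit 1, nat_lit 0, [nat_lit 25, nat_lit 25, nat_lit 25, nat_lit 25, nat_lit 25, nat_lit 25, nat_lit 25], []⟩, ⟨nat_lit 2, nat_lit 0, [nat_lit 25, nat_lit 25, nat_lit 25, nat_lit 25,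 nat_lit 25], []⟩, ⟨nat_lit 1, nat_lit 0, [nat_lit 25, nat_lit 25, nat_lit 25, nat_lit 25, nat_lit 25, nat_lit 25, nat_lit 25, nat_lit 25, nat_lit 25], []⟩, ⟨nat_lit 2, nat_lit 0, [nat_lit 25, nat_lit 25, nat_lit 25, nat_lit 25, nat_lit 25, nat_lit 25, nat_lit 25], []⟩, ⟨nat_lit 2, nat_lit 0, [nat_lit 25, nat_lit 25, nat_lit 25, nat_lit 25, nat_lit 25, nat_lit 25, nat_lit 25, nat_lit 25, nat_lit 25], []⟩]

noncomputable def zw : List ℕ := [nat_lit 21, nat_lit 3, nat_lit 5, nat_lit 13, nat_lit 17, nat_lit 16, nat_lit 20, nat_lit 23, nat_lit 20, nat_lit 24, nat_lit 21, nat_lit 47, nat_lit 8, nat_lit 12, nat_lit 0, nat_lit 16, nat_lit 14, nat_lit 13, nat_lit 24, nat_lit 21, nat_lit 20, nat_lit 21, nat_lit 24, nat_lit 47, nat_lit 6, nat_lit 13, nat_lit 0, nat_lit 22, nat_lit 16, nat_lit 17, nat_lit 13, nat_lit 24, nat_lit 21, nat_lit 23, nat_lit 21]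

noncomputable def hu : List ℕ := [nat_lit 25, nat_lit 47, nat_lit 26, nat_lit 47, nat_lit 25, nat_lit 26, nat_lit 25, nat_lit 25, nat_lit 26, nat_lit 47, nat_lit 25, nat_lit 47, nat_lit 25, nat_lit 25, nat_lit 26, nat_lit 26, nat_lit 25, nat_lit 47, nat_lit 25, nat_lit 26]

noncomputable def hv : List ℕ := [nat_lit 47, nat_lit 25, nat_lit 47, nat_lit 26, nat_lit 47, nat_lit 25, nat_lit 26, nat_lit 25, nat_lit 47, nat_lit 26, nat_lit 25, nat_lit 26, nat_lit 26, nat_lit 25, nat_lit 26, nat_lit 26, nat_lit 47, nat_lit 25, nat_lit 47, nat_lit 26]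

noncomputable def sB0q0 : List TC := [⟨nat_lit 1, nat_lit 0, [], []⟩, ⟨nat_lit 0, nat_lit 0, [], []⟩, ⟨nat_lit 0, nat_lit 0, [], []⟩, ⟨nat_lit 0, nat_lit 1, [], []⟩, ⟨nat_lit 0, nat_lit 0, [], []⟩, ⟨nat_lit 0, nat_lit 0, [], []⟩, ⟨nat_lit 0, nat_lit 0, [], []⟩, ⟨nat_lit 0, nat_lit 0, [], []⟩, ⟨nat_lit 0, nat_lit 0, [], []⟩, ⟨nat_lit 0, nat_lit 0, [], []⟩, ⟨nat_lit 0, nat_lit 0, [], []⟩, ⟨nat_lit 0, nat_lit 0, [], []⟩, ⟨nat_lit 0, nat_lit 0, [], []⟩, ⟨nat_lit 0, nat_lit 0, [], []⟩, ⟨nat_lit 0, nat_lit 2, [], []⟩, ⟨nat_lit 0, nat_lit 1, [], []⟩, ⟨nat_lit 0, nat_lit 0, [], []⟩, ⟨nat_lit 0, nat_lit 0, [], []⟩, ⟨nat_lit 0, nat_lit 0, [], []⟩, ⟨nat_lit 0, nat_lit 0, [], []⟩, ⟨nat_lit 0, nat_lit 0, [], []⟩, ⟨nat_lit 0, nat_lit 0, [], []⟩, ⟨nat_lit 0, nat_lit 0, [], []⟩, ⟨nat_lit 0, nat_lit 0, [], []⟩, ⟨nat_lit 0, nat_lit 0, [], []⟩, ⟨nat_lit 0, nat_lit 0, [], []⟩, ⟨nat_lit 0, nat_lit 0, [],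 []⟩, ⟨nat_lit 0, nat_lit 0, [], []⟩, ⟨nat_lit 0, nat_lit 0, [], []⟩, ⟨nat_lit 0, nat_lit 0, [], []⟩, ⟨nat_lit 0, nat_lit 0, [], []⟩, ⟨nat_lit 0, nat_lit 0, [], []⟩, ⟨nat_lit 0, nat_lit 0, [], []⟩, ⟨nat_lit 0, nat_lit 0, [], []⟩, ⟨nat_lit 0, nat_lit 1, [], []⟩, ⟨nat_lit 0, nat_lit 0, [], []⟩, ⟨nat_lit 0, nat_lit 0, [], []⟩, ⟨nat_lit 0, nat_lit 0, [], []⟩, ⟨nat_lit 0, nat_lit 0, [], []⟩, ⟨nat_lit 0, nat_lit 0, [], []⟩, ⟨nat_lit 0, nat_lit 0, [], []⟩, ⟨nat_lit 0, nat_lit 0, [], []⟩, ⟨nat_lit 0, nat_lit 0, [], []⟩, ⟨nat_lit 0, nat_lit 0, [], []⟩, ⟨nat_lit 0, nat_lit 0, [], []⟩, ⟨nat_lit 0, nat_lit 0, [], []⟩, ⟨nat_lit 0, nat_lit 0, [], []⟩, ⟨nat_lit 0, nat_lit 0, [], []⟩, ⟨nat_lit 0, nat_lit 0, [], []⟩, ⟨nat_lit 0, nat_lit 0, [], []⟩, ⟨nat_lit 0, nat_lit 0, [], []⟩, ⟨nat_lit 0, nat_lit 0, [], []⟩, ⟨nat_lit 0, nat_lit 0, [], []⟩, ⟨nat_lit 0, nat_lit 3, [], []⟩, ⟨nat_lit 0, nat_lit 0, [],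 []⟩, ⟨nat_lit 0, nat_lit 0, [], []⟩, ⟨nat_lit 0, nat_lit 0, [], []⟩, ⟨nat_lit 0, nat_lit 0, [], []⟩, ⟨nat_lit 1, nat_lit 0, [nat_lit 41, nat_lit 41, nat_lit 41, nat_lit 41, nat_lit 41], []⟩, ⟨nat_lit 0, nat_lit 1, [], []⟩, ⟨nat_lit 0, nat_lit 0, [], []⟩, ⟨nat_lit 0, nat_lit 0, [], []⟩, ⟨nat_lit 0, nat_lit 0, [], []⟩, ⟨nat_lit 0, nat_lit 0, [], []⟩, ⟨nat_lit 0, nat_lit 0, [], []⟩, ⟨nat_lit 0, nat_lit 1, [], []⟩, ⟨nat_lit 0, nat_lit 1, [], []⟩, ⟨nat_lit 0, nat_lit 0, [], []⟩, ⟨nat_lit 0, nat_lit 0, [], []⟩, ⟨nat_lit 0, nat_lit 0, [], []⟩, ⟨nat_lit 0, nat_lit 0, [], []⟩, ⟨nat_lit 0, nat_lit 0, [], []⟩, ⟨nat_lit 0, nat_lit 0, [], []⟩, ⟨nat_lit 0, nat_lit 0, [], []⟩, ⟨nat_lit 0, nat_lit 0, [], []⟩, ⟨nat_lit 0, nat_lit 0, [], []⟩, ⟨nat_lit 0, nat_lit 0, [], []⟩, ⟨nat_lit 0, nat_lit 0, [], []⟩, ⟨nat_lit 0, nat_lit 0, [], []⟩, ⟨nat_lit 0, nat_lit 0, [], []⟩, ⟨nat_lit 0, nat_lit 0, [], []⟩, ⟨nat_lit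 0, nat_lit 0, [], []⟩, ⟨nat_lit 0, nat_lit 0, [], []⟩, ⟨nat_lit 0, nat_lit 0, [], []⟩, ⟨nat_lit 0, nat_lit 0, [], []⟩, ⟨nat_lit 0, nat_lit 0, [], []⟩, ⟨nat_lit 0, nat_lit 0, [], []⟩, ⟨nat_lit 0, nat_lit 0, [], []⟩, ⟨nat_lit 0, nat_lit 0, [], []⟩, ⟨nat_lit 0, nat_lit 0, [], []⟩, ⟨nat_lit 0, nat_lit 0, [], []⟩, ⟨nat_lit 0, nat_lit 0, [], []⟩, ⟨nat_lit 0, nat_lit 0, [], []⟩, ⟨nat_lit 0, nat_lit 1, [], []⟩, ⟨nat_lit 0, nat_lit 1, [], []⟩, ⟨nat_lit 0, nat_lit 0, [], []⟩, ⟨nat_lit 0, nat_lit 0, [], []⟩, ⟨nat_lit 0, nat_lit 0, [], []⟩, ⟨nat_lit 0, nat_lit 0, [], []⟩, ⟨nat_lit 0, nat_lit 0, [], []⟩]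

noncomputable def S : List (List ℕ) := [[nat_lit 0], [nat_lit 1], [nat_lit 2], [nat_lit 45], [nat_lit 4], [nat_lit 5], [nat_lit 46]]

noncomputable def Y : List (List ℕ) := [[nat_lit 0], [nat_lit 1], [nat_lit 2, nat_lit 0, nat_lit 0], [nat_lit 45, nat_lit 45], [nat_lit 4], [nat_lit 5], [nat_lit 46, nat_lit 46]]

noncomputable def Pre : List (List ℕ) := [[nat_lit 0], [nat_lit 1], [nat_lit 2, nat_lit 4, nat_lit 4], [nat_lit 6, nat_lit 6], [nat_lit 4], [nat_lit 5], [nat_lit 3, nat_lit 3]]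

noncomputable def aw : List ℕ := [nat_lit 5, nat_lit 4, nat_lit 1, nat_lit 0, nat_lit 1, nat_lit 4, nat_lit 5, nat_lit 5, nat_lit 4, nat_lit 5, nat_lit 4, nat_lit 5, nat_lit 4, nat_lit 5, nat_lit 4, nat_lit 5, nat_lit 0, nat_lit 1, nat_lit 0, nat_lit 1, nat_lit 0, nat_lit 1, nat_lit 0, nat_lit 1, nat_lit 1, nat_lit 0, nat_lit 5, nat_lit 4, nat_lit 5, nat_lit 5, nat_lit 0, nat_lit 5, nat_lit 0, nat_lit 1, nat_lit 0, nat_lit 1, nat_lit 0, nat_lit 1, nat_lit 1, nat_lit 0, nat_lit 5, nat_lit 4, nat_lit 5, nat_lit 0, nat_lit 5, nat_lit 4, nat_lit 5, nat_lit 0, nat_lit 1, nat_lit 0, nat_lit 1, nat_lit 0, nat_lit 1, nat_lit 0, nat_lit 1, nat_lit 1, nat_lit 0, nat_lit 5, nat_lit 4, nat_lit 5, nat_lit 4, nat_lit 1, nat_lit 0, nat_lit 1, nat_lit 4, nat_lit 5, nat_lit 5, nat_lit 4, nat_lit 5, nat_lit 4, nat_lit 5, nat_lit 5, nat_lit 4, nat_lit 1, nat_lit 0, nat_lit 1, nat_lit 4, nat_lit 5, nat_lit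 5, nat_lit 4, nat_lit 5, nat_lit 4, nat_lit 5, nat_lit 4, nat_lit 5, nat_lit 4, nat_lit 5, nat_lit 0, nat_lit 1, nat_lit 0, nat_lit 1, nat_lit 0, nat_lit 1, nat_lit 0, nat_lit 1, nat_lit 1, nat_lit 0, nat_lit 5, nat_lit 4, nat_lit 5, nat_lit 5, nat_lit 0, nat_lit 5, nat_lit 0, nat_lit 1, nat_lit 0, nat_lit 1, nat_lit 0, nat_lit 1, nat_lit 0, nat_lit 5, nat_lit 4, nat_lit 5, nat_lit 0, nat_lit 1, nat_lit 0, nat_lit 1, nat_lit 0, nat_lit 1, nat_lit 0, nat_lit 1, nat_lit 1, nat_lit 0, nat_lit 5, nat_lit 4, nat_lit 5, nat_lit 4, nat_lit 1, nat_lit 0, nat_lit 1, nat_lit 4, nat_lit 5, nat_lit 5, nat_lit 4, nat_lit 5, nat_lit 4, nat_lit 5, nat_lit 4, nat_lit 1, nat_lit 0, nat_lit 1, nat_lit 4, nat_lit 5, nat_lit 5, nat_lit 4, nat_lit 5, nat_lit 4, nat_lit 5, nat_lit 4, nat_lit 5, nat_lit 4, nat_lit 1, nat_lit 1, nat_lit 0, nat_lit 2, nat_lit 1, nat_lit 2, nat_lit 1]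

noncomputable def bw : List ℕ := [nat_lit 4, nat_lit 5, nat_lit 5, nat_lit 0, nat_lit 1, nat_lit 0, nat_lit 1, nat_lit 0, nat_lit 1, nat_lit 0, nat_lit 1, nat_lit 1, nat_lit 0, nat_lit 5, nat_lit 4, nat_lit 5, nat_lit 0, nat_lit 5, nat_lit 4, nat_lit 1, nat_lit 0, nat_lit 1, nat_lit 4, nat_lit 5, nat_lit 5, nat_lit 4, nat_lit 5, nat_lit 4, nat_lit 5, nat_lit 4, nat_lit 5, nat_lit 4, nat_lit 5, nat_lit 0, nat_lit 1, nat_lit 0, nat_lit 1, nat_lit 0, nat_lit 1, nat_lit 0, nat_lit 1, nat_lit 1, nat_lit 0, nat_lit 5, nat_lit 4, nat_lit 5, nat_lit 5, nat_lit 0, nat_lit 5, nat_lit 0, nat_lit 1, nat_lit 0, nat_lit 1, nat_lit 0, nat_lit 1, nat_lit 0, nat_lit 5, nat_lit 4, nat_lit 5, nat_lit 0, nat_lit 1, nat_lit 0, nat_lit 1, nat_lit 0, nat_lit 1, nat_lit 0, nat_lit 1, nat_lit 1, nat_lit 0, nat_lit 5, nat_lit 4, nat_lit 5, nat_lit 4, nat_lit 1, nat_lit 0, nat_lit 1, nat_lit 4, nat_lit 5, nat_lit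 5, nat_lit 4, nat_lit 5, nat_lit 4, nat_lit 5, nat_lit 5, nat_lit 4, nat_lit 1, nat_lit 0, nat_lit 1, nat_lit 4, nat_lit 5, nat_lit 5, nat_lit 4, nat_lit 5, nat_lit 4, nat_lit 5, nat_lit 4, nat_lit 5, nat_lit 4, nat_lit 5, nat_lit 0, nat_lit 1, nat_lit 0, nat_lit 1, nat_lit 0, nat_lit 1, nat_lit 0, nat_lit 1, nat_lit 1, nat_lit 0, nat_lit 5, nat_lit 4, nat_lit 5, nat_lit 5, nat_lit 0, nat_lit 5, nat_lit 0, nat_lit 1, nat_lit 0, nat_lit 1, nat_lit 0, nat_lit 1, nat_lit 1, nat_lit 0, nat_lit 0, nat_lit 5, nat_lit 4, nat_lit 1, nat_lit 0, nat_lit 1, nat_lit 4, nat_lit 5, nat_lit 5, nat_lit 4, nat_lit 5, nat_lit 4, nat_lit 5, nat_lit 4, nat_lit 5, nat_lit 4, nat_lit 5, nat_lit 0, nat_lit 1, nat_lit 0, nat_lit 1, nat_lit 0, nat_lit 1, nat_lit 0, nat_lit 1, nat_lit 1, nat_lit 0, nat_lit 5, nat_lit 4, nat_lit 5, nat_lit 5, nat_lit 0, nat_lit 5, nat_lit 0, nat_lit 1, nat_lit 0, nat_lit 1, nat_lit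 0, nat_lit 1, nat_lit 1, nat_lit 0, nat_lit 5, nat_lit 4, nat_lit 5, nat_lit 4, nat_lit 1, nat_lit 0, nat_lit 1, nat_lit 4, nat_lit 5, nat_lit 5, nat_lit 4, nat_lit 5, nat_lit 4, nat_lit 5, nat_lit 4, nat_lit 5, nat_lit 4, nat_lit 5, nat_lit 0, nat_lit 1, nat_lit 0, nat_lit 1, nat_lit 0, nat_lit 1, nat_lit 0, nat_lit 1, nat_lit 1, nat_lit 0, nat_lit 5, nat_lit 4, nat_lit 5, nat_lit 5, nat_lit 0, nat_lit 5, nat_lit 0, nat_lit 1, nat_lit 0, nat_lit 1, nat_lit 0, nat_lit 1, nat_lit 1, nat_lit 0, nat_lit 5, nat_lit 4, nat_lit 5, nat_lit 5, nat_lit 0, nat_lit 1, nat_lit 0, nat_lit 1, nat_lit 0, nat_lit 1, nat_lit 0, nat_lit 1, nat_lit 1, nat_lit 0, nat_lit 5, nat_lit 4, nat_lit 5, nat_lit 0, nat_lit 5, nat_lit 4, nat_lit 1, nat_lit 0, nat_lit 1, nat_lit 4, nat_lit 5, nat_lit 5, nat_lit 4, nat_lit 5, nat_lit 4, nat_lit 5, nat_lit 4, nat_lit 5, nat_lit 4, nat_lit 5, nat_lit 0, nat_lit 1, nat_lit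 0, nat_lit 1, nat_lit 0, nat_lit 1, nat_lit 0, nat_lit 1, nat_lit 1, nat_lit 0, nat_lit 5, nat_lit 4, nat_lit 5, nat_lit 5, nat_lit 0, nat_lit 5, nat_lit 0, nat_lit 1, nat_lit 0, nat_lit 1, nat_lit 0, nat_lit 1, nat_lit 0, nat_lit 5, nat_lit 4, nat_lit 5, nat_lit 0, nat_lit 1, nat_lit 0, nat_lit 1, nat_lit 0, nat_lit 1, nat_lit 0, nat_lit 1, nat_lit 1, nat_lit 0, nat_lit 5, nat_lit 4, nat_lit 5, nat_lit 4, nat_lit 1, nat_lit 0, nat_lit 1, nat_lit 4, nat_lit 5, nat_lit 5, nat_lit 4, nat_lit 5, nat_lit 4, nat_lit 5, nat_lit 5, nat_lit 4, nat_lit 1, nat_lit 0, nat_lit 1, nat_lit 4, nat_lit 5, nat_lit 5, nat_lit 4, nat_lit 5, nat_lit 4, nat_lit 5, nat_lit 4, nat_lit 5, nat_lit 4, nat_lit 5, nat_lit 0, nat_lit 1, nat_lit 0, nat_lit 1, nat_lit 0, nat_lit 1, nat_lit 0, nat_lit 1, nat_lit 1, nat_lit 0, nat_lit 5, nat_lit 4, nat_lit 5, nat_lit 5, nat_lit 0, nat_lit 5, nat_lit 0, nat_lit 1, nat_lit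 0, nat_lit 1, nat_lit 0, nat_lit 1, nat_lit 1, nat_lit 0, nat_lit 0, nat_lit 5, nat_lit 4, nat_lit 1, nat_lit 0, nat_lit 1, nat_lit 4, nat_lit 5, nat_lit 5, nat_lit 4, nat_lit 5, nat_lit 4, nat_lit 5, nat_lit 4, nat_lit 5, nat_lit 4, nat_lit 5, nat_lit 0, nat_lit 1, nat_lit 0, nat_lit 1, nat_lit 0, nat_lit 1, nat_lit 0, nat_lit 1, nat_lit 1, nat_lit 0, nat_lit 5, nat_lit 4, nat_lit 5, nat_lit 5, nat_lit 0, nat_lit 5, nat_lit 0, nat_lit 1, nat_lit 0, nat_lit 1, nat_lit 0, nat_lit 1, nat_lit 1, nat_lit 0, nat_lit 5, nat_lit 4, nat_lit 5, nat_lit 5, nat_lit 4, nat_lit 1, nat_lit 0, nat_lit 1, nat_lit 4, nat_lit 5, nat_lit 5, nat_lit 4, nat_lit 5, nat_lit 4, nat_lit 5, nat_lit 4, nat_lit 5, nat_lit 4, nat_lit 5, nat_lit 0, nat_lit 1, nat_lit 0, nat_lit 1, nat_lit 0, nat_lit 1, nat_lit 0, nat_lit 1, nat_lit 1, nat_lit 0, nat_lit 5, nat_lit 4, nat_lit 5, nat_lit 5, nat_lit 0, nat_lit 5, nat_lit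 0, nat_lit 1, nat_lit 0, nat_lit 1, nat_lit 0, nat_lit 1, nat_lit 1, nat_lit 0, nat_lit 5, nat_lit 4, nat_lit 5, nat_lit 0, nat_lit 2, nat_lit 5, nat_lit 2, nat_lit 4, nat_lit 5, nat_lit 5, nat_lit 0, nat_lit 1, nat_lit 0, nat_lit 1, nat_lit 0, nat_lit 1, nat_lit 0, nat_lit 1, nat_lit 1, nat_lit 0, nat_lit 5, nat_lit 4, nat_lit 5, nat_lit 0, nat_lit 2]

end Cfsg.Agent.H9.OHN
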