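import Cfsg.Agent.H9.OLyD

/-! Outer automorphisms of the group Ly. Checks. -/

set_option autoImplicit false
set_option maxRecDepth 100000

namespace Cfsg.Agent.H9.OLy

set_option Elab.async false

theorem rl17 : allL Rl17 (P.relB fun j => Mt (ren L0.LyFB.P.k (nat_lit 62) j)) = true := by decide +kernel

theorem clB_79 : all2 (((([] :: CLB)).drop (79 * 4)).take 4) (clE e.U e.K X ([] :: CLB) (DB.DH ++ DB.DG)) clBq79 = true := by decide +kernel

theorem clB_75 : all2 (((([] :: CLB)).drop (75 * 4)).take 4) (clE e.U e.K X ([] :: CLB) (DB.DH ++ DB.DG)) clBq75 = true := by decide +kernel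

theorem clB_64 : all2 (((([] :: CLB)).drop (64 * 4)).take 4) (clE e.U e.K X ([] :: CLB) (DB.DH ++ DB.DG)) clBq64 = true := by decide +kernel

theorem rl12 : allL Rl12 (P.relB fun j => Mt (ren L0.LyFB.P.k (nat_lit 62) j)) = true := by decide +kernel

theorem sB1_1 : all2 (((([] :: CLB)).drop (1 * 182)).take 182) (stgB e.U e.K X [DB.b, aw1] [DB.b, aw1] relB t2 t2 ([DB.b, aw1] == [DB.b, DA.b]) false) sB1q1 = true := by decide +kernel

theorem clB_58 : all2 (((([] :: CLB)).drop (58 * 4)).take 4) (clE e.U e.K X ([] :: CLB) (DB.DH ++ DB.DG)) clBq58 = true := by decide +kernel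

theorem sB4_0 : all2 (((([] :: CLB)).drop (0 * 182)).take 182) (stgB e.U e.K X [DB.b, aw4] [DB.b, aw4] relB t2 t2 ([DB.b, aw4] == [DB.b, DA.b]) false) sB4q0 = true := by decide +kernel

theorem clB_72 : all2 (((([] :: CLB)).drop (72 * 4)).take 4) (clE e.U e.K X ([] :: CLB) (DB.DH ++ DB.DG)) clBq72 = true := by decide +kernel

theorem df_79 : dfB 79 = true := by decide +kernel

theorem slp_1 : allPow (below (nat_lit 3906) (slpB (mix L0.LyFB.P.k L0.LyFB.P.T T1) WH L0.LyFB.P.k)) 7 (1 * 2 ^ 7) = true := by decide +kernel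

theorem slp_8 : allPow (below (nat_lit 3906) (slpB (mix L0.LyFB.P.k L0.LyFB.P.T T1) WH L0.LyFB.P.k)) 7 (8 * 2 ^ 7) = true := by decide +kernel

theorem slp_15 : allPow (below (nat_lit 3906) (slpB (mix L0.LyFB.P.k L0.LyFB.P.T T1) WH L0.LyFB.P.k)) 7 (15 * 2 ^ 7) = true := by decide +kernel

theorem slp_22 : allPow (below (nat_lit 3906) (slpB (mix L0.LyFB.P.k L0.LyFB.P.T T1) WH L0.LyFB.P.k)) 7 (22 * 2 ^ 7) = true := by decide +kernel

theorem slp_29 : allPow (below (nat_lit 3906) (slpB (mix L0.LyFB.P.k L0.LyFB.P.T T1) WH L0.LyFB.P.k)) 7 (29 * 2 ^ 7) = true := by decide +kernel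

theorem rl8 : allL Rl8 (P.relB fun j => Mt (ren L0.LyFB.P.k (nat_lit 62) j)) = true := by decide +kernel

theorem ptB_0 : allPow (below (nat_lit 3906) (LB0.toLv.ptB e.T e.N)) 11 (0 * 2 ^ 11) = true := by decide +kernel

theorem rB3x1c : DB.repB e X d3 rB3x1 = true := by decide +kernel

theorem clB_61 : all2 (((([] :: CLB)).drop (61 * 4)).take 4) (clE e.U e.K X ([] :: CLB) (DB.DH ++ DB.DG)) clBq61 = true := by decide +kernel

theorem rhB0_2 : allPow (below (nat_lit 3906) (rhB rhoB0)) 8 (2 * 2 ^ 8) = true := by decide +kernel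

theorem rhB0_9 : allPow (below (nat_lit 3906) (rhB rhoB0)) 8 (9 * 2 ^ 8) = true := by decide +kernel

theorem ptA_0 : allPow (below (nat_lit 3906) (LA0.toLv.ptB e.T e.N)) 11 (0 * 2 ^ 11) = true := by decide +kernel

theorem scB_1 : allPow (below (nat_lit 3906) (scanB e.T iv (tr e.T DB.y) LB0 LBs [])) 11 (1 * 2 ^ 11) = true := by decide +kernel

theorem clB_20 : all2 (((([] :: CLB)).drop (20 * 4)).take 4) (clE e.U e.K X ([] :: CLB) (DB.DH ++ DB.DG)) clBq20 = true := by decide +kernel

theorem sA_0 : all2 (((([] :: CLA)).drop (0 * 2)).take 2) (stgB e.U e.K X [] [DA.b] relA DB.b DB.b true false) sAq0 = true := by decide +kernel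

theorem df_41 : dfB 41 = true := by decide +kernel

theorem sA_5 : all2 (((([] :: CLA)).drop (5 * 2)).take 2) (stgB e.U e.K X [] [DA.b] relA DB.b DB.b true false) sAq5 = true := by decide +kernel

theorem df_78 : dfB 78 = true := by decide +kernel

theorem clB_21 : all2 (((([] :: CLB)).drop (21 * 4)).take 4) (clE e.U e.K X ([] :: CLB) (DB.DH ++ DB.DG)) clBq21 = true := by decide +kernel

theorem df_75 : dfB 75 = true := by decide +kernel

theorem df_29 : dfB 29 = true := by decide +kernel

theorem rB : relsB e.U e.K X [t2, DB.b, DA.b] relB = true := by decide +kernel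

theorem df_25 : dfB 25 = true := by decide +kernel

theorem df_39 : dfB 39 = true := by decide +kernel

theorem df_31 : dfB 31 = true := by decide +kernel

theorem df_23 : dfB 23 = true := by decide +kernel

theorem df_71 : dfB 71 = true := by decide +kernel

theorem v1l0b_0 : allPow (below (nat_lit 30) (e.orbB (Env.sing v1l0S) v1l0r v1l0 v1l0t (nat_lit 32))) 5 (0 * 2 ^ 5) = true := by decide +kernel

theorem c3l1a : allL c3l1S (e.inT d3) = true := by decide +kernel

theorem c3l0c_0 : allPow (below (nat_lit 36) (L0.levT e.T c3l0S c3l0r c3l0 e.N)) 6 (0 * 2 ^ 6) = true := by decide +kernel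

theorem v2l0a : (L0.lettersB e.K (Env.sing v2l0S) && Nat.blt v2l0.β e.M && Nat.ble v2l0.n 11 && Nat.blt (nat_lit 8) v2l0.n &&
    Nat.beq (Nat.land (v2l0r (nat_lit 8)) v2l0.pm) v2l0.β && e.subB v2l0S [] v2l0.β) = true := by decide +kernel

theorem c1l1c_0 : allPow (below (nat_lit 24) (L0.levT e.T c1l1S c1l1r c1l1 e.N)) 5 (0 * 2 ^ 5) = true := by decide +kernel

theorem c2l1b : (L0.lettersB e.k c2l1S && L0.RAct.fixB e.T c2l1S [c2l0.β] && Nat.blt c2l1.β e.N && Nat.ble c2l1.n 6) = true := by decide +kernel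

theorem df_0 : dfB 0 = true := by decide +kernel

theorem df_4 : dfB 4 = true := by decide +kernel

theorem df_11 : dfB 11 = true := by decide +kernel

theorem df_18 : dfB 18 = true := by decide +kernel

theorem df_49 : dfB 49 = true := by decide +kernel

theorem df_56 : dfB 56 = true := by decide +kernel

theorem stB : LB0.toLv.statB e.T e.N e.k [] = true := by decide +kernel

end Cfsg.Agent.H9.OLy
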