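import Cfsg.Agent.H9.OLyD

/-! Outer automorphisms of the group Ly. Checks. -/

set_option autoImplicit false
set_option maxRecDepth 100000

namespace Cfsg.Agent.H9.OLy

set_option Elab.async false

theorem rl15 : allL Rl15 (P.relB fun j => Mt (ren L0.LyFB.P.k (nat_lit 62) j)) = true := by decide +kernel

theorem df_69 : dfB 69 = true := by decide +kernel

theorem rl1 : allL Rl1 (P.relB fun j => Mt (ren L0.LyFB.P.k (nat_lit 62) j)) = true := by decide +kernel

theorem clB_77 : all2 (((([] :: CLB)).drop (77 * 4)).take 4) (clE e.U e.K X ([] :: CLB) (DB.DH ++ DB.DG)) clBq77 = true := by decide +kernel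

theorem clB_71 : all2 (((([] :: CLB)).drop (71 * 4)).take 4) (clE e.U e.K X ([] :: CLB) (DB.DH ++ DB.DG)) clBq71 = true := by decide +kernel

theorem sA_10 : all2 (((([] :: CLA)).drop (10 * 2)).take 2) (stgB e.U e.K X [] [DA.b] relA DB.b DB.b true false) sAq10 = true := by decide +kernel

theorem sB2_1 : all2 (((([] :: CLB)).drop (1 * 182)).take 182) (stgB e.U e.K X [DB.b, aw2] [DB.b, aw2] relB t2 t2 ([DB.b, aw2] == [DB.b, DA.b]) false) sB2q1 = true := by decide +kernel

theorem sB0_0 : all2 (((([] :: CLB)).drop (0 * 182)).take 182) (stgB e.U e.K X [DB.b, aw0] [DB.b, aw0] relB t2 t2 ([DB.b, aw0] == [DB.b, DA.b]) false) sB0q0 = true := by decide +kernel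

theorem df_64 : dfB 64 = true := by decide +kernel

theorem rB3x0c : DB.repB e X d3 rB3x0 = true := by decide +kernel

theorem clB_68 : all2 (((([] :: CLB)).drop (68 * 4)).take 4) (clE e.U e.K X ([] :: CLB) (DB.DH ++ DB.DG)) clBq68 = true := by decide +kernel

theorem slp_3 : allPow (below (nat_lit 3906) (slpB (mix L0.LyFB.P.k L0.LyFB.P.T T1) WH L0.LyFB.P.k)) 7 (3 * 2 ^ 7) = true := by decide +kernel

theorem slp_10 : allPow (below (nat_lit 3906) (slpB (mix L0.LyFB.P.k L0.LyFB.P.T T1) WH L0.LyFB.P.k)) 7 (10 * 2 ^ 7) = true := by decide +kernel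

theorem slp_17 : allPow (below (nat_lit 3906) (slpB (mix L0.LyFB.P.k L0.LyFB.P.T T1) WH L0.LyFB.P.k)) 7 (17 * 2 ^ 7) = true := by decide +kernel

theorem slp_24 : allPow (below (nat_lit 3906) (slpB (mix L0.LyFB.P.k L0.LyFB.P.T T1) WH L0.LyFB.P.k)) 7 (24 * 2 ^ 7) = true := by decide +kernel

theorem df_73 : dfB 73 = true := by decide +kernel

theorem sA_4 : all2 (((([] :: CLA)).drop (4 * 2)).take 2) (stgB e.U e.K X [] [DA.b] relA DB.b DB.b true false) sAq4 = true := by decide +kernel

theorem clB_39 : all2 (((([] :: CLB)).drop (39 * 4)).take 4) (clE e.U e.K X ([] :: CLB) (DB.DH ++ DB.DG)) clBq39 = true := by decide +kernel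

theorem clB_34 : all2 (((([] :: CLB)).drop (34 * 4)).take 4) (clE e.U e.K X ([] :: CLB) (DB.DH ++ DB.DG)) clBq34 = true := by decide +kernel

theorem clB_43 : all2 (((([] :: CLB)).drop (43 * 4)).take 4) (clE e.U e.K X ([] :: CLB) (DB.DH ++ DB.DG)) clBq43 = true := by decide +kernel

theorem rhB0_1 : allPow (below (nat_lit 3906) (rhB rhoB0)) 8 (1 * 2 ^ 8) = true := by decide +kernel

theorem rhB0_8 : allPow (below (nat_lit 3906) (rhB rhoB0)) 8 (8 * 2 ^ 8) = true := by decide +kernel

theorem rl14 : allL Rl14 (P.relB fun j => Mt (ren L0.LyFB.P.k (nat_lit 62) j)) = true := by decide +kernel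

theorem rl13 : allL Rl13 (P.relB fun j => Mt (ren L0.LyFB.P.k (nat_lit 62) j)) = true := by decide +kernel

theorem sA_8 : all2 (((([] :: CLA)).drop (8 * 2)).take 2) (stgB e.U e.K X [] [DA.b] relA DB.b DB.b true false) sAq8 = true := by decide +kernel

theorem clB_48 : all2 (((([] :: CLB)).drop (48 * 4)).take 4) (clE e.U e.K X ([] :: CLB) (DB.DH ++ DB.DG)) clBq48 = true := by decide +kernel

theorem clB_40 : all2 (((([] :: CLB)).drop (40 * 4)).take 4) (clE e.U e.K X ([] :: CLB) (DB.DH ++ DB.DG)) clBq40 = true := by decide +kernel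

theorem clB_27 : all2 (((([] :: CLB)).drop (27 * 4)).take 4) (clE e.U e.K X ([] :: CLB) (DB.DH ++ DB.DG)) clBq27 = true := by decide +kernel

theorem clB_19 : all2 (((([] :: CLB)).drop (19 * 4)).take 4) (clE e.U e.K X ([] :: CLB) (DB.DH ++ DB.DG)) clBq19 = true := by decide +kernel

theorem clB_22 : all2 (((([] :: CLB)).drop (22 * 4)).take 4) (clE e.U e.K X ([] :: CLB) (DB.DH ++ DB.DG)) clBq22 = true := by decide +kernel

theorem clB_8 : all2 (((([] :: CLB)).drop (8 * 4)).take 4) (clE e.U e.K X ([] :: CLB) (DB.DH ++ DB.DG)) clBq8 = true := by decide +kernel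

theorem df_68 : dfB 68 = true := by decide +kernel

theorem df_30 : dfB 30 = true := by decide +kernel

theorem clB_4 : all2 (((([] :: CLB)).drop (4 * 4)).take 4) (clE e.U e.K X ([] :: CLB) (DB.DH ++ DB.DG)) clBq4 = true := by decide +kernel

theorem df_67 : dfB 67 = true := by decide +kernel

theorem df_34 : dfB 34 = true := by decide +kernel

theorem df_65 : dfB 65 = true := by decide +kernel

theorem c2l0a : allL c2l0S (e.inT d2) = true := by decide +kernel

theorem v0l1b_0 : allPow (below (nat_lit 48) (e.orbB (Env.sing v0l1S) v0l1r v0l1 v0l1t (nat_lit 64))) 6 (0 * 2 ^ 6) = true := by decide +kernel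

theorem v3l0b_0 : allPow (below (nat_lit 37) (e.orbB (Env.sing v3l0S) v3l0r v3l0 v3l0t (nat_lit 64))) 6 (0 * 2 ^ 6) = true := by decide +kernel

theorem gBB : DB.gB e X = true := by decide +kernel

theorem v1l0a : (L0.lettersB e.K (Env.sing v1l0S) && Nat.blt v1l0.β e.M && Nat.ble v1l0.n 30 && Nat.blt (nat_lit 26) v1l0.n &&
    Nat.beq (Nat.land (v1l0r (nat_lit 26)) v1l0.pm) v1l0.β && e.subB v1l0S v1l1S v1l0.β) = true := by decide +kernel

theorem syA4 : DA.sylB e d4 cA4 = true := by decide +kernel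

theorem c2l2b : (L0.lettersB e.k c2l2S && L0.RAct.fixB e.T c2l2S [c2l1.β, c2l0.β] && Nat.blt c2l2.β e.N && Nat.ble c2l2.n 4) = true := by decide +kernel

theorem c2l1c_0 : allPow (below (nat_lit 6) (L0.levT e.T c2l1S c2l1r c2l1 e.N)) 3 (0 * 2 ^ 3) = true := by decide +kernel

theorem df_3 : dfB 3 = true := by decide +kernel

theorem df_10 : dfB 10 = true := by decide +kernel

theorem df_17 : dfB 17 = true := by decide +kernel

theorem df_48 : dfB 48 = true := by decide +kernel

theorem df_55 : dfB 55 = true := by decide +kernel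

theorem stA : LA0.toLv.statB e.T e.N e.k [] = true := by decide +kernel

end Cfsg.Agent.H9.OLy
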