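import Cfsg.Agent.H9.OLyD

/-! Outer automorphisms of the group Ly. Checks. -/

set_option autoImplicit false
set_option maxRecDepth 100000

namespace Cfsg.Agent.H9.OLy

set_option Elab.async false

theorem rl16 : allL Rl16 (P.relB fun j => Mt (ren L0.LyFB.P.k (nat_lit 62) j)) = true := by decide +kernel

theorem rl6 : allL Rl6 (P.relB fun j => Mt (ren L0.LyFB.P.k (nat_lit 62) j)) = true := by decide +kernel

theorem rl7 : allL Rl7 (P.relB fun j => Mt (ren L0.LyFB.P.k (nat_lit 62) j)) = true := by decide +kernel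

theorem sA_13 : all2 (((([] :: CLA)).drop (13 * 2)).take 2) (stgB e.U e.K X [] [DA.b] relA DB.b DB.b true false) sAq13 = true := by decide +kernel

theorem df_70 : dfB 70 = true := by decide +kernel

theorem df_74 : dfB 74 = true := by decide +kernel

theorem sB0_1 : all2 (((([] :: CLB)).drop (1 * 182)).take 182) (stgB e.U e.K X [DB.b, aw0] [DB.b, aw0] relB t2 t2 ([DB.b, aw0] == [DB.b, DA.b]) false) sB0q1 = true := by decide +kernel

theorem clB_70 : all2 (((([] :: CLB)).drop (70 * 4)).take 4) (clE e.U e.K X ([] :: CLB) (DB.DH ++ DB.DG)) clBq70 = true := by decide +kernel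

theorem sB3_0 : all2 (((([] :: CLB)).drop (0 * 182)).take 182) (stgB e.U e.K X [DB.b, aw3] [DB.b, aw3] relB t2 t2 ([DB.b, aw3] == [DB.b, DA.b]) false) sB3q0 = true := by decide +kernel

theorem bsc_2 : allPow (below (nat_lit 1008) (L0.levT e.U bsS bsr bs e.M)) 8 (2 * 2 ^ 8) = true := by decide +kernel

theorem clB_60 : all2 (((([] :: CLB)).drop (60 * 4)).take 4) (clE e.U e.K X ([] :: CLB) (DB.DH ++ DB.DG)) clBq60 = true := by decide +kernel

theorem slp_2 : allPow (below (nat_lit 3906) (slpB (mix L0.LyFB.P.k L0.LyFB.P.T T1) WH L0.LyFB.P.k)) 7 (2 * 2 ^ 7) = true := by decide +kernel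

theorem slp_9 : allPow (below (nat_lit 3906) (slpB (mix L0.LyFB.P.k L0.LyFB.P.T T1) WH L0.LyFB.P.k)) 7 (9 * 2 ^ 7) = true := by decide +kernel

theorem slp_16 : allPow (below (nat_lit 3906) (slpB (mix L0.LyFB.P.k L0.LyFB.P.T T1) WH L0.LyFB.P.k)) 7 (16 * 2 ^ 7) = true := by decide +kernel

theorem slp_23 : allPow (below (nat_lit 3906) (slpB (mix L0.LyFB.P.k L0.LyFB.P.T T1) WH L0.LyFB.P.k)) 7 (23 * 2 ^ 7) = true := by decide +kernel

theorem sA_12 : all2 (((([] :: CLA)).drop (12 * 2)).take 2) (stgB e.U e.K X [] [DA.b] relA DB.b DB.b true false) sAq12 = true := by decide +kernel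

theorem df_80 : dfB 80 = true := by decide +kernel

theorem clB_47 : all2 (((([] :: CLB)).drop (47 * 4)).take 4) (clE e.U e.K X ([] :: CLB) (DB.DH ++ DB.DG)) clBq47 = true := by decide +kernel

theorem sA_1 : all2 (((([] :: CLA)).drop (1 * 2)).take 2) (stgB e.U e.K X [] [DA.b] relA DB.b DB.b true false) sAq1 = true := by decide +kernel

theorem sA_6 : all2 (((([] :: CLA)).drop (6 * 2)).take 2) (stgB e.U e.K X [] [DA.b] relA DB.b DB.b true false) sAq6 = true := by decide +kernel

theorem rhB0_0 : allPow (below (nat_lit 3906) (rhB rhoB0)) 8 (0 * 2 ^ 8) = true := by decide +kernel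

theorem rhB0_7 : allPow (below (nat_lit 3906) (rhB rhoB0)) 8 (7 * 2 ^ 8) = true := by decide +kernel

theorem rhB0_14 : allPow (below (nat_lit 3906) (rhB rhoB0)) 8 (14 * 2 ^ 8) = true := by decide +kernel

theorem clB_46 : all2 (((([] :: CLB)).drop (46 * 4)).take 4) (clE e.U e.K X ([] :: CLB) (DB.DH ++ DB.DG)) clBq46 = true := by decide +kernel

theorem clB_36 : all2 (((([] :: CLB)).drop (36 * 4)).take 4) (clE e.U e.K X ([] :: CLB) (DB.DH ++ DB.DG)) clBq36 = true := by decide +kernel

theorem c1l0c_1 : allPow (below (nat_lit 3125) (L0.levT e.T c1l0S c1l0r c1l0 e.N)) 11 (1 * 2 ^ 11) = true := by decide +kernel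

theorem clB_24 : all2 (((([] :: CLB)).drop (24 * 4)).take 4) (clE e.U e.K X ([] :: CLB) (DB.DH ++ DB.DG)) clBq24 = true := by decide +kernel

theorem clB_15 : all2 (((([] :: CLB)).drop (15 * 4)).take 4) (clE e.U e.K X ([] :: CLB) (DB.DH ++ DB.DG)) clBq15 = true := by decide +kernel

theorem clB_17 : all2 (((([] :: CLB)).drop (17 * 4)).take 4) (clE e.U e.K X ([] :: CLB) (DB.DH ++ DB.DG)) clBq17 = true := by decide +kernel

theorem gn : e.genB X [t2, DB.b, DA.b] (nat_lit 144114088564228096) ((LB0 :: LBs).map SLv.toLv) zw (nat_lit 42) hu hv = true := by decide +kernel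

theorem df_40 : dfB 40 = true := by decide +kernel

theorem hP : P.ok2 = true := by decide +kernel

theorem sA_15 : all2 (((([] :: CLA)).drop (15 * 2)).take 2) (stgB e.U e.K X [] [DA.b] relA DB.b DB.b true false) sAq15 = true := by decide +kernel

theorem hBB : DB.hB e = true := by decide +kernel

theorem df_19 : dfB 19 = true := by decide +kernel

theorem df_21 : dfB 21 = true := by decide +kernel

theorem df_37 : dfB 37 = true := by decide +kernel

theorem c3l0a : allL c3l0S (e.inT d3) = true := by decide +kernel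

theorem c1l0a : allL c1l0S (e.inT d1) = true := by decide +kernel

theorem c2l3a : allL c2l3S (e.inT d2) = true := by decide +kernel

theorem c3l2a : allL c3l2S (e.inT d3) = true := by decide +kernel

theorem syA2 : DA.sylB e d2 cA2 = true := by decide +kernel

theorem c1l1b : (L0.lettersB e.k c1l1S && L0.RAct.fixB e.T c1l1S [c1l0.β] && Nat.blt c1l1.β e.N && Nat.ble c1l1.n 24) = true := by decide +kernel

theorem c3l1b : (L0.lettersB e.k c3l1S && L0.RAct.fixB e.T c3l1S [c3l0.β] && Nat.blt c3l1.β e.N && Nat.ble c3l1.n 20) = true := by decide +kernel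

theorem df_5 : dfB 5 = true := by decide +kernel

theorem df_12 : dfB 12 = true := by decide +kernel

theorem df_43 : dfB 43 = true := by decide +kernel

theorem df_50 : dfB 50 = true := by decide +kernel

theorem df_59 : dfB 59 = true := by decide +kernel

theorem c1l2c_0 : allPow (below (nat_lit 4) (L0.levT e.T c1l2S c1l2r c1l2 e.N)) 2 (0 * 2 ^ 2) = true := by decide +kernel

theorem c3l2c_0 : allPow (below (nat_lit 4) (L0.levT e.T c3l2S c3l2r c3l2 e.N)) 2 (0 * 2 ^ 2) = true := by decide +kernel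

end Cfsg.Agent.H9.OLy
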