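import Cfsg.Agent.H9.OLyD

/-! Outer automorphisms of the group Ly. Checks. -/

set_option autoImplicit false
set_option maxRecDepth 100000

namespace Cfsg.Agent.H9.OLy

set_option Elab.async false

theorem rl18 : allL Rl18 (P.relB fun j => Mt (ren L0.LyFB.P.k (nat_lit 62) j)) = true := by decide +kernel

theorem rl4 : allL Rl4 (P.relB fun j => Mt (ren L0.LyFB.P.k (nat_lit 62) j)) = true := by decide +kernel

theorem clB_78 : all2 (((([] :: CLB)).drop (78 * 4)).take 4) (clE e.U e.K X ([] :: CLB) (DB.DH ++ DB.DG)) clBq78 = true := by decide +kernel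

theorem e2 : (slpW WH L0.LyFB.P.k && Nat.beq (L0.LyFB.P.k + WH.length) (nat_lit 62) && slpW WG ((nat_lit 62) + 2) &&
      Nat.beq ((nat_lit 62) + 2 + WG.length) (nat_lit 82) && P.topB (nat_lit 7) E0 &&
      (allLt (L0.LyFB.P.k + 2) fun j => !(Nat.beq (Mt (ren L0.LyFB.P.k (nat_lit 62) j)) 0) && P.okV (Mt (ren L0.LyFB.P.k (nat_lit 62) j))) &&
      (allLt L0.LyFB.P.k fun j => P.inW (nat_lit 7) (P.tabF Mt (mkDf L0.LyFB.P.k (nat_lit 62) WH WG) (nat_lit 82) E0 j)) &&
      (allL Wd fun d => (mkEnv P 3906 L0.LyFB.P.k (nat_lit 62) (nat_lit 82) (mix L0.LyFB.P.k L0.LyFB.P.T T1) L0.LyFB.P.bs Mt WH WG E0 (nat_lit 7)).dcB d &&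
        !(P.inW (nat_lit 7) (tr (P.tabF Mt (mkDf L0.LyFB.P.k (nat_lit 62) WH WG) (nat_lit 82)) d.w E0))) &&
      L0.LyClo.L.all fun i => L0.LyFB.P.W i == [] || ((L0.LyFB.P.W i).all (fun a => decide (a < L0.LyFB.P.k + 2)) &&
        Wd.any fun d => d.w == (L0.LyFB.P.W i).map (ren L0.LyFB.P.k (nat_lit 62)))) = true := by decide +kernel

theorem rl11 : allL Rl11 (P.relB fun j => Mt (ren L0.LyFB.P.k (nat_lit 62) j)) = true := by decide +kernel

theorem c1l0c_0 : allPow (below (nat_lit 3125) (L0.levT e.T c1l0S c1l0r c1l0 e.N)) 11 (0 * 2 ^ 11) = true := by decide +kernel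

theorem clB_65 : all2 (((([] :: CLB)).drop (65 * 4)).take 4) (clE e.U e.K X ([] :: CLB) (DB.DH ++ DB.DG)) clBq65 = true := by decide +kernel

theorem clB_55 : all2 (((([] :: CLB)).drop (55 * 4)).take 4) (clE e.U e.K X ([] :: CLB) (DB.DH ++ DB.DG)) clBq55 = true := by decide +kernel

theorem sB2_0 : all2 (((([] :: CLB)).drop (0 * 182)).take 182) (stgB e.U e.K X [DB.b, aw2] [DB.b, aw2] relB t2 t2 ([DB.b, aw2] == [DB.b, DA.b]) false) sB2q0 = true := by decide +kernel

theorem bsc_1 : allPow (below (nat_lit 1008) (L0.levT e.U bsS bsr bs e.M)) 8 (1 * 2 ^ 8) = true := by decide +kernel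

theorem clB_57 : all2 (((([] :: CLB)).drop (57 * 4)).take 4) (clE e.U e.K X ([] :: CLB) (DB.DH ++ DB.DG)) clBq57 = true := by decide +kernel

theorem slp_0 : allPow (below (nat_lit 3906) (slpB (mix L0.LyFB.P.k L0.LyFB.P.T T1) WH L0.LyFB.P.k)) 7 (0 * 2 ^ 7) = true := by decide +kernel

theorem slp_7 : allPow (below (nat_lit 3906) (slpB (mix L0.LyFB.P.k L0.LyFB.P.T T1) WH L0.LyFB.P.k)) 7 (7 * 2 ^ 7) = true := by decide +kernel

theorem slp_14 : allPow (below (nat_lit 3906) (slpB (mix L0.LyFB.P.k L0.LyFB.P.T T1) WH L0.LyFB.P.k)) 7 (14 * 2 ^ 7) = true := by decide +kernel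

theorem slp_21 : allPow (below (nat_lit 3906) (slpB (mix L0.LyFB.P.k L0.LyFB.P.T T1) WH L0.LyFB.P.k)) 7 (21 * 2 ^ 7) = true := by decide +kernel

theorem slp_28 : allPow (below (nat_lit 3906) (slpB (mix L0.LyFB.P.k L0.LyFB.P.T T1) WH L0.LyFB.P.k)) 7 (28 * 2 ^ 7) = true := by decide +kernel

theorem rl5 : allL Rl5 (P.relB fun j => Mt (ren L0.LyFB.P.k (nat_lit 62) j)) = true := by decide +kernel

theorem clB_37 : all2 (((([] :: CLB)).drop (37 * 4)).take 4) (clE e.U e.K X ([] :: CLB) (DB.DH ++ DB.DG)) clBq37 = true := by decide +kernel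

theorem rB4x0c : DB.repB e X d4 rB4x0 = true := by decide +kernel

theorem clB_54 : all2 (((([] :: CLB)).drop (54 * 4)).take 4) (clE e.U e.K X ([] :: CLB) (DB.DH ++ DB.DG)) clBq54 = true := by decide +kernel

theorem scB_0 : allPow (below (nat_lit 3906) (scanB e.T iv (tr e.T DB.y) LB0 LBs [])) 11 (0 * 2 ^ 11) = true := by decide +kernel

theorem rhB0_5 : allPow (below (nat_lit 3906) (rhB rhoB0)) 8 (5 * 2 ^ 8) = true := by decide +kernel

theorem rhB0_12 : allPow (below (nat_lit 3906) (rhB rhoB0)) 8 (12 * 2 ^ 8) = true := by decide +kernel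

theorem clB_30 : all2 (((([] :: CLB)).drop (30 * 4)).take 4) (clE e.U e.K X ([] :: CLB) (DB.DH ++ DB.DG)) clBq30 = true := by decide +kernel

theorem ptA_1 : allPow (below (nat_lit 3906) (LA0.toLv.ptB e.T e.N)) 11 (1 * 2 ^ 11) = true := by decide +kernel

theorem clB_41 : all2 (((([] :: CLB)).drop (41 * 4)).take 4) (clE e.U e.K X ([] :: CLB) (DB.DH ++ DB.DG)) clBq41 = true := by decide +kernel

theorem clB_31 : all2 (((([] :: CLB)).drop (31 * 4)).take 4) (clE e.U e.K X ([] :: CLB) (DB.DH ++ DB.DG)) clBq31 = true := by decide +kernel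

theorem clB_25 : all2 (((([] :: CLB)).drop (25 * 4)).take 4) (clE e.U e.K X ([] :: CLB) (DB.DH ++ DB.DG)) clBq25 = true := by decide +kernel

theorem df_58 : dfB 58 = true := by decide +kernel

theorem sA_2 : all2 (((([] :: CLA)).drop (2 * 2)).take 2) (stgB e.U e.K X [] [DA.b] relA DB.b DB.b true false) sAq2 = true := by decide +kernel

theorem df_76 : dfB 76 = true := by decide +kernel

theorem df_32 : dfB 32 = true := by decide +kernel

theorem clB_5 : all2 (((([] :: CLB)).drop (5 * 4)).take 4) (clE e.U e.K X ([] :: CLB) (DB.DH ++ DB.DG)) clBq5 = true := by decide +kernel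

theorem clB_2 : all2 (((([] :: CLB)).drop (2 * 4)).take 4) (clE e.U e.K X ([] :: CLB) (DB.DH ++ DB.DG)) clBq2 = true := by decide +kernel

theorem rhB0_15 : allPow (below (nat_lit 3906) (rhB rhoB0)) 8 (15 * 2 ^ 8) = true := by decide +kernel

theorem df_33 : dfB 33 = true := by decide +kernel

theorem df_28 : dfB 28 = true := by decide +kernel

theorem bsa : allL bsS (e.inT d4) = true := by decide +kernel

theorem c1l1a : allL c1l1S (e.inT d1) = true := by decide +kernel

theorem c1l2a : allL c1l2S (e.inT d1) = true := by decide +kernel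

theorem v0l0a : (L0.lettersB e.K (Env.sing v0l0S) && Nat.blt v0l0.β e.M && Nat.ble v0l0.n 48 && Nat.blt (nat_lit 6) v0l0.n &&
    Nat.beq (Nat.land (v0l0r (nat_lit 6)) v0l0.pm) v0l0.β && e.subB v0l0S v0l1S v0l0.β) = true := by decide +kernel

theorem v1l1a : (L0.lettersB e.K (Env.sing v1l1S) && Nat.blt v1l1.β e.M && Nat.ble v1l1.n 54 && Nat.blt (nat_lit 27) v1l1.n &&
    Nat.beq (Nat.land (v1l1r (nat_lit 27)) v1l1.pm) v1l1.β && e.subB v1l1S v1l2S v1l1.β) = true := by decide +kernel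

theorem syA3 : DA.sylB e d3 cA3 = true := by decide +kernel

theorem c1l0b : (L0.lettersB e.k c1l0S && L0.RAct.fixB e.T c1l0S [] && Nat.blt c1l0.β e.N && Nat.ble c1l0.n 3125) = true := by decide +kernel

theorem c3l0b : (L0.lettersB e.k c3l0S && L0.RAct.fixB e.T c3l0S [] && Nat.blt c3l0.β e.N && Nat.ble c3l0.n 36) = true := by decide +kernel

theorem df_7 : dfB 7 = true := by decide +kernel

theorem df_14 : dfB 14 = true := by decide +kernel

theorem df_45 : dfB 45 = true := by decide +kernel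

theorem df_52 : dfB 52 = true := by decide +kernel

theorem df_61 : dfB 61 = true := by decide +kernel

theorem c2l2c_0 : allPow (below (nat_lit 4) (L0.levT e.T c2l2S c2l2r c2l2 e.N)) 2 (0 * 2 ^ 2) = true := by decide +kernel

end Cfsg.Agent.H9.OLy
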