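import Cfsg.Agent.H9.OLyD

/-! Outer automorphisms of the group Ly. Checks. -/

set_option autoImplicit false
set_option maxRecDepth 100000

namespace Cfsg.Agent.H9.OLy

set_option Elab.async false

theorem cbB : chainB e.T e.N e.k (LBs.map SLv.toLv) [LB0.toLv.β] = true := by decide +kernel

theorem rl0 : allL Rl0 (P.relB fun j => Mt (ren L0.LyFB.P.k (nat_lit 62) j)) = true := by decide +kernel

theorem syB2 : DB.sylB e d2 cB2 = true := by decide +kernel

theorem rl9 : allL Rl9 (P.relB fun j => Mt (ren L0.LyFB.P.k (nat_lit 62) j)) = true := by decide +kernel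

theorem rl10 : allL Rl10 (P.relB fun j => Mt (ren L0.LyFB.P.k (nat_lit 62) j)) = true := by decide +kernel

theorem clB_76 : all2 (((([] :: CLB)).drop (76 * 4)).take 4) (clE e.U e.K X ([] :: CLB) (DB.DH ++ DB.DG)) clBq76 = true := by decide +kernel

theorem clB_52 : all2 (((([] :: CLB)).drop (52 * 4)).take 4) (clE e.U e.K X ([] :: CLB) (DB.DH ++ DB.DG)) clBq52 = true := by decide +kernel

theorem sB4_1 : all2 (((([] :: CLB)).drop (1 * 182)).take 182) (stgB e.U e.K X [DB.b, aw4] [DB.b, aw4] relB t2 t2 ([DB.b, aw4] == [DB.b, DA.b]) false) sB4q1 = true := by decide +kernel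

theorem sB1_0 : all2 (((([] :: CLB)).drop (0 * 182)).take 182) (stgB e.U e.K X [DB.b, aw1] [DB.b, aw1] relB t2 t2 ([DB.b, aw1] == [DB.b, DA.b]) false) sB1q0 = true := by decide +kernel

theorem bsc_0 : allPow (below (nat_lit 1008) (L0.levT e.U bsS bsr bs e.M)) 8 (0 * 2 ^ 8) = true := by decide +kernel

theorem clB_49 : all2 (((([] :: CLB)).drop (49 * 4)).take 4) (clE e.U e.K X ([] :: CLB) (DB.DH ++ DB.DG)) clBq49 = true := by decide +kernel

theorem bsc_3 : allPow (below (nat_lit 1008) (L0.levT e.U bsS bsr bs e.M)) 8 (3 * 2 ^ 8) = true := by decide +kernel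

theorem slp_6 : allPow (below (nat_lit 3906) (slpB (mix L0.LyFB.P.k L0.LyFB.P.T T1) WH L0.LyFB.P.k)) 7 (6 * 2 ^ 7) = true := by decide +kernel

theorem slp_13 : allPow (below (nat_lit 3906) (slpB (mix L0.LyFB.P.k L0.LyFB.P.T T1) WH L0.LyFB.P.k)) 7 (13 * 2 ^ 7) = true := by decide +kernel

theorem slp_20 : allPow (below (nat_lit 3906) (slpB (mix L0.LyFB.P.k L0.LyFB.P.T T1) WH L0.LyFB.P.k)) 7 (20 * 2 ^ 7) = true := by decide +kernel

theorem slp_27 : allPow (below (nat_lit 3906) (slpB (mix L0.LyFB.P.k L0.LyFB.P.T T1) WH L0.LyFB.P.k)) 7 (27 * 2 ^ 7) = true := by decide +kernel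

theorem clB_56 : all2 (((([] :: CLB)).drop (56 * 4)).take 4) (clE e.U e.K X ([] :: CLB) (DB.DH ++ DB.DG)) clBq56 = true := by decide +kernel

theorem sA_9 : all2 (((([] :: CLA)).drop (9 * 2)).take 2) (stgB e.U e.K X [] [DA.b] relA DB.b DB.b true false) sAq9 = true := by decide +kernel

theorem clB_44 : all2 (((([] :: CLB)).drop (44 * 4)).take 4) (clE e.U e.K X ([] :: CLB) (DB.DH ++ DB.DG)) clBq44 = true := by decide +kernel

theorem clB_51 : all2 (((([] :: CLB)).drop (51 * 4)).take 4) (clE e.U e.K X ([] :: CLB) (DB.DH ++ DB.DG)) clBq51 = true := by decide +kernel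

theorem clB_50 : all2 (((([] :: CLB)).drop (50 * 4)).take 4) (clE e.U e.K X ([] :: CLB) (DB.DH ++ DB.DG)) clBq50 = true := by decide +kernel

theorem rhB0_6 : allPow (below (nat_lit 3906) (rhB rhoB0)) 8 (6 * 2 ^ 8) = true := by decide +kernel

theorem rhB0_13 : allPow (below (nat_lit 3906) (rhB rhoB0)) 8 (13 * 2 ^ 8) = true := by decide +kernel

theorem scA_1 : allPow (below (nat_lit 3906) (scanB e.T iv (tr e.T DA.y) LA0 LAs [])) 11 (1 * 2 ^ 11) = true := by decide +kernel

theorem clB_28 : all2 (((([] :: CLB)).drop (28 * 4)).take 4) (clE e.U e.K X ([] :: CLB) (DB.DH ++ DB.DG)) clBq28 = true := by decide +kernel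

theorem hsB : (invB e.T e.k e.B iv && ltB e.k DB.y && statSB e.T e.k e.B DB.y (LB0 :: LBs) [] &&
    DB.linkB (LB0 :: LBs) && centB e.T iv (tr e.T DB.y) LBs (genP (tr e.T DB.y) [] LB0.xs LB0.β) &&
    allL DB.rho (ltB e.k)) = true := by decide +kernel

theorem clB_29 : all2 (((([] :: CLB)).drop (29 * 4)).take 4) (clE e.U e.K X ([] :: CLB) (DB.DH ++ DB.DG)) clBq29 = true := by decide +kernel

theorem clB_26 : all2 (((([] :: CLB)).drop (26 * 4)).take 4) (clE e.U e.K X ([] :: CLB) (DB.DH ++ DB.DG)) clBq26 = true := by decide +kernel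

theorem df_77 : dfB 77 = true := by decide +kernel

theorem clB_13 : all2 (((([] :: CLB)).drop (13 * 4)).take 4) (clE e.U e.K X ([] :: CLB) (DB.DH ++ DB.DG)) clBq13 = true := by decide +kernel

theorem clB_16 : all2 (((([] :: CLB)).drop (16 * 4)).take 4) (clE e.U e.K X ([] :: CLB) (DB.DH ++ DB.DG)) clBq16 = true := by decide +kernel

theorem ab : abB e.U e.K X DA.b DB.b 31 6 (8835156 * 5859000000) reps relA = true := by decide +kernel

theorem clB_7 : all2 (((([] :: CLB)).drop (7 * 4)).take 4) (clE e.U e.K X ([] :: CLB) (DB.DH ++ DB.DG)) clBq7 = true := by decide +kernel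

theorem clB_3 : all2 (((([] :: CLB)).drop (3 * 4)).take 4) (clE e.U e.K X ([] :: CLB) (DB.DH ++ DB.DG)) clBq3 = true := by decide +kernel

theorem df_38 : dfB 38 = true := by decide +kernel

theorem df_27 : dfB 27 = true := by decide +kernel

theorem clB_1 : all2 (((([] :: CLB)).drop (1 * 4)).take 4) (clE e.U e.K X ([] :: CLB) (DB.DH ++ DB.DG)) clBq1 = true := by decide +kernel

theorem v1l1b_0 : allPow (below (nat_lit 54) (e.orbB (Env.sing v1l1S) v1l1r v1l1 v1l1t (nat_lit 64))) 6 (0 * 2 ^ 6) = true := by decide +kernel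

theorem v0l0b_0 : allPow (below (nat_lit 48) (e.orbB (Env.sing v0l0S) v0l0r v0l0 v0l0t (nat_lit 64))) 6 (0 * 2 ^ 6) = true := by decide +kernel

theorem c2l2a : allL c2l2S (e.inT d2) = true := by decide +kernel

theorem syB1 : DB.sylB e d1 cB1 = true := by decide +kernel

theorem v4l0a : (L0.lettersB e.K (Env.sing v4l0S) && Nat.blt v4l0.β e.M && Nat.ble v4l0.n 67 && Nat.blt (nat_lit 6) v4l0.n &&
    Nat.beq (Nat.land (v4l0r (nat_lit 6)) v4l0.pm) v4l0.β && e.subB v4l0S [] v4l0.β) = true := by decide +kernel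

theorem c3l1c_0 : allPow (below (nat_lit 20) (L0.levT e.T c3l1S c3l1r c3l1 e.N)) 5 (0 * 2 ^ 5) = true := by decide +kernel

theorem c2l3b : (L0.lettersB e.k c2l3S && L0.RAct.fixB e.T c2l3S [c2l2.β, c2l1.β, c2l0.β] && Nat.blt c2l3.β e.N && Nat.ble c2l3.n 4) = true := by decide +kernel

theorem bsb : (L0.lettersB e.k bsS && L0.RAct.fixB e.U bsS [] && Nat.blt bs.β e.M && Nat.ble bs.n 1008) = true := by decide +kernel

theorem df_8 : dfB 8 = true := by decide +kernel

theorem df_15 : dfB 15 = true := by decide +kernel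

theorem df_46 : dfB 46 = true := by decide +kernel

theorem df_53 : dfB 53 = true := by decide +kernel

theorem df_62 : dfB 62 = true := by decide +kernel

end Cfsg.Agent.H9.OLy
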