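import Cfsg.Agent.H9.OLyD

/-! Outer automorphisms of the group Ly. Checks. -/

set_option autoImplicit false
set_option maxRecDepth 100000

namespace Cfsg.Agent.H9.OLy

set_option Elab.async false

theorem rB4x1c : DB.repB e X d4 rB4x1 = true := by decide +kernel

theorem rl2 : allL Rl2 (P.relB fun j => Mt (ren L0.LyFB.P.k (nat_lit 62) j)) = true := by decide +kernel

theorem clB_80 : all2 (((([] :: CLB)).drop (80 * 4)).take 4) (clE e.U e.K X ([] :: CLB) (DB.DH ++ DB.DG)) clBq80 = true := by decide +kernel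

theorem rl3 : allL Rl3 (P.relB fun j => Mt (ren L0.LyFB.P.k (nat_lit 62) j)) = true := by decide +kernel

theorem clB_73 : all2 (((([] :: CLB)).drop (73 * 4)).take 4) (clE e.U e.K X ([] :: CLB) (DB.DH ++ DB.DG)) clBq73 = true := by decide +kernel

theorem clB_74 : all2 (((([] :: CLB)).drop (74 * 4)).take 4) (clE e.U e.K X ([] :: CLB) (DB.DH ++ DB.DG)) clBq74 = true := by decide +kernel

theorem clB_66 : all2 (((([] :: CLB)).drop (66 * 4)).take 4) (clE e.U e.K X ([] :: CLB) (DB.DH ++ DB.DG)) clBq66 = true := by decide +kernel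

theorem sB3_1 : all2 (((([] :: CLB)).drop (1 * 182)).take 182) (stgB e.U e.K X [DB.b, aw3] [DB.b, aw3] relB t2 t2 ([DB.b, aw3] == [DB.b, DA.b]) false) sB3q1 = true := by decide +kernel

theorem clB_67 : all2 (((([] :: CLB)).drop (67 * 4)).take 4) (clE e.U e.K X ([] :: CLB) (DB.DH ++ DB.DG)) clBq67 = true := by decide +kernel

theorem df_81 : dfB 81 = true := by decide +kernel

theorem sA_7 : all2 (((([] :: CLA)).drop (7 * 2)).take 2) (stgB e.U e.K X [] [DA.b] relA DB.b DB.b true false) sAq7 = true := by decide +kernel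

theorem clB_53 : all2 (((([] :: CLB)).drop (53 * 4)).take 4) (clE e.U e.K X ([] :: CLB) (DB.DH ++ DB.DG)) clBq53 = true := by decide +kernel

theorem slp_5 : allPow (below (nat_lit 3906) (slpB (mix L0.LyFB.P.k L0.LyFB.P.T T1) WH L0.LyFB.P.k)) 7 (5 * 2 ^ 7) = true := by decide +kernel

theorem slp_12 : allPow (below (nat_lit 3906) (slpB (mix L0.LyFB.P.k L0.LyFB.P.T T1) WH L0.LyFB.P.k)) 7 (12 * 2 ^ 7) = true := by decide +kernel

theorem slp_19 : allPow (below (nat_lit 3906) (slpB (mix L0.LyFB.P.k L0.LyFB.P.T T1) WH L0.LyFB.P.k)) 7 (19 * 2 ^ 7) = true := by decide +kernel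

theorem slp_26 : allPow (below (nat_lit 3906) (slpB (mix L0.LyFB.P.k L0.LyFB.P.T T1) WH L0.LyFB.P.k)) 7 (26 * 2 ^ 7) = true := by decide +kernel

theorem clB_63 : all2 (((([] :: CLB)).drop (63 * 4)).take 4) (clE e.U e.K X ([] :: CLB) (DB.DH ++ DB.DG)) clBq63 = true := by decide +kernel

theorem clB_62 : all2 (((([] :: CLB)).drop (62 * 4)).take 4) (clE e.U e.K X ([] :: CLB) (DB.DH ++ DB.DG)) clBq62 = true := by decide +kernel

theorem clB_38 : all2 (((([] :: CLB)).drop (38 * 4)).take 4) (clE e.U e.K X ([] :: CLB) (DB.DH ++ DB.DG)) clBq38 = true := by decide +kernel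

theorem rB2x0c : DB.repB e X d2 rB2x0 = true := by decide +kernel

theorem scA_0 : allPow (below (nat_lit 3906) (scanB e.T iv (tr e.T DA.y) LA0 LAs [])) 11 (0 * 2 ^ 11) = true := by decide +kernel

theorem rhB0_4 : allPow (below (nat_lit 3906) (rhB rhoB0)) 8 (4 * 2 ^ 8) = true := by decide +kernel

theorem rhB0_11 : allPow (below (nat_lit 3906) (rhB rhoB0)) 8 (11 * 2 ^ 8) = true := by decide +kernel

theorem clB_42 : all2 (((([] :: CLB)).drop (42 * 4)).take 4) (clE e.U e.K X ([] :: CLB) (DB.DH ++ DB.DG)) clBq42 = true := by decide +kernel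

theorem clB_32 : all2 (((([] :: CLB)).drop (32 * 4)).take 4) (clE e.U e.K X ([] :: CLB) (DB.DH ++ DB.DG)) clBq32 = true := by decide +kernel

theorem clB_23 : all2 (((([] :: CLB)).drop (23 * 4)).take 4) (clE e.U e.K X ([] :: CLB) (DB.DH ++ DB.DG)) clBq23 = true := by decide +kernel

theorem df_57 : dfB 57 = true := by decide +kernel

theorem df_42 : dfB 42 = true := by decide +kernel

theorem clB_9 : all2 (((([] :: CLB)).drop (9 * 4)).take 4) (clE e.U e.K X ([] :: CLB) (DB.DH ++ DB.DG)) clBq9 = true := by decide +kernel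

theorem clB_12 : all2 (((([] :: CLB)).drop (12 * 4)).take 4) (clE e.U e.K X ([] :: CLB) (DB.DH ++ DB.DG)) clBq12 = true := by decide +kernel

theorem clB_10 : all2 (((([] :: CLB)).drop (10 * 4)).take 4) (clE e.U e.K X ([] :: CLB) (DB.DH ++ DB.DG)) clBq10 = true := by decide +kernel

theorem clB_6 : all2 (((([] :: CLB)).drop (6 * 4)).take 4) (clE e.U e.K X ([] :: CLB) (DB.DH ++ DB.DG)) clBq6 = true := by decide +kernel

theorem syB4 : DB.sylB e d4 cB4 = true := by decide +kernel

theorem syB3 : DB.sylB e d3 cB3 = true := by decide +kernel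

theorem df_20 : dfB 20 = true := by decide +kernel

theorem df_22 : dfB 22 = true := by decide +kernel

theorem df_66 : dfB 66 = true := by decide +kernel

theorem c2l1a : allL c2l1S (e.inT d2) = true := by decide +kernel

theorem clB_0 : all2 (((([] :: CLB)).drop (0 * 4)).take 4) (clE e.U e.K X ([] :: CLB) (DB.DH ++ DB.DG)) clBq0 = true := by decide +kernel

theorem c2l0c_0 : allPow (below (nat_lit 63) (L0.levT e.T c2l0S c2l0r c2l0 e.N)) 6 (0 * 2 ^ 6) = true := by decide +kernel

theorem r0 : eqW e.U e.K X (DB.b ++ t2) (t2 ++ rp 1 DB.b) = true := by decide +kernel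

theorem v3l0a : (L0.lettersB e.K (Env.sing v3l0S) && Nat.blt v3l0.β e.M && Nat.ble v3l0.n 37 && Nat.blt (nat_lit 36) v3l0.n &&
    Nat.beq (Nat.land (v3l0r (nat_lit 36)) v3l0.pm) v3l0.β && e.subB v3l0S [] v3l0.β) = true := by decide +kernel

theorem v2l0b_0 : allPow (below (nat_lit 11) (e.orbB (Env.sing v2l0S) v2l0r v2l0 v2l0t (nat_lit 16))) 4 (0 * 2 ^ 4) = true := by decide +kernel

theorem c2l0b : (L0.lettersB e.k c2l0S && L0.RAct.fixB e.T c2l0S [] && Nat.blt c2l0.β e.N && Nat.ble c2l0.n 63) = true := by decide +kernel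

theorem df_1 : dfB 1 = true := by decide +kernel

theorem df_6 : dfB 6 = true := by decide +kernel

theorem df_13 : dfB 13 = true := by decide +kernel

theorem df_44 : dfB 44 = true := by decide +kernel

theorem df_51 : dfB 51 = true := by decide +kernel

theorem df_60 : dfB 60 = true := by decide +kernel

theorem c2l3c_0 : allPow (below (nat_lit 4) (L0.levT e.T c2l3S c2l3r c2l3 e.N)) 2 (0 * 2 ^ 2) = true := by decide +kernel

theorem gBA : DA.gB e X = true := by decide +kernel

end Cfsg.Agent.H9.OLy
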