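import Cfsg.Agent.H9.OLyC0
import Cfsg.Agent.H9.OLyC1
import Cfsg.Agent.H9.OLyC2
import Cfsg.Agent.H9.OLyC3
import Cfsg.Agent.H9.OLyC4
import Cfsg.Agent.H9.OLyC5
import Cfsg.Agent.H9.OLyC6

/-! Outer automorphisms of the group Ly. -/

set_option autoImplicit false
set_option maxRecDepth 100000

namespace Cfsg.Agent.H9.OLy

theorem slp_a0 : ∀ j < 30, allPow (below (nat_lit 3906) (slpB (mix L0.LyFB.P.k L0.LyFB.P.T T1) WH L0.LyFB.P.k)) 7 (j * 2 ^ 7) = true :=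
  (forall_lt_succ'' (forall_lt_succ'' (forall_lt_succ'' (forall_lt_succ'' (forall_lt_succ'' (forall_lt_succ'' (forall_lt_succ'' (forall_lt_succ'' (forall_lt_succ'' (forall_lt_succ'' (forall_lt_succ'' (forall_lt_succ'' (forall_lt_succ'' (forall_lt_succ'' (forall_lt_succ'' (forall_lt_succ'' (forall_lt_succ'' (forall_lt_succ'' (forall_lt_succ'' (forall_lt_succ'' (forall_lt_succ'' (forall_lt_succ'' (forall_lt_succ'' (forall_lt_succ'' (forall_lt_succ'' (forall_lt_succ'' (forall_lt_succ'' (forall_lt_succ'' (forall_lt_succ'' (forall_lt_succ'' forall_lt_zero'' slp_0) slp_1) slp_2) slp_3) slp_4) slp_5) slp_6) slp_7) slp_8) slp_9) slp_10) slp_11) slp_12) slp_13) slp_14) slp_15) slp_16) slp_17) slp_18) slp_19) slp_20) slp_21) slp_22) slp_23) slp_24) slp_25) slp_26) slp_27) slp_28) slp_29)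

theorem slp : ∀ i < 3906, (slpB (mix L0.LyFB.P.k L0.LyFB.P.T T1) WH L0.LyFB.P.k) i = true :=
  all_of_blocks (d := 7) (m := 31) (by decide) (forall_lt_succ'' slp_a0 slp_30)

theorem rel : ∀ r ∈ Rl, P.relB (fun j => Mt (ren L0.LyFB.P.k (nat_lit 62) j)) r = true :=
  List.forall_mem_append.mpr ⟨(allL_iff _ _).mp rl0, List.forall_mem_append.mpr ⟨(allL_iff _ _).mp rl1, List.forall_mem_append.mpr ⟨(allL_iff _ _).mp rl2, List.forall_mem_append.mpr ⟨(allL_iff _ _).mp rl3, List.forall_mem_append.mpr ⟨(allL_iff _ _).mp rl4, List.forall_mem_append.mpr ⟨(allL_iff _ _).mp rl5, List.forall_mem_append.mpr ⟨(allL_iff _ _).mp rl6, List.forall_mem_append.mpr ⟨(allL_iff _ _).mp rl7, List.forall_mem_append.mpr ⟨(allL_iff _ _).mp rl8, List.forall_mem_append.mpr ⟨(allL_iff _ _).mp rl9, List.forall_mem_append.mpr ⟨(allL_iff _ _).mp rl10, List.forall_mem_append.mpr ⟨(allL_iff _ _).mp rl11, List.forall_mem_append.mpr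 ⟨(allL_iff _ _).mp rl12, List.forall_mem_append.mpr ⟨(allL_iff _ _).mp rl13, List.forall_mem_append.mpr ⟨(allL_iff _ _).mp rl14, List.forall_mem_append.mpr ⟨(allL_iff _ _).mp rl15, List.forall_mem_append.mpr ⟨(allL_iff _ _).mp rl16, List.forall_mem_append.mpr ⟨(allL_iff _ _).mp rl17, (allL_iff _ _).mp rl18⟩⟩⟩⟩⟩⟩⟩⟩⟩⟩⟩⟩⟩⟩⟩⟩⟩⟩

theorem df_a0 : ∀ j < 30, dfB j = true :=
  (forall_lt_succ'' (forall_lt_succ'' (forall_lt_succ'' (forall_lt_succ'' (forall_lt_succ'' (forall_lt_succ'' (forall_lt_succ'' (forall_lt_succ'' (forall_lt_succ'' (forall_lt_succ'' (forall_lt_succ'' (forall_lt_succ'' (forall_lt_succ'' (forall_lt_succ'' (forall_lt_succ'' (forall_lt_succ'' (forall_lt_succ'' (forall_lt_succ'' (forall_lt_succ'' (forall_lt_succ'' (forall_lt_succ'' (forall_lt_succ'' (forall_lt_succ'' (forall_lt_succ'' (forall_lt_succ'' (forall_lt_succ'' (forall_lt_succ'' (forall_lt_succ'' (forall_lt_succ'' (forall_lt_succ''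 forall_lt_zero'' df_0) df_1) df_2) df_3) df_4) df_5) df_6) df_7) df_8) df_9) df_10) df_11) df_12) df_13) df_14) df_15) df_16) df_17) df_18) df_19) df_20) df_21) df_22) df_23) df_24) df_25) df_26) df_27) df_28) df_29)

theorem df_a30 : ∀ j < 60, dfB j = true :=
  (forall_lt_succ'' (forall_lt_succ'' (forall_lt_succ'' (forall_lt_succ'' (forall_lt_succ'' (forall_lt_succ'' (forall_lt_succ'' (forall_lt_succ'' (forall_lt_succ'' (forall_lt_succ'' (forall_lt_succ'' (forall_lt_succ'' (forall_lt_succ'' (forall_lt_succ'' (forall_lt_succ'' (forall_lt_succ'' (forall_lt_succ'' (forall_lt_succ'' (forall_lt_succ'' (forall_lt_succ'' (forall_lt_succ'' (forall_lt_succ'' (forall_lt_succ'' (forall_lt_succ'' (forall_lt_succ'' (forall_lt_succ'' (forall_lt_succ'' (forall_lt_succ'' (forall_lt_succ'' (forall_lt_succ'' df_a0 df_30) df_31) df_32) df_33) df_34) df_35) df_36) df_37) df_38) df_39) df_40) df_41) df_42) df_43) df_44)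 df_45) df_46) df_47) df_48) df_49) df_50) df_51) df_52) df_53) df_54) df_55) df_56) df_57) df_58) df_59)

theorem df : ∀ j < 82, dfB j = true :=
  (forall_lt_succ'' (forall_lt_succ'' (forall_lt_succ'' (forall_lt_succ'' (forall_lt_succ'' (forall_lt_succ'' (forall_lt_succ'' (forall_lt_succ'' (forall_lt_succ'' (forall_lt_succ'' (forall_lt_succ'' (forall_lt_succ'' (forall_lt_succ'' (forall_lt_succ'' (forall_lt_succ'' (forall_lt_succ'' (forall_lt_succ'' (forall_lt_succ'' (forall_lt_succ'' (forall_lt_succ'' (forall_lt_succ'' (forall_lt_succ'' df_a30 df_60) df_61) df_62) df_63) df_64) df_65) df_66) df_67) df_68) df_69) df_70) df_71) df_72) df_73) df_74) df_75) df_76) df_77) df_78) df_79) df_80) df_81)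

theorem c1l2c : ∀ i < 4, (L0.levT e.T c1l2S c1l2r c1l2 e.N) i = true :=
  all_of_blocks (d := 2) (m := 1) (by decide) (forall_lt_succ'' forall_lt_zero'' c1l2c_0)

theorem c1l1c : ∀ i < 24, (L0.levT e.T c1l1S c1l1r c1l1 e.N) i = true :=
  all_of_blocks (d := 5) (m := 1) (by decide) (forall_lt_succ'' forall_lt_zero'' c1l1c_0)

theorem c1l0c : ∀ i < 3125, (L0.levT e.T c1l0S c1l0r c1l0 e.N) i = true :=
  all_of_blocks (d := 11) (m := 2) (by decide) (forall_lt_succ'' (forall_lt_succ'' forall_lt_zero'' c1l0c_0) c1l0c_1)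

theorem c2l3c : ∀ i < 4, (L0.levT e.T c2l3S c2l3r c2l3 e.N) i = true :=
  all_of_blocks (d := 2) (m := 1) (by decide) (forall_lt_succ'' forall_lt_zero'' c2l3c_0)

theorem c2l2c : ∀ i < 4, (L0.levT e.T c2l2S c2l2r c2l2 e.N) i = true :=
  all_of_blocks (d := 2) (m := 1) (by decide) (forall_lt_succ'' forall_lt_zero'' c2l2c_0)

theorem c2l1c : ∀ i < 6, (L0.levT e.T c2l1S c2l1r c2l1 e.N) i = true :=
  all_of_blocks (d := 3) (m := 1) (by decide) (forall_lt_succ'' forall_lt_zero'' c2l1c_0)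

theorem c2l0c : ∀ i < 63, (L0.levT e.T c2l0S c2l0r c2l0 e.N) i = true :=
  all_of_blocks (d := 6) (m := 1) (by decide) (forall_lt_succ'' forall_lt_zero'' c2l0c_0)

theorem c3l2c : ∀ i < 4, (L0.levT e.T c3l2S c3l2r c3l2 e.N) i = true :=
  all_of_blocks (d := 2) (m := 1) (by decide) (forall_lt_succ'' forall_lt_zero'' c3l2c_0)

theorem c3l1c : ∀ i < 20, (L0.levT e.T c3l1S c3l1r c3l1 e.N) i = true :=
  all_of_blocks (d := 5) (m := 1) (by decide) (forall_lt_succ'' forall_lt_zero'' c3l1c_0)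

theorem c3l0c : ∀ i < 36, (L0.levT e.T c3l0S c3l0r c3l0 e.N) i = true :=
  all_of_blocks (d := 6) (m := 1) (by decide) (forall_lt_succ'' forall_lt_zero'' c3l0c_0)

theorem bsc : ∀ i < 1008, (L0.levT e.U bsS bsr bs e.M) i = true :=
  all_of_blocks (d := 8) (m := 4) (by decide) (forall_lt_succ'' (forall_lt_succ'' (forall_lt_succ'' (forall_lt_succ'' forall_lt_zero'' bsc_0) bsc_1) bsc_2) bsc_3)

theorem v0l1b : ∀ i < 48, (e.orbB (Env.sing v0l1S) v0l1r v0l1 v0l1t (nat_lit 64)) i = true :=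
  all_of_blocks (d := 6) (m := 1) (by decide) (forall_lt_succ'' forall_lt_zero'' v0l1b_0)

theorem v0l0b : ∀ i < 48, (e.orbB (Env.sing v0l0S) v0l0r v0l0 v0l0t (nat_lit 64)) i = true :=
  all_of_blocks (d := 6) (m := 1) (by decide) (forall_lt_succ'' forall_lt_zero'' v0l0b_0)

theorem v1l2b : ∀ i < 108, (e.orbB (Env.sing v1l2S) v1l2r v1l2 v1l2t (nat_lit 128)) i = true :=
  all_of_blocks (d := 7) (m := 1) (by decide) (forall_lt_succ'' forall_lt_zero'' v1l2b_0)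

theorem v1l1b : ∀ i < 54, (e.orbB (Env.sing v1l1S) v1l1r v1l1 v1l1t (nat_lit 64)) i = true :=
  all_of_blocks (d := 6) (m := 1) (by decide) (forall_lt_succ'' forall_lt_zero'' v1l1b_0)

theorem v1l0b : ∀ i < 30, (e.orbB (Env.sing v1l0S) v1l0r v1l0 v1l0t (nat_lit 32)) i = true :=
  all_of_blocks (d := 5) (m := 1) (by decide) (forall_lt_succ'' forall_lt_zero'' v1l0b_0)

theorem v2l0b : ∀ i < 11, (e.orbB (Env.sing v2l0S) v2l0r v2l0 v2l0t (nat_lit 16)) i = true :=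
  all_of_blocks (d := 4) (m := 1) (by decide) (forall_lt_succ'' forall_lt_zero'' v2l0b_0)

theorem v3l0b : ∀ i < 37, (e.orbB (Env.sing v3l0S) v3l0r v3l0 v3l0t (nat_lit 64)) i = true :=
  all_of_blocks (d := 6) (m := 1) (by decide) (forall_lt_succ'' forall_lt_zero'' v3l0b_0)

theorem v4l0b : ∀ i < 67, (e.orbB (Env.sing v4l0S) v4l0r v4l0 v4l0t (nat_lit 128)) i = true :=
  all_of_blocks (d := 7) (m := 1) (by decide) (forall_lt_succ'' forall_lt_zero'' v4l0b_0)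

theorem ptA : ∀ i < 3906, (LA0.toLv.ptB e.T e.N) i = true :=
  all_of_blocks (d := 11) (m := 2) (by decide) (forall_lt_succ'' (forall_lt_succ'' forall_lt_zero'' ptA_0) ptA_1)

theorem chA : ChainChk e.T e.N e.k ((LA0 :: LAs).map SLv.toLv) [] :=
  ⟨stA, ptA, chainChk_of cbA⟩

theorem scA : ∀ i < 3906, (scanB e.T iv (tr e.T DA.y) LA0 LAs []) i = true :=
  all_of_blocks (d := 11) (m := 2) (by decide) (forall_lt_succ'' (forall_lt_succ'' forall_lt_zero'' scA_0) scA_1)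

theorem h3A : ∀ d ∈ Wd, ∃ c : CC, DA.sylB e d c = true ∧ ∀ r ∈ c.reps, DA.repB e X d r = true :=
  List.forall_mem_cons.mpr ⟨⟨cA1, syA1, fun _ h => absurd h List.not_mem_nil⟩, List.forall_mem_cons.mpr ⟨⟨cA2, syA2, fun _ h => absurd h List.not_mem_nil⟩, List.forall_mem_cons.mpr ⟨⟨cA3, syA3, fun _ h => absurd h List.not_mem_nil⟩, List.forall_mem_cons.mpr ⟨⟨cA4, syA4, fun _ h => absurd h List.not_mem_nil⟩, fun _ h => absurd h List.not_mem_nil⟩⟩⟩⟩

theorem clA : ∀ c ∈ ([] :: CLA), ∃ q, (clE e.U e.K X ([] :: CLA) (DA.DH ++ DA.DG)) c q = true :=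
  forall_chunks 31 1 (forall_lt_succ'' forall_lt_zero'' (all2_ex clA_0)) (by decide +kernel)

theorem ptB : ∀ i < 3906, (LB0.toLv.ptB e.T e.N) i = true :=
  all_of_blocks (d := 11) (m := 2) (by decide) (forall_lt_succ'' (forall_lt_succ'' forall_lt_zero'' ptB_0) ptB_1)

theorem chB : ChainChk e.T e.N e.k ((LB0 :: LBs).map SLv.toLv) [] :=
  ⟨stB, ptB, chainChk_of cbB⟩

theorem scB : ∀ i < 3906, (scanB e.T iv (tr e.T DB.y) LB0 LBs []) i = true :=
  all_of_blocks (d := 11) (m := 2) (by decide) (forall_lt_succ'' (forall_lt_succ'' forall_lt_zero'' scB_0) scB_1)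

theorem rhB0 : ∀ i < 3906, (rhB rhoB0) i = true :=
  all_of_blocks (d := 8) (m := 16) (by decide) (forall_lt_succ'' (forall_lt_succ'' (forall_lt_succ'' (forall_lt_succ'' (forall_lt_succ'' (forall_lt_succ'' (forall_lt_succ'' (forall_lt_succ'' (forall_lt_succ'' (forall_lt_succ'' (forall_lt_succ'' (forall_lt_succ'' (forall_lt_succ'' (forall_lt_succ'' (forall_lt_succ'' (forall_lt_succ'' forall_lt_zero'' rhB0_0) rhB0_1) rhB0_2) rhB0_3) rhB0_4) rhB0_5) rhB0_6) rhB0_7) rhB0_8) rhB0_9) rhB0_10) rhB0_11) rhB0_12) rhB0_13) rhB0_14) rhB0_15)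

theorem h3B : ∀ d ∈ Wd, ∃ c : CC, DB.sylB e d c = true ∧ ∀ r ∈ c.reps, DB.repB e X d r = true :=
  List.forall_mem_cons.mpr ⟨⟨cB1, syB1, fun _ h => absurd h List.not_mem_nil⟩, List.forall_mem_cons.mpr ⟨⟨cB2, syB2, List.forall_mem_cons.mpr ⟨rB2x0c, fun _ h => absurd h List.not_mem_nil⟩⟩, List.forall_mem_cons.mpr ⟨⟨cB3, syB3, List.forall_mem_cons.mpr ⟨rB3x0c, List.forall_mem_cons.mpr ⟨rB3x1c, fun _ h => absurd h List.not_mem_nil⟩⟩⟩, List.forall_mem_cons.mpr ⟨⟨cB4, syB4, List.forall_mem_cons.mpr ⟨rB4x0c, List.forall_mem_cons.mpr ⟨rB4x1c, fun _ h => absurd h List.not_mem_nil⟩⟩⟩, fun _ h => absurd h List.not_mem_nil⟩⟩⟩⟩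

theorem clB_a0 : ∀ j < 30, ∀ c ∈ ((([] :: CLB)).drop (j * 4)).take 4, ∃ q, (clE e.U e.K X ([] :: CLB) (DB.DH ++ DB.DG)) c q = true :=
  (forall_lt_succ'' (forall_lt_succ'' (forall_lt_succ'' (forall_lt_succ'' (forall_lt_succ'' (forall_lt_succ'' (forall_lt_succ'' (forall_lt_succ'' (forall_lt_succ'' (forall_lt_succ'' (forall_lt_succ'' (forall_lt_succ'' (forall_lt_succ'' (forall_lt_succ'' (forall_lt_succ'' (forall_lt_succ'' (forall_lt_succ'' (forall_lt_succ'' (forall_lt_succ'' (forall_lt_succ'' (forall_lt_succ'' (forall_lt_succ'' (forall_lt_succ'' (forall_lt_succ'' (forall_lt_succ'' (forall_lt_succ'' (forall_lt_succ'' (forall_lt_succ'' (forall_lt_succ'' (forall_lt_succ'' forall_lt_zero'' (all2_ex clB_0)) (all2_ex clB_1)) (all2_ex clB_2)) (all2_ex clB_3)) (all2_ex clB_4)) (all2_ex clB_5)) (all2_ex clB_6)) (all2_ex clB_7)) (all2_ex clB_8)) (all2_ex clB_9)) (all2_ex clB_10)) (all2_ex clB_11)) (all2_ex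 clB_12)) (all2_ex clB_13)) (all2_ex clB_14)) (all2_ex clB_15)) (all2_ex clB_16)) (all2_ex clB_17)) (all2_ex clB_18)) (all2_ex clB_19)) (all2_ex clB_20)) (all2_ex clB_21)) (all2_ex clB_22)) (all2_ex clB_23)) (all2_ex clB_24)) (all2_ex clB_25)) (all2_ex clB_26)) (all2_ex clB_27)) (all2_ex clB_28)) (all2_ex clB_29))

theorem clB_a30 : ∀ j < 60, ∀ c ∈ ((([] :: CLB)).drop (j * 4)).take 4, ∃ q, (clE e.U e.K X ([] :: CLB) (DB.DH ++ DB.DG)) c q = true :=
  (forall_lt_succ'' (forall_lt_succ'' (forall_lt_succ'' (forall_lt_succ'' (forall_lt_succ'' (forall_lt_succ'' (forall_lt_succ'' (forall_lt_succ'' (forall_lt_succ'' (forall_lt_succ'' (forall_lt_succ'' (forall_lt_succ'' (forall_lt_succ'' (forall_lt_succ'' (forall_lt_succ'' (forall_lt_succ'' (forall_lt_succ'' (forall_lt_succ'' (forall_lt_succ'' (forall_lt_succ'' (forall_lt_succ'' (forall_lt_succ'' (forall_lt_succ'' (forall_lt_succ'' (forall_lt_succ'' (forall_lt_succ''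 (forall_lt_succ'' (forall_lt_succ'' (forall_lt_succ'' (forall_lt_succ'' clB_a0 (all2_ex clB_30)) (all2_ex clB_31)) (all2_ex clB_32)) (all2_ex clB_33)) (all2_ex clB_34)) (all2_ex clB_35)) (all2_ex clB_36)) (all2_ex clB_37)) (all2_ex clB_38)) (all2_ex clB_39)) (all2_ex clB_40)) (all2_ex clB_41)) (all2_ex clB_42)) (all2_ex clB_43)) (all2_ex clB_44)) (all2_ex clB_45)) (all2_ex clB_46)) (all2_ex clB_47)) (all2_ex clB_48)) (all2_ex clB_49)) (all2_ex clB_50)) (all2_ex clB_51)) (all2_ex clB_52)) (all2_ex clB_53)) (all2_ex clB_54)) (all2_ex clB_55)) (all2_ex clB_56)) (all2_ex clB_57)) (all2_ex clB_58)) (all2_ex clB_59))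

theorem clB : ∀ c ∈ ([] :: CLB), ∃ q, (clE e.U e.K X ([] :: CLB) (DB.DH ++ DB.DG)) c q = true :=
  forall_chunks 4 81 (forall_lt_succ'' (forall_lt_succ'' (forall_lt_succ'' (forall_lt_succ'' (forall_lt_succ'' (forall_lt_succ'' (forall_lt_succ'' (forall_lt_succ'' (forall_lt_succ'' (forall_lt_succ'' (forall_lt_succ'' (forall_lt_succ'' (forall_lt_succ'' (forall_lt_succ'' (forall_lt_succ'' (forall_lt_succ'' (forall_lt_succ'' (forall_lt_succ'' (forall_lt_succ'' (forall_lt_succ'' (forall_lt_succ'' clB_a30 (all2_ex clB_60)) (all2_ex clB_61)) (all2_ex clB_62)) (all2_ex clB_63)) (all2_ex clB_64)) (all2_ex clB_65)) (all2_ex clB_66)) (all2_ex clB_67)) (all2_ex clB_68)) (all2_ex clB_69)) (all2_ex clB_70)) (all2_ex clB_71)) (all2_ex clB_72)) (all2_ex clB_73)) (all2_ex clB_74)) (all2_ex clB_75)) (all2_ex clB_76)) (all2_ex clB_77)) (all2_ex clB_78)) (all2_ex clB_79)) (all2_ex clB_80)) (by decide +kernel)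

theorem sA : ∀ c ∈ ([] :: CLA), ∃ q, (stgB e.U e.K X [] [DA.b] relA DB.b DB.b true false) c q = true :=
  forall_chunks 2 16 (forall_lt_succ'' (forall_lt_succ'' (forall_lt_succ'' (forall_lt_succ'' (forall_lt_succ'' (forall_lt_succ'' (forall_lt_succ'' (forall_lt_succ'' (forall_lt_succ'' (forall_lt_succ'' (forall_lt_succ'' (forall_lt_succ'' (forall_lt_succ'' (forall_lt_succ'' (forall_lt_succ'' (forall_lt_succ'' forall_lt_zero'' (all2_ex sA_0)) (all2_ex sA_1)) (all2_ex sA_2)) (all2_ex sA_3)) (all2_ex sA_4)) (all2_ex sA_5)) (all2_ex sA_6)) (all2_ex sA_7)) (all2_ex sA_8)) (all2_ex sA_9)) (all2_ex sA_10)) (all2_ex sA_11)) (all2_ex sA_12)) (all2_ex sA_13)) (all2_ex sA_14)) (all2_ex sA_15)) (by decide +kernel)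

theorem sB0 : ∀ c ∈ ([] :: CLB), ∃ q, (stgB e.U e.K X [DB.b, aw0] [DB.b, aw0] relB t2 t2 ([DB.b, aw0] == [DB.b, DA.b]) false) c q = true :=
  forall_chunks 182 2 (forall_lt_succ'' (forall_lt_succ'' forall_lt_zero'' (all2_ex sB0_0)) (all2_ex sB0_1)) (by decide +kernel)

theorem sB1 : ∀ c ∈ ([] :: CLB), ∃ q, (stgB e.U e.K X [DB.b, aw1] [DB.b, aw1] relB t2 t2 ([DB.b, aw1] == [DB.b, DA.b]) false) c q = true :=
  forall_chunks 182 2 (forall_lt_succ'' (forall_lt_succ'' forall_lt_zero'' (all2_ex sB1_0)) (all2_ex sB1_1)) (by decide +kernel)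

theorem sB2 : ∀ c ∈ ([] :: CLB), ∃ q, (stgB e.U e.K X [DB.b, aw2] [DB.b, aw2] relB t2 t2 ([DB.b, aw2] == [DB.b, DA.b]) false) c q = true :=
  forall_chunks 182 2 (forall_lt_succ'' (forall_lt_succ'' forall_lt_zero'' (all2_ex sB2_0)) (all2_ex sB2_1)) (by decide +kernel)

theorem sB3 : ∀ c ∈ ([] :: CLB), ∃ q, (stgB e.U e.K X [DB.b, aw3] [DB.b, aw3] relB t2 t2 ([DB.b, aw3] == [DB.b, DA.b]) false) c q = true :=
  forall_chunks 182 2 (forall_lt_succ'' (forall_lt_succ'' forall_lt_zero'' (all2_ex sB3_0)) (all2_ex sB3_1)) (by decide +kernel)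

theorem sB4 : ∀ c ∈ ([] :: CLB), ∃ q, (stgB e.U e.K X [DB.b, aw4] [DB.b, aw4] relB t2 t2 ([DB.b, aw4] == [DB.b, DA.b]) false) c q = true :=
  forall_chunks 182 2 (forall_lt_succ'' (forall_lt_succ'' forall_lt_zero'' (all2_ex sB4_0)) (all2_ex sB4_1)) (by decide +kernel)

set_option linter.unusedSectionVars false
set_option linter.style.haveILetI false

section
variable {H G : Type} [Group H] [Group G] [Finite H] [Finite G] {A : RA H e.N} {g : ℕ → H}
  {V : RA G e.M} {γ : ℕ → G} {φ : H →* G}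

theorem le1 (C : Ctx e A g V γ φ Wd) : d1.s ≤ Nat.card (TT φ (L0.ev γ d1.w)) :=
  le_of_eq_of_le (b := c1l0.n * (c1l1.n * (c1l2.n * (1)))) (by decide +kernel) (ChB.le (chB_cons (C.lev (.head _) (L0.ofRA_tab C.tab) c1l0a c1l0b c1l0c) (chB_cons (C.lev (.head _) (L0.ofRA_tab C.tab) c1l1a c1l1b c1l1c) (chB_cons (C.lev (.head _) (L0.ofRA_tab C.tab) c1l2a c1l2b c1l2c) chB_nil))))

theorem le2 (C : Ctx e A g V γ φ Wd) : d2.s ≤ Nat.card (TT φ (L0.ev γ d2.w)) :=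
  le_of_eq_of_le (b := c2l0.n * (c2l1.n * (c2l2.n * (c2l3.n * (1))))) (by decide +kernel) (ChB.le (chB_cons (C.lev (.tail _ (.head _)) (L0.ofRA_tab C.tab) c2l0a c2l0b c2l0c) (chB_cons (C.lev (.tail _ (.head _)) (L0.ofRA_tab C.tab) c2l1a c2l1b c2l1c) (chB_cons (C.lev (.tail _ (.head _)) (L0.ofRA_tab C.tab) c2l2a c2l2b c2l2c) (chB_cons (C.lev (.tail _ (.head _)) (L0.ofRA_tab C.tab) c2l3a c2l3b c2l3c) chB_nil)))))

theorem le3 (C : Ctx e A g V γ φ Wd) : d3.s ≤ Nat.card (TT φ (L0.ev γ d3.w)) :=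
  le_of_eq_of_le (b := c3l0.n * (c3l1.n * (c3l2.n * (1)))) (by decide +kernel) (ChB.le (chB_cons (C.lev (.tail _ (.tail _ (.head _))) (L0.ofRA_tab C.tab) c3l0a c3l0b c3l0c) (chB_cons (C.lev (.tail _ (.tail _ (.head _))) (L0.ofRA_tab C.tab) c3l1a c3l1b c3l1c) (chB_cons (C.lev (.tail _ (.tail _ (.head _))) (L0.ofRA_tab C.tab) c3l2a c3l2b c3l2c) chB_nil))))

theorem chb (C : Ctx e A g V γ φ Wd) : ChB ((L0.ofRA V).comap φ) (TT φ (L0.ev γ d4.w)) [] [bs.β] d4.s :=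
  (show bs.n * 1 = d4.s by decide +kernel) ▸ chB_cons (C.lev (.tail _ (.tail _ (.tail _ (.head _)))) C.tabV bsa bsb bsc) chB_nil

theorem le4 (C : Ctx e A g V γ φ Wd) : d4.s ≤ Nat.card (TT φ (L0.ev γ d4.w)) := (chb C).le

theorem dv0 (C : Ctx e A g V γ φ Wd) : 2304 ∣ Nat.card G :=
  (show v0l0.n * (v0l1.n * (1)) = 2304 by decide +kernel) ▸ (C.dvd_step v0l0a v0l0b (C.dvd_step v0l1a v0l1b (one_dvd _))).trans (Subgroup.card_subgroup_dvd_card _)

theorem dv1 (C : Ctx e A g V γ φ Wd) : 174960 ∣ Nat.card G :=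
  (show v1l0.n * (v1l1.n * (v1l2.n * (1))) = 174960 by decide +kernel) ▸ (C.dvd_step v1l0a v1l0b (C.dvd_step v1l1a v1l1b (C.dvd_step v1l2a v1l2b (one_dvd _)))).trans (Subgroup.card_subgroup_dvd_card _)

theorem dv2 (C : Ctx e A g V γ φ Wd) : 11 ∣ Nat.card G :=
  (show v2l0.n * (1) = 11 by decide +kernel) ▸ (C.dvd_step v2l0a v2l0b (one_dvd _)).trans (Subgroup.card_subgroup_dvd_card _)

theorem dv3 (C : Ctx e A g V γ φ Wd) : 37 ∣ Nat.card G :=
  (show v3l0.n * (1) = 37 by decide +kernel) ▸ (C.dvd_step v3l0a v3l0b (one_dvd _)).trans (Subgroup.card_subgroup_dvd_card _)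

theorem dv4 (C : Ctx e A g V γ φ Wd) : 67 ∣ Nat.card G :=
  (show v4l0.n * (1) = 67 by decide +kernel) ▸ (C.dvd_step v4l0a v4l0b (one_dvd _)).trans (Subgroup.card_subgroup_dvd_card _)

theorem ord (C : Ctx e A g V γ φ Wd) (hh : Nat.card H = 5859000000) :
    Nat.card G ∣ 8835156 * 5859000000 ∧ ∀ d ∈ Wd, Nat.card (TT φ (L0.ev γ d.w)) = d.s :=
  C.orders (D := (Nat.lcm 2304 (Nat.lcm 174960 (Nat.lcm 11 (Nat.lcm 37 67))))) hh (List.forall_mem_cons.mpr ⟨le1 C, List.forall_mem_cons.mpr ⟨le2 C, List.forall_mem_cons.mpr ⟨le3 C, List.forall_mem_cons.mpr ⟨le4 C, fun _ h => absurd h List.not_mem_nil⟩⟩⟩⟩)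
    (Nat.lcm_dvd (dv0 C) (Nat.lcm_dvd (dv1 C) (Nat.lcm_dvd (dv2 C) (Nat.lcm_dvd (dv3 C) (dv4 C))))) (by decide +kernel)

theorem base (C : Ctx e A g V γ φ Wd) (hh : Nat.card H = 5859000000) : V.IsBase X ∧ Function.Injective φ :=
  C.isBase (.tail _ (.tail _ (.tail _ (.head _)))) ((ord C hh).2 _ (.tail _ (.tail _ (.tail _ (.head _))))) (chb C)

theorem gdA (C : Ctx e A g V γ φ Wd) (hh : Nat.card H = 5859000000) : A.Good g e.k e.T ((LA0 :: LAs).map SLv.toLv) [] :=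
  (RA.card_eq_of_chain C.tab chA (hh.le.trans (by decide +kernel))).2

theorem cHA (C : Ctx e A g V γ φ Wd) (hh : Nat.card H = 5859000000) : CH g DA :=
  C.ch_of (gdA C hh) hsA scA (fun _ h => absurd h List.not_mem_nil)

theorem ceA (C : Ctx e A g V γ φ Wd) (hh : Nat.card H = 5859000000) : ∀ x, L0.ev γ DA.b * x = x * L0.ev γ DA.b →
    ∃ c ∈ [] :: CLA, x = L0.ev γ c := fun x hx =>
  list_of_clE C.tabG (base C hh).1 clA x (C.cent (base C hh).1 (base C hh).2 (ord C hh).2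
    (show Nat.Prime 31 by norm_num) (cHA C hh) hBA gBA h3A x hx)

theorem gdB (C : Ctx e A g V γ φ Wd) (hh : Nat.card H = 5859000000) : A.Good g e.k e.T ((LB0 :: LBs).map SLv.toLv) [] :=
  (RA.card_eq_of_chain C.tab chB (hh.le.trans (by decide +kernel))).2

theorem cHB (C : Ctx e A g V γ φ Wd) (hh : Nat.card H = 5859000000) : CH g DB :=
  C.ch_of (gdB C hh) hsB scB (List.forall_mem_cons.mpr ⟨rhB0, fun _ h => absurd h List.not_mem_nil⟩)

theorem ceB (C : Ctx e A g V γ φ Wd) (hh : Nat.card H = 5859000000) : ∀ x, L0.ev γ DB.b * x = x * L0.ev γ DB.b →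
    ∃ c ∈ [] :: CLB, x = L0.ev γ c := fun x hx =>
  list_of_clE C.tabG (base C hh).1 clB x (C.cent (base C hh).1 (base C hh).2 (ord C hh).2
    (show Nat.Prime 3 by norm_num) (cHB C hh) hBB gBB h3B x hx)

theorem rg0 (C : Ctx e A g V γ φ Wd) (hh : Nat.card H = 5859000000) : Rig γ [DB.b, DA.b] [DB.b, aw0] :=
  rig_step (j := 1) (i := 0) C.tabG (base C hh).1 (ceB C hh)
    (by rw [r0, rB]; decide +kernel) sB0 (rig_gen (C.gen_top (base C hh).1 (gdB C hh) gn))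

theorem rg1 (C : Ctx e A g V γ φ Wd) (hh : Nat.card H = 5859000000) : Rig γ [DB.b, DA.b] [DB.b, aw1] :=
  rig_step (j := 1) (i := 0) C.tabG (base C hh).1 (ceB C hh)
    (by rw [r0, rB]; decide +kernel) sB1 (rig_gen (C.gen_top (base C hh).1 (gdB C hh) gn))

theorem rg2 (C : Ctx e A g V γ φ Wd) (hh : Nat.card H = 5859000000) : Rig γ [DB.b, DA.b] [DB.b, aw2] :=
  rig_step (j := 1) (i := 0) C.tabG (base C hh).1 (ceB C hh)
    (by rw [r0, rB]; decide +kernel) sB2 (rig_gen (C.gen_top (base C hh).1 (gdB C hh) gn))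

theorem rg3 (C : Ctx e A g V γ φ Wd) (hh : Nat.card H = 5859000000) : Rig γ [DB.b, DA.b] [DB.b, aw3] :=
  rig_step (j := 1) (i := 0) C.tabG (base C hh).1 (ceB C hh)
    (by rw [r0, rB]; decide +kernel) sB3 (rig_gen (C.gen_top (base C hh).1 (gdB C hh) gn))

theorem rg4 (C : Ctx e A g V γ φ Wd) (hh : Nat.card H = 5859000000) : Rig γ [DB.b, DA.b] [DB.b, aw4] :=
  rig_step (j := 1) (i := 0) C.tabG (base C hh).1 (ceB C hh)
    (by rw [r0, rB]; decide +kernel) sB4 (rig_gen (C.gen_top (base C hh).1 (gdB C hh) gn))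

theorem rg (C : Ctx e A g V γ φ Wd) (hh : Nat.card H = 5859000000) : ∀ q ∈ reps, Rig γ [DB.b, DA.b] [DB.b, q.2] :=
  List.forall_mem_cons.mpr ⟨rg0 C hh, List.forall_mem_cons.mpr ⟨rg1 C hh, List.forall_mem_cons.mpr ⟨rg2 C hh, List.forall_mem_cons.mpr ⟨rg3 C hh, List.forall_mem_cons.mpr ⟨rg4 C hh, fun _ h => absurd h List.not_mem_nil⟩⟩⟩⟩⟩

theorem out (C : Ctx e A g V γ φ Wd) (hh : Nat.card H = 5859000000) : Nat.card (Cfsg.Out G) = 1 :=
  out_one_of C.tabG (base C hh).1 (by norm_num) (ord C hh).1 (ceA C hh) ab sA (rg C hh)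

end

theorem card_out : Nat.card (Cfsg.Out Cfsg.Spor.Ly) = 1 := by
  haveI := L0.LyG.finite
  obtain ⟨A, ht, hb, hc⟩ := L0.LyG.exists_act
  obtain ⟨B, hB⟩ := L0.LyActN.ex
  obtain ⟨φ, z, h1, h2⟩ := L0.LyG.br
  have h : L0.Dce.CtxH L0.LyFB.P A (L0.PG.gen 19 L0.LyH.R) :=
    L0.Dce.ctxH_of (R := L0.LyH.R) ht hb (fun _ => L0.PG.rel) (by decide +kernel)
  obtain ⟨g, V, γ, h3, C⟩ := exists_ctx h (L0.PG.genL_range _ _) L0.LyG.isPres h1 h2
    (L0.LyClo.fin h (L0.Dce.ctxG_one h h2 (by decide +kernel)) hB hc.le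
      (L0.Dce.gen_of L0.LyG.isPres.gen_top h1)).2 hP slp rel df e1 e2
  exact out C hc

end Cfsg.Agent.H9.OLy
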