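import Cfsg.Agent.H9.OLyD

/-! Outer automorphisms of the group Ly. Checks. -/

set_option autoImplicit false
set_option maxRecDepth 100000

namespace Cfsg.Agent.H9.OLy

set_option Elab.async false

theorem e1 : (L0.lettersLt (L0.LyFB.P.k + 2) Rl &&
      (L0.LyG.R.all fun r => L0.consB (L0.LyFB.P.k + 2) L0.LyFB.P.iv Rl (r.flatMap L0.LyG.s)) &&
      (List.range (L0.LyFB.P.k + 2)).all fun j => decide (L0.LyFB.P.iv j < L0.LyFB.P.k + 2) && Rl.contains [j, L0.LyFB.P.iv j] &&
        (L0.LyG.t j).all (fun a => decide (a < 78)) &&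
        (L0.consB (L0.LyFB.P.k + 2) L0.LyFB.P.iv Rl (L0.LyFB.P.iv j :: (L0.LyG.t j).flatMap L0.LyG.s) &&
          L0.consB (L0.LyFB.P.k + 2) L0.LyFB.P.iv (L0.LyG.R.map fun r => r.flatMap L0.LyG.s) (L0.LyFB.P.iv j :: (L0.LyG.t j).flatMap L0.LyG.s))) = true := by decide +kernel

theorem clB_69 : all2 (((([] :: CLB)).drop (69 * 4)).take 4) (clE e.U e.K X ([] :: CLB) (DB.DH ++ DB.DG)) clBq69 = true := by decide +kernel

theorem slp_4 : allPow (below (nat_lit 3906) (slpB (mix L0.LyFB.P.k L0.LyFB.P.T T1) WH L0.LyFB.P.k)) 7 (4 * 2 ^ 7) = true := by decide +kernel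

theorem slp_11 : allPow (below (nat_lit 3906) (slpB (mix L0.LyFB.P.k L0.LyFB.P.T T1) WH L0.LyFB.P.k)) 7 (11 * 2 ^ 7) = true := by decide +kernel

theorem slp_18 : allPow (below (nat_lit 3906) (slpB (mix L0.LyFB.P.k L0.LyFB.P.T T1) WH L0.LyFB.P.k)) 7 (18 * 2 ^ 7) = true := by decide +kernel

theorem slp_25 : allPow (below (nat_lit 3906) (slpB (mix L0.LyFB.P.k L0.LyFB.P.T T1) WH L0.LyFB.P.k)) 7 (25 * 2 ^ 7) = true := by decide +kernel

theorem clB_59 : all2 (((([] :: CLB)).drop (59 * 4)).take 4) (clE e.U e.K X ([] :: CLB) (DB.DH ++ DB.DG)) clBq59 = true := by decide +kernel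

theorem clB_45 : all2 (((([] :: CLB)).drop (45 * 4)).take 4) (clE e.U e.K X ([] :: CLB) (DB.DH ++ DB.DG)) clBq45 = true := by decide +kernel

theorem sA_14 : all2 (((([] :: CLA)).drop (14 * 2)).take 2) (stgB e.U e.K X [] [DA.b] relA DB.b DB.b true false) sAq14 = true := by decide +kernel

theorem clB_35 : all2 (((([] :: CLB)).drop (35 * 4)).take 4) (clE e.U e.K X ([] :: CLB) (DB.DH ++ DB.DG)) clBq35 = true := by decide +kernel

theorem ptB_1 : allPow (below (nat_lit 3906) (LB0.toLv.ptB e.T e.N)) 11 (1 * 2 ^ 11) = true := by decide +kernel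

theorem rhB0_3 : allPow (below (nat_lit 3906) (rhB rhoB0)) 8 (3 * 2 ^ 8) = true := by decide +kernel

theorem rhB0_10 : allPow (below (nat_lit 3906) (rhB rhoB0)) 8 (10 * 2 ^ 8) = true := by decide +kernel

theorem sA_11 : all2 (((([] :: CLA)).drop (11 * 2)).take 2) (stgB e.U e.K X [] [DA.b] relA DB.b DB.b true false) sAq11 = true := by decide +kernel

theorem sA_3 : all2 (((([] :: CLA)).drop (3 * 2)).take 2) (stgB e.U e.K X [] [DA.b] relA DB.b DB.b true false) sAq3 = true := by decide +kernel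

theorem hsA : (invB e.T e.k e.B iv && ltB e.k DA.y && statSB e.T e.k e.B DA.y (LA0 :: LAs) [] &&
    DA.linkB (LA0 :: LAs) && centB e.T iv (tr e.T DA.y) LAs (genP (tr e.T DA.y) [] LA0.xs LA0.β) &&
    allL DA.rho (ltB e.k)) = true := by decide +kernel

theorem clB_33 : all2 (((([] :: CLB)).drop (33 * 4)).take 4) (clE e.U e.K X ([] :: CLB) (DB.DH ++ DB.DG)) clBq33 = true := by decide +kernel

theorem clB_18 : all2 (((([] :: CLB)).drop (18 * 4)).take 4) (clE e.U e.K X ([] :: CLB) (DB.DH ++ DB.DG)) clBq18 = true := by decide +kernel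

theorem slp_30 : allPow (below (nat_lit 3906) (slpB (mix L0.LyFB.P.k L0.LyFB.P.T T1) WH L0.LyFB.P.k)) 7 (30 * 2 ^ 7) = true := by decide +kernel

theorem clB_14 : all2 (((([] :: CLB)).drop (14 * 4)).take 4) (clE e.U e.K X ([] :: CLB) (DB.DH ++ DB.DG)) clBq14 = true := by decide +kernel

theorem clB_11 : all2 (((([] :: CLB)).drop (11 * 4)).take 4) (clE e.U e.K X ([] :: CLB) (DB.DH ++ DB.DG)) clBq11 = true := by decide +kernel

theorem df_72 : dfB 72 = true := by decide +kernel

theorem df_26 : dfB 26 = true := by decide +kernel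

theorem df_36 : dfB 36 = true := by decide +kernel

theorem df_35 : dfB 35 = true := by decide +kernel

theorem clA_0 : all2 (((([] :: CLA)).drop (0 * 31)).take 31) (clE e.U e.K X ([] :: CLA) (DA.DH ++ DA.DG)) clAq0 = true := by decide +kernel

theorem df_24 : dfB 24 = true := by decide +kernel

theorem v1l2b_0 : allPow (below (nat_lit 108) (e.orbB (Env.sing v1l2S) v1l2r v1l2 v1l2t (nat_lit 128))) 7 (0 * 2 ^ 7) = true := by decide +kernel

theorem v4l0b_0 : allPow (below (nat_lit 67) (e.orbB (Env.sing v4l0S) v4l0r v4l0 v4l0t (nat_lit 128))) 7 (0 * 2 ^ 7) = true := by decide +kernel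

theorem hBA : DA.hB e = true := by decide +kernel

theorem cbA : chainB e.T e.N e.k (LAs.map SLv.toLv) [LA0.toLv.β] = true := by decide +kernel

theorem v0l1a : (L0.lettersB e.K (Env.sing v0l1S) && Nat.blt v0l1.β e.M && Nat.ble v0l1.n 48 && Nat.blt (nat_lit 15) v0l1.n &&
    Nat.beq (Nat.land (v0l1r (nat_lit 15)) v0l1.pm) v0l1.β && e.subB v0l1S [] v0l1.β) = true := by decide +kernel

theorem v1l2a : (L0.lettersB e.K (Env.sing v1l2S) && Nat.blt v1l2.β e.M && Nat.ble v1l2.n 108 && Nat.blt (nat_lit 86) v1l2.n &&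
    Nat.beq (Nat.land (v1l2r (nat_lit 86)) v1l2.pm) v1l2.β && e.subB v1l2S [] v1l2.β) = true := by decide +kernel

theorem syA1 : DA.sylB e d1 cA1 = true := by decide +kernel

theorem c1l2b : (L0.lettersB e.k c1l2S && L0.RAct.fixB e.T c1l2S [c1l1.β, c1l0.β] && Nat.blt c1l2.β e.N && Nat.ble c1l2.n 4) = true := by decide +kernel

theorem c3l2b : (L0.lettersB e.k c3l2S && L0.RAct.fixB e.T c3l2S [c3l1.β, c3l0.β] && Nat.blt c3l2.β e.N && Nat.ble c3l2.n 4) = true := by decide +kernel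

theorem df_2 : dfB 2 = true := by decide +kernel

theorem df_9 : dfB 9 = true := by decide +kernel

theorem df_16 : dfB 16 = true := by decide +kernel

theorem df_47 : dfB 47 = true := by decide +kernel

theorem df_54 : dfB 54 = true := by decide +kernel

theorem df_63 : dfB 63 = true := by decide +kernel

end Cfsg.Agent.H9.OLy
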