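import Cfsg.Agent.H9.DO
import Cfsg.Agent.L0.Ly.Grp
import Cfsg.Agent.H9.OLyL0
import Cfsg.Agent.H9.OLyL1
import Cfsg.Agent.H9.OLyL2

/-! Outer automorphisms of the group Ly. Data. -/

set_option autoImplicit false
set_option maxRecDepth 100000

namespace Cfsg.Agent.H9.OLy

noncomputable def P : PM := ⟨nat_lit 111, nat_lit 22, nat_lit 5, nat_lit 1639, nat_lit 13, cM, rM, oM⟩

noncomputable def MtB : L0.BT := (.node (.node (.node (.node (.node (.node (.node (.leaf m0) (.leaf m64)) (.leaf m32)) (.node (.node (.leaf m16) (.leaf m80)) (.leaf (nat_lit 0)))) (.node (.node (.node (.leaf m8) (.leaf m72)) (.leaf m40)) (.node (.leaf m24) (.leaf (nat_lit 0))))) (.node (.node (.node (.node (.leaf m4) (.leaf m68)) (.leaf m36)) (.node (.leaf m20) (.leaf (nat_lit 0)))) (.node (.node (.node (.leaf m12) (.leaf m76)) (.leaf (nat_lit 0))) (.node (.leaf m28) (.leaf (nat_lit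 0)))))) (.node (.node (.node (.node (.node (.leaf m2) (.leaf m66)) (.leaf m34)) (.node (.leaf m18) (.leaf (nat_lit 0)))) (.node (.node (.node (.leaf m10) (.leaf m74)) (.leaf m42)) (.node (.leaf m26) (.leaf m58)))) (.node (.node (.node (.node (.leaf m6) (.leaf m70)) (.leaf m38)) (.node (.leaf m22) (.leaf (nat_lit 0)))) (.node (.node (.node (.leaf m14) (.leaf m78)) (.leaf (nat_lit 0))) (.node (.leaf m30) (.leaf m62)))))) (.node (.node (.node (.node (.node (.node (.leaf m1) (.leaf m65)) (.leaf m33)) (.node (.node (.leaf m17) (.leaf m81)) (.leaf (nat_lit 0)))) (.node (.node (.node (.leaf m9) (.leaf m73)) (.leaf m41)) (.node (.leaf m25) (.leaf m57)))) (.node (.node (.node (.node (.leaf m5) (.leaf m69)) (.leaf m37)) (.node (.leaf m21) (.leaf (nat_lit 0)))) (.node (.node (.node (.leaf m13) (.leaf m77)) (.leaf (nat_lit 0))) (.node (.leaf m29) (.leaf (nat_lit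 0)))))) (.node (.node (.node (.node (.node (.leaf m3) (.leaf m67)) (.leaf m35)) (.node (.leaf m19) (.leaf (nat_lit 0)))) (.node (.node (.node (.leaf m11) (.leaf m75)) (.leaf (nat_lit 0))) (.node (.leaf m27) (.leaf (nat_lit 0))))) (.node (.node (.node (.node (.leaf m7) (.leaf m71)) (.leaf m39)) (.node (.leaf m23) (.leaf (nat_lit 0)))) (.node (.node (.node (.leaf m15) (.leaf m79)) (.leaf (nat_lit 0))) (.node (.leaf m31) (.leaf m63)))))))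

noncomputable def Mt (s : ℕ) : ℕ := L0.BT.get MtB s

noncomputable def T1B : L0.BT := (.node (.node (.node (.node (.node (.node (.node (.node (.leaf T1B_0) (.leaf T1B_128)) (.leaf T1B_64)) (.node (.node (.leaf T1B_32) (.leaf T1B_160)) (.leaf T1B_96))) (.node (.node (.node (.leaf T1B_16) (.leaf T1B_144)) (.leaf T1B_80)) (.node (.leaf T1B_48) (.leaf T1B_112)))) (.node (.node (.node (.node (.leaf T1B_8) (.leaf T1B_136)) (.leaf T1B_72)) (.node (.node (.leaf T1B_40) (.leaf T1B_168)) (.leaf T1B_104))) (.node (.node (.node (.leaf T1B_24) (.leaf T1B_152)) (.leaf T1B_88)) (.node (.leaf T1B_56) (.leaf T1B_120))))) (.node (.node (.node (.node (.node (.leaf T1B_4) (.leaf T1B_132)) (.leaf T1B_68)) (.node (.node (.leaf T1B_36) (.leaf T1B_164)) (.leaf T1B_100))) (.node (.node (.node (.leaf T1B_20) (.leaf T1B_148)) (.leaf T1B_84)) (.node (.leaf T1B_52) (.leaf T1B_116))))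 (.node (.node (.node (.node (.leaf T1B_12) (.leaf T1B_140)) (.leaf T1B_76)) (.node (.leaf T1B_44) (.leaf T1B_108))) (.node (.node (.node (.leaf T1B_28) (.leaf T1B_156)) (.leaf T1B_92)) (.node (.leaf T1B_60) (.leaf T1B_124)))))) (.node (.node (.node (.node (.node (.node (.leaf T1B_2) (.leaf T1B_130)) (.leaf T1B_66)) (.node (.node (.leaf T1B_34) (.leaf T1B_162)) (.leaf T1B_98))) (.node (.node (.node (.leaf T1B_18) (.leaf T1B_146)) (.leaf T1B_82)) (.node (.leaf T1B_50) (.leaf T1B_114)))) (.node (.node (.node (.node (.leaf T1B_10) (.leaf T1B_138)) (.leaf T1B_74)) (.node (.node (.leaf T1B_42) (.leaf T1B_170)) (.leaf T1B_106))) (.node (.node (.node (.leaf T1B_26) (.leaf T1B_154)) (.leaf T1B_90)) (.node (.leaf T1B_58) (.leaf T1B_122))))) (.node (.node (.node (.node (.node (.leaf T1B_6) (.leaf T1B_134)) (.leaf T1B_70)) (.node (.node (.leaf T1B_38) (.leaf T1B_166))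 (.leaf T1B_102))) (.node (.node (.node (.leaf T1B_22) (.leaf T1B_150)) (.leaf T1B_86)) (.node (.leaf T1B_54) (.leaf T1B_118)))) (.node (.node (.node (.node (.leaf T1B_14) (.leaf T1B_142)) (.leaf T1B_78)) (.node (.leaf T1B_46) (.leaf T1B_110))) (.node (.node (.node (.leaf T1B_30) (.leaf T1B_158)) (.leaf T1B_94)) (.node (.leaf T1B_62) (.leaf T1B_126))))))) (.node (.node (.node (.node (.node (.node (.node (.leaf T1B_1) (.leaf T1B_129)) (.leaf T1B_65)) (.node (.node (.leaf T1B_33) (.leaf T1B_161)) (.leaf T1B_97))) (.node (.node (.node (.leaf T1B_17) (.leaf T1B_145)) (.leaf T1B_81)) (.node (.leaf T1B_49) (.leaf T1B_113)))) (.node (.node (.node (.node (.leaf T1B_9) (.leaf T1B_137)) (.leaf T1B_73)) (.node (.node (.leaf T1B_41) (.leaf T1B_169)) (.leaf T1B_105))) (.node (.node (.node (.leaf T1B_25) (.leaf T1B_153)) (.leaf T1B_89)) (.node (.leaf T1B_57) (.leaf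 T1B_121))))) (.node (.node (.node (.node (.node (.leaf T1B_5) (.leaf T1B_133)) (.leaf T1B_69)) (.node (.node (.leaf T1B_37) (.leaf T1B_165)) (.leaf T1B_101))) (.node (.node (.node (.leaf T1B_21) (.leaf T1B_149)) (.leaf T1B_85)) (.node (.leaf T1B_53) (.leaf T1B_117)))) (.node (.node (.node (.node (.leaf T1B_13) (.leaf T1B_141)) (.leaf T1B_77)) (.node (.leaf T1B_45) (.leaf T1B_109))) (.node (.node (.node (.leaf T1B_29) (.leaf T1B_157)) (.leaf T1B_93)) (.node (.leaf T1B_61) (.leaf T1B_125)))))) (.node (.node (.node (.node (.node (.node (.leaf T1B_3) (.leaf T1B_131)) (.leaf T1B_67)) (.node (.node (.leaf T1B_35) (.leaf T1B_163)) (.leaf T1B_99))) (.node (.node (.node (.leaf T1B_19) (.leaf T1B_147)) (.leaf T1B_83)) (.node (.leaf T1B_51) (.leaf T1B_115)))) (.node (.node (.node (.node (.leaf T1B_11) (.leaf T1B_139)) (.leaf T1B_75)) (.node (.node (.leaf T1B_43)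 (.leaf T1B_171)) (.leaf T1B_107))) (.node (.node (.node (.leaf T1B_27) (.leaf T1B_155)) (.leaf T1B_91)) (.node (.leaf T1B_59) (.leaf T1B_123))))) (.node (.node (.node (.node (.node (.leaf T1B_7) (.leaf T1B_135)) (.leaf T1B_71)) (.node (.node (.leaf T1B_39) (.leaf T1B_167)) (.leaf T1B_103))) (.node (.node (.node (.leaf T1B_23) (.leaf T1B_151)) (.leaf T1B_87)) (.node (.leaf T1B_55) (.leaf T1B_119)))) (.node (.node (.node (.node (.leaf T1B_15) (.leaf T1B_143)) (.leaf T1B_79)) (.node (.leaf T1B_47) (.leaf T1B_111))) (.node (.node (.node (.leaf T1B_31) (.leaf T1B_159)) (.leaf T1B_95)) (.node (.leaf T1B_63) (.leaf T1B_127))))))))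

noncomputable def T1G (s j : ℕ) : ℕ := L0.BT.get T1B (Nat.add (Nat.mul s (nat_lit 4)) j)

noncomputable def T1 (c s : ℕ) : ℕ := Nat.rec (motive := fun _ => ℕ) 0 (fun j _ => Nat.land (Nat.shiftRight (T1G s j) (Nat.mul (nat_lit 12) (Nat.land c (nat_lit 1023)))) (nat_lit 4095)) (Nat.succ (Nat.shiftRight c (nat_lit 10)))

noncomputable def WH : List (List ℕ) := [[nat_lit 5, nat_lit 1, nat_lit 10], [nat_lit 3, nat_lit 0, nat_lit 19], [nat_lit 4, nat_lit 15, nat_lit 7], [nat_lit 14, nat_lit 16, nat_lit 20], [nat_lit 11, nat_lit 13], [nat_lit 15, nat_lit 20, nat_lit 17], [nat_lit 14, nat_lit 18, nat_lit 19, nat_lit 3, nat_lit 15], [nat_lit 5, nat_lit 0, nat_lit 6, nat_lit 7, nat_lit 9, nat_lit 7, nat_lit 0], [nat_lit 25, nat_lit 26, nat_lit 25], [nat_lit 27, nat_lit 25], [nat_lit 25, nat_lit 28, nat_lit 26, nat_lit 28, nat_lit 26, nat_lit 25, nat_lit 26],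 [nat_lit 26, nat_lit 28, nat_lit 25, nat_lit 25, nat_lit 27, nat_lit 26], [nat_lit 27, nat_lit 28, nat_lit 27], [nat_lit 29, nat_lit 30, nat_lit 30, nat_lit 31, nat_lit 29, nat_lit 30, nat_lit 30], [nat_lit 30, nat_lit 29, nat_lit 29], [nat_lit 33, nat_lit 32, nat_lit 32], [nat_lit 33, nat_lit 34, nat_lit 32, nat_lit 33, nat_lit 32], [nat_lit 33, nat_lit 32, nat_lit 34, nat_lit 33, nat_lit 32, nat_lit 33, nat_lit 32], [nat_lit 35, nat_lit 35, nat_lit 36], [nat_lit 37, nat_lit 37, nat_lit 35, nat_lit 35], [nat_lit 35, nat_lit 37, nat_lit 36, nat_lit 37], [nat_lit 27, nat_lit 2, nat_lit 2, nat_lit 39, nat_lit 33, nat_lit 37, nat_lit 39, nat_lit 35, nat_lit 39], [nat_lit 36, nat_lit 29, nat_lit 4, nat_lit 31, nat_lit 25, nat_lit 34, nat_lit 29, nat_lit 29, nat_lit 32, nat_lit 34, nat_lit 35, nat_lit 36, nat_lit 39, nat_lit 38], [nat_lit 4, nat_lit 8,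 nat_lit 1, nat_lit 35, nat_lit 25, nat_lit 33, nat_lit 30, nat_lit 29, nat_lit 34, nat_lit 33, nat_lit 37, nat_lit 39, nat_lit 38], [nat_lit 41, nat_lit 41], [nat_lit 40, nat_lit 40, nat_lit 42], [nat_lit 42, nat_lit 41, nat_lit 42], [nat_lit 44, nat_lit 40, nat_lit 45], [nat_lit 45, nat_lit 42, nat_lit 46, nat_lit 40, nat_lit 45, nat_lit 45, nat_lit 41, nat_lit 45], [nat_lit 46, nat_lit 46, nat_lit 44, nat_lit 45, nat_lit 41, nat_lit 40], [nat_lit 48, nat_lit 48, nat_lit 47], [nat_lit 49, nat_lit 49, nat_lit 47], [nat_lit 50, nat_lit 47, nat_lit 49], [nat_lit 51, nat_lit 48, nat_lit 49], [nat_lit 52, nat_lit 52, nat_lit 49, nat_lit 47, nat_lit 49, nat_lit 47], [nat_lit 52, nat_lit 47, nat_lit 48, nat_lit 50, nat_lit 48, nat_lit 50, nat_lit 47], [nat_lit 53, nat_lit 54, nat_lit 54], [nat_lit 53, nat_lit 55, nat_lit 55], [nat_lit 0, nat_lit 37, nat_lit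 0, nat_lit 31, nat_lit 28, nat_lit 25, nat_lit 37, nat_lit 30, nat_lit 30, nat_lit 33, nat_lit 32, nat_lit 38, nat_lit 35, nat_lit 39], [nat_lit 15, nat_lit 35, nat_lit 3, nat_lit 34, nat_lit 27, nat_lit 32, nat_lit 29, nat_lit 36, nat_lit 33, nat_lit 32, nat_lit 39], [nat_lit 24, nat_lit 36, nat_lit 6, nat_lit 30, nat_lit 25, nat_lit 37, nat_lit 30, nat_lit 34, nat_lit 33, nat_lit 35, nat_lit 37, nat_lit 37, nat_lit 39], [nat_lit 34, nat_lit 19, nat_lit 27, nat_lit 31, nat_lit 25, nat_lit 29, nat_lit 31, nat_lit 35, nat_lit 35], [nat_lit 38, nat_lit 21, nat_lit 29, nat_lit 25, nat_lit 37, nat_lit 30, nat_lit 30, nat_lit 32, nat_lit 39]]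

noncomputable def WG : List (List ℕ) := [[nat_lit 10, nat_lit 16, nat_lit 38, nat_lit 27, nat_lit 33, nat_lit 33, nat_lit 37, nat_lit 36, nat_lit 38, nat_lit 62, nat_lit 1, nat_lit 3, nat_lit 62, nat_lit 11, nat_lit 16, nat_lit 1, nat_lit 28, nat_lit 25, nat_lit 33, nat_lit 30, nat_lit 29, nat_lit 34, nat_lit 33, nat_lit 37, nat_lit 36, nat_lit 39, nat_lit 38], [nat_lit 40, nat_lit 40], [nat_lit 40, nat_lit 40, nat_lit 40], [nat_lit 40, nat_lit 40, nat_lit 40, nat_lit 40], [nat_lit 40, nat_lit 40, nat_lit 40, nat_lit 40, nat_lit 40, nat_lit 40, nat_lit 40, nat_lit 40], [nat_lit 0, nat_lit 22, nat_lit 2, nat_lit 31, nat_lit 25, nat_lit 34, nat_lit 29, nat_lit 29, nat_lit 39, nat_lit 32, nat_lit 35, nat_lit 35, nat_lit 35, nat_lit 39, nat_lit 38, nat_lit 62, nat_lit 1, nat_lit 3, nat_lit 62, nat_lit 6, nat_lit 0, nat_lit 8, nat_lit 27, nat_lit 28, nat_lit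 25, nat_lit 36, nat_lit 29, nat_lit 38, nat_lit 34, nat_lit 35, nat_lit 37, nat_lit 35, nat_lit 39, nat_lit 38], [nat_lit 6, nat_lit 21, nat_lit 13, nat_lit 31, nat_lit 27, nat_lit 29, nat_lit 31, nat_lit 29, nat_lit 33, nat_lit 33, nat_lit 35, nat_lit 37, nat_lit 35, nat_lit 62, nat_lit 1, nat_lit 3, nat_lit 62, nat_lit 21, nat_lit 36, nat_lit 1, nat_lit 32, nat_lit 25, nat_lit 33, nat_lit 29, nat_lit 36, nat_lit 33, nat_lit 32, nat_lit 37, nat_lit 35, nat_lit 38], [nat_lit 70, nat_lit 70], [nat_lit 70, nat_lit 70, nat_lit 70, nat_lit 70, nat_lit 69, nat_lit 70, nat_lit 70, nat_lit 70, nat_lit 70], [nat_lit 21, nat_lit 8, nat_lit 25, nat_lit 26, nat_lit 34, nat_lit 29, nat_lit 32, nat_lit 32, nat_lit 38, nat_lit 37, nat_lit 62, nat_lit 1, nat_lit 3, nat_lit 62, nat_lit 28, nat_lit 11, nat_lit 15, nat_lit 25, nat_lit 26, nat_lit 34, nat_lit 29, nat_lit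 34, nat_lit 33, nat_lit 36, nat_lit 37], [nat_lit 21, nat_lit 1, nat_lit 4, nat_lit 35, nat_lit 27, nat_lit 35, nat_lit 31, nat_lit 39, nat_lit 32, nat_lit 36, nat_lit 35, nat_lit 39, nat_lit 38, nat_lit 62, nat_lit 1, nat_lit 3, nat_lit 62, nat_lit 18, nat_lit 21, nat_lit 0, nat_lit 34, nat_lit 27, nat_lit 29, nat_lit 30, nat_lit 39, nat_lit 33, nat_lit 35, nat_lit 39, nat_lit 38], [nat_lit 74, nat_lit 73, nat_lit 73, nat_lit 73, nat_lit 74, nat_lit 73, nat_lit 73, nat_lit 74, nat_lit 74], [nat_lit 73, nat_lit 73, nat_lit 73, nat_lit 73, nat_lit 74, nat_lit 74, nat_lit 74, nat_lit 74, nat_lit 74], [nat_lit 75, nat_lit 76, nat_lit 75, nat_lit 75, nat_lit 76, nat_lit 75, nat_lit 75, nat_lit 76, nat_lit 76, nat_lit 75, nat_lit 76, nat_lit 76], [nat_lit 75, nat_lit 76, nat_lit 75, nat_lit 76, nat_lit 76, nat_lit 75, nat_lit 75, nat_lit 76, nat_lit 76,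 nat_lit 75, nat_lit 75], [nat_lit 24, nat_lit 1, nat_lit 34, nat_lit 29, nat_lit 25, nat_lit 31, nat_lit 30, nat_lit 35, nat_lit 33, nat_lit 38, nat_lit 37, nat_lit 39, nat_lit 62, nat_lit 3, nat_lit 62, nat_lit 38, nat_lit 6, nat_lit 25, nat_lit 26, nat_lit 37, nat_lit 30, nat_lit 32, nat_lit 37, nat_lit 36, nat_lit 39, nat_lit 38], [nat_lit 8, nat_lit 37, nat_lit 8, nat_lit 29, nat_lit 26, nat_lit 31, nat_lit 29, nat_lit 33, nat_lit 33, nat_lit 37, nat_lit 62, nat_lit 1, nat_lit 3, nat_lit 62, nat_lit 23, nat_lit 28, nat_lit 0, nat_lit 32, nat_lit 29, nat_lit 36, nat_lit 32, nat_lit 35, nat_lit 36, nat_lit 39], [nat_lit 29, nat_lit 9, nat_lit 22, nat_lit 35, nat_lit 27, nat_lit 31, nat_lit 29, nat_lit 39, nat_lit 32, nat_lit 35, nat_lit 39, nat_lit 62, nat_lit 1, nat_lit 3, nat_lit 62, nat_lit 28, nat_lit 25, nat_lit 1, nat_lit 27, nat_lit 28, nat_lit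 25, nat_lit 35, nat_lit 31, nat_lit 34, nat_lit 32, nat_lit 39, nat_lit 38]]

noncomputable def e : Env := mkEnv P 3906 L0.LyFB.P.k (nat_lit 62) (nat_lit 82) (mix L0.LyFB.P.k L0.LyFB.P.T T1) L0.LyFB.P.bs Mt WH WG E0 (nat_lit 7)

noncomputable def IVt : L0.Dce.GT (List ℕ) := (.node (.node (.node (.node (.node (.node (.leaf [nat_lit 10]) (.leaf [nat_lit 32, nat_lit 32, nat_lit 32])) (.node (.leaf [nat_lit 7]) (.leaf [nat_lit 48, nat_lit 48, nat_lit 48, nat_lit 48, nat_lit 48, nat_lit 48, nat_lit 48]))) (.node (.node (.leaf [nat_lit 17]) (.leaf [nat_lit 11, nat_lit 0, nat_lit 38, nat_lit 27, nat_lit 33, nat_lit 29, nat_lit 36, nat_lit 32, nat_lit 38, nat_lit 35, nat_lit 39])) (.node (.leaf [nat_lit 24, nat_lit 24, nat_lit 24, nat_lit 24, nat_lit 24, nat_lit 24, nat_lit 24]) (.leaf [nat_lit 22, nat_lit 18, nat_lit 4, nat_lit 31, nat_lit 26, nat_lit 35,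 nat_lit 31, nat_lit 32, nat_lit 34, nat_lit 37])))) (.node (.node (.node (.leaf [nat_lit 4]) (.leaf [nat_lit 36, nat_lit 36, nat_lit 36])) (.node (.leaf [nat_lit 28, nat_lit 0, nat_lit 1, nat_lit 38, nat_lit 27, nat_lit 37, nat_lit 29, nat_lit 35, nat_lit 33, nat_lit 37, nat_lit 39]) (.leaf [nat_lit 30, nat_lit 16, nat_lit 0, nat_lit 25, nat_lit 27, nat_lit 29, nat_lit 29, nat_lit 39, nat_lit 33, nat_lit 37, nat_lit 36, nat_lit 38]))) (.node (.node (.leaf [nat_lit 2]) (.leaf [nat_lit 31, nat_lit 21, nat_lit 4, nat_lit 34, nat_lit 29, nat_lit 25, nat_lit 33, nat_lit 29, nat_lit 29, nat_lit 39, nat_lit 34, nat_lit 35, nat_lit 38])) (.node (.leaf [nat_lit 26, nat_lit 33, nat_lit 29, nat_lit 29, nat_lit 39, nat_lit 33, nat_lit 39, nat_lit 35, nat_lit 35, nat_lit 39]) (.leaf [nat_lit 28, nat_lit 16, nat_lit 8, nat_lit 31, nat_lit 27, nat_lit 30, nat_lit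 30, nat_lit 38, nat_lit 34, nat_lit 39, nat_lit 37]))))) (.node (.node (.node (.node (.leaf [nat_lit 12]) (.leaf [nat_lit 34, nat_lit 34, nat_lit 34])) (.node (.leaf [nat_lit 9]) (.leaf [nat_lit 50, nat_lit 50, nat_lit 50]))) (.node (.node (.leaf [nat_lit 0]) (.leaf [nat_lit 42, nat_lit 42, nat_lit 42, nat_lit 42, nat_lit 42, nat_lit 42])) (.node (.leaf [nat_lit 26, nat_lit 26, nat_lit 26]) (.leaf [nat_lit 58, nat_lit 58, nat_lit 58, nat_lit 58, nat_lit 58])))) (.node (.node (.node (.leaf [nat_lit 15]) (.leaf [nat_lit 38])) (.node (.leaf [nat_lit 22, nat_lit 22, nat_lit 22, nat_lit 22, nat_lit 22, nat_lit 22, nat_lit 22, nat_lit 22, nat_lit 22, nat_lit 22, nat_lit 22]) (.leaf [nat_lit 54, nat_lit 54, nat_lit 54]))) (.node (.node (.leaf [nat_lit 5]) (.leaf [nat_lit 27, nat_lit 19, nat_lit 8, nat_lit 29, nat_lit 26, nat_lit 33, nat_lit 31, nat_lit 36,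 nat_lit 32, nat_lit 37, nat_lit 36, nat_lit 39])) (.leaf [nat_lit 29, nat_lit 29, nat_lit 36, nat_lit 33, nat_lit 32, nat_lit 37, nat_lit 35, nat_lit 39, nat_lit 38]))))) (.node (.node (.node (.node (.node (.leaf [nat_lit 11]) (.leaf [nat_lit 36, nat_lit 33, nat_lit 32, nat_lit 37, nat_lit 35, nat_lit 39, nat_lit 38])) (.node (.leaf [nat_lit 8]) (.leaf [nat_lit 25, nat_lit 19, nat_lit 16, nat_lit 34, nat_lit 25, nat_lit 30, nat_lit 30, nat_lit 32, nat_lit 34, nat_lit 37, nat_lit 36, nat_lit 39, nat_lit 38]))) (.node (.node (.leaf [nat_lit 18]) (.leaf [nat_lit 41, nat_lit 41, nat_lit 41, nat_lit 41, nat_lit 41])) (.node (.leaf [nat_lit 25, nat_lit 25, nat_lit 25]) (.leaf [nat_lit 57, nat_lit 57, nat_lit 57, nat_lit 57, nat_lit 57])))) (.node (.node (.node (.leaf [nat_lit 14]) (.leaf [nat_lit 38, nat_lit 35, nat_lit 39, nat_lit 38])) (.node (.leaf [nat_lit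 29, nat_lit 12, nat_lit 0, nat_lit 35, nat_lit 25, nat_lit 34, nat_lit 29, nat_lit 39, nat_lit 33, nat_lit 32, nat_lit 36, nat_lit 37, nat_lit 38]) (.leaf [nat_lit 53, nat_lit 53, nat_lit 53, nat_lit 53, nat_lit 53, nat_lit 53, nat_lit 53, nat_lit 53, nat_lit 53, nat_lit 53, nat_lit 53]))) (.node (.node (.leaf [nat_lit 3]) (.leaf [nat_lit 20, nat_lit 11, nat_lit 2, nat_lit 26, nat_lit 32, nat_lit 29, nat_lit 33, nat_lit 34, nat_lit 37, nat_lit 39, nat_lit 35])) (.node (.leaf [nat_lit 35, nat_lit 31, nat_lit 32, nat_lit 39, nat_lit 35, nat_lit 35, nat_lit 39, nat_lit 38]) (.leaf [nat_lit 4, nat_lit 20, nat_lit 3, nat_lit 31, nat_lit 27, nat_lit 30, nat_lit 29, nat_lit 36, nat_lit 32, nat_lit 37, nat_lit 39, nat_lit 35]))))) (.node (.node (.node (.node (.leaf [nat_lit 13]) (.leaf [nat_lit 35, nat_lit 35, nat_lit 35])) (.node (.leaf [nat_lit 1, nat_lit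 20, nat_lit 4, nat_lit 31, nat_lit 28, nat_lit 25, nat_lit 33, nat_lit 29, nat_lit 29, nat_lit 39, nat_lit 34, nat_lit 37, nat_lit 36, nat_lit 39, nat_lit 38]) (.leaf [nat_lit 9, nat_lit 4, nat_lit 0, nat_lit 25, nat_lit 27, nat_lit 33, nat_lit 29, nat_lit 32, nat_lit 32, nat_lit 37, nat_lit 37, nat_lit 39]))) (.node (.node (.leaf [nat_lit 1]) (.leaf [nat_lit 43, nat_lit 43])) (.node (.leaf [nat_lit 25, nat_lit 26, nat_lit 33, nat_lit 29, nat_lit 29, nat_lit 39, nat_lit 33, nat_lit 39, nat_lit 35, nat_lit 35, nat_lit 39]) (.leaf [nat_lit 13, nat_lit 31, nat_lit 0, nat_lit 29, nat_lit 25, nat_lit 33, nat_lit 31, nat_lit 34, nat_lit 34, nat_lit 32, nat_lit 36, nat_lit 37, nat_lit 39, nat_lit 38])))) (.node (.node (.node (.leaf [nat_lit 16]) (.leaf [nat_lit 39, nat_lit 38])) (.node (.leaf [nat_lit 3, nat_lit 1]) (.leaf [nat_lit 55, nat_lit 55, nat_lit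 55, nat_lit 55, nat_lit 55, nat_lit 55, nat_lit 55, nat_lit 55, nat_lit 55]))) (.node (.node (.leaf [nat_lit 6]) (.leaf [nat_lit 30, nat_lit 11, nat_lit 2, nat_lit 26, nat_lit 28, nat_lit 25, nat_lit 31, nat_lit 29, nat_lit 32, nat_lit 32, nat_lit 38, nat_lit 35, nat_lit 38])) (.leaf [nat_lit 32, nat_lit 29, nat_lit 34, nat_lit 34, nat_lit 32, nat_lit 37, nat_lit 36, nat_lit 39, nat_lit 38]))))))

noncomputable def iv (s : ℕ) : List ℕ := L0.Dce.GT.get IVt s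

noncomputable def d1 : DCo := ⟨[nat_lit 62], dE1, nat_lit 300000⟩

noncomputable def d2 : DCo := ⟨[nat_lit 62, nat_lit 3, nat_lit 62], dE2, nat_lit 6048⟩

noncomputable def d3 : DCo := ⟨[nat_lit 62, nat_lit 3, nat_lit 4, nat_lit 62], dE3, nat_lit 2880⟩

noncomputable def d4 : DCo := ⟨[nat_lit 62, nat_lit 1, nat_lit 3, nat_lit 62], dE4, nat_lit 1008⟩

noncomputable def Wd : List DCo := [d1, d2, d3, d4]

noncomputable def Rl0 : List (List ℕ) := [[nat_lit 0, nat_lit 10], [nat_lit 1, nat_lit 11], [nat_lit 2, nat_lit 12], [nat_lit 3, nat_lit 13], [nat_lit 4, nat_lit 4], [nat_lit 5, nat_lit 14], [nat_lit 6, nat_lit 15], [nat_lit 7, nat_lit 16], [nat_lit 8, nat_lit 17], [nat_lit 9, nat_lit 18], [nat_lit 10, nat_lit 0], [nat_lit 11, nat_lit 1], [nat_lit 12, nat_lit 2], [nat_lit 13, nat_lit 3], [nat_lit 14, nat_lit 5], [nat_lit 15, nat_lit 6], [nat_lit 16,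 nat_lit 7], [nat_lit 17, nat_lit 8]]

noncomputable def Rl1 : List (List ℕ) := [[nat_lit 18, nat_lit 9], [nat_lit 19, nat_lit 20], [nat_lit 20, nat_lit 19], [nat_lit 0, nat_lit 0, nat_lit 0, nat_lit 0, nat_lit 0, nat_lit 0, nat_lit 0, nat_lit 0], [nat_lit 1, nat_lit 1, nat_lit 1, nat_lit 1, nat_lit 1], [nat_lit 0, nat_lit 1, nat_lit 0, nat_lit 1, nat_lit 0, nat_lit 1, nat_lit 0, nat_lit 1], [nat_lit 10, nat_lit 10, nat_lit 11, nat_lit 0, nat_lit 0, nat_lit 1]]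

noncomputable def Rl2 : List (List ℕ) := [[nat_lit 10, nat_lit 11, nat_lit 0, nat_lit 1, nat_lit 10, nat_lit 11, nat_lit 0, nat_lit 1, nat_lit 10, nat_lit 11, nat_lit 0, nat_lit 1], [nat_lit 5, nat_lit 12], [nat_lit 6, nat_lit 10, nat_lit 12, nat_lit 0], [nat_lit 7, nat_lit 11, nat_lit 12, nat_lit 1], [nat_lit 8, nat_lit 1, nat_lit 12, nat_lit 11], [nat_lit 9, nat_lit 15, nat_lit 14, nat_lit 6, nat_lit 5], [nat_lit 5, nat_lit 5, nat_lit 5, nat_lit 5, nat_lit 5]]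

noncomputable def Rl3 : List (List ℕ) := [[nat_lit 9, nat_lit 9, nat_lit 9, nat_lit 9, nat_lit 9], [nat_lit 14, nat_lit 18, nat_lit 5, nat_lit 9], [nat_lit 15, nat_lit 18, nat_lit 6, nat_lit 9], [nat_lit 16, nat_lit 18, nat_lit 7, nat_lit 9], [nat_lit 17, nat_lit 18, nat_lit 8, nat_lit 9], [nat_lit 14, nat_lit 16, nat_lit 5, nat_lit 7, nat_lit 9, nat_lit 9], [nat_lit 14, nat_lit 17, nat_lit 5, nat_lit 8, nat_lit 18, nat_lit 18]]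

noncomputable def Rl4 : List (List ℕ) := [[nat_lit 15, nat_lit 16, nat_lit 6, nat_lit 7, nat_lit 9], [nat_lit 15, nat_lit 17, nat_lit 6, nat_lit 8], [nat_lit 16, nat_lit 17, nat_lit 7, nat_lit 8, nat_lit 9], [nat_lit 10, nat_lit 6, nat_lit 0, nat_lit 5, nat_lit 5], [nat_lit 10, nat_lit 7, nat_lit 0, nat_lit 17, nat_lit 14, nat_lit 7, nat_lit 7], [nat_lit 10, nat_lit 8, nat_lit 0, nat_lit 17, nat_lit 14, nat_lit 17, nat_lit 7, nat_lit 6, nat_lit 14]]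

noncomputable def Rl5 : List (List ℕ) := [[nat_lit 10, nat_lit 9, nat_lit 0, nat_lit 18, nat_lit 18], [nat_lit 11, nat_lit 6, nat_lit 1, nat_lit 8, nat_lit 5, nat_lit 8, nat_lit 16, nat_lit 15], [nat_lit 11, nat_lit 7, nat_lit 1, nat_lit 7, nat_lit 7, nat_lit 17, nat_lit 14, nat_lit 14], [nat_lit 11, nat_lit 9, nat_lit 1, nat_lit 18]]

noncomputable def Rl6 : List (List ℕ) := [[nat_lit 4, nat_lit 13, nat_lit 14, nat_lit 13, nat_lit 1, nat_lit 10, nat_lit 11, nat_lit 14, nat_lit 13, nat_lit 10, nat_lit 14, nat_lit 0, nat_lit 14, nat_lit 10, nat_lit 5, nat_lit 0, nat_lit 1, nat_lit 1], [nat_lit 4, nat_lit 5, nat_lit 4, nat_lit 5, nat_lit 11, nat_lit 16, nat_lit 11], [nat_lit 4, nat_lit 7, nat_lit 4, nat_lit 0, nat_lit 8, nat_lit 5, nat_lit 15, nat_lit 10, nat_lit 11, nat_lit 11]]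

noncomputable def Rl7 : List (List ℕ) := [[nat_lit 4, nat_lit 8, nat_lit 4, nat_lit 17, nat_lit 7, nat_lit 11, nat_lit 11], [nat_lit 4, nat_lit 9, nat_lit 4, nat_lit 8, nat_lit 14, nat_lit 7, nat_lit 14], [nat_lit 4, nat_lit 0, nat_lit 0, nat_lit 4, nat_lit 8, nat_lit 18, nat_lit 14, nat_lit 10, nat_lit 1, nat_lit 10, nat_lit 11, nat_lit 11, nat_lit 10], [nat_lit 4, nat_lit 1, nat_lit 4, nat_lit 8, nat_lit 8, nat_lit 7, nat_lit 14]]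

noncomputable def Rl8 : List (List ℕ) := [[nat_lit 4, nat_lit 0, nat_lit 1, nat_lit 1, nat_lit 0, nat_lit 11, nat_lit 0, nat_lit 4, nat_lit 8, nat_lit 18, nat_lit 14, nat_lit 10, nat_lit 10], [nat_lit 4, nat_lit 6, nat_lit 4, nat_lit 15, nat_lit 4, nat_lit 6, nat_lit 17, nat_lit 0, nat_lit 7, nat_lit 0, nat_lit 0, nat_lit 0]]

noncomputable def Rl9 : List (List ℕ) := [[nat_lit 3, nat_lit 4, nat_lit 11, nat_lit 6, nat_lit 10, nat_lit 4, nat_lit 10, nat_lit 4, nat_lit 10, nat_lit 9, nat_lit 8, nat_lit 5, nat_lit 1, nat_lit 0, nat_lit 11, nat_lit 11, nat_lit 10], [nat_lit 3, nat_lit 3, nat_lit 10, nat_lit 10, nat_lit 10, nat_lit 10], [nat_lit 11, nat_lit 13, nat_lit 1, nat_lit 3], [nat_lit 13, nat_lit 0, nat_lit 3, nat_lit 10, nat_lit 10, nat_lit 10]]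

noncomputable def Rl10 : List (List ℕ) := [[nat_lit 3, nat_lit 9, nat_lit 3, nat_lit 9, nat_lit 3, nat_lit 9, nat_lit 3, nat_lit 9, nat_lit 3, nat_lit 9], [nat_lit 3, nat_lit 9, nat_lit 3, nat_lit 18, nat_lit 3, nat_lit 9, nat_lit 10, nat_lit 10], [nat_lit 20, nat_lit 5, nat_lit 19, nat_lit 10, nat_lit 11, nat_lit 2, nat_lit 10, nat_lit 1, nat_lit 2, nat_lit 11, nat_lit 0, nat_lit 1, nat_lit 0]]

noncomputable def Rl11 : List (List ℕ) := [[nat_lit 20, nat_lit 6, nat_lit 19, nat_lit 11, nat_lit 12, nat_lit 11, nat_lit 0, nat_lit 12, nat_lit 10, nat_lit 1, nat_lit 1], [nat_lit 20, nat_lit 7, nat_lit 19, nat_lit 10, nat_lit 11, nat_lit 10, nat_lit 12, nat_lit 0, nat_lit 1, nat_lit 0], [nat_lit 20, nat_lit 8, nat_lit 19, nat_lit 11, nat_lit 10, nat_lit 1, nat_lit 12, nat_lit 11, nat_lit 0, nat_lit 1]]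

noncomputable def Rl12 : List (List ℕ) := [[nat_lit 20, nat_lit 9, nat_lit 19, nat_lit 2, nat_lit 1, nat_lit 1, nat_lit 12, nat_lit 10, nat_lit 11, nat_lit 12, nat_lit 1, nat_lit 0, nat_lit 11, nat_lit 11], [nat_lit 20, nat_lit 0, nat_lit 19, nat_lit 0, nat_lit 0, nat_lit 0], [nat_lit 20, nat_lit 1, nat_lit 0, nat_lit 11, nat_lit 19, nat_lit 0, nat_lit 0, nat_lit 1, nat_lit 0, nat_lit 11]]

noncomputable def Rl13 : List (List ℕ) := [[nat_lit 20, nat_lit 1, nat_lit 1, nat_lit 0, nat_lit 11, nat_lit 11, nat_lit 19, nat_lit 0, nat_lit 1, nat_lit 1, nat_lit 10, nat_lit 11, nat_lit 11, nat_lit 10], [nat_lit 19, nat_lit 19, nat_lit 10, nat_lit 10]]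

noncomputable def Rl14 : List (List ℕ) := [[nat_lit 11, nat_lit 11, nat_lit 0, nat_lit 1, nat_lit 1, nat_lit 19, nat_lit 11, nat_lit 11, nat_lit 0, nat_lit 1, nat_lit 1, nat_lit 19, nat_lit 11, nat_lit 11, nat_lit 0, nat_lit 1, nat_lit 1, nat_lit 19, nat_lit 0, nat_lit 0]]

noncomputable def Rl15 : List (List ℕ) := [[nat_lit 12, nat_lit 13, nat_lit 10, nat_lit 12, nat_lit 10, nat_lit 1, nat_lit 12, nat_lit 13, nat_lit 19, nat_lit 10, nat_lit 3, nat_lit 11, nat_lit 12, nat_lit 10, nat_lit 1, nat_lit 12, nat_lit 13, nat_lit 1, nat_lit 12, nat_lit 11, nat_lit 10, nat_lit 12, nat_lit 0, nat_lit 11, nat_lit 0, nat_lit 1, nat_lit 0, nat_lit 11, nat_lit 19, nat_lit 10, nat_lit 12, nat_lit 13, nat_lit 0, nat_lit 12, nat_lit 11, nat_lit 0, nat_lit 12, nat_lit 13, nat_lit 10, nat_lit 12, nat_lit 0, nat_lit 2, nat_lit 11, nat_lit 11, nat_lit 12, nat_lit 11,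 nat_lit 10, nat_lit 11, nat_lit 11, nat_lit 19]]

noncomputable def Rl16 : List (List ℕ) := [[nat_lit 20, nat_lit 13, nat_lit 20, nat_lit 10, nat_lit 12, nat_lit 13, nat_lit 1, nat_lit 10, nat_lit 11, nat_lit 12, nat_lit 13, nat_lit 1, nat_lit 10, nat_lit 11, nat_lit 12, nat_lit 11, nat_lit 0, nat_lit 11, nat_lit 11, nat_lit 0, nat_lit 11, nat_lit 19, nat_lit 3, nat_lit 19, nat_lit 0, nat_lit 1, nat_lit 10, nat_lit 1, nat_lit 1, nat_lit 10, nat_lit 1, nat_lit 1, nat_lit 12, nat_lit 0, nat_lit 2, nat_lit 1, nat_lit 2, nat_lit 11, nat_lit 3, nat_lit 2, nat_lit 11, nat_lit 11, nat_lit 3, nat_lit 2, nat_lit 1, nat_lit 2]]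

noncomputable def Rl17 : List (List ℕ) := [[nat_lit 19, nat_lit 1, nat_lit 0, nat_lit 11, nat_lit 10, nat_lit 11, nat_lit 11, nat_lit 10, nat_lit 11, nat_lit 2, nat_lit 1, nat_lit 1, nat_lit 2, nat_lit 1, nat_lit 3, nat_lit 2, nat_lit 11, nat_lit 11, nat_lit 3, nat_lit 2, nat_lit 1, nat_lit 2, nat_lit 19, nat_lit 0, nat_lit 11, nat_lit 11, nat_lit 10, nat_lit 2, nat_lit 1, nat_lit 12, nat_lit 1, nat_lit 10, nat_lit 12, nat_lit 12, nat_lit 3, nat_lit 2, nat_lit 0, nat_lit 2, nat_lit 10, nat_lit 2, nat_lit 11, nat_lit 13, nat_lit 20, nat_lit 12, nat_lit 11, nat_lit 12, nat_lit 13, nat_lit 1, nat_lit 1, nat_lit 12, nat_lit 13, nat_lit 11, nat_lit 12, nat_lit 11, nat_lit 11, nat_lit 12, nat_lit 1, nat_lit 0, nat_lit 1, nat_lit 1, nat_lit 0, nat_lit 1, nat_lit 10, nat_lit 11, nat_lit 20, nat_lit 13, nat_lit 0, nat_lit 2, nat_lit 1, nat_lit 2, nat_lit 10,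 nat_lit 12, nat_lit 13, nat_lit 0, nat_lit 11, nat_lit 10, nat_lit 2, nat_lit 10, nat_lit 11, nat_lit 11, nat_lit 10, nat_lit 1, nat_lit 10]]

noncomputable def Rl18 : List (List ℕ) := [[nat_lit 19, nat_lit 1, nat_lit 3, nat_lit 19, nat_lit 1, nat_lit 1, nat_lit 10, nat_lit 11, nat_lit 10, nat_lit 1, nat_lit 1, nat_lit 12, nat_lit 0, nat_lit 2, nat_lit 10, nat_lit 12, nat_lit 3, nat_lit 12, nat_lit 1, nat_lit 1, nat_lit 10, nat_lit 2, nat_lit 1, nat_lit 20, nat_lit 13, nat_lit 11, nat_lit 20, nat_lit 12, nat_lit 10, nat_lit 2, nat_lit 1, nat_lit 12, nat_lit 13, nat_lit 2, nat_lit 10, nat_lit 2, nat_lit 0, nat_lit 2, nat_lit 11, nat_lit 10, nat_lit 11, nat_lit 10, nat_lit 1]]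

noncomputable def Rl : List (List ℕ) := Rl0 ++ (Rl1 ++ (Rl2 ++ (Rl3 ++ (Rl4 ++ (Rl5 ++ (Rl6 ++ (Rl7 ++ (Rl8 ++ (Rl9 ++ (Rl10 ++ (Rl11 ++ (Rl12 ++ (Rl13 ++ (Rl14 ++ (Rl15 ++ (Rl16 ++ (Rl17 ++ (Rl18))))))))))))))))))

noncomputable def dfB (j : ℕ) : Bool := Nat.blt j L0.LyFB.P.k || Nat.beq j (nat_lit 62) || Nat.beq j ((nat_lit 62) + 1) ||
  P.defB Mt (mkDf L0.LyFB.P.k (nat_lit 62) WH WG) (nat_lit 82) j

noncomputable def c1l2rD : ℕ := nat_lit 0xd147a091683ac0004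

noncomputable def c1l2r (c : ℕ) : ℕ := Nat.land (Nat.shiftRight c1l2rD (Nat.mul (nat_lit 17) c)) (nat_lit 131071)

noncomputable def c1l2 : L0.LvP := ⟨nat_lit 4095, nat_lit 12, nat_lit 1, nat_lit 13, nat_lit 3, nat_lit 15, nat_lit 4, nat_lit 4⟩

noncomputable def c1l2S : List (List ℕ) := [[nat_lit 21, nat_lit 35, nat_lit 1, nat_lit 35, nat_lit 27, nat_lit 29, nat_lit 29, nat_lit 37, nat_lit 34, nat_lit 38, nat_lit 35, nat_lit 39]]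

noncomputable def c1l1rD : ℕ := nat_lit 0x53dd13babde2b5c76aa3120cbc55e44f1b1529b6f882b4c42d0a4807fd8c2af83934b80836ba320a618ac9831dac0bda20335c012708053bc0274a00a00003

noncomputable def c1l1r (c : ℕ) : ℕ := Nat.land (Nat.shiftRight c1l1rD (Nat.mul (nat_lit 21) c)) (nat_lit 2097151)

noncomputable def c1l1 : L0.LvP := ⟨nat_lit 4095, nat_lit 12, nat_lit 1, nat_lit 13, nat_lit 31, nat_lit 18, nat_lit 24, nat_lit 3⟩

noncomputable def c1l1S : List (List ℕ) := [[nat_lit 19, nat_lit 11, nat_lit 28, nat_lit 36, nat_lit 32, nat_lit 35, nat_lit 37, nat_lit 35], [nat_lit 4, nat_lit 2, nat_lit 4, nat_lit 37, nat_lit 29, nat_lit 37, nat_lit 33, nat_lit 32, nat_lit 35, nat_lit 37, nat_lit 35, nat_lit 39]]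

noncomputable def c1l0rB : L0.BT := (.node (.node (.leaf c1l0rB_0) (.leaf c1l0rB_2)) (.node (.leaf c1l0rB_1) (.leaf c1l0rB_3)))

noncomputable def c1l0r (c : ℕ) : ℕ := L0.rowOf c1l0rB (nat_lit 10) (nat_lit 1023) (nat_lit 29) (nat_lit 536870911) c

noncomputable def c1l0 : L0.LvP := ⟨nat_lit 4095, nat_lit 12, nat_lit 1, nat_lit 13, nat_lit 4095, nat_lit 25, nat_lit 3125, nat_lit 1⟩

noncomputable def c1l0S : List (List ℕ) := [[nat_lit 16, nat_lit 31, nat_lit 3, nat_lit 27, nat_lit 28, nat_lit 25, nat_lit 29, nat_lit 29, nat_lit 39, nat_lit 34, nat_lit 37, nat_lit 38], [nat_lit 24, nat_lit 15, nat_lit 2, nat_lit 28, nat_lit 31, nat_lit 36, nat_lit 29, nat_lit 37, nat_lit 33, nat_lit 32, nat_lit 38, nat_lit 35, nat_lit 39, nat_lit 38]]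

noncomputable def c2l3rD : ℕ := nat_lit 0x4147e8916c3ac0004

noncomputable def c2l3r (c : ℕ) : ℕ := Nat.land (Nat.shiftRight c2l3rD (Nat.mul (nat_lit 17) c)) (nat_lit 131071)

noncomputable def c2l3 : L0.LvP := ⟨nat_lit 4095, nat_lit 12, nat_lit 1, nat_lit 13, nat_lit 3, nat_lit 15, nat_lit 4, nat_lit 4⟩

noncomputable def c2l3S : List (List ℕ) := [[nat_lit 30, nat_lit 35, nat_lit 4, nat_lit 25, nat_lit 26, nat_lit 29, nat_lit 29, nat_lit 39, nat_lit 33, nat_lit 32, nat_lit 37, nat_lit 35]]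

noncomputable def c2l2rD : ℕ := nat_lit 0x4264e927ec01e0000

noncomputable def c2l2r (c : ℕ) : ℕ := Nat.land (Nat.shiftRight c2l2rD (Nat.mul (nat_lit 17) c)) (nat_lit 131071)

noncomputable def c2l2 : L0.LvP := ⟨nat_lit 4095, nat_lit 12, nat_lit 1, nat_lit 13, nat_lit 3, nat_lit 15, nat_lit 4, nat_lit 0⟩

noncomputable def c2l2S : List (List ℕ) := [[nat_lit 16, nat_lit 25, nat_lit 4, nat_lit 33, nat_lit 25, nat_lit 34, nat_lit 29, nat_lit 34, nat_lit 36, nat_lit 35, nat_lit 39, nat_lit 38]]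

noncomputable def c2l1rD : ℕ := nat_lit 0x90463702f54025200241001ab001

noncomputable def c2l1r (c : ℕ) : ℕ := Nat.land (Nat.shiftRight c2l1rD (Nat.mul (nat_lit 19) c)) (nat_lit 524287)

noncomputable def c2l1 : L0.LvP := ⟨nat_lit 4095, nat_lit 12, nat_lit 1, nat_lit 13, nat_lit 7, nat_lit 16, nat_lit 6, nat_lit 3⟩

noncomputable def c2l1S : List (List ℕ) := [[nat_lit 22, nat_lit 19, nat_lit 0, nat_lit 31, nat_lit 28, nat_lit 25, nat_lit 31, nat_lit 30, nat_lit 36, nat_lit 32], [nat_lit 9, nat_lit 19, nat_lit 7, nat_lit 31, nat_lit 28, nat_lit 25, nat_lit 33, nat_lit 29, nat_lit 35, nat_lit 33, nat_lit 37, nat_lit 36, nat_lit 38]]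

noncomputable def c2l0r (c : ℕ) : ℕ := Nat.land (Nat.shiftRight c2l0rD (Nat.mul (nat_lit 22) c)) (nat_lit 4194303)

noncomputable def c2l0 : L0.LvP := ⟨nat_lit 4095, nat_lit 12, nat_lit 1, nat_lit 13, nat_lit 63, nat_lit 19, nat_lit 63, nat_lit 2⟩

noncomputable def c2l0S : List (List ℕ) := [[nat_lit 32, nat_lit 36, nat_lit 0, nat_lit 38, nat_lit 27, nat_lit 39, nat_lit 34, nat_lit 37, nat_lit 39, nat_lit 35, nat_lit 39, nat_lit 38], [nat_lit 21, nat_lit 19, nat_lit 4, nat_lit 32, nat_lit 25, nat_lit 36, nat_lit 29, nat_lit 35, nat_lit 33, nat_lit 39, nat_lit 35, nat_lit 35, nat_lit 39, nat_lit 38]]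

noncomputable def c3l2rD : ℕ := nat_lit 0xd017a004a80120003

noncomputable def c3l2r (c : ℕ) : ℕ := Nat.land (Nat.shiftRight c3l2rD (Nat.mul (nat_lit 17) c)) (nat_lit 131071)

noncomputable def c3l2 : L0.LvP := ⟨nat_lit 4095, nat_lit 12, nat_lit 1, nat_lit 13, nat_lit 3, nat_lit 15, nat_lit 4, nat_lit 3⟩

noncomputable def c3l2S : List (List ℕ) := [[nat_lit 20, nat_lit 20, nat_lit 35, nat_lit 25, nat_lit 31, nat_lit 30, nat_lit 34, nat_lit 33, nat_lit 39]]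

noncomputable def c3l1rD : ℕ := nat_lit 0x7a0e5c521128661cdc9a3395b8646a50b762312a1d622334843c908799a203e3920689c00a22281282001812202f84c024c780250c001800001

noncomputable def c3l1r (c : ℕ) : ℕ := Nat.land (Nat.shiftRight c3l1rD (Nat.mul (nat_lit 23) c)) (nat_lit 8388607)

noncomputable def c3l1 : L0.LvP := ⟨nat_lit 4095, nat_lit 12, nat_lit 1, nat_lit 13, nat_lit 31, nat_lit 18, nat_lit 20, nat_lit 1⟩

noncomputable def c3l1S : List (List ℕ) := [[nat_lit 7, nat_lit 7, nat_lit 28, nat_lit 29, nat_lit 29, nat_lit 39, nat_lit 34, nat_lit 37, nat_lit 36, nat_lit 38]]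

noncomputable def c3l0rD : ℕ := nat_lit 0x46fc411af0c207aaa35e78e877a20dde069b2e303b3181eb0dc6aab69e5369191ea4a145c4808a41fdbb97e950dd1e337438edc33026d963da058e649201862b6608a8936ac04d78d12a23a497508fd1c5285a909661f11871c3c61c08ca4c20000000

noncomputable def c3l0r (c : ℕ) : ℕ := Nat.land (Nat.shiftRight c3l0rD (Nat.mul (nat_lit 22) c)) (nat_lit 4194303)

noncomputable def c3l0 : L0.LvP := ⟨nat_lit 4095, nat_lit 12, nat_lit 1, nat_lit 13, nat_lit 63, nat_lit 19, nat_lit 36, nat_lit 0⟩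

noncomputable def c3l0S : List (List ℕ) := [[nat_lit 10, nat_lit 15, nat_lit 7, nat_lit 34, nat_lit 25, nat_lit 34, nat_lit 29, nat_lit 39, nat_lit 34, nat_lit 36, nat_lit 35, nat_lit 39], [nat_lit 38, nat_lit 15, nat_lit 25, nat_lit 26, nat_lit 29, nat_lit 32, nat_lit 34, nat_lit 32, nat_lit 35, nat_lit 37, nat_lit 37]]

noncomputable def bsrB : L0.BT := (.node (.node (.node (.node (.node (.node (.leaf bsrB_0) (.leaf bsrB_32)) (.node (.leaf bsrB_16) (.leaf bsrB_48))) (.node (.node (.leaf bsrB_8) (.leaf bsrB_40)) (.node (.leaf bsrB_24) (.leaf bsrB_56)))) (.node (.node (.node (.leaf bsrB_4) (.leaf bsrB_36)) (.node (.leaf bsrB_20) (.leaf bsrB_52))) (.node (.node (.leaf bsrB_12) (.leaf bsrB_44)) (.node (.leaf bsrB_28) (.leaf bsrB_60))))) (.node (.node (.node (.node (.leaf bsrB_2) (.leaf bsrB_34)) (.node (.leaf bsrB_18) (.leaf bsrB_50))) (.node (.node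 (.leaf bsrB_10) (.leaf bsrB_42)) (.node (.leaf bsrB_26) (.leaf bsrB_58)))) (.node (.node (.node (.leaf bsrB_6) (.leaf bsrB_38)) (.node (.leaf bsrB_22) (.leaf bsrB_54))) (.node (.node (.leaf bsrB_14) (.leaf bsrB_46)) (.node (.leaf bsrB_30) (.leaf bsrB_62)))))) (.node (.node (.node (.node (.node (.leaf bsrB_1) (.leaf bsrB_33)) (.node (.leaf bsrB_17) (.leaf bsrB_49))) (.node (.node (.leaf bsrB_9) (.leaf bsrB_41)) (.node (.leaf bsrB_25) (.leaf bsrB_57)))) (.node (.node (.node (.leaf bsrB_5) (.leaf bsrB_37)) (.node (.leaf bsrB_21) (.leaf bsrB_53))) (.node (.node (.leaf bsrB_13) (.leaf bsrB_45)) (.node (.leaf bsrB_29) (.leaf bsrB_61))))) (.node (.node (.node (.node (.leaf bsrB_3) (.leaf bsrB_35)) (.node (.leaf bsrB_19) (.leaf bsrB_51))) (.node (.node (.leaf bsrB_11) (.leaf bsrB_43)) (.node (.leaf bsrB_27) (.leaf bsrB_59)))) (.node (.node (.node (.leaf bsrB_7)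 (.leaf bsrB_39)) (.node (.leaf bsrB_23) (.leaf bsrB_55))) (.node (.node (.leaf bsrB_15) (.leaf bsrB_47)) (.leaf bsrB_31))))))

noncomputable def bsr (c : ℕ) : ℕ := L0.rowOf bsrB (nat_lit 4) (nat_lit 15) (nat_lit 2458) (nat_lit 85453399027483374921612816927423979192948661820823571601186777066284703664300129397755137177377683732107120192614742736693467097973465971711427144093427213298285560839812333630726338123756961938987326246029074395785698751018916386776686312064660789728349045013556417284604539054774825078944024326879010692385369316436405566260547838879312993449322875077504011224798475387393920627916347798880494540841507365682834177537925807245865647036099294935722026545330790984210031101185127767445018826425039149271803131838567572118094283787493399927443619048139396443632340729402686008126202993092938339003150141659842270230615678883218228008753685953131373408394157617810265654928572959699351956892394415024768298742138153440069708694816694409887743)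 c

noncomputable def bs : L0.LvP := ⟨pmV, nat_lit 2442, nat_lit 3, nat_lit 2444, nat_lit 1023, nat_lit 2454, nat_lit 1008, bv⟩

noncomputable def bsS : List (List ℕ) := [[nat_lit 2, nat_lit 24, nat_lit 7, nat_lit 28, nat_lit 25, nat_lit 30, nat_lit 34, nat_lit 32, nat_lit 39, nat_lit 35, nat_lit 39, nat_lit 38], [nat_lit 28, nat_lit 25, nat_lit 8, nat_lit 29, nat_lit 25, nat_lit 36, nat_lit 29, nat_lit 33, nat_lit 35], [nat_lit 22, nat_lit 6, nat_lit 4, nat_lit 38, nat_lit 27, nat_lit 33, nat_lit 30, nat_lit 29, nat_lit 39, nat_lit 34, nat_lit 39, nat_lit 37]]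

noncomputable def X : List ℕ := [bs.β] ++ [e.E, d4.E]

noncomputable def v0l1rB : L0.BT := (.node (.node (.leaf v0l1rB_0) (.leaf v0l1rB_2)) (.leaf v0l1rB_1))

noncomputable def v0l1r (c : ℕ) : ℕ := L0.rowOf v0l1rB (nat_lit 4) (nat_lit 15) (nat_lit 2452) (nat_lit 1335209359804427733150200264490999674889822840950368306268543391660698494754689521839924018396526308314173753009605355260835423405835405807991049126459800207785711888122067712980099033183702530296676972594204287434151542984670568543385723626010324839505453828336819020071945922730856641858500380107484542068521395569318836972821059982489265522645669923086000175387476177928030009811192934357507727200648552588794284024030090738216650734939051483370656664770793609128281735956017621366328419162891236707371923934977618314345223184179584373866306547627178069431755323896916968876971921767077161546924220963435035472353369982550284812636776343017677709506158712778285400858258952495302374326443662734762004667845908647501089198356510850154495)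 c

noncomputable def v0l1 : L0.LvP := ⟨pmV, nat_lit 2442, nat_lit 1, nat_lit 2443, nat_lit 63, nat_lit 2449, nat_lit 48, v0l1v⟩

noncomputable def v0l1tD : ℕ := nat_lit 0xb1616021d0112e61136a425c85f3656eba990923035ca40fbc6b68b8e05e2973d09e97e17818944401af54780594d98b3aea2d5ac48291a8d85221d566aa676230cc7094c4adb748

noncomputable def v0l1t (c : ℕ) : ℕ := Nat.land (Nat.shiftRight v0l1tD (Nat.mul (nat_lit 12) c)) (nat_lit 4095)

noncomputable def v0l1S : List ℕ := [nat_lit 71, nat_lit 72]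

noncomputable def v0l0rB : L0.BT := (.node (.node (.leaf v0l0rB_0) (.leaf v0l0rB_2)) (.leaf v0l0rB_1))

noncomputable def v0l0r (c : ℕ) : ℕ := L0.rowOf v0l0rB (nat_lit 4) (nat_lit 15) (nat_lit 2453) (nat_lit 2670418719608855466300400528981999349779645681900736612537086783321396989509379043679848036793052616628347506019210710521670846811670811615982098252919600415571423776244135425960198066367405060593353945188408574868303085969341137086771447252020649679010907656673638040143891845461713283717000760214969084137042791138637673945642119964978531045291339846172000350774952355856060019622385868715015454401297105177588568048060181476433301469878102966741313329541587218256563471912035242732656838325782473414743847869955236628690446368359168747732613095254356138863510647793833937753943843534154323093848441926870070944706739965100569625273552686035355419012317425556570801716517904990604748652887325469524009335691817295002178396713021700308991)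 c

noncomputable def v0l0 : L0.LvP := ⟨pmV, nat_lit 2442, nat_lit 1, nat_lit 2443, nat_lit 63, nat_lit 2449, nat_lit 48, v0l0v⟩

noncomputable def v0l0tD : ℕ := nat_lit 0x76f4da60e1055190917952129620cba162432d08676a016145b4083cd902b5f72e32b38c8c45656e9acf9c0be82aa5e3a945ad99d658a66341889b9e00704682cb177e449c18a1d3

noncomputable def v0l0t (c : ℕ) : ℕ := Nat.land (Nat.shiftRight v0l0tD (Nat.mul (nat_lit 12) c)) (nat_lit 4095)

noncomputable def v0l0S : List ℕ := [nat_lit 69, nat_lit 70]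

noncomputable def v1l2rB : L0.BT := (.node (.node (.node (.leaf v1l2rB_0) (.leaf v1l2rB_4)) (.node (.leaf v1l2rB_2) (.leaf v1l2rB_6))) (.node (.node (.leaf v1l2rB_1) (.leaf v1l2rB_5)) (.leaf v1l2rB_3)))

noncomputable def v1l2r (c : ℕ) : ℕ := L0.rowOf v1l2rB (nat_lit 4) (nat_lit 15) (nat_lit 2454) (nat_lit 5340837439217710932600801057963998699559291363801473225074173566642793979018758087359696073586105233256695012038421421043341693623341623231964196505839200831142847552488270851920396132734810121186707890376817149736606171938682274173542894504041299358021815313347276080287783690923426567434001520429938168274085582277275347891284239929957062090582679692344000701549904711712120039244771737430030908802594210355177136096120362952866602939756205933482626659083174436513126943824070485465313676651564946829487695739910473257380892736718337495465226190508712277727021295587667875507887687068308646187696883853740141889413479930201139250547105372070710838024634851113141603433035809981209497305774650939048018671383634590004356793426043400617983)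 c

noncomputable def v1l2 : L0.LvP := ⟨pmV, nat_lit 2442, nat_lit 1, nat_lit 2443, nat_lit 127, nat_lit 2450, nat_lit 108, v1l2v⟩

noncomputable def v1l2t (c : ℕ) : ℕ := Nat.land (Nat.shiftRight v1l2tD (Nat.mul (nat_lit 14) c)) (nat_lit 16383)

noncomputable def v1l2S : List ℕ := [nat_lit 77, nat_lit 78]

noncomputable def v1l1rB : L0.BT := (.node (.node (.leaf v1l1rB_0) (.leaf v1l1rB_2)) (.node (.leaf v1l1rB_1) (.leaf v1l1rB_3)))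

noncomputable def v1l1r (c : ℕ) : ℕ := L0.rowOf v1l1rB (nat_lit 4) (nat_lit 15) (nat_lit 2452) (nat_lit 1335209359804427733150200264490999674889822840950368306268543391660698494754689521839924018396526308314173753009605355260835423405835405807991049126459800207785711888122067712980099033183702530296676972594204287434151542984670568543385723626010324839505453828336819020071945922730856641858500380107484542068521395569318836972821059982489265522645669923086000175387476177928030009811192934357507727200648552588794284024030090738216650734939051483370656664770793609128281735956017621366328419162891236707371923934977618314345223184179584373866306547627178069431755323896916968876971921767077161546924220963435035472353369982550284812636776343017677709506158712778285400858258952495302374326443662734762004667845908647501089198356510850154495) c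

noncomputable def v1l1 : L0.LvP := ⟨pmV, nat_lit 2442, nat_lit 1, nat_lit 2443, nat_lit 63, nat_lit 2449, nat_lit 54, v1l1v⟩

noncomputable def v1l1tD : ℕ := nat_lit 0x8876caa604565849930153b48321b06881235de0e14982680599ce211867d4d7498ef2c1b50af13dc70ba29baccc235708cbe47a591a42dc9bd2b605c6aa834ee952c067d4b001e656230f67317529d51f

noncomputable def v1l1t (c : ℕ) : ℕ := Nat.land (Nat.shiftRight v1l1tD (Nat.mul (nat_lit 12) c)) (nat_lit 4095)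

noncomputable def v1l1S : List ℕ := [nat_lit 75, nat_lit 76]

noncomputable def v1l0rB : L0.BT := (.node (.leaf v1l0rB_0) (.leaf v1l0rB_1))

noncomputable def v1l0r (c : ℕ) : ℕ := L0.rowOf v1l0rB (nat_lit 4) (nat_lit 15) (nat_lit 2451) (nat_lit 667604679902213866575100132245499837444911420475184153134271695830349247377344760919962009198263154157086876504802677630417711702917702903995524563229900103892855944061033856490049516591851265148338486297102143717075771492335284271692861813005162419752726914168409510035972961365428320929250190053742271034260697784659418486410529991244632761322834961543000087693738088964015004905596467178753863600324276294397142012015045369108325367469525741685328332385396804564140867978008810683164209581445618353685961967488809157172611592089792186933153273813589034715877661948458484438485960883538580773462110481717517736176684991275142406318388171508838854753079356389142700429129476247651187163221831367381002333922954323750544599178255425077247)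 c

noncomputable def v1l0 : L0.LvP := ⟨pmV, nat_lit 2442, nat_lit 1, nat_lit 2443, nat_lit 31, nat_lit 2448, nat_lit 30, v1l0v⟩

noncomputable def v1l0tD : ℕ := nat_lit 0xaa96e953a4d203d7832bb170329db61c68c13f9a50937884063ee0d35498bcd9c7267944b70

noncomputable def v1l0t (c : ℕ) : ℕ := Nat.land (Nat.shiftRight v1l0tD (Nat.mul (nat_lit 10) c)) (nat_lit 1023)

noncomputable def v1l0S : List ℕ := [nat_lit 73, nat_lit 74]

noncomputable def v2l0r (c : ℕ) : ℕ := Nat.land (Nat.shiftRight v2l0rD (Nat.mul (nat_lit 2451) c)) (nat_lit 667604679902213866575100132245499837444911420475184153134271695830349247377344760919962009198263154157086876504802677630417711702917702903995524563229900103892855944061033856490049516591851265148338486297102143717075771492335284271692861813005162419752726914168409510035972961365428320929250190053742271034260697784659418486410529991244632761322834961543000087693738088964015004905596467178753863600324276294397142012015045369108325367469525741685328332385396804564140867978008810683164209581445618353685961967488809157172611592089792186933153273813589034715877661948458484438485960883538580773462110481717517736176684991275142406318388171508838854753079356389142700429129476247651187163221831367381002333922954323750544599178255425077247)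

noncomputable def v2l0 : L0.LvP := ⟨pmV, nat_lit 2442, nat_lit 1, nat_lit 2443, nat_lit 15, nat_lit 2447, nat_lit 11, v2l0v⟩

noncomputable def v2l0tD : ℕ := nat_lit 0x1623875904a

noncomputable def v2l0t (c : ℕ) : ℕ := Nat.land (Nat.shiftRight v2l0tD (Nat.mul (nat_lit 4) c)) (nat_lit 15)

noncomputable def v2l0S : List ℕ := [nat_lit 79]

noncomputable def v3l0rB : L0.BT := (.node (.node (.leaf v3l0rB_0) (.leaf v3l0rB_2)) (.leaf v3l0rB_1))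

noncomputable def v3l0r (c : ℕ) : ℕ := L0.rowOf v3l0rB (nat_lit 4) (nat_lit 15) (nat_lit 2455) (nat_lit 10681674878435421865201602115927997399118582727602946450148347133285587958037516174719392147172210466513390024076842842086683387246683246463928393011678401662285695104976541703840792265469620242373415780753634299473212343877364548347085789008082598716043630626694552160575567381846853134868003040859876336548171164554550695782568479859914124181165359384688001403099809423424240078489543474860061817605188420710354272192240725905733205879512411866965253318166348873026253887648140970930627353303129893658975391479820946514761785473436674990930452381017424555454042591175335751015775374136617292375393767707480283778826959860402278501094210744141421676049269702226283206866071619962418994611549301878096037342767269180008713586852086801235967) c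

noncomputable def v3l0 : L0.LvP := ⟨pmV, nat_lit 2442, nat_lit 1, nat_lit 2443, nat_lit 63, nat_lit 2449, nat_lit 37, v3l0v⟩

noncomputable def v3l0tD : ℕ := nat_lit 0x2271b44481d5901a12c509790030e60d54a0497c31d221a79352364f

noncomputable def v3l0t (c : ℕ) : ℕ := Nat.land (Nat.shiftRight v3l0tD (Nat.mul (nat_lit 6) c)) (nat_lit 63)

noncomputable def v3l0S : List ℕ := [nat_lit 80]

noncomputable def v4l0rB : L0.BT := (.node (.node (.node (.leaf v4l0rB_0) (.leaf v4l0rB_4)) (.leaf v4l0rB_2)) (.node (.leaf v4l0rB_1) (.leaf v4l0rB_3)))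

noncomputable def v4l0r (c : ℕ) : ℕ := L0.rowOf v4l0rB (nat_lit 4) (nat_lit 15) (nat_lit 2457) (nat_lit 42726699513741687460806408463711989596474330910411785800593388533142351832150064698877568588688841866053560096307371368346733548986732985855713572046713606649142780419906166815363169061878480969493663123014537197892849375509458193388343156032330394864174522506778208642302269527387412539472012163439505346192684658218202783130273919439656496724661437538752005612399237693696960313958173899440247270420753682841417088768962903622932823518049647467861013272665395492105015550592563883722509413212519574635901565919283786059047141893746699963721809524069698221816170364701343004063101496546469169501575070829921135115307839441609114004376842976565686704197078808905132827464286479849675978446197207512384149371069076720034854347408347204943871) c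

noncomputable def v4l0 : L0.LvP := ⟨pmV, nat_lit 2442, nat_lit 1, nat_lit 2443, nat_lit 127, nat_lit 2450, nat_lit 67, v4l0v⟩

noncomputable def v4l0tD : ℕ := nat_lit 0x2183158ad4224a0d0ae7218eb37a70d044e643977ebc99e2228dc128a96c2189083612ddd8b70c878578a5d403e047187cd4b0d0480aa34cd0012

noncomputable def v4l0t (c : ℕ) : ℕ := Nat.land (Nat.shiftRight v4l0tD (Nat.mul (nat_lit 7) c)) (nat_lit 127)

noncomputable def v4l0S : List ℕ := [nat_lit 81]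

noncomputable def LA0t (c : ℕ) : ℕ := Nat.land (Nat.shiftRight LA0tD (Nat.mul (nat_lit 6) c)) (nat_lit 63)

noncomputable def LA0 : SLv := ⟨⟨nat_lit 172, LA0t, nat_lit 1099511611359, nat_lit 5, nat_lit 3906, fun i => i⟩, true, [nat_lit 1264, nat_lit 2830, nat_lit 2309, nat_lit 2952, nat_lit 287, nat_lit 619, nat_lit 2965, nat_lit 3149, nat_lit 1985, nat_lit 2130, nat_lit 3252, nat_lit 1018, nat_lit 865, nat_lit 3334, nat_lit 194, nat_lit 1638, nat_lit 3564, nat_lit 1392, nat_lit 2447, nat_lit 320, nat_lit 221, nat_lit 2706, nat_lit 1338, nat_lit 2963, nat_lit 1374, nat_lit 1469, nat_lit 1486, nat_lit 413, nat_lit 1947, nat_lit 834, nat_lit 172], [nat_lit 40], nat_lit 30, []⟩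

noncomputable def LA1t (c : ℕ) : ℕ := Nat.land (Nat.shiftRight LA1tD (Nat.mul (nat_lit 6) c)) (nat_lit 63)

noncomputable def LA1pD : ℕ := nat_lit 0xe86e73dbfd11cb9c53c28b43b17afea169729257c773871e6965f959c55a5505454f049747b3eb34224a1c7071

noncomputable def LA1p (c : ℕ) : ℕ := Nat.land (Nat.shiftRight LA1pD (Nat.mul (nat_lit 12) c)) (nat_lit 4095)

noncomputable def LA1 : SLv := ⟨⟨nat_lit 1264, LA1t, nat_lit 893319643136, nat_lit 4, nat_lit 30, LA1p⟩, false, [], [], nat_lit 0, []⟩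

noncomputable def LA2t (c : ℕ) : ℕ := Nat.land (Nat.shiftRight LA2tD (Nat.mul (nat_lit 6) c)) (nat_lit 63)

noncomputable def LA2pD : ℕ := nat_lit 0xf32ec5e68df8bfcb91b87b61b0e96f5de47c45e43541f4193ec3c43432a026f25723a232022

noncomputable def LA2p (c : ℕ) : ℕ := Nat.land (Nat.shiftRight LA2pD (Nat.mul (nat_lit 12) c)) (nat_lit 4095)

noncomputable def LA2 : SLv := ⟨⟨nat_lit 2830, LA2t, nat_lit 274341036032, nat_lit 4, nat_lit 25, LA2p⟩, false, [], [], nat_lit 0, []⟩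

noncomputable def LA3t (c : ℕ) : ℕ := Nat.land (Nat.shiftRight LA3tD (Nat.mul (nat_lit 6) c)) (nat_lit 63)

noncomputable def LA3pD : ℕ := nat_lit 0xe5fc64b7cacaa78a1d9f890a9058aa86d74e6e647f42637932328a2682551ad13a0e50b608e

noncomputable def LA3p (c : ℕ) : ℕ := Nat.land (Nat.shiftRight LA3pD (Nat.mul (nat_lit 12) c)) (nat_lit 4095)

noncomputable def LA3 : SLv := ⟨⟨nat_lit 2309, LA3t, nat_lit 1095216660480, nat_lit 4, nat_lit 25, LA3p⟩, false, [], [], nat_lit 0, []⟩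

noncomputable def LA4t (c : ℕ) : ℕ := Nat.land (Nat.shiftRight LA4tD (Nat.mul (nat_lit 6) c)) (nat_lit 63)

noncomputable def LA4pD : ℕ := nat_lit 0xe08d81cbdc9ab88af1aac92c6fc6d66816275f751442236e31f290143102

noncomputable def LA4p (c : ℕ) : ℕ := Nat.land (Nat.shiftRight LA4pD (Nat.mul (nat_lit 12) c)) (nat_lit 4095)

noncomputable def LA4 : SLv := ⟨⟨nat_lit 2952, LA4t, nat_lit 1065151889408, nat_lit 4, nat_lit 20, LA4p⟩, false, [], [], nat_lit 0, []⟩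

noncomputable def LA5t (c : ℕ) : ℕ := Nat.land (Nat.shiftRight LA5tD (Nat.mul (nat_lit 6) c)) (nat_lit 63)

noncomputable def LA5pD : ℕ := nat_lit 0xcab922c091f

noncomputable def LA5p (c : ℕ) : ℕ := Nat.land (Nat.shiftRight LA5pD (Nat.mul (nat_lit 11) c)) (nat_lit 2047)

noncomputable def LA5 : SLv := ⟨⟨nat_lit 287, LA5t, nat_lit 824633720832, nat_lit 3, nat_lit 4, LA5p⟩, false, [], [], nat_lit 0, []⟩

noncomputable def LAs : List SLv := [LA1, LA2, LA3, LA4, LA5]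

noncomputable def DA : CD := ⟨[nat_lit 40], [nat_lit 40], nat_lit 1, nat_lit 31, [nat_lit 40], [],
  [[([nat_lit 0], nat_lit 0)]],
  [[nat_lit 40]], [], []⟩

noncomputable def rhA (r : List ℕ) (i : ℕ) : Bool := force (LA0.pts i) (fun δ => cand e.T iv LA0 (emptyB e.T iv LAs)
  (tr e.T r) (genP (tr e.T r) [] LA0.xs δ) δ) false

noncomputable def cA1 : CC := ⟨[], [(nat_lit 305140626, [])],
  [⟨nat_lit 1, nat_lit 99, [], []⟩],
  []⟩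

noncomputable def cA2 : CC := ⟨[], [(nat_lit 305140626, [])],
  [⟨nat_lit 1, nat_lit 99, [], []⟩],
  []⟩

noncomputable def cA3 : CC := ⟨[], [(nat_lit 305140626, [])],
  [⟨nat_lit 1, nat_lit 99, [], []⟩],
  []⟩

noncomputable def cA4 : CC := ⟨[], [(nat_lit 305140626, [])],
  [⟨nat_lit 1, nat_lit 99, [], []⟩],
  []⟩

noncomputable def CLA : List (List ℕ) := [[nat_lit 40], [nat_lit 40, nat_lit 40], [nat_lit 40, nat_lit 40, nat_lit 40], [nat_lit 40, nat_lit 40, nat_lit 40, nat_lit 40], [nat_lit 40, nat_lit 40, nat_lit 40, nat_lit 40, nat_lit 40], [nat_lit 40, nat_lit 40, nat_lit 40, nat_lit 40, nat_lit 40, nat_lit 40], [nat_lit 40, nat_lit 40, nat_lit 40, nat_lit 40, nat_lit 40, nat_lit 40, nat_lit 40], [nat_lit 40, nat_lit 40, nat_lit 40, nat_lit 40, nat_lit 40, nat_lit 40, nat_lit 40, nat_lit 40], [nat_lit 40, nat_lit 40, nat_lit 40, nat_lit 40, nat_lit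 40, nat_lit 40, nat_lit 40, nat_lit 40, nat_lit 40], [nat_lit 40, nat_lit 40, nat_lit 40, nat_lit 40, nat_lit 40, nat_lit 40, nat_lit 40, nat_lit 40, nat_lit 40, nat_lit 40], [nat_lit 40, nat_lit 40, nat_lit 40, nat_lit 40, nat_lit 40, nat_lit 40, nat_lit 40, nat_lit 40, nat_lit 40, nat_lit 40, nat_lit 40], [nat_lit 40, nat_lit 40, nat_lit 40, nat_lit 40, nat_lit 40, nat_lit 40, nat_lit 40, nat_lit 40, nat_lit 40, nat_lit 40, nat_lit 40, nat_lit 40], [nat_lit 40, nat_lit 40, nat_lit 40, nat_lit 40, nat_lit 40, nat_lit 40, nat_lit 40, nat_lit 40, nat_lit 40, nat_lit 40, nat_lit 40, nat_lit 40, nat_lit 40], [nat_lit 40, nat_lit 40, nat_lit 40, nat_lit 40, nat_lit 40, nat_lit 40, nat_lit 40, nat_lit 40, nat_lit 40, nat_lit 40, nat_lit 40, nat_lit 40, nat_lit 40, nat_lit 40], [nat_lit 40, nat_lit 40, nat_lit 40, nat_lit 40, nat_lit 40, nat_lit 40, nat_lit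 40, nat_lit 40, nat_lit 40, nat_lit 40, nat_lit 40, nat_lit 40, nat_lit 40, nat_lit 40, nat_lit 40], [nat_lit 40, nat_lit 40, nat_lit 40, nat_lit 40, nat_lit 40, nat_lit 40, nat_lit 40, nat_lit 40, nat_lit 40, nat_lit 40, nat_lit 40, nat_lit 40, nat_lit 40, nat_lit 40, nat_lit 40, nat_lit 40], [nat_lit 40, nat_lit 40, nat_lit 40, nat_lit 40, nat_lit 40, nat_lit 40, nat_lit 40, nat_lit 40, nat_lit 40, nat_lit 40, nat_lit 40, nat_lit 40, nat_lit 40, nat_lit 40, nat_lit 40, nat_lit 40, nat_lit 40], [nat_lit 40, nat_lit 40, nat_lit 40, nat_lit 40, nat_lit 40, nat_lit 40, nat_lit 40, nat_lit 40, nat_lit 40, nat_lit 40, nat_lit 40, nat_lit 40, nat_lit 40, nat_lit 40, nat_lit 40, nat_lit 40, nat_lit 40, nat_lit 40], [nat_lit 40, nat_lit 40, nat_lit 40, nat_lit 40, nat_lit 40, nat_lit 40, nat_lit 40, nat_lit 40, nat_lit 40, nat_lit 40, nat_lit 40, nat_lit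 40, nat_lit 40, nat_lit 40, nat_lit 40, nat_lit 40, nat_lit 40, nat_lit 40, nat_lit 40], [nat_lit 40, nat_lit 40, nat_lit 40, nat_lit 40, nat_lit 40, nat_lit 40, nat_lit 40, nat_lit 40, nat_lit 40, nat_lit 40, nat_lit 40, nat_lit 40, nat_lit 40, nat_lit 40, nat_lit 40, nat_lit 40, nat_lit 40, nat_lit 40, nat_lit 40, nat_lit 40], [nat_lit 40, nat_lit 40, nat_lit 40, nat_lit 40, nat_lit 40, nat_lit 40, nat_lit 40, nat_lit 40, nat_lit 40, nat_lit 40, nat_lit 40, nat_lit 40, nat_lit 40, nat_lit 40, nat_lit 40, nat_lit 40, nat_lit 40, nat_lit 40, nat_lit 40, nat_lit 40, nat_lit 40], [nat_lit 40, nat_lit 40, nat_lit 40, nat_lit 40, nat_lit 40, nat_lit 40, nat_lit 40, nat_lit 40, nat_lit 40, nat_lit 40, nat_lit 40, nat_lit 40, nat_lit 40, nat_lit 40, nat_lit 40, nat_lit 40, nat_lit 40, nat_lit 40, nat_lit 40, nat_lit 40, nat_lit 40, nat_lit 40], [nat_lit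 40, nat_lit 40, nat_lit 40, nat_lit 40, nat_lit 40, nat_lit 40, nat_lit 40, nat_lit 40, nat_lit 40, nat_lit 40, nat_lit 40, nat_lit 40, nat_lit 40, nat_lit 40, nat_lit 40, nat_lit 40, nat_lit 40, nat_lit 40, nat_lit 40, nat_lit 40, nat_lit 40, nat_lit 40, nat_lit 40], [nat_lit 40, nat_lit 40, nat_lit 40, nat_lit 40, nat_lit 40, nat_lit 40, nat_lit 40, nat_lit 40, nat_lit 40, nat_lit 40, nat_lit 40, nat_lit 40, nat_lit 40, nat_lit 40, nat_lit 40, nat_lit 40, nat_lit 40, nat_lit 40, nat_lit 40, nat_lit 40, nat_lit 40, nat_lit 40, nat_lit 40, nat_lit 40], [nat_lit 40, nat_lit 40, nat_lit 40, nat_lit 40, nat_lit 40, nat_lit 40, nat_lit 40, nat_lit 40, nat_lit 40, nat_lit 40, nat_lit 40, nat_lit 40, nat_lit 40, nat_lit 40, nat_lit 40, nat_lit 40, nat_lit 40, nat_lit 40, nat_lit 40, nat_lit 40, nat_lit 40, nat_lit 40, nat_lit 40, nat_lit 40, nat_lit 40],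 [nat_lit 40, nat_lit 40, nat_lit 40, nat_lit 40, nat_lit 40, nat_lit 40, nat_lit 40, nat_lit 40, nat_lit 40, nat_lit 40, nat_lit 40, nat_lit 40, nat_lit 40, nat_lit 40, nat_lit 40, nat_lit 40, nat_lit 40, nat_lit 40, nat_lit 40, nat_lit 40, nat_lit 40, nat_lit 40, nat_lit 40, nat_lit 40, nat_lit 40, nat_lit 40], [nat_lit 40, nat_lit 40, nat_lit 40, nat_lit 40, nat_lit 40, nat_lit 40, nat_lit 40, nat_lit 40, nat_lit 40, nat_lit 40, nat_lit 40, nat_lit 40, nat_lit 40, nat_lit 40, nat_lit 40, nat_lit 40, nat_lit 40, nat_lit 40, nat_lit 40, nat_lit 40, nat_lit 40, nat_lit 40, nat_lit 40, nat_lit 40, nat_lit 40, nat_lit 40, nat_lit 40], [nat_lit 40, nat_lit 40, nat_lit 40, nat_lit 40, nat_lit 40, nat_lit 40, nat_lit 40, nat_lit 40, nat_lit 40, nat_lit 40, nat_lit 40, nat_lit 40, nat_lit 40, nat_lit 40, nat_lit 40, nat_lit 40, nat_lit 40, nat_lit 40, nat_lit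 40, nat_lit 40, nat_lit 40, nat_lit 40, nat_lit 40, nat_lit 40, nat_lit 40, nat_lit 40, nat_lit 40, nat_lit 40], [nat_lit 40, nat_lit 40, nat_lit 40, nat_lit 40, nat_lit 40, nat_lit 40, nat_lit 40, nat_lit 40, nat_lit 40, nat_lit 40, nat_lit 40, nat_lit 40, nat_lit 40, nat_lit 40, nat_lit 40, nat_lit 40, nat_lit 40, nat_lit 40, nat_lit 40, nat_lit 40, nat_lit 40, nat_lit 40, nat_lit 40, nat_lit 40, nat_lit 40, nat_lit 40, nat_lit 40, nat_lit 40, nat_lit 40], [nat_lit 40, nat_lit 40, nat_lit 40, nat_lit 40, nat_lit 40, nat_lit 40, nat_lit 40, nat_lit 40, nat_lit 40, nat_lit 40, nat_lit 40, nat_lit 40, nat_lit 40, nat_lit 40, nat_lit 40, nat_lit 40, nat_lit 40, nat_lit 40, nat_lit 40, nat_lit 40, nat_lit 40, nat_lit 40, nat_lit 40, nat_lit 40, nat_lit 40, nat_lit 40, nat_lit 40, nat_lit 40, nat_lit 40, nat_lit 40]]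

noncomputable def clAq0 : List (List ℕ) := [[nat_lit 1], [nat_lit 2], [nat_lit 3], [nat_lit 4], [nat_lit 5], [nat_lit 6], [nat_lit 7], [nat_lit 8], [nat_lit 9], [nat_lit 10], [nat_lit 11], [nat_lit 12], [nat_lit 13], [nat_lit 14], [nat_lit 15], [nat_lit 16], [nat_lit 17], [nat_lit 18], [nat_lit 19], [nat_lit 20], [nat_lit 21], [nat_lit 22], [nat_lit 23], [nat_lit 24], [nat_lit 25], [nat_lit 26], [nat_lit 27], [nat_lit 28], [nat_lit 29], [nat_lit 30], [nat_lit 0]]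

noncomputable def LB0t (c : ℕ) : ℕ := Nat.land (Nat.shiftRight LB0tD (Nat.mul (nat_lit 6) c)) (nat_lit 63)

noncomputable def LB0 : SLv := ⟨⟨nat_lit 8, LB0t, nat_lit 144105292471205888, nat_lit 6, nat_lit 3906, fun i => i⟩, true, [nat_lit 1738, nat_lit 2040, nat_lit 8], [nat_lit 59], nat_lit 29, [(nat_lit 119, [nat_lit 60, nat_lit 60, nat_lit 61, nat_lit 60, nat_lit 61, nat_lit 61, nat_lit 59]), (nat_lit 16, [nat_lit 59, nat_lit 60, nat_lit 59, nat_lit 60, nat_lit 61]), (nat_lit 27, [nat_lit 59, nat_lit 59, nat_lit 61, nat_lit 61, nat_lit 61, nat_lit 60]), (nat_lit 249, [nat_lit 60, nat_lit 60, nat_lit 61, nat_lit 59, nat_lit 61]), (nat_lit 15, [nat_lit 59, nat_lit 61, nat_lit 60, nat_lit 61, nat_lit 59, nat_lit 61]), (nat_lit 47, [nat_lit 59, nat_lit 59, nat_lit 61, nat_lit 60, nat_lit 59, nat_lit 60]), (nat_lit 128, [nat_lit 59, nat_lit 61, nat_lit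 61, nat_lit 61]), (nat_lit 166, [nat_lit 59, nat_lit 60, nat_lit 60, nat_lit 61, nat_lit 60, nat_lit 59, nat_lit 61]), (nat_lit 75, [nat_lit 61, nat_lit 61, nat_lit 59, nat_lit 61, nat_lit 59, nat_lit 61]), (nat_lit 94, [nat_lit 59, nat_lit 60, nat_lit 59, nat_lit 59, nat_lit 61, nat_lit 60, nat_lit 61]), (nat_lit 123, [nat_lit 59, nat_lit 61, nat_lit 61, nat_lit 61, nat_lit 59, nat_lit 61, nat_lit 60]), (nat_lit 138, [nat_lit 59, nat_lit 59, nat_lit 60, nat_lit 61, nat_lit 60, nat_lit 59]), (nat_lit 129, [nat_lit 59, nat_lit 59, nat_lit 60, nat_lit 61, nat_lit 61, nat_lit 60]), (nat_lit 17, [nat_lit 61, nat_lit 61, nat_lit 59, nat_lit 61, nat_lit 59]), (nat_lit 102, [nat_lit 60, nat_lit 61, nat_lit 59]), (nat_lit 199, [nat_lit 60, nat_lit 60, nat_lit 59, nat_lit 59, nat_lit 60]), (nat_lit 201, [nat_lit 61, nat_lit 61, nat_lit 59, nat_lit 61, nat_lit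 61, nat_lit 61]), (nat_lit 145, [nat_lit 60, nat_lit 59, nat_lit 60, nat_lit 61, nat_lit 61, nat_lit 61]), (nat_lit 313, [nat_lit 60, nat_lit 59, nat_lit 60, nat_lit 60, nat_lit 61, nat_lit 61]), (nat_lit 13, [nat_lit 61, nat_lit 61, nat_lit 59]), (nat_lit 62, [nat_lit 60, nat_lit 61, nat_lit 61, nat_lit 61, nat_lit 61]), (nat_lit 48, [nat_lit 59, nat_lit 60, nat_lit 60, nat_lit 59, nat_lit 59, nat_lit 61, nat_lit 59]), (nat_lit 426, [nat_lit 59, nat_lit 59, nat_lit 61, nat_lit 59, nat_lit 59, nat_lit 61, nat_lit 59])]⟩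

noncomputable def LB1t (c : ℕ) : ℕ := Nat.land (Nat.shiftRight LB1tD (Nat.mul (nat_lit 6) c)) (nat_lit 63)

noncomputable def LB1p (c : ℕ) : ℕ := Nat.land (Nat.shiftRight LB1pD (Nat.mul (nat_lit 12) c)) (nat_lit 4095)

noncomputable def LB1 : SLv := ⟨⟨nat_lit 1738, LB1t, nat_lit 143974450587500544, nat_lit 6, nat_lit 3125, LB1p⟩, false, [], [], nat_lit 0, []⟩

noncomputable def LB2t (c : ℕ) : ℕ := Nat.land (Nat.shiftRight LB2tD (Nat.mul (nat_lit 6) c)) (nat_lit 63)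

noncomputable def LB2p (c : ℕ) : ℕ := Nat.land (Nat.shiftRight LB2pD (Nat.mul (nat_lit 12) c)) (nat_lit 4095)

noncomputable def LB2 : SLv := ⟨⟨nat_lit 2040, LB2t, nat_lit 135107988821114880, nat_lit 7, nat_lit 480, LB2p⟩, false, [], [], nat_lit 0, []⟩

noncomputable def LBs : List SLv := [LB1, LB2]

noncomputable def rhoB0 : List ℕ := [nat_lit 19, nat_lit 29, nat_lit 26, nat_lit 33, nat_lit 30, nat_lit 29, nat_lit 39, nat_lit 33, nat_lit 32, nat_lit 38, nat_lit 35]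

noncomputable def DB : CD := ⟨[nat_lit 41], [nat_lit 43], nat_lit 2, nat_lit 3, [nat_lit 59, nat_lit 60, nat_lit 61], [[nat_lit 35, nat_lit 20, nat_lit 0, nat_lit 26, nat_lit 28, nat_lit 25, nat_lit 29, nat_lit 36, nat_lit 33, nat_lit 37, nat_lit 39, nat_lit 38], [nat_lit 38, nat_lit 21, nat_lit 29, nat_lit 25, nat_lit 37, nat_lit 30, nat_lit 30, nat_lit 32, nat_lit 39], [nat_lit 6, nat_lit 3, nat_lit 4, nat_lit 31, nat_lit 27, nat_lit 33, nat_lit 29, nat_lit 39, nat_lit 34, nat_lit 35, nat_lit 35, nat_lit 35], [nat_lit 24, nat_lit 36, nat_lit 6, nat_lit 30, nat_lit 25, nat_lit 37, nat_lit 30, nat_lit 34, nat_lit 33, nat_lit 35, nat_lit 37, nat_lit 37, nat_lit 39], [nat_lit 35, nat_lit 16, nat_lit 0, nat_lit 25, nat_lit 34, nat_lit 29, nat_lit 39, nat_lit 33, nat_lit 32, nat_lit 39, nat_lit 37, nat_lit 39, nat_lit 38], [nat_lit 3, nat_lit 28, nat_lit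 3, nat_lit 26, nat_lit 35, nat_lit 31, nat_lit 33, nat_lit 33, nat_lit 37, nat_lit 35, nat_lit 39], [nat_lit 35, nat_lit 36, nat_lit 17, nat_lit 31, nat_lit 25, nat_lit 37, nat_lit 29, nat_lit 37, nat_lit 34, nat_lit 37, nat_lit 36, nat_lit 39], [nat_lit 34, nat_lit 19, nat_lit 27, nat_lit 31, nat_lit 25, nat_lit 29, nat_lit 31, nat_lit 35, nat_lit 35], [nat_lit 6, nat_lit 20, nat_lit 2, nat_lit 35, nat_lit 27, nat_lit 37, nat_lit 30, nat_lit 30, nat_lit 38, nat_lit 34, nat_lit 35, nat_lit 37, nat_lit 37], [nat_lit 20, nat_lit 39, nat_lit 0, nat_lit 33, nat_lit 27, nat_lit 33, nat_lit 29, nat_lit 29, nat_lit 37, nat_lit 33, nat_lit 32, nat_lit 37, nat_lit 39, nat_lit 38], [nat_lit 33, nat_lit 38, nat_lit 1, nat_lit 26, nat_lit 28, nat_lit 25, nat_lit 30, nat_lit 30, nat_lit 35, nat_lit 33, nat_lit 37], [nat_lit 10, nat_lit 22, nat_lit 4, nat_lit 28,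 nat_lit 25, nat_lit 30, nat_lit 29, nat_lit 34, nat_lit 34, nat_lit 32, nat_lit 39, nat_lit 37, nat_lit 39, nat_lit 38], [nat_lit 30, nat_lit 6, nat_lit 2, nat_lit 37, nat_lit 30, nat_lit 37, nat_lit 33, nat_lit 32, nat_lit 38, nat_lit 35, nat_lit 39, nat_lit 38], [nat_lit 19, nat_lit 16, nat_lit 8, nat_lit 26, nat_lit 30, nat_lit 29, nat_lit 34, nat_lit 39, nat_lit 37, nat_lit 38], [nat_lit 39, nat_lit 22, nat_lit 2, nat_lit 29, nat_lit 25, nat_lit 29, nat_lit 29, nat_lit 33, nat_lit 38, nat_lit 35, nat_lit 39], [nat_lit 27, nat_lit 6, nat_lit 30, nat_lit 25, nat_lit 30, nat_lit 30, nat_lit 33, nat_lit 36], [nat_lit 28, nat_lit 13, nat_lit 7, nat_lit 37, nat_lit 30, nat_lit 30, nat_lit 36, nat_lit 33, nat_lit 32, nat_lit 35, nat_lit 37, nat_lit 37, nat_lit 39, nat_lit 38], [nat_lit 19, nat_lit 15, nat_lit 8, nat_lit 26, nat_lit 37, nat_lit 29, nat_lit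 32, nat_lit 34, nat_lit 32, nat_lit 38, nat_lit 37], [nat_lit 21, nat_lit 36, nat_lit 6, nat_lit 31, nat_lit 28, nat_lit 25, nat_lit 37, nat_lit 30, nat_lit 30, nat_lit 39, nat_lit 33, nat_lit 36, nat_lit 39]],
  [[([], nat_lit 4), ([], nat_lit 8), ([], nat_lit 2)], [([nat_lit 1, nat_lit 1, nat_lit 2], nat_lit 6), ([nat_lit 0, nat_lit 0, nat_lit 1, nat_lit 2], nat_lit 17), ([nat_lit 0, nat_lit 0], nat_lit 13)], [([nat_lit 0, nat_lit 1, nat_lit 2], nat_lit 13), ([nat_lit 0, nat_lit 0, nat_lit 1, nat_lit 2], nat_lit 12), ([], nat_lit 6)], [([nat_lit 0, nat_lit 0, nat_lit 0, nat_lit 1, nat_lit 2], nat_lit 17), ([nat_lit 0, nat_lit 1, nat_lit 1], nat_lit 6), ([nat_lit 0, nat_lit 0, nat_lit 1], nat_lit 17)], [([nat_lit 0, nat_lit 1, nat_lit 2], nat_lit 9), ([nat_lit 2], nat_lit 5), ([], nat_lit 7)], [([nat_lit 2, nat_lit 2, nat_lit 2], nat_lit 19), ([nat_lit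 0, nat_lit 1, nat_lit 1, nat_lit 2, nat_lit 2, nat_lit 2], nat_lit 3), ([nat_lit 0, nat_lit 0, nat_lit 0, nat_lit 1, nat_lit 2], nat_lit 15)], [([nat_lit 1, nat_lit 2, nat_lit 2, nat_lit 2], nat_lit 16), ([nat_lit 0, nat_lit 0, nat_lit 0, nat_lit 1], nat_lit 18), ([nat_lit 0], nat_lit 14)], [([nat_lit 0, nat_lit 1, nat_lit 1, nat_lit 2], nat_lit 0), ([nat_lit 1], nat_lit 14), ([nat_lit 0, nat_lit 0, nat_lit 0, nat_lit 1, nat_lit 1, nat_lit 2], nat_lit 10)], [([nat_lit 0, nat_lit 1, nat_lit 2, nat_lit 2], nat_lit 5), ([nat_lit 0, nat_lit 0, nat_lit 1, nat_lit 1, nat_lit 2], nat_lit 9), ([nat_lit 0, nat_lit 0, nat_lit 1, nat_lit 2], nat_lit 11)], [([nat_lit 0, nat_lit 1, nat_lit 1, nat_lit 2, nat_lit 2], nat_lit 15), ([nat_lit 0, nat_lit 1, nat_lit 1, nat_lit 2, nat_lit 2, nat_lit 2], nat_lit 10), ([nat_lit 1], nat_lit 19)], [([nat_lit 0, nat_lit 2,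 nat_lit 2, nat_lit 2], nat_lit 12), ([nat_lit 2, nat_lit 2], nat_lit 13), ([nat_lit 0, nat_lit 0, nat_lit 2], nat_lit 12)], [([nat_lit 1, nat_lit 1, nat_lit 2], nat_lit 18), ([nat_lit 0, nat_lit 1, nat_lit 1, nat_lit 2], nat_lit 16), ([nat_lit 2, nat_lit 2, nat_lit 2], nat_lit 3)], [([nat_lit 1, nat_lit 2], nat_lit 2), ([nat_lit 0, nat_lit 0, nat_lit 2], nat_lit 11), ([nat_lit 1, nat_lit 2], nat_lit 4)], [([nat_lit 0, nat_lit 0, nat_lit 1, nat_lit 2], nat_lit 14), ([nat_lit 0, nat_lit 0, nat_lit 0, nat_lit 1, nat_lit 1, nat_lit 2], nat_lit 0), ([nat_lit 0, nat_lit 0, nat_lit 0, nat_lit 1, nat_lit 1], nat_lit 16)], [([nat_lit 0, nat_lit 2], nat_lit 10), ([nat_lit 0, nat_lit 0, nat_lit 0, nat_lit 2], nat_lit 15), ([nat_lit 0, nat_lit 2, nat_lit 2, nat_lit 2], nat_lit 0)], [([nat_lit 0, nat_lit 0, nat_lit 0, nat_lit 1, nat_lit 2], nat_lit 7), ([nat_lit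 1, nat_lit 2, nat_lit 2], nat_lit 1), ([nat_lit 0, nat_lit 0, nat_lit 1, nat_lit 1], nat_lit 9)], [([nat_lit 0, nat_lit 0, nat_lit 1, nat_lit 1, nat_lit 2], nat_lit 3), ([nat_lit 0], nat_lit 19), ([nat_lit 0, nat_lit 1, nat_lit 2], nat_lit 18)], [([nat_lit 0, nat_lit 0, nat_lit 0, nat_lit 2], nat_lit 1), ([nat_lit 0, nat_lit 0, nat_lit 2], nat_lit 7), ([nat_lit 0, nat_lit 0, nat_lit 0, nat_lit 1, nat_lit 2], nat_lit 8)], [([nat_lit 0, nat_lit 0, nat_lit 0, nat_lit 1], nat_lit 8), ([nat_lit 0, nat_lit 1, nat_lit 2, nat_lit 2, nat_lit 2], nat_lit 4), ([nat_lit 0, nat_lit 0, nat_lit 0], nat_lit 1)], [([nat_lit 1, nat_lit 1, nat_lit 2, nat_lit 2, nat_lit 2], nat_lit 11), ([nat_lit 0, nat_lit 2, nat_lit 2], nat_lit 2), ([nat_lit 0, nat_lit 1, nat_lit 1], nat_lit 5)]],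
  [[nat_lit 41], [nat_lit 57], [nat_lit 58]], [[nat_lit 64]], [rhoB0]⟩

noncomputable def rhB (r : List ℕ) (i : ℕ) : Bool := force (LB0.pts i) (fun δ => cand e.T iv LB0 (emptyB e.T iv LBs)
  (tr e.T r) (genP (tr e.T r) [] LB0.xs δ) δ) false

noncomputable def cB1 : CC := ⟨[[nat_lit 23, nat_lit 20, nat_lit 0, nat_lit 28, nat_lit 33, nat_lit 31, nat_lit 32, nat_lit 32, nat_lit 39, nat_lit 37, nat_lit 39]], [(nat_lit 305140626, []), (nat_lit 5568686550, [nat_lit 0, nat_lit 0]), (nat_lit 57951415872, [nat_lit 0])],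
  [⟨nat_lit 1, nat_lit 99, [], []⟩, ⟨nat_lit 1, nat_lit 0, [], []⟩, ⟨nat_lit 1, nat_lit 0, [nat_lit 29, nat_lit 30, nat_lit 7, nat_lit 31, nat_lit 29, nat_lit 39, nat_lit 32, nat_lit 39, nat_lit 35, nat_lit 35, nat_lit 39, nat_lit 38], []⟩],
  []⟩

noncomputable def rB2x0 : RP := ⟨[nat_lit 29, nat_lit 25, nat_lit 0, nat_lit 25, nat_lit 33, nat_lit 33, nat_lit 37, nat_lit 35], [nat_lit 32, nat_lit 26, nat_lit 6, nat_lit 25, nat_lit 27, nat_lit 33, nat_lit 29, nat_lit 29, nat_lit 32, nat_lit 37, nat_lit 39], [⟨nat_lit 0, nat_lit 0, [nat_lit 31, nat_lit 23, nat_lit 16, nat_lit 34, nat_lit 29, nat_lit 25, nat_lit 31, nat_lit 36, nat_lit 29, nat_lit 32, nat_lit 36, nat_lit 37, nat_lit 38], []⟩, ⟨nat_lit 0, nat_lit 0, [nat_lit 35, nat_lit 3, nat_lit 7, nat_lit 38, nat_lit 27, nat_lit 37, nat_lit 30, nat_lit 30, nat_lit 32, nat_lit 34, nat_lit 36, nat_lit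 35, nat_lit 38], []⟩, ⟨nat_lit 0, nat_lit 0, [nat_lit 4, nat_lit 17, nat_lit 4, nat_lit 28, nat_lit 25, nat_lit 30, nat_lit 30, nat_lit 32, nat_lit 39, nat_lit 35, nat_lit 39, nat_lit 38], []⟩, ⟨nat_lit 0, nat_lit 0, [nat_lit 22, nat_lit 32, nat_lit 10, nat_lit 29, nat_lit 26, nat_lit 34, nat_lit 29, nat_lit 29, nat_lit 34, nat_lit 33, nat_lit 37, nat_lit 36], []⟩, ⟨nat_lit 0, nat_lit 0, [nat_lit 30, nat_lit 21, nat_lit 6, nat_lit 38, nat_lit 25, nat_lit 37, nat_lit 30, nat_lit 33, nat_lit 33, nat_lit 39, nat_lit 35, nat_lit 39], []⟩, ⟨nat_lit 0, nat_lit 0, [nat_lit 11, nat_lit 36, nat_lit 4, nat_lit 28, nat_lit 25, nat_lit 32, nat_lit 29, nat_lit 32, nat_lit 37, nat_lit 36, nat_lit 39], []⟩, ⟨nat_lit 0, nat_lit 0, [nat_lit 8, nat_lit 11, nat_lit 26, nat_lit 28, nat_lit 25, nat_lit 37, nat_lit 30, nat_lit 39, nat_lit 34, nat_lit 35, nat_lit 35, nat_lit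 39], []⟩, ⟨nat_lit 0, nat_lit 0, [nat_lit 38, nat_lit 4, nat_lit 13, nat_lit 30, nat_lit 27, nat_lit 29, nat_lit 30, nat_lit 36, nat_lit 32, nat_lit 37, nat_lit 39, nat_lit 35, nat_lit 39, nat_lit 38], []⟩, ⟨nat_lit 0, nat_lit 0, [nat_lit 27, nat_lit 12, nat_lit 1, nat_lit 34, nat_lit 29, nat_lit 25, nat_lit 29, nat_lit 36, nat_lit 33, nat_lit 37, nat_lit 35, nat_lit 38], []⟩, ⟨nat_lit 0, nat_lit 0, [nat_lit 15, nat_lit 30, nat_lit 3, nat_lit 25, nat_lit 27, nat_lit 31, nat_lit 33, nat_lit 35, nat_lit 37, nat_lit 37, nat_lit 39, nat_lit 38], []⟩, ⟨nat_lit 0, nat_lit 0, [nat_lit 6, nat_lit 27, nat_lit 15, nat_lit 31, nat_lit 26, nat_lit 29, nat_lit 31, nat_lit 38, nat_lit 34, nat_lit 39, nat_lit 37], []⟩, ⟨nat_lit 0, nat_lit 0, [nat_lit 13, nat_lit 24, nat_lit 0, nat_lit 38, nat_lit 27, nat_lit 33, nat_lit 29, nat_lit 34, nat_lit 34, nat_lit 32, nat_lit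 36, nat_lit 38], []⟩, ⟨nat_lit 0, nat_lit 0, [nat_lit 7, nat_lit 36, nat_lit 16, nat_lit 34, nat_lit 27, nat_lit 33, nat_lit 29, nat_lit 35, nat_lit 35, nat_lit 35], []⟩, ⟨nat_lit 0, nat_lit 0, [nat_lit 6, nat_lit 27, nat_lit 1, nat_lit 39, nat_lit 27, nat_lit 33, nat_lit 29, nat_lit 29, nat_lit 39, nat_lit 33, nat_lit 32, nat_lit 37, nat_lit 36, nat_lit 39, nat_lit 38], []⟩, ⟨nat_lit 0, nat_lit 0, [nat_lit 36, nat_lit 21, nat_lit 10, nat_lit 29, nat_lit 25, nat_lit 32, nat_lit 39, nat_lit 35], []⟩, ⟨nat_lit 0, nat_lit 0, [nat_lit 24, nat_lit 16, nat_lit 3, nat_lit 33, nat_lit 27, nat_lit 29, nat_lit 31, nat_lit 39, nat_lit 33, nat_lit 32, nat_lit 39, nat_lit 35, nat_lit 35, nat_lit 39], []⟩, ⟨nat_lit 0, nat_lit 0, [nat_lit 38, nat_lit 8, nat_lit 0, nat_lit 33, nat_lit 27, nat_lit 30, nat_lit 30, nat_lit 35, nat_lit 33, nat_lit 37, nat_lit 36, nat_lit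 38], []⟩, ⟨nat_lit 0, nat_lit 0, [nat_lit 32, nat_lit 3, nat_lit 1, nat_lit 26, nat_lit 31, nat_lit 36, nat_lit 29, nat_lit 37, nat_lit 33, nat_lit 32, nat_lit 39, nat_lit 37], []⟩, ⟨nat_lit 0, nat_lit 0, [nat_lit 39, nat_lit 2, nat_lit 0, nat_lit 26, nat_lit 28, nat_lit 25, nat_lit 29, nat_lit 38, nat_lit 34, nat_lit 36], []⟩, ⟨nat_lit 0, nat_lit 0, [nat_lit 9, nat_lit 6, nat_lit 4, nat_lit 0, nat_lit 29, nat_lit 25, nat_lit 29, nat_lit 31, nat_lit 29, nat_lit 32, nat_lit 32, nat_lit 39, nat_lit 37, nat_lit 39, nat_lit 38], []⟩]⟩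

noncomputable def cB2 : CC := ⟨[[nat_lit 36, nat_lit 2, nat_lit 0, nat_lit 27, nat_lit 31, nat_lit 25, nat_lit 31, nat_lit 30, nat_lit 32, nat_lit 33, nat_lit 39, nat_lit 35, nat_lit 35, nat_lit 39], [nat_lit 4, nat_lit 30, nat_lit 0, nat_lit 33, nat_lit 27, nat_lit 37, nat_lit 29, nat_lit 33, nat_lit 32, nat_lit 37]], [(nat_lit 305140626, []), (nat_lit 1714208759, [nat_lit 0, nat_lit 0, nat_lit 1, nat_lit 0, nat_lit 0]), (nat_lit 1824639283, [nat_lit 0, nat_lit 0, nat_lit 1, nat_lit 1, nat_lit 0]), (nat_lit 4809343606, [nat_lit 0, nat_lit 1, nat_lit 1]), (nat_lit 5172088115, [nat_lit 0]), (nat_lit 6926659687, [nat_lit 0, nat_lit 1, nat_lit 0, nat_lit 1]), (nat_lit 10880815025, [nat_lit 1, nat_lit 0, nat_lit 0]), (nat_lit 14463759108, [nat_lit 1, nat_lit 1]), (nat_lit 17774254177, [nat_lit 0, nat_lit 0, nat_lit 1, nat_lit 0]), (nat_lit 18409935212,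 [nat_lit 0, nat_lit 0, nat_lit 1, nat_lit 0, nat_lit 1]), (nat_lit 19670540266, [nat_lit 0, nat_lit 1, nat_lit 0]), (nat_lit 30776710860, [nat_lit 1]), (nat_lit 31374648504, [nat_lit 0, nat_lit 0]), (nat_lit 35387175461, [nat_lit 0, nat_lit 0, nat_lit 1, nat_lit 1]), (nat_lit 38301059157, [nat_lit 1, nat_lit 0, nat_lit 1, nat_lit 1]), (nat_lit 38759332141, [nat_lit 1, nat_lit 1, nat_lit 0, nat_lit 1]), (nat_lit 39825001955, [nat_lit 0, nat_lit 1]), (nat_lit 40648785385, [nat_lit 0, nat_lit 0, nat_lit 1]), (nat_lit 40848904555, [nat_lit 1, nat_lit 0, nat_lit 1]), (nat_lit 44431988916, [nat_lit 1, nat_lit 0]), (nat_lit 46616186001, [nat_lit 0, nat_lit 1, nat_lit 1, nat_lit 0]), (nat_lit 47113121432, [nat_lit 0, nat_lit 0, nat_lit 1, nat_lit 1, nat_lit 0, nat_lit 1]), (nat_lit 48861857443, [nat_lit 0, nat_lit 1, nat_lit 0, nat_lit 0]), (nat_lit 51842800261,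 [nat_lit 0, nat_lit 0, nat_lit 1, nat_lit 0, nat_lit 1, nat_lit 1]), (nat_lit 55454228214, [nat_lit 0, nat_lit 1, nat_lit 0, nat_lit 1, nat_lit 1]), (nat_lit 55459128351, [nat_lit 1, nat_lit 1, nat_lit 0]), (nat_lit 57409372248, [nat_lit 0, nat_lit 1, nat_lit 1, nat_lit 0, nat_lit 1])],
  [⟨nat_lit 1, nat_lit 99, [], []⟩, ⟨nat_lit 2, nat_lit 0, [], []⟩, ⟨nat_lit 2, nat_lit 0, [nat_lit 25, nat_lit 0, nat_lit 8, nat_lit 31, nat_lit 27, nat_lit 29, nat_lit 29, nat_lit 33, nat_lit 33, nat_lit 35, nat_lit 35, nat_lit 35, nat_lit 39, nat_lit 38], []⟩, ⟨nat_lit 2, nat_lit 0, [nat_lit 20, nat_lit 36, nat_lit 10, nat_lit 27, nat_lit 31, nat_lit 25, nat_lit 34, nat_lit 29, nat_lit 29, nat_lit 37, nat_lit 35, nat_lit 38], []⟩, ⟨nat_lit 2, nat_lit 0, [nat_lit 13, nat_lit 17, nat_lit 4, nat_lit 34, nat_lit 25, nat_lit 33, nat_lit 30, nat_lit 29, nat_lit 34, nat_lit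 37, nat_lit 36, nat_lit 39, nat_lit 38], []⟩, ⟨nat_lit 2, nat_lit 0, [nat_lit 34, nat_lit 19, nat_lit 1, nat_lit 27, nat_lit 28, nat_lit 25, nat_lit 32, nat_lit 29, nat_lit 34, nat_lit 32, nat_lit 36, nat_lit 38], []⟩, ⟨nat_lit 2, nat_lit 0, [nat_lit 21, nat_lit 35, nat_lit 1, nat_lit 35, nat_lit 27, nat_lit 29, nat_lit 29, nat_lit 37, nat_lit 34, nat_lit 38, nat_lit 35, nat_lit 39], []⟩, ⟨nat_lit 2, nat_lit 0, [nat_lit 0, nat_lit 30, nat_lit 7, nat_lit 33, nat_lit 25, nat_lit 34, nat_lit 29, nat_lit 34, nat_lit 32, nat_lit 36, nat_lit 39], []⟩, ⟨nat_lit 2, nat_lit 0, [nat_lit 1, nat_lit 15, nat_lit 34, nat_lit 29, nat_lit 25, nat_lit 30, nat_lit 37, nat_lit 39, nat_lit 35, nat_lit 39], []⟩, ⟨nat_lit 2, nat_lit 0, [nat_lit 11, nat_lit 15, nat_lit 25, nat_lit 27, nat_lit 36, nat_lit 29, nat_lit 33, nat_lit 39, nat_lit 35, nat_lit 35, nat_lit 38], []⟩,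 ⟨nat_lit 2, nat_lit 0, [nat_lit 26, nat_lit 33, nat_lit 1, nat_lit 25, nat_lit 30, nat_lit 29, nat_lit 34, nat_lit 37, nat_lit 36], []⟩, ⟨nat_lit 2, nat_lit 0, [nat_lit 29, nat_lit 28, nat_lit 3, nat_lit 27, nat_lit 28, nat_lit 25, nat_lit 33, nat_lit 30, nat_lit 29, nat_lit 37, nat_lit 33, nat_lit 32], []⟩, ⟨nat_lit 2, nat_lit 0, [nat_lit 7, nat_lit 15, nat_lit 19, nat_lit 34, nat_lit 27, nat_lit 29, nat_lit 30, nat_lit 34, nat_lit 37, nat_lit 37, nat_lit 39], []⟩, ⟨nat_lit 2, nat_lit 0, [nat_lit 29, nat_lit 20, nat_lit 26, nat_lit 28, nat_lit 25, nat_lit 36, nat_lit 29, nat_lit 33, nat_lit 33, nat_lit 35], []⟩, ⟨nat_lit 2, nat_lit 0, [nat_lit 23, nat_lit 32, nat_lit 1, nat_lit 27, nat_lit 28, nat_lit 25, nat_lit 30, nat_lit 30, nat_lit 32, nat_lit 34, nat_lit 37, nat_lit 35, nat_lit 38], []⟩, ⟨nat_lit 2, nat_lit 0, [nat_lit 38, nat_lit 1, nat_lit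 1, nat_lit 28, nat_lit 30, nat_lit 30, nat_lit 34, nat_lit 32, nat_lit 35, nat_lit 39, nat_lit 38], []⟩, ⟨nat_lit 2, nat_lit 0, [nat_lit 31, nat_lit 16, nat_lit 3, nat_lit 27, nat_lit 31, nat_lit 25, nat_lit 33, nat_lit 29, nat_lit 29, nat_lit 39, nat_lit 32, nat_lit 36, nat_lit 35, nat_lit 38], []⟩, ⟨nat_lit 2, nat_lit 0, [nat_lit 1, nat_lit 37, nat_lit 6, nat_lit 31, nat_lit 27, nat_lit 33, nat_lit 29, nat_lit 29, nat_lit 34, nat_lit 32, nat_lit 39, nat_lit 35, nat_lit 35], []⟩, ⟨nat_lit 2, nat_lit 0, [nat_lit 30, nat_lit 35, nat_lit 4, nat_lit 25, nat_lit 26, nat_lit 29, nat_lit 29, nat_lit 39, nat_lit 33, nat_lit 32, nat_lit 37, nat_lit 35], []⟩, ⟨nat_lit 2, nat_lit 0, [nat_lit 2, nat_lit 31, nat_lit 0, nat_lit 27, nat_lit 29, nat_lit 31, nat_lit 34, nat_lit 33, nat_lit 36, nat_lit 37, nat_lit 38], []⟩, ⟨nat_lit 2, nat_lit 0, [nat_lit 28, nat_lit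 19, nat_lit 12, nat_lit 30, nat_lit 25, nat_lit 32, nat_lit 29, nat_lit 39, nat_lit 33, nat_lit 32], []⟩, ⟨nat_lit 1, nat_lit 0, [nat_lit 0, nat_lit 24, nat_lit 0, nat_lit 34, nat_lit 25, nat_lit 37, nat_lit 30, nat_lit 30, nat_lit 34, nat_lit 32, nat_lit 35, nat_lit 36, nat_lit 39, nat_lit 38], []⟩, ⟨nat_lit 2, nat_lit 0, [nat_lit 30, nat_lit 38, nat_lit 1, nat_lit 35, nat_lit 25, nat_lit 34, nat_lit 29, nat_lit 29, nat_lit 37, nat_lit 34, nat_lit 39, nat_lit 35, nat_lit 35], []⟩, ⟨nat_lit 1, nat_lit 0, [nat_lit 24, nat_lit 34, nat_lit 0, nat_lit 27, nat_lit 31, nat_lit 25, nat_lit 37, nat_lit 30, nat_lit 34, nat_lit 32, nat_lit 35, nat_lit 37, nat_lit 37], []⟩, ⟨nat_lit 2, nat_lit 0, [nat_lit 4, nat_lit 25, nat_lit 1, nat_lit 26, nat_lit 28, nat_lit 25, nat_lit 32, nat_lit 35], []⟩, ⟨nat_lit 2, nat_lit 0, [nat_lit 10, nat_lit 24, nat_lit 33, nat_lit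 27, nat_lit 31, nat_lit 30, nat_lit 33, nat_lit 35, nat_lit 35, nat_lit 38], []⟩, ⟨nat_lit 2, nat_lit 0, [nat_lit 32, nat_lit 11, nat_lit 3, nat_lit 35, nat_lit 25, nat_lit 33, nat_lit 29, nat_lit 39, nat_lit 34, nat_lit 35, nat_lit 37, nat_lit 37, nat_lit 39], []⟩],
  [rB2x0]⟩

noncomputable def rB3x0 : RP := ⟨[nat_lit 6, nat_lit 37, nat_lit 6, nat_lit 34, nat_lit 29, nat_lit 25, nat_lit 29, nat_lit 32, nat_lit 34, nat_lit 32, nat_lit 38, nat_lit 35], [nat_lit 16, nat_lit 1, nat_lit 0, nat_lit 31, nat_lit 28, nat_lit 25, nat_lit 31, nat_lit 30, nat_lit 39, nat_lit 34, nat_lit 35, nat_lit 35, nat_lit 35, nat_lit 38], [⟨nat_lit 0, nat_lit 0, [nat_lit 27, nat_lit 6, nat_lit 4, nat_lit 25, nat_lit 31, nat_lit 29, nat_lit 37, nat_lit 34, nat_lit 35, nat_lit 35, nat_lit 35, nat_lit 39], []⟩, ⟨nat_lit 0, nat_lit 0, [nat_lit 37, nat_lit 29, nat_lit 6, nat_lit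 34, nat_lit 27, nat_lit 29, nat_lit 31, nat_lit 38, nat_lit 34, nat_lit 38, nat_lit 35, nat_lit 38], []⟩, ⟨nat_lit 0, nat_lit 0, [nat_lit 35, nat_lit 23, nat_lit 6, nat_lit 38, nat_lit 25, nat_lit 33, nat_lit 29, nat_lit 39, nat_lit 33, nat_lit 32, nat_lit 39, nat_lit 35, nat_lit 38], []⟩, ⟨nat_lit 0, nat_lit 0, [nat_lit 10, nat_lit 22, nat_lit 4, nat_lit 31, nat_lit 26, nat_lit 37, nat_lit 30, nat_lit 30, nat_lit 33, nat_lit 37, nat_lit 36, nat_lit 39], []⟩, ⟨nat_lit 0, nat_lit 0, [nat_lit 4, nat_lit 25, nat_lit 0, nat_lit 39, nat_lit 27, nat_lit 30, nat_lit 36, nat_lit 33, nat_lit 32, nat_lit 37, nat_lit 37, nat_lit 38], []⟩, ⟨nat_lit 0, nat_lit 0, [nat_lit 37, nat_lit 29, nat_lit 6, nat_lit 37, nat_lit 30, nat_lit 30, nat_lit 36, nat_lit 35, nat_lit 38], []⟩, ⟨nat_lit 0, nat_lit 0, [nat_lit 37, nat_lit 29, nat_lit 6, nat_lit 35, nat_lit 25, nat_lit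 29, nat_lit 31, nat_lit 39, nat_lit 33, nat_lit 32, nat_lit 35, nat_lit 39], []⟩, ⟨nat_lit 0, nat_lit 0, [nat_lit 31, nat_lit 34, nat_lit 1, nat_lit 31, nat_lit 27, nat_lit 37, nat_lit 29, nat_lit 32, nat_lit 34, nat_lit 39, nat_lit 37, nat_lit 39, nat_lit 38], []⟩, ⟨nat_lit 0, nat_lit 0, [nat_lit 38, nat_lit 31, nat_lit 0, nat_lit 28, nat_lit 25, nat_lit 29, nat_lit 33, nat_lit 32, nat_lit 37, nat_lit 35, nat_lit 39, nat_lit 38], []⟩, ⟨nat_lit 0, nat_lit 0, [nat_lit 35, nat_lit 23, nat_lit 6, nat_lit 26, nat_lit 28, nat_lit 25, nat_lit 33, nat_lit 33, nat_lit 35, nat_lit 35, nat_lit 39], []⟩, ⟨nat_lit 0, nat_lit 0, [nat_lit 28, nat_lit 7, nat_lit 33, nat_lit 27, nat_lit 33, nat_lit 29, nat_lit 37, nat_lit 34, nat_lit 39, nat_lit 35, nat_lit 35, nat_lit 39], []⟩, ⟨nat_lit 0, nat_lit 0, [nat_lit 20, nat_lit 4, nat_lit 6, nat_lit 33, nat_lit 25, nat_lit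 31, nat_lit 30, nat_lit 34, nat_lit 37, nat_lit 35], []⟩, ⟨nat_lit 0, nat_lit 0, [nat_lit 25, nat_lit 18, nat_lit 6, nat_lit 26, nat_lit 37, nat_lit 29, nat_lit 32, nat_lit 32, nat_lit 37, nat_lit 39], []⟩, ⟨nat_lit 0, nat_lit 0, [nat_lit 35, nat_lit 23, nat_lit 6, nat_lit 31, nat_lit 30, nat_lit 33, nat_lit 34, nat_lit 35, nat_lit 37, nat_lit 35, nat_lit 38], []⟩, ⟨nat_lit 0, nat_lit 0, [nat_lit 29, nat_lit 31, nat_lit 0, nat_lit 37, nat_lit 30, nat_lit 36, nat_lit 33, nat_lit 32, nat_lit 37, nat_lit 39, nat_lit 38], []⟩, ⟨nat_lit 0, nat_lit 0, [nat_lit 11, nat_lit 0, nat_lit 4, nat_lit 27, nat_lit 31, nat_lit 25, nat_lit 37, nat_lit 29, nat_lit 38, nat_lit 34, nat_lit 36, nat_lit 37, nat_lit 38], []⟩, ⟨nat_lit 0, nat_lit 0, [nat_lit 21, nat_lit 23, nat_lit 16, nat_lit 35, nat_lit 25, nat_lit 29, nat_lit 29, nat_lit 38, nat_lit 34, nat_lit 36, nat_lit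 37, nat_lit 39], []⟩, ⟨nat_lit 0, nat_lit 0, [nat_lit 21, nat_lit 4, nat_lit 1, nat_lit 27, nat_lit 31, nat_lit 25, nat_lit 29, nat_lit 31, nat_lit 34, nat_lit 32], []⟩, ⟨nat_lit 1, nat_lit 0, [nat_lit 23, nat_lit 24, nat_lit 8, nat_lit 35, nat_lit 27, nat_lit 29, nat_lit 31, nat_lit 29, nat_lit 34, nat_lit 38, nat_lit 37, nat_lit 39, nat_lit 38], [nat_lit 0, nat_lit 1, nat_lit 3, nat_lit 1, nat_lit 3]⟩, ⟨nat_lit 0, nat_lit 0, [nat_lit 7, nat_lit 20, nat_lit 1, nat_lit 33, nat_lit 25, nat_lit 31, nat_lit 34, nat_lit 32, nat_lit 37, nat_lit 35, nat_lit 39, nat_lit 38], []⟩]⟩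

noncomputable def rB3x1 : RP := ⟨[nat_lit 16, nat_lit 29, nat_lit 26, nat_lit 33, nat_lit 31, nat_lit 37, nat_lit 33, nat_lit 32, nat_lit 35, nat_lit 39], [nat_lit 27, nat_lit 19, nat_lit 0, nat_lit 32, nat_lit 25, nat_lit 33, nat_lit 29, nat_lit 29, nat_lit 35, nat_lit 33, nat_lit 35, nat_lit 35, nat_lit 35, nat_lit 39, nat_lit 38], [⟨nat_lit 0, nat_lit 0, [nat_lit 11, nat_lit 27, nat_lit 33, nat_lit 30, nat_lit 29, nat_lit 39, nat_lit 35, nat_lit 39, nat_lit 38], []⟩, ⟨nat_lit 0, nat_lit 0, [nat_lit 25, nat_lit 8, nat_lit 0, nat_lit 30, nat_lit 27, nat_lit 30, nat_lit 29, nat_lit 36, nat_lit 37], []⟩, ⟨nat_lit 0, nat_lit 0, [nat_lit 37, nat_lit 13, nat_lit 33, nat_lit 29, nat_lit 29, nat_lit 32, nat_lit 32, nat_lit 37], []⟩, ⟨nat_lit 0, nat_lit 0, [nat_lit 12, nat_lit 25, nat_lit 2, nat_lit 31, nat_lit 25, nat_lit 31, nat_lit 30, nat_lit 32, nat_lit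 32, nat_lit 36, nat_lit 37, nat_lit 39, nat_lit 38], []⟩, ⟨nat_lit 0, nat_lit 0, [nat_lit 18, nat_lit 19, nat_lit 35, nat_lit 27, nat_lit 29, nat_lit 29, nat_lit 35, nat_lit 39, nat_lit 38], []⟩, ⟨nat_lit 0, nat_lit 0, [nat_lit 23, nat_lit 35, nat_lit 1, nat_lit 28, nat_lit 25, nat_lit 29, nat_lit 36, nat_lit 33, nat_lit 35, nat_lit 35, nat_lit 35, nat_lit 38], []⟩, ⟨nat_lit 0, nat_lit 0, [nat_lit 9, nat_lit 24, nat_lit 38, nat_lit 27, nat_lit 34, nat_lit 29, nat_lit 29, nat_lit 34, nat_lit 34, nat_lit 32, nat_lit 37, nat_lit 37, nat_lit 38], []⟩, ⟨nat_lit 0, nat_lit 0, [nat_lit 11, nat_lit 37, nat_lit 3, nat_lit 34, nat_lit 25, nat_lit 29, nat_lit 32, nat_lit 37, nat_lit 35, nat_lit 39, nat_lit 38], []⟩, ⟨nat_lit 0, nat_lit 0, [nat_lit 3, nat_lit 20, nat_lit 7, nat_lit 34, nat_lit 25, nat_lit 30, nat_lit 29, nat_lit 37, nat_lit 37, nat_lit 39, nat_lit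 38], []⟩, ⟨nat_lit 0, nat_lit 0, [nat_lit 32, nat_lit 15, nat_lit 3, nat_lit 29, nat_lit 25, nat_lit 29, nat_lit 31, nat_lit 29, nat_lit 32, nat_lit 34, nat_lit 37], []⟩, ⟨nat_lit 0, nat_lit 0, [nat_lit 29, nat_lit 26, nat_lit 4, nat_lit 27, nat_lit 28, nat_lit 25, nat_lit 29, nat_lit 29, nat_lit 39, nat_lit 33, nat_lit 32, nat_lit 39, nat_lit 37], []⟩, ⟨nat_lit 0, nat_lit 0, [nat_lit 33, nat_lit 21, nat_lit 35, nat_lit 25, nat_lit 31, nat_lit 29, nat_lit 37, nat_lit 33, nat_lit 32, nat_lit 35, nat_lit 37, nat_lit 35], []⟩, ⟨nat_lit 0, nat_lit 0, [nat_lit 1, nat_lit 39, nat_lit 1, nat_lit 38, nat_lit 27, nat_lit 31, nat_lit 36, nat_lit 29, nat_lit 36, nat_lit 33, nat_lit 35, nat_lit 36], []⟩, ⟨nat_lit 0, nat_lit 0, [nat_lit 36, nat_lit 3, nat_lit 0, nat_lit 39, nat_lit 27, nat_lit 30, nat_lit 29, nat_lit 36, nat_lit 32, nat_lit 39, nat_lit 35, nat_lit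 35, nat_lit 39, nat_lit 38], []⟩, ⟨nat_lit 0, nat_lit 0, [nat_lit 32, nat_lit 3, nat_lit 7, nat_lit 29, nat_lit 25, nat_lit 33, nat_lit 30, nat_lit 29, nat_lit 39, nat_lit 33, nat_lit 35, nat_lit 39, nat_lit 38], []⟩, ⟨nat_lit 0, nat_lit 0, [nat_lit 33, nat_lit 20, nat_lit 7, nat_lit 26, nat_lit 28, nat_lit 25, nat_lit 31, nat_lit 34, nat_lit 34, nat_lit 32, nat_lit 37, nat_lit 37, nat_lit 38], []⟩, ⟨nat_lit 0, nat_lit 0, [nat_lit 27, nat_lit 2, nat_lit 7, nat_lit 28, nat_lit 29, nat_lit 32, nat_lit 37, nat_lit 35, nat_lit 38], []⟩, ⟨nat_lit 0, nat_lit 0, [nat_lit 3, nat_lit 24, nat_lit 10, nat_lit 29, nat_lit 26, nat_lit 29, nat_lit 29, nat_lit 34, nat_lit 33, nat_lit 35, nat_lit 35, nat_lit 38], []⟩, ⟨nat_lit 0, nat_lit 0, [nat_lit 34, nat_lit 24, nat_lit 31, nat_lit 28, nat_lit 25, nat_lit 37, nat_lit 39, nat_lit 35, nat_lit 39], []⟩, ⟨nat_lit 0,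 nat_lit 0, [nat_lit 39, nat_lit 32, nat_lit 3, nat_lit 33, nat_lit 27, nat_lit 32, nat_lit 29, nat_lit 32, nat_lit 37, nat_lit 37, nat_lit 39, nat_lit 38], []⟩]⟩

noncomputable def cB3 : CC := ⟨[[nat_lit 27, nat_lit 23, nat_lit 25, nat_lit 35, nat_lit 31, nat_lit 37, nat_lit 33, nat_lit 32, nat_lit 39, nat_lit 37, nat_lit 39, nat_lit 38], [nat_lit 8, nat_lit 2, nat_lit 29, nat_lit 26, nat_lit 30, nat_lit 36, nat_lit 32, nat_lit 38, nat_lit 37, nat_lit 39, nat_lit 38]], [(nat_lit 305140626, []), (nat_lit 10121770084, [nat_lit 0, nat_lit 0, nat_lit 1]), (nat_lit 20317838332, [nat_lit 0, nat_lit 1]), (nat_lit 31063104012, [nat_lit 0]), (nat_lit 35047284120, [nat_lit 0, nat_lit 0]), (nat_lit 40310300124, [nat_lit 1, nat_lit 1]), (nat_lit 41733205657, [nat_lit 0, nat_lit 0, nat_lit 1, nat_lit 1]), (nat_lit 45206879860, [nat_lit 0, nat_lit 1, nat_lit 1]),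 (nat_lit 47414341480, [nat_lit 1])],
  [⟨nat_lit 1, nat_lit 99, [], []⟩, ⟨nat_lit 2, nat_lit 0, [], []⟩, ⟨nat_lit 2, nat_lit 0, [nat_lit 16, nat_lit 13, nat_lit 6, nat_lit 27, nat_lit 30, nat_lit 33, nat_lit 35, nat_lit 37, nat_lit 35, nat_lit 39, nat_lit 38], []⟩, ⟨nat_lit 1, nat_lit 0, [nat_lit 21, nat_lit 8, nat_lit 0, nat_lit 30, nat_lit 27, nat_lit 31, nat_lit 29, nat_lit 39, nat_lit 34, nat_lit 35, nat_lit 35, nat_lit 35, nat_lit 39, nat_lit 38], []⟩, ⟨nat_lit 1, nat_lit 0, [nat_lit 29, nat_lit 18, nat_lit 8, nat_lit 31, nat_lit 26, nat_lit 35, nat_lit 31, nat_lit 33, nat_lit 34, nat_lit 37, nat_lit 35, nat_lit 38], []⟩, ⟨nat_lit 2, nat_lit 1, [], []⟩, ⟨nat_lit 2, nat_lit 0, [nat_lit 16, nat_lit 22, nat_lit 3, nat_lit 25, nat_lit 27, nat_lit 32, nat_lit 29, nat_lit 35, nat_lit 33, nat_lit 38], []⟩, ⟨nat_lit 2, nat_lit 0, [nat_lit 6, nat_lit 0,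 nat_lit 25, nat_lit 27, nat_lit 31, nat_lit 29, nat_lit 32, nat_lit 34, nat_lit 37, nat_lit 36, nat_lit 39], []⟩, ⟨nat_lit 2, nat_lit 1, [nat_lit 13, nat_lit 37, nat_lit 1, nat_lit 34, nat_lit 27, nat_lit 35, nat_lit 31, nat_lit 39, nat_lit 33, nat_lit 35, nat_lit 36, nat_lit 39, nat_lit 38], []⟩],
  [rB3x0, rB3x1]⟩

noncomputable def rB4x0 : RP := ⟨[nat_lit 22, nat_lit 13, nat_lit 1, nat_lit 32, nat_lit 25, nat_lit 35, nat_lit 31, nat_lit 36, nat_lit 33, nat_lit 32], [nat_lit 20, nat_lit 7, nat_lit 7, nat_lit 31, nat_lit 28, nat_lit 25, nat_lit 34, nat_lit 29, nat_lit 29, nat_lit 37, nat_lit 39, nat_lit 35, nat_lit 38], [⟨nat_lit 0, nat_lit 0, [nat_lit 0, nat_lit 24, nat_lit 0, nat_lit 29, nat_lit 31, nat_lit 29, nat_lit 32, nat_lit 36, nat_lit 39, nat_lit 38], []⟩, ⟨nat_lit 0, nat_lit 0, [nat_lit 11, nat_lit 20, nat_lit 0, nat_lit 34, nat_lit 25,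 nat_lit 38, nat_lit 34, nat_lit 37, nat_lit 37, nat_lit 38], []⟩, ⟨nat_lit 0, nat_lit 0, [nat_lit 8, nat_lit 24, nat_lit 10, nat_lit 25, nat_lit 27, nat_lit 31, nat_lit 29, nat_lit 35, nat_lit 33, nat_lit 35, nat_lit 35, nat_lit 35, nat_lit 39], []⟩, ⟨nat_lit 0, nat_lit 0, [nat_lit 21, nat_lit 22, nat_lit 6, nat_lit 31, nat_lit 25, nat_lit 33, nat_lit 31, nat_lit 33, nat_lit 34, nat_lit 35, nat_lit 39], []⟩, ⟨nat_lit 0, nat_lit 0, [nat_lit 37, nat_lit 12, nat_lit 6, nat_lit 30, nat_lit 27, nat_lit 31, nat_lit 30, nat_lit 39, nat_lit 33, nat_lit 36, nat_lit 38], []⟩, ⟨nat_lit 0, nat_lit 0, [nat_lit 16, nat_lit 39, nat_lit 0, nat_lit 33, nat_lit 25, nat_lit 30, nat_lit 29, nat_lit 32, nat_lit 34, nat_lit 38, nat_lit 35], []⟩, ⟨nat_lit 0, nat_lit 0, [nat_lit 31, nat_lit 24, nat_lit 1, nat_lit 28, nat_lit 25, nat_lit 33, nat_lit 31, nat_lit 39, nat_lit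 34, nat_lit 35, nat_lit 35, nat_lit 35, nat_lit 38], []⟩, ⟨nat_lit 0, nat_lit 0, [nat_lit 13, nat_lit 8, nat_lit 1, nat_lit 29, nat_lit 25, nat_lit 35, nat_lit 31, nat_lit 37, nat_lit 33, nat_lit 32, nat_lit 35, nat_lit 36, nat_lit 39], []⟩, ⟨nat_lit 0, nat_lit 0, [nat_lit 10, nat_lit 15, nat_lit 2, nat_lit 27, nat_lit 29, nat_lit 31, nat_lit 33, nat_lit 33, nat_lit 38], []⟩, ⟨nat_lit 0, nat_lit 0, [nat_lit 36, nat_lit 15, nat_lit 4, nat_lit 25, nat_lit 33, nat_lit 29, nat_lit 29, nat_lit 33, nat_lit 37, nat_lit 37], []⟩, ⟨nat_lit 0, nat_lit 0, [nat_lit 1, nat_lit 37, nat_lit 4, nat_lit 33, nat_lit 27, nat_lit 31, nat_lit 39, nat_lit 33, nat_lit 37, nat_lit 35, nat_lit 39, nat_lit 38], []⟩, ⟨nat_lit 0, nat_lit 0, [nat_lit 0, nat_lit 36, nat_lit 8, nat_lit 29, nat_lit 25, nat_lit 36, nat_lit 29, nat_lit 36, nat_lit 33, nat_lit 37, nat_lit 37, nat_lit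 39], []⟩, ⟨nat_lit 0, nat_lit 0, [nat_lit 38, nat_lit 34, nat_lit 1, nat_lit 27, nat_lit 31, nat_lit 25, nat_lit 36, nat_lit 29, nat_lit 38, nat_lit 34, nat_lit 35, nat_lit 37, nat_lit 37, nat_lit 39], []⟩, ⟨nat_lit 0, nat_lit 0, [nat_lit 24, nat_lit 22, nat_lit 32, nat_lit 25, nat_lit 31, nat_lit 39, nat_lit 34, nat_lit 35, nat_lit 37, nat_lit 35, nat_lit 39], []⟩, ⟨nat_lit 0, nat_lit 0, [nat_lit 33, nat_lit 7, nat_lit 29, nat_lit 26, nat_lit 29, nat_lit 31, nat_lit 29, nat_lit 38, nat_lit 34, nat_lit 39], []⟩, ⟨nat_lit 0, nat_lit 0, [nat_lit 36, nat_lit 32, nat_lit 0, nat_lit 34, nat_lit 29, nat_lit 25, nat_lit 30, nat_lit 30, nat_lit 39, nat_lit 33, nat_lit 39, nat_lit 38], []⟩, ⟨nat_lit 0, nat_lit 0, [nat_lit 34, nat_lit 27, nat_lit 1, nat_lit 28, nat_lit 31, nat_lit 36, nat_lit 29, nat_lit 33, nat_lit 32, nat_lit 37, nat_lit 39, nat_lit 38], []⟩,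 ⟨nat_lit 0, nat_lit 0, [nat_lit 18, nat_lit 22, nat_lit 4, nat_lit 27, nat_lit 33, nat_lit 30, nat_lit 29, nat_lit 39, nat_lit 34, nat_lit 37, nat_lit 39, nat_lit 35, nat_lit 39, nat_lit 38], []⟩, ⟨nat_lit 0, nat_lit 0, [nat_lit 30, nat_lit 2, nat_lit 3, nat_lit 29, nat_lit 25, nat_lit 29, nat_lit 29, nat_lit 37, nat_lit 39, nat_lit 38], []⟩, ⟨nat_lit 0, nat_lit 0, [nat_lit 8, nat_lit 16, nat_lit 34, nat_lit 25, nat_lit 29, nat_lit 31, nat_lit 29, nat_lit 33, nat_lit 35, nat_lit 37, nat_lit 35, nat_lit 38], []⟩]⟩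

noncomputable def rB4x1 : RP := ⟨[nat_lit 27, nat_lit 23, nat_lit 29, nat_lit 26, nat_lit 33, nat_lit 35, nat_lit 37, nat_lit 37], [nat_lit 19, nat_lit 19, nat_lit 2, nat_lit 30, nat_lit 27, nat_lit 34, nat_lit 29, nat_lit 34, nat_lit 37, nat_lit 35, nat_lit 39], [⟨nat_lit 0, nat_lit 0, [nat_lit 34, nat_lit 18, nat_lit 8, nat_lit 39, nat_lit 27, nat_lit 33, nat_lit 29, nat_lit 29, nat_lit 34, nat_lit 33, nat_lit 38, nat_lit 37, nat_lit 39], []⟩, ⟨nat_lit 0, nat_lit 0, [nat_lit 33, nat_lit 7, nat_lit 0, nat_lit 31, nat_lit 25, nat_lit 29, nat_lit 31, nat_lit 29, nat_lit 32, nat_lit 32, nat_lit 35, nat_lit 35, nat_lit 39], []⟩, ⟨nat_lit 0, nat_lit 0, [nat_lit 12, nat_lit 4, nat_lit 29, nat_lit 25, nat_lit 30, nat_lit 39, nat_lit 32, nat_lit 39, nat_lit 35], []⟩, ⟨nat_lit 0, nat_lit 0, [nat_lit 20, nat_lit 7, nat_lit 3, nat_lit 35, nat_lit 25, nat_lit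 34, nat_lit 29, nat_lit 35, nat_lit 33, nat_lit 37, nat_lit 39], []⟩, ⟨nat_lit 0, nat_lit 0, [nat_lit 17, nat_lit 24, nat_lit 31, nat_lit 26, nat_lit 29, nat_lit 30, nat_lit 35, nat_lit 33, nat_lit 37, nat_lit 39, nat_lit 35, nat_lit 38], []⟩, ⟨nat_lit 1, nat_lit 0, [nat_lit 33, nat_lit 28, nat_lit 0, nat_lit 32, nat_lit 25, nat_lit 29, nat_lit 31, nat_lit 29, nat_lit 35, nat_lit 36, nat_lit 39, nat_lit 38], [nat_lit 0, nat_lit 3]⟩, ⟨nat_lit 0, nat_lit 0, [nat_lit 27, nat_lit 0, nat_lit 1, nat_lit 30, nat_lit 25, nat_lit 33, nat_lit 29, nat_lit 29, nat_lit 36, nat_lit 33, nat_lit 37, nat_lit 36, nat_lit 39, nat_lit 38], []⟩, ⟨nat_lit 0, nat_lit 0, [nat_lit 4, nat_lit 16, nat_lit 3, nat_lit 28, nat_lit 25, nat_lit 29, nat_lit 31, nat_lit 29, nat_lit 36, nat_lit 35, nat_lit 39, nat_lit 38], []⟩, ⟨nat_lit 0, nat_lit 0, [nat_lit 32, nat_lit 39, nat_lit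 0, nat_lit 25, nat_lit 26, nat_lit 34, nat_lit 29, nat_lit 29, nat_lit 32, nat_lit 39, nat_lit 35], []⟩, ⟨nat_lit 0, nat_lit 0, [nat_lit 31, nat_lit 39, nat_lit 4, nat_lit 25, nat_lit 26, nat_lit 31, nat_lit 29, nat_lit 32, nat_lit 33, nat_lit 39, nat_lit 35, nat_lit 35, nat_lit 39], []⟩, ⟨nat_lit 0, nat_lit 0, [nat_lit 4, nat_lit 24, nat_lit 3, nat_lit 34, nat_lit 29, nat_lit 32, nat_lit 33, nat_lit 36, nat_lit 37, nat_lit 39], []⟩, ⟨nat_lit 0, nat_lit 0, [nat_lit 28, nat_lit 13, nat_lit 31, nat_lit 26, nat_lit 38, nat_lit 34, nat_lit 35, nat_lit 39], []⟩, ⟨nat_lit 0, nat_lit 0, [nat_lit 4, nat_lit 6, nat_lit 2, nat_lit 33, nat_lit 27, nat_lit 37, nat_lit 30, nat_lit 30, nat_lit 36, nat_lit 33, nat_lit 35, nat_lit 37, nat_lit 37, nat_lit 39], []⟩, ⟨nat_lit 0, nat_lit 0, [nat_lit 1, nat_lit 35, nat_lit 0, nat_lit 29, nat_lit 26, nat_lit 29, nat_lit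 31, nat_lit 33, nat_lit 32, nat_lit 38], []⟩, ⟨nat_lit 1, nat_lit 0, [nat_lit 28, nat_lit 3, nat_lit 2, nat_lit 27, nat_lit 29, nat_lit 29, nat_lit 33, nat_lit 32, nat_lit 39, nat_lit 35, nat_lit 38], [nat_lit 0, nat_lit 0, nat_lit 0, nat_lit 2, nat_lit 3, nat_lit 1, nat_lit 2]⟩, ⟨nat_lit 0, nat_lit 0, [nat_lit 22, nat_lit 33, nat_lit 3, nat_lit 33, nat_lit 27, nat_lit 32, nat_lit 29, nat_lit 32, nat_lit 39, nat_lit 37, nat_lit 38], []⟩, ⟨nat_lit 0, nat_lit 0, [nat_lit 0, nat_lit 36, nat_lit 8, nat_lit 28, nat_lit 25, nat_lit 29, nat_lit 31, nat_lit 29, nat_lit 38, nat_lit 34, nat_lit 39, nat_lit 35, nat_lit 35, nat_lit 38], []⟩, ⟨nat_lit 0, nat_lit 0, [nat_lit 24, nat_lit 8, nat_lit 34, nat_lit 29, nat_lit 25, nat_lit 32, nat_lit 29, nat_lit 34, nat_lit 33, nat_lit 38, nat_lit 37], []⟩, ⟨nat_lit 1, nat_lit 0, [nat_lit 16, nat_lit 29, nat_lit 3, nat_lit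 32, nat_lit 25, nat_lit 36, nat_lit 29, nat_lit 33, nat_lit 36, nat_lit 35, nat_lit 39, nat_lit 38], [nat_lit 0, nat_lit 2, nat_lit 3, nat_lit 1, nat_lit 1, nat_lit 2]⟩, ⟨nat_lit 0, nat_lit 0, [nat_lit 1, nat_lit 22, nat_lit 7, nat_lit 25, nat_lit 26, nat_lit 31, nat_lit 30, nat_lit 32, nat_lit 39, nat_lit 38], []⟩]⟩

noncomputable def cB4 : CC := ⟨[[nat_lit 21, nat_lit 25, nat_lit 6, nat_lit 32, nat_lit 25, nat_lit 30, nat_lit 30, nat_lit 39, nat_lit 32, nat_lit 39, nat_lit 37, nat_lit 39], [nat_lit 22, nat_lit 13, nat_lit 1, nat_lit 32, nat_lit 25, nat_lit 35, nat_lit 31, nat_lit 36, nat_lit 33, nat_lit 32]], [(nat_lit 305140626, []), (nat_lit 4019147719, [nat_lit 1]), (nat_lit 9207023078, [nat_lit 0, nat_lit 1, nat_lit 1]), (nat_lit 13494193994, [nat_lit 0, nat_lit 0, nat_lit 1, nat_lit 1]), (nat_lit 14393796199, [nat_lit 0, nat_lit 0, nat_lit 1]),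 (nat_lit 14943042295, [nat_lit 0, nat_lit 1]), (nat_lit 22656405366, [nat_lit 0, nat_lit 0]), (nat_lit 24616427438, [nat_lit 1, nat_lit 1]), (nat_lit 28911708126, [nat_lit 0])],
  [⟨nat_lit 1, nat_lit 99, [], []⟩, ⟨nat_lit 2, nat_lit 0, [], []⟩, ⟨nat_lit 2, nat_lit 1, [], []⟩, ⟨nat_lit 2, nat_lit 0, [nat_lit 4, nat_lit 20, nat_lit 8, nat_lit 30, nat_lit 25, nat_lit 29, nat_lit 30, nat_lit 34, nat_lit 36, nat_lit 39, nat_lit 38], []⟩, ⟨nat_lit 2, nat_lit 1, [nat_lit 4, nat_lit 20, nat_lit 8, nat_lit 30, nat_lit 25, nat_lit 29, nat_lit 30, nat_lit 34, nat_lit 36, nat_lit 39, nat_lit 38], []⟩, ⟨nat_lit 2, nat_lit 0, [nat_lit 27, nat_lit 6, nat_lit 3, nat_lit 25, nat_lit 26, nat_lit 33, nat_lit 30, nat_lit 29, nat_lit 36, nat_lit 32, nat_lit 35, nat_lit 37, nat_lit 35, nat_lit 39, nat_lit 38], []⟩, ⟨nat_lit 1, nat_lit 0, [nat_lit 11, nat_lit 32, nat_lit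 0, nat_lit 33, nat_lit 27, nat_lit 30, nat_lit 29, nat_lit 37, nat_lit 38], []⟩, ⟨nat_lit 2, nat_lit 0, [nat_lit 21, nat_lit 21, nat_lit 7, nat_lit 30, nat_lit 25, nat_lit 30, nat_lit 30, nat_lit 36, nat_lit 33, nat_lit 32, nat_lit 35, nat_lit 36, nat_lit 39], []⟩, ⟨nat_lit 1, nat_lit 0, [nat_lit 15, nat_lit 38, nat_lit 17, nat_lit 30, nat_lit 25, nat_lit 31, nat_lit 30, nat_lit 32, nat_lit 34, nat_lit 36, nat_lit 35, nat_lit 39, nat_lit 38], []⟩],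
  [rB4x0, rB4x1]⟩

noncomputable def CLB : List (List ℕ) := [[nat_lit 41], [nat_lit 57], [nat_lit 58], [nat_lit 64], [nat_lit 41, nat_lit 41], [nat_lit 41, nat_lit 57], [nat_lit 41, nat_lit 58], [nat_lit 41, nat_lit 64], [nat_lit 57, nat_lit 57], [nat_lit 57, nat_lit 58], [nat_lit 57, nat_lit 64], [nat_lit 58, nat_lit 58], [nat_lit 58, nat_lit 64], [nat_lit 64, nat_lit 57], [nat_lit 64, nat_lit 58], [nat_lit 41, nat_lit 41, nat_lit 41], [nat_lit 41, nat_lit 41, nat_lit 57], [nat_lit 41, nat_lit 41, nat_lit 58], [nat_lit 41, nat_lit 41, nat_lit 64], [nat_lit 41, nat_lit 57, nat_lit 57], [nat_lit 41, nat_lit 57, nat_lit 58], [nat_lit 41, nat_lit 57, nat_lit 64], [nat_lit 41, nat_lit 58, nat_lit 58], [nat_lit 41, nat_lit 58, nat_lit 64], [nat_lit 41, nat_lit 64, nat_lit 57], [nat_lit 41, nat_lit 64, nat_lit 58], [nat_lit 57, nat_lit 57, nat_lit 58], [nat_lit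 57, nat_lit 57, nat_lit 64], [nat_lit 57, nat_lit 58, nat_lit 58], [nat_lit 57, nat_lit 58, nat_lit 64], [nat_lit 57, nat_lit 64, nat_lit 57], [nat_lit 57, nat_lit 64, nat_lit 58], [nat_lit 58, nat_lit 58, nat_lit 58], [nat_lit 58, nat_lit 58, nat_lit 64], [nat_lit 58, nat_lit 64, nat_lit 57], [nat_lit 58, nat_lit 64, nat_lit 58], [nat_lit 64, nat_lit 57, nat_lit 57], [nat_lit 64, nat_lit 57, nat_lit 58], [nat_lit 64, nat_lit 57, nat_lit 64], [nat_lit 64, nat_lit 58, nat_lit 64], [nat_lit 41, nat_lit 41, nat_lit 41, nat_lit 57], [nat_lit 41, nat_lit 41, nat_lit 41, nat_lit 58], [nat_lit 41, nat_lit 41, nat_lit 41, nat_lit 64], [nat_lit 41, nat_lit 41, nat_lit 57, nat_lit 57], [nat_lit 41, nat_lit 41, nat_lit 57, nat_lit 58], [nat_lit 41, nat_lit 41, nat_lit 57, nat_lit 64], [nat_lit 41, nat_lit 41, nat_lit 58, nat_lit 64], [nat_lit 41, nat_lit 41,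 nat_lit 64, nat_lit 57], [nat_lit 41, nat_lit 41, nat_lit 64, nat_lit 58], [nat_lit 41, nat_lit 57, nat_lit 57, nat_lit 58], [nat_lit 41, nat_lit 57, nat_lit 57, nat_lit 64], [nat_lit 41, nat_lit 57, nat_lit 58, nat_lit 58], [nat_lit 41, nat_lit 57, nat_lit 58, nat_lit 64], [nat_lit 41, nat_lit 57, nat_lit 64, nat_lit 57], [nat_lit 41, nat_lit 57, nat_lit 64, nat_lit 58], [nat_lit 41, nat_lit 58, nat_lit 58, nat_lit 58], [nat_lit 41, nat_lit 58, nat_lit 58, nat_lit 64], [nat_lit 41, nat_lit 58, nat_lit 64, nat_lit 57], [nat_lit 41, nat_lit 58, nat_lit 64, nat_lit 58], [nat_lit 41, nat_lit 64, nat_lit 57, nat_lit 57], [nat_lit 41, nat_lit 64, nat_lit 57, nat_lit 58], [nat_lit 41, nat_lit 64, nat_lit 57, nat_lit 64], [nat_lit 41, nat_lit 64, nat_lit 58, nat_lit 64], [nat_lit 57, nat_lit 57, nat_lit 58, nat_lit 58], [nat_lit 57, nat_lit 57, nat_lit 58,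 nat_lit 64], [nat_lit 57, nat_lit 57, nat_lit 64, nat_lit 57], [nat_lit 57, nat_lit 57, nat_lit 64, nat_lit 58], [nat_lit 57, nat_lit 58, nat_lit 58, nat_lit 58], [nat_lit 57, nat_lit 58, nat_lit 58, nat_lit 64], [nat_lit 57, nat_lit 58, nat_lit 64, nat_lit 57], [nat_lit 57, nat_lit 58, nat_lit 64, nat_lit 58], [nat_lit 57, nat_lit 64, nat_lit 57, nat_lit 57], [nat_lit 57, nat_lit 64, nat_lit 57, nat_lit 58], [nat_lit 57, nat_lit 64, nat_lit 57, nat_lit 64], [nat_lit 57, nat_lit 64, nat_lit 58, nat_lit 64], [nat_lit 58, nat_lit 58, nat_lit 58, nat_lit 64], [nat_lit 58, nat_lit 58, nat_lit 64, nat_lit 57], [nat_lit 58, nat_lit 58, nat_lit 64, nat_lit 58], [nat_lit 58, nat_lit 64, nat_lit 57, nat_lit 57], [nat_lit 58, nat_lit 64, nat_lit 57, nat_lit 58], [nat_lit 58, nat_lit 64, nat_lit 57, nat_lit 64], [nat_lit 64, nat_lit 57, nat_lit 57, nat_lit 58],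 [nat_lit 64, nat_lit 57, nat_lit 57, nat_lit 64], [nat_lit 64, nat_lit 57, nat_lit 58, nat_lit 64], [nat_lit 64, nat_lit 57, nat_lit 64, nat_lit 58], [nat_lit 64, nat_lit 58, nat_lit 64, nat_lit 57], [nat_lit 41, nat_lit 41, nat_lit 41, nat_lit 57, nat_lit 57], [nat_lit 41, nat_lit 41, nat_lit 41, nat_lit 57, nat_lit 58], [nat_lit 41, nat_lit 41, nat_lit 41, nat_lit 57, nat_lit 64], [nat_lit 41, nat_lit 41, nat_lit 41, nat_lit 58, nat_lit 64], [nat_lit 41, nat_lit 41, nat_lit 41, nat_lit 64, nat_lit 57], [nat_lit 41, nat_lit 41, nat_lit 41, nat_lit 64, nat_lit 58], [nat_lit 41, nat_lit 41, nat_lit 57, nat_lit 57, nat_lit 58], [nat_lit 41, nat_lit 41, nat_lit 57, nat_lit 57, nat_lit 64], [nat_lit 41, nat_lit 41, nat_lit 57, nat_lit 58, nat_lit 64], [nat_lit 41, nat_lit 41, nat_lit 57, nat_lit 64, nat_lit 57], [nat_lit 41, nat_lit 41, nat_lit 57, nat_lit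 64, nat_lit 58], [nat_lit 41, nat_lit 41, nat_lit 58, nat_lit 64, nat_lit 57], [nat_lit 41, nat_lit 41, nat_lit 58, nat_lit 64, nat_lit 58], [nat_lit 41, nat_lit 41, nat_lit 64, nat_lit 57, nat_lit 57], [nat_lit 41, nat_lit 41, nat_lit 64, nat_lit 57, nat_lit 58], [nat_lit 41, nat_lit 41, nat_lit 64, nat_lit 57, nat_lit 64], [nat_lit 41, nat_lit 57, nat_lit 57, nat_lit 58, nat_lit 58], [nat_lit 41, nat_lit 57, nat_lit 57, nat_lit 58, nat_lit 64], [nat_lit 41, nat_lit 57, nat_lit 57, nat_lit 64, nat_lit 57], [nat_lit 41, nat_lit 57, nat_lit 57, nat_lit 64, nat_lit 58], [nat_lit 41, nat_lit 57, nat_lit 58, nat_lit 58, nat_lit 58], [nat_lit 41, nat_lit 57, nat_lit 58, nat_lit 58, nat_lit 64], [nat_lit 41, nat_lit 57, nat_lit 58, nat_lit 64, nat_lit 57], [nat_lit 41, nat_lit 57, nat_lit 58, nat_lit 64, nat_lit 58], [nat_lit 41, nat_lit 57, nat_lit 64,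 nat_lit 57, nat_lit 57], [nat_lit 41, nat_lit 57, nat_lit 64, nat_lit 57, nat_lit 58], [nat_lit 41, nat_lit 57, nat_lit 64, nat_lit 57, nat_lit 64], [nat_lit 41, nat_lit 57, nat_lit 64, nat_lit 58, nat_lit 64], [nat_lit 41, nat_lit 58, nat_lit 58, nat_lit 58, nat_lit 64], [nat_lit 41, nat_lit 58, nat_lit 58, nat_lit 64, nat_lit 57], [nat_lit 41, nat_lit 58, nat_lit 58, nat_lit 64, nat_lit 58], [nat_lit 41, nat_lit 58, nat_lit 64, nat_lit 57, nat_lit 57], [nat_lit 41, nat_lit 58, nat_lit 64, nat_lit 57, nat_lit 58], [nat_lit 41, nat_lit 58, nat_lit 64, nat_lit 57, nat_lit 64], [nat_lit 41, nat_lit 64, nat_lit 57, nat_lit 57, nat_lit 58], [nat_lit 41, nat_lit 64, nat_lit 57, nat_lit 57, nat_lit 64], [nat_lit 41, nat_lit 64, nat_lit 57, nat_lit 58, nat_lit 64], [nat_lit 41, nat_lit 64, nat_lit 57, nat_lit 64, nat_lit 58], [nat_lit 41, nat_lit 64, nat_lit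 58, nat_lit 64, nat_lit 57], [nat_lit 57, nat_lit 57, nat_lit 58, nat_lit 58, nat_lit 58], [nat_lit 57, nat_lit 57, nat_lit 58, nat_lit 58, nat_lit 64], [nat_lit 57, nat_lit 57, nat_lit 58, nat_lit 64, nat_lit 57], [nat_lit 57, nat_lit 57, nat_lit 58, nat_lit 64, nat_lit 58], [nat_lit 57, nat_lit 57, nat_lit 64, nat_lit 57, nat_lit 57], [nat_lit 57, nat_lit 57, nat_lit 64, nat_lit 57, nat_lit 58], [nat_lit 57, nat_lit 57, nat_lit 64, nat_lit 57, nat_lit 64], [nat_lit 57, nat_lit 57, nat_lit 64, nat_lit 58, nat_lit 64], [nat_lit 57, nat_lit 58, nat_lit 58, nat_lit 58, nat_lit 64], [nat_lit 57, nat_lit 58, nat_lit 58, nat_lit 64, nat_lit 57], [nat_lit 57, nat_lit 58, nat_lit 58, nat_lit 64, nat_lit 58], [nat_lit 57, nat_lit 58, nat_lit 64, nat_lit 57, nat_lit 57], [nat_lit 57, nat_lit 58, nat_lit 64, nat_lit 57, nat_lit 58], [nat_lit 57, nat_lit 58,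 nat_lit 64, nat_lit 57, nat_lit 64], [nat_lit 57, nat_lit 64, nat_lit 57, nat_lit 57, nat_lit 58], [nat_lit 57, nat_lit 64, nat_lit 57, nat_lit 57, nat_lit 64], [nat_lit 57, nat_lit 64, nat_lit 57, nat_lit 58, nat_lit 64], [nat_lit 57, nat_lit 64, nat_lit 57, nat_lit 64, nat_lit 58], [nat_lit 57, nat_lit 64, nat_lit 58, nat_lit 64, nat_lit 57], [nat_lit 58, nat_lit 58, nat_lit 58, nat_lit 64, nat_lit 57], [nat_lit 58, nat_lit 58, nat_lit 64, nat_lit 57, nat_lit 57], [nat_lit 58, nat_lit 58, nat_lit 64, nat_lit 57, nat_lit 58], [nat_lit 58, nat_lit 58, nat_lit 64, nat_lit 57, nat_lit 64], [nat_lit 58, nat_lit 64, nat_lit 57, nat_lit 57, nat_lit 58], [nat_lit 58, nat_lit 64, nat_lit 57, nat_lit 57, nat_lit 64], [nat_lit 58, nat_lit 64, nat_lit 57, nat_lit 58, nat_lit 64], [nat_lit 58, nat_lit 64, nat_lit 57, nat_lit 64, nat_lit 58], [nat_lit 64, nat_lit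 57, nat_lit 57, nat_lit 64, nat_lit 58], [nat_lit 64, nat_lit 57, nat_lit 58, nat_lit 64, nat_lit 57], [nat_lit 64, nat_lit 57, nat_lit 58, nat_lit 64, nat_lit 58], [nat_lit 64, nat_lit 57, nat_lit 64, nat_lit 58, nat_lit 64], [nat_lit 64, nat_lit 58, nat_lit 64, nat_lit 57, nat_lit 57], [nat_lit 64, nat_lit 58, nat_lit 64, nat_lit 57, nat_lit 64], [nat_lit 41, nat_lit 41, nat_lit 41, nat_lit 57, nat_lit 57, nat_lit 58], [nat_lit 41, nat_lit 41, nat_lit 41, nat_lit 57, nat_lit 57, nat_lit 64], [nat_lit 41, nat_lit 41, nat_lit 41, nat_lit 57, nat_lit 58, nat_lit 64], [nat_lit 41, nat_lit 41, nat_lit 41, nat_lit 57, nat_lit 64, nat_lit 57], [nat_lit 41, nat_lit 41, nat_lit 41, nat_lit 57, nat_lit 64, nat_lit 58], [nat_lit 41, nat_lit 41, nat_lit 41, nat_lit 58, nat_lit 64, nat_lit 57], [nat_lit 41, nat_lit 41, nat_lit 41, nat_lit 58, nat_lit 64, nat_lit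 58], [nat_lit 41, nat_lit 41, nat_lit 41, nat_lit 64, nat_lit 57, nat_lit 57], [nat_lit 41, nat_lit 41, nat_lit 41, nat_lit 64, nat_lit 57, nat_lit 58], [nat_lit 41, nat_lit 41, nat_lit 41, nat_lit 64, nat_lit 57, nat_lit 64], [nat_lit 41, nat_lit 41, nat_lit 57, nat_lit 57, nat_lit 58, nat_lit 64], [nat_lit 41, nat_lit 41, nat_lit 57, nat_lit 57, nat_lit 64, nat_lit 57], [nat_lit 41, nat_lit 41, nat_lit 57, nat_lit 57, nat_lit 64, nat_lit 58], [nat_lit 41, nat_lit 41, nat_lit 57, nat_lit 58, nat_lit 64, nat_lit 57], [nat_lit 41, nat_lit 41, nat_lit 57, nat_lit 58, nat_lit 64, nat_lit 58], [nat_lit 41, nat_lit 41, nat_lit 57, nat_lit 64, nat_lit 57, nat_lit 57], [nat_lit 41, nat_lit 41, nat_lit 57, nat_lit 64, nat_lit 57, nat_lit 58], [nat_lit 41, nat_lit 41, nat_lit 57, nat_lit 64, nat_lit 57, nat_lit 64], [nat_lit 41, nat_lit 41, nat_lit 58, nat_lit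 64, nat_lit 57, nat_lit 57], [nat_lit 41, nat_lit 41, nat_lit 58, nat_lit 64, nat_lit 57, nat_lit 58], [nat_lit 41, nat_lit 41, nat_lit 58, nat_lit 64, nat_lit 57, nat_lit 64], [nat_lit 41, nat_lit 41, nat_lit 64, nat_lit 57, nat_lit 57, nat_lit 58], [nat_lit 41, nat_lit 41, nat_lit 64, nat_lit 57, nat_lit 57, nat_lit 64], [nat_lit 41, nat_lit 41, nat_lit 64, nat_lit 57, nat_lit 58, nat_lit 64], [nat_lit 41, nat_lit 41, nat_lit 64, nat_lit 57, nat_lit 64, nat_lit 58], [nat_lit 41, nat_lit 57, nat_lit 57, nat_lit 58, nat_lit 58, nat_lit 58], [nat_lit 41, nat_lit 57, nat_lit 57, nat_lit 58, nat_lit 58, nat_lit 64], [nat_lit 41, nat_lit 57, nat_lit 57, nat_lit 58, nat_lit 64, nat_lit 57], [nat_lit 41, nat_lit 57, nat_lit 57, nat_lit 58, nat_lit 64, nat_lit 58], [nat_lit 41, nat_lit 57, nat_lit 57, nat_lit 64, nat_lit 57, nat_lit 57], [nat_lit 41, nat_lit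 57, nat_lit 57, nat_lit 64, nat_lit 57, nat_lit 58], [nat_lit 41, nat_lit 57, nat_lit 57, nat_lit 64, nat_lit 57, nat_lit 64], [nat_lit 41, nat_lit 57, nat_lit 57, nat_lit 64, nat_lit 58, nat_lit 64], [nat_lit 41, nat_lit 57, nat_lit 58, nat_lit 58, nat_lit 58, nat_lit 64], [nat_lit 41, nat_lit 57, nat_lit 58, nat_lit 58, nat_lit 64, nat_lit 57], [nat_lit 41, nat_lit 57, nat_lit 58, nat_lit 58, nat_lit 64, nat_lit 58], [nat_lit 41, nat_lit 57, nat_lit 58, nat_lit 64, nat_lit 57, nat_lit 57], [nat_lit 41, nat_lit 57, nat_lit 58, nat_lit 64, nat_lit 57, nat_lit 58], [nat_lit 41, nat_lit 57, nat_lit 58, nat_lit 64, nat_lit 57, nat_lit 64], [nat_lit 41, nat_lit 57, nat_lit 64, nat_lit 57, nat_lit 57, nat_lit 58], [nat_lit 41, nat_lit 57, nat_lit 64, nat_lit 57, nat_lit 57, nat_lit 64], [nat_lit 41, nat_lit 57, nat_lit 64, nat_lit 57, nat_lit 58, nat_lit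 64], [nat_lit 41, nat_lit 57, nat_lit 64, nat_lit 57, nat_lit 64, nat_lit 58], [nat_lit 41, nat_lit 57, nat_lit 64, nat_lit 58, nat_lit 64, nat_lit 57], [nat_lit 41, nat_lit 58, nat_lit 58, nat_lit 58, nat_lit 64, nat_lit 57], [nat_lit 41, nat_lit 58, nat_lit 58, nat_lit 64, nat_lit 57, nat_lit 57], [nat_lit 41, nat_lit 58, nat_lit 58, nat_lit 64, nat_lit 57, nat_lit 58], [nat_lit 41, nat_lit 58, nat_lit 58, nat_lit 64, nat_lit 57, nat_lit 64], [nat_lit 41, nat_lit 58, nat_lit 64, nat_lit 57, nat_lit 57, nat_lit 58], [nat_lit 41, nat_lit 58, nat_lit 64, nat_lit 57, nat_lit 57, nat_lit 64], [nat_lit 41, nat_lit 58, nat_lit 64, nat_lit 57, nat_lit 58, nat_lit 64], [nat_lit 41, nat_lit 58, nat_lit 64, nat_lit 57, nat_lit 64, nat_lit 58], [nat_lit 41, nat_lit 64, nat_lit 57, nat_lit 57, nat_lit 64, nat_lit 58], [nat_lit 41, nat_lit 64, nat_lit 57, nat_lit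 58, nat_lit 64, nat_lit 57], [nat_lit 41, nat_lit 64, nat_lit 57, nat_lit 58, nat_lit 64, nat_lit 58], [nat_lit 41, nat_lit 64, nat_lit 57, nat_lit 64, nat_lit 58, nat_lit 64], [nat_lit 41, nat_lit 64, nat_lit 58, nat_lit 64, nat_lit 57, nat_lit 57], [nat_lit 41, nat_lit 64, nat_lit 58, nat_lit 64, nat_lit 57, nat_lit 64], [nat_lit 57, nat_lit 57, nat_lit 58, nat_lit 58, nat_lit 58, nat_lit 64], [nat_lit 57, nat_lit 57, nat_lit 58, nat_lit 58, nat_lit 64, nat_lit 57], [nat_lit 57, nat_lit 57, nat_lit 58, nat_lit 58, nat_lit 64, nat_lit 58], [nat_lit 57, nat_lit 57, nat_lit 58, nat_lit 64, nat_lit 57, nat_lit 57], [nat_lit 57, nat_lit 57, nat_lit 58, nat_lit 64, nat_lit 57, nat_lit 58], [nat_lit 57, nat_lit 57, nat_lit 58, nat_lit 64, nat_lit 57, nat_lit 64], [nat_lit 57, nat_lit 57, nat_lit 64, nat_lit 57, nat_lit 57, nat_lit 58], [nat_lit 57, nat_lit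 57, nat_lit 64, nat_lit 57, nat_lit 58, nat_lit 64], [nat_lit 57, nat_lit 57, nat_lit 64, nat_lit 57, nat_lit 64, nat_lit 58], [nat_lit 57, nat_lit 57, nat_lit 64, nat_lit 58, nat_lit 64, nat_lit 57], [nat_lit 57, nat_lit 58, nat_lit 58, nat_lit 58, nat_lit 64, nat_lit 57], [nat_lit 57, nat_lit 58, nat_lit 58, nat_lit 64, nat_lit 57, nat_lit 57], [nat_lit 57, nat_lit 58, nat_lit 58, nat_lit 64, nat_lit 57, nat_lit 58], [nat_lit 57, nat_lit 58, nat_lit 58, nat_lit 64, nat_lit 57, nat_lit 64], [nat_lit 57, nat_lit 58, nat_lit 64, nat_lit 57, nat_lit 57, nat_lit 58], [nat_lit 57, nat_lit 58, nat_lit 64, nat_lit 57, nat_lit 57, nat_lit 64], [nat_lit 57, nat_lit 64, nat_lit 57, nat_lit 57, nat_lit 64, nat_lit 58], [nat_lit 57, nat_lit 64, nat_lit 57, nat_lit 64, nat_lit 58, nat_lit 64], [nat_lit 57, nat_lit 64, nat_lit 58, nat_lit 64, nat_lit 57, nat_lit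 57], [nat_lit 57, nat_lit 64, nat_lit 58, nat_lit 64, nat_lit 57, nat_lit 64], [nat_lit 58, nat_lit 58, nat_lit 58, nat_lit 64, nat_lit 57, nat_lit 64], [nat_lit 58, nat_lit 58, nat_lit 64, nat_lit 57, nat_lit 57, nat_lit 64], [nat_lit 58, nat_lit 58, nat_lit 64, nat_lit 57, nat_lit 58, nat_lit 64], [nat_lit 58, nat_lit 58, nat_lit 64, nat_lit 57, nat_lit 64, nat_lit 58], [nat_lit 58, nat_lit 64, nat_lit 57, nat_lit 64, nat_lit 58, nat_lit 64], [nat_lit 64, nat_lit 57, nat_lit 58, nat_lit 64, nat_lit 57, nat_lit 57], [nat_lit 41, nat_lit 41, nat_lit 41, nat_lit 57, nat_lit 57, nat_lit 58, nat_lit 64], [nat_lit 41, nat_lit 41, nat_lit 41, nat_lit 57, nat_lit 57, nat_lit 64, nat_lit 57], [nat_lit 41, nat_lit 41, nat_lit 41, nat_lit 57, nat_lit 57, nat_lit 64, nat_lit 58], [nat_lit 41, nat_lit 41, nat_lit 41, nat_lit 57, nat_lit 58, nat_lit 64, nat_lit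 57], [nat_lit 41, nat_lit 41, nat_lit 41, nat_lit 57, nat_lit 58, nat_lit 64, nat_lit 58], [nat_lit 41, nat_lit 41, nat_lit 41, nat_lit 57, nat_lit 64, nat_lit 57, nat_lit 57], [nat_lit 41, nat_lit 41, nat_lit 41, nat_lit 57, nat_lit 64, nat_lit 57, nat_lit 58], [nat_lit 41, nat_lit 41, nat_lit 41, nat_lit 57, nat_lit 64, nat_lit 57, nat_lit 64], [nat_lit 41, nat_lit 41, nat_lit 41, nat_lit 58, nat_lit 64, nat_lit 57, nat_lit 57], [nat_lit 41, nat_lit 41, nat_lit 41, nat_lit 58, nat_lit 64, nat_lit 57, nat_lit 58], [nat_lit 41, nat_lit 41, nat_lit 41, nat_lit 58, nat_lit 64, nat_lit 57, nat_lit 64], [nat_lit 41, nat_lit 41, nat_lit 41, nat_lit 64, nat_lit 57, nat_lit 57, nat_lit 58], [nat_lit 41, nat_lit 41, nat_lit 41, nat_lit 64, nat_lit 57, nat_lit 57, nat_lit 64], [nat_lit 41, nat_lit 41, nat_lit 41, nat_lit 64, nat_lit 57, nat_lit 58, nat_lit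 64], [nat_lit 41, nat_lit 41, nat_lit 41, nat_lit 64, nat_lit 57, nat_lit 64, nat_lit 58], [nat_lit 41, nat_lit 41, nat_lit 57, nat_lit 57, nat_lit 58, nat_lit 64, nat_lit 57], [nat_lit 41, nat_lit 41, nat_lit 57, nat_lit 57, nat_lit 64, nat_lit 57, nat_lit 57], [nat_lit 41, nat_lit 41, nat_lit 57, nat_lit 57, nat_lit 64, nat_lit 57, nat_lit 58], [nat_lit 41, nat_lit 41, nat_lit 57, nat_lit 57, nat_lit 64, nat_lit 57, nat_lit 64], [nat_lit 41, nat_lit 41, nat_lit 57, nat_lit 58, nat_lit 64, nat_lit 57, nat_lit 57], [nat_lit 41, nat_lit 41, nat_lit 57, nat_lit 58, nat_lit 64, nat_lit 57, nat_lit 58], [nat_lit 41, nat_lit 41, nat_lit 57, nat_lit 64, nat_lit 57, nat_lit 57, nat_lit 58], [nat_lit 41, nat_lit 41, nat_lit 57, nat_lit 64, nat_lit 57, nat_lit 57, nat_lit 64], [nat_lit 41, nat_lit 41, nat_lit 58, nat_lit 64, nat_lit 57, nat_lit 57, nat_lit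 64], [nat_lit 41, nat_lit 41, nat_lit 58, nat_lit 64, nat_lit 57, nat_lit 58, nat_lit 64], [nat_lit 41, nat_lit 41, nat_lit 58, nat_lit 64, nat_lit 57, nat_lit 64, nat_lit 58], [nat_lit 41, nat_lit 41, nat_lit 64, nat_lit 57, nat_lit 57, nat_lit 64, nat_lit 58], [nat_lit 41, nat_lit 41, nat_lit 64, nat_lit 57, nat_lit 58, nat_lit 64, nat_lit 58], [nat_lit 41, nat_lit 57, nat_lit 57, nat_lit 58, nat_lit 58, nat_lit 58, nat_lit 64], [nat_lit 41, nat_lit 57, nat_lit 57, nat_lit 58, nat_lit 58, nat_lit 64, nat_lit 57], [nat_lit 41, nat_lit 57, nat_lit 57, nat_lit 58, nat_lit 58, nat_lit 64, nat_lit 58], [nat_lit 41, nat_lit 57, nat_lit 57, nat_lit 58, nat_lit 64, nat_lit 57, nat_lit 58], [nat_lit 41, nat_lit 57, nat_lit 57, nat_lit 58, nat_lit 64, nat_lit 57, nat_lit 64], [nat_lit 41, nat_lit 57, nat_lit 57, nat_lit 64, nat_lit 57, nat_lit 58, nat_lit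 64], [nat_lit 41, nat_lit 57, nat_lit 57, nat_lit 64, nat_lit 57, nat_lit 64, nat_lit 58], [nat_lit 41, nat_lit 57, nat_lit 57, nat_lit 64, nat_lit 58, nat_lit 64, nat_lit 57], [nat_lit 41, nat_lit 57, nat_lit 58, nat_lit 58, nat_lit 58, nat_lit 64, nat_lit 57], [nat_lit 41, nat_lit 57, nat_lit 58, nat_lit 58, nat_lit 64, nat_lit 57, nat_lit 57], [nat_lit 41, nat_lit 57, nat_lit 58, nat_lit 58, nat_lit 64, nat_lit 57, nat_lit 58], [nat_lit 41, nat_lit 57, nat_lit 58, nat_lit 58, nat_lit 64, nat_lit 57, nat_lit 64], [nat_lit 41, nat_lit 57, nat_lit 58, nat_lit 64, nat_lit 57, nat_lit 57, nat_lit 58], [nat_lit 41, nat_lit 57, nat_lit 58, nat_lit 64, nat_lit 57, nat_lit 57, nat_lit 64], [nat_lit 41, nat_lit 57, nat_lit 64, nat_lit 57, nat_lit 57, nat_lit 64, nat_lit 58], [nat_lit 41, nat_lit 57, nat_lit 64, nat_lit 57, nat_lit 64, nat_lit 58, nat_lit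 64], [nat_lit 41, nat_lit 57, nat_lit 64, nat_lit 58, nat_lit 64, nat_lit 57, nat_lit 57], [nat_lit 41, nat_lit 57, nat_lit 64, nat_lit 58, nat_lit 64, nat_lit 57, nat_lit 64], [nat_lit 41, nat_lit 58, nat_lit 58, nat_lit 58, nat_lit 64, nat_lit 57, nat_lit 64], [nat_lit 41, nat_lit 58, nat_lit 58, nat_lit 64, nat_lit 57, nat_lit 57, nat_lit 64], [nat_lit 41, nat_lit 58, nat_lit 58, nat_lit 64, nat_lit 57, nat_lit 58, nat_lit 64], [nat_lit 41, nat_lit 58, nat_lit 58, nat_lit 64, nat_lit 57, nat_lit 64, nat_lit 58], [nat_lit 41, nat_lit 64, nat_lit 57, nat_lit 58, nat_lit 64, nat_lit 57, nat_lit 57], [nat_lit 57, nat_lit 57, nat_lit 58, nat_lit 58, nat_lit 58, nat_lit 64, nat_lit 57], [nat_lit 57, nat_lit 57, nat_lit 58, nat_lit 58, nat_lit 64, nat_lit 57, nat_lit 57], [nat_lit 57, nat_lit 57, nat_lit 58, nat_lit 58, nat_lit 64, nat_lit 57, nat_lit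 58], [nat_lit 57, nat_lit 57, nat_lit 58, nat_lit 58, nat_lit 64, nat_lit 57, nat_lit 64], [nat_lit 57, nat_lit 57, nat_lit 64, nat_lit 57, nat_lit 64, nat_lit 58, nat_lit 64], [nat_lit 57, nat_lit 57, nat_lit 64, nat_lit 58, nat_lit 64, nat_lit 57, nat_lit 64], [nat_lit 57, nat_lit 58, nat_lit 58, nat_lit 64, nat_lit 57, nat_lit 57, nat_lit 64], [nat_lit 58, nat_lit 58, nat_lit 58, nat_lit 64, nat_lit 57, nat_lit 64, nat_lit 58], [nat_lit 41, nat_lit 41, nat_lit 41, nat_lit 57, nat_lit 57, nat_lit 58, nat_lit 64, nat_lit 57], [nat_lit 41, nat_lit 41, nat_lit 41, nat_lit 57, nat_lit 57, nat_lit 64, nat_lit 57, nat_lit 57], [nat_lit 41, nat_lit 41, nat_lit 41, nat_lit 57, nat_lit 57, nat_lit 64, nat_lit 57, nat_lit 58], [nat_lit 41, nat_lit 41, nat_lit 41, nat_lit 57, nat_lit 57, nat_lit 64, nat_lit 57, nat_lit 64], [nat_lit 41, nat_lit 41, nat_lit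 41, nat_lit 57, nat_lit 58, nat_lit 64, nat_lit 57, nat_lit 57], [nat_lit 41, nat_lit 41, nat_lit 41, nat_lit 57, nat_lit 58, nat_lit 64, nat_lit 57, nat_lit 58], [nat_lit 41, nat_lit 41, nat_lit 41, nat_lit 57, nat_lit 64, nat_lit 57, nat_lit 57, nat_lit 58], [nat_lit 41, nat_lit 41, nat_lit 41, nat_lit 57, nat_lit 64, nat_lit 57, nat_lit 57, nat_lit 64], [nat_lit 41, nat_lit 41, nat_lit 41, nat_lit 58, nat_lit 64, nat_lit 57, nat_lit 57, nat_lit 64], [nat_lit 41, nat_lit 41, nat_lit 41, nat_lit 58, nat_lit 64, nat_lit 57, nat_lit 64, nat_lit 58], [nat_lit 41, nat_lit 41, nat_lit 41, nat_lit 64, nat_lit 57, nat_lit 57, nat_lit 64, nat_lit 58], [nat_lit 41, nat_lit 41, nat_lit 57, nat_lit 58, nat_lit 64, nat_lit 57, nat_lit 57, nat_lit 64], [nat_lit 41, nat_lit 41, nat_lit 57, nat_lit 64, nat_lit 57, nat_lit 57, nat_lit 64, nat_lit 58], [nat_lit 41,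 nat_lit 57, nat_lit 57, nat_lit 58, nat_lit 58, nat_lit 58, nat_lit 64, nat_lit 57], [nat_lit 41, nat_lit 57, nat_lit 57, nat_lit 58, nat_lit 58, nat_lit 64, nat_lit 57, nat_lit 58], [nat_lit 41, nat_lit 57, nat_lit 57, nat_lit 58, nat_lit 58, nat_lit 64, nat_lit 57, nat_lit 64], [nat_lit 41, nat_lit 57, nat_lit 57, nat_lit 64, nat_lit 57, nat_lit 64, nat_lit 58, nat_lit 64], [nat_lit 41, nat_lit 57, nat_lit 57, nat_lit 64, nat_lit 58, nat_lit 64, nat_lit 57, nat_lit 64], [nat_lit 41, nat_lit 57, nat_lit 58, nat_lit 58, nat_lit 64, nat_lit 57, nat_lit 57, nat_lit 64], [nat_lit 41, nat_lit 58, nat_lit 58, nat_lit 58, nat_lit 64, nat_lit 57, nat_lit 64, nat_lit 58], [nat_lit 41, nat_lit 41, nat_lit 41, nat_lit 57, nat_lit 58, nat_lit 64, nat_lit 57, nat_lit 57, nat_lit 64], [nat_lit 41, nat_lit 41, nat_lit 41, nat_lit 57, nat_lit 64, nat_lit 57, nat_lit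 57, nat_lit 64, nat_lit 58]]

noncomputable def clBq0 : List (List ℕ) := [[nat_lit 1, nat_lit 2, nat_lit 3, nat_lit 4], [nat_lit 5, nat_lit 6, nat_lit 7, nat_lit 8], [nat_lit 6, nat_lit 9, nat_lit 10, nat_lit 11], [nat_lit 7, nat_lit 10, nat_lit 12, nat_lit 13]]

noncomputable def clBq1 : List (List ℕ) := [[nat_lit 8, nat_lit 14, nat_lit 15, nat_lit 0], [nat_lit 16, nat_lit 17, nat_lit 18, nat_lit 19], [nat_lit 17, nat_lit 20, nat_lit 21, nat_lit 22], [nat_lit 18, nat_lit 21, nat_lit 23, nat_lit 24]]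

noncomputable def clBq2 : List (List ℕ) := [[nat_lit 19, nat_lit 25, nat_lit 26, nat_lit 1], [nat_lit 20, nat_lit 16, nat_lit 27, nat_lit 28], [nat_lit 21, nat_lit 27, nat_lit 29, nat_lit 30], [nat_lit 22, nat_lit 31, nat_lit 32, nat_lit 2]]

noncomputable def clBq3 : List (List ℕ) := [[nat_lit 23, nat_lit 29, nat_lit 33, nat_lit 34], [nat_lit 24, nat_lit 35, nat_lit 36, nat_lit 3], [nat_lit 25, nat_lit 37, nat_lit 38, nat_lit 39], [nat_lit 26, nat_lit 38, nat_lit 34, nat_lit 40]]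

noncomputable def clBq4 : List (List ℕ) := [[nat_lit 12, nat_lit 41, nat_lit 42, nat_lit 43], [nat_lit 41, nat_lit 44, nat_lit 45, nat_lit 46], [nat_lit 42, nat_lit 45, nat_lit 0, nat_lit 47], [nat_lit 43, nat_lit 48, nat_lit 49, nat_lit 5]]

noncomputable def clBq5 : List (List ℕ) := [[nat_lit 44, nat_lit 12, nat_lit 50, nat_lit 51], [nat_lit 45, nat_lit 50, nat_lit 52, nat_lit 53], [nat_lit 46, nat_lit 54, nat_lit 55, nat_lit 6], [nat_lit 0, nat_lit 52, nat_lit 56, nat_lit 57]]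

noncomputable def clBq6 : List (List ℕ) := [[nat_lit 47, nat_lit 58, nat_lit 59, nat_lit 7], [nat_lit 48, nat_lit 60, nat_lit 61, nat_lit 62], [nat_lit 49, nat_lit 61, nat_lit 57, nat_lit 63], [nat_lit 50, nat_lit 42, nat_lit 64, nat_lit 65]]

noncomputable def clBq7 : List (List ℕ) := [[nat_lit 51, nat_lit 66, nat_lit 67, nat_lit 9], [nat_lit 52, nat_lit 64, nat_lit 68, nat_lit 69], [nat_lit 53, nat_lit 70, nat_lit 71, nat_lit 10], [nat_lit 54, nat_lit 72, nat_lit 73, nat_lit 74]]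

noncomputable def clBq8 : List (List ℕ) := [[nat_lit 55, nat_lit 73, nat_lit 69, nat_lit 75], [nat_lit 56, nat_lit 68, nat_lit 5, nat_lit 76], [nat_lit 57, nat_lit 77, nat_lit 78, nat_lit 12], [nat_lit 58, nat_lit 79, nat_lit 80, nat_lit 81]]

noncomputable def clBq9 : List (List ℕ) := [[nat_lit 59, nat_lit 80, nat_lit 76, nat_lit 49], [nat_lit 60, nat_lit 43, nat_lit 82, nat_lit 83], [nat_lit 61, nat_lit 82, nat_lit 77, nat_lit 84], [nat_lit 62, nat_lit 74, nat_lit 85, nat_lit 14]]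

noncomputable def clBq10 : List (List ℕ) := [[nat_lit 63, nat_lit 86, nat_lit 47, nat_lit 15], [nat_lit 29, nat_lit 87, nat_lit 88, nat_lit 89], [nat_lit 33, nat_lit 88, nat_lit 1, nat_lit 90], [nat_lit 34, nat_lit 91, nat_lit 92, nat_lit 16]]

noncomputable def clBq11 : List (List ℕ) := [[nat_lit 87, nat_lit 23, nat_lit 93, nat_lit 94], [nat_lit 88, nat_lit 93, nat_lit 2, nat_lit 95], [nat_lit 89, nat_lit 96, nat_lit 97, nat_lit 17], [nat_lit 90, nat_lit 98, nat_lit 99, nat_lit 18]]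

noncomputable def clBq12 : List (List ℕ) := [[nat_lit 91, nat_lit 100, nat_lit 101, nat_lit 102], [nat_lit 92, nat_lit 101, nat_lit 4, nat_lit 36], [nat_lit 93, nat_lit 33, nat_lit 103, nat_lit 104], [nat_lit 94, nat_lit 105, nat_lit 106, nat_lit 20]]

noncomputable def clBq13 : List (List ℕ) := [[nat_lit 2, nat_lit 103, nat_lit 107, nat_lit 108], [nat_lit 95, nat_lit 109, nat_lit 110, nat_lit 21], [nat_lit 96, nat_lit 111, nat_lit 112, nat_lit 113], [nat_lit 97, nat_lit 112, nat_lit 108, nat_lit 114]]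

noncomputable def clBq14 : List (List ℕ) := [[nat_lit 3, nat_lit 107, nat_lit 16, nat_lit 115], [nat_lit 4, nat_lit 116, nat_lit 117, nat_lit 23], [nat_lit 98, nat_lit 118, nat_lit 119, nat_lit 120], [nat_lit 99, nat_lit 119, nat_lit 115, nat_lit 92]]

noncomputable def clBq15 : List (List ℕ) := [[nat_lit 100, nat_lit 34, nat_lit 121, nat_lit 122], [nat_lit 101, nat_lit 121, nat_lit 116, nat_lit 123], [nat_lit 102, nat_lit 113, nat_lit 124, nat_lit 25], [nat_lit 36, nat_lit 125, nat_lit 90, nat_lit 26]]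

noncomputable def clBq16 : List (List ℕ) := [[nat_lit 103, nat_lit 1, nat_lit 126, nat_lit 127], [nat_lit 104, nat_lit 128, nat_lit 129, nat_lit 27], [nat_lit 105, nat_lit 130, nat_lit 131, nat_lit 132], [nat_lit 106, nat_lit 131, nat_lit 127, nat_lit 133]]

noncomputable def clBq17 : List (List ℕ) := [[nat_lit 107, nat_lit 126, nat_lit 17, nat_lit 134], [nat_lit 108, nat_lit 135, nat_lit 136, nat_lit 29], [nat_lit 109, nat_lit 137, nat_lit 138, nat_lit 139], [nat_lit 110, nat_lit 138, nat_lit 134, nat_lit 97]]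

noncomputable def clBq18 : List (List ℕ) := [[nat_lit 111, nat_lit 89, nat_lit 140, nat_lit 141], [nat_lit 112, nat_lit 140, nat_lit 135, nat_lit 142], [nat_lit 113, nat_lit 132, nat_lit 143, nat_lit 31], [nat_lit 114, nat_lit 144, nat_lit 95, nat_lit 32]]

noncomputable def clBq19 : List (List ℕ) := [[nat_lit 115, nat_lit 145, nat_lit 40, nat_lit 33], [nat_lit 116, nat_lit 146, nat_lit 147, nat_lit 148], [nat_lit 117, nat_lit 147, nat_lit 19, nat_lit 99], [nat_lit 118, nat_lit 90, nat_lit 149, nat_lit 150]]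

noncomputable def clBq20 : List (List ℕ) := [[nat_lit 119, nat_lit 149, nat_lit 145, nat_lit 151], [nat_lit 120, nat_lit 139, nat_lit 152, nat_lit 35], [nat_lit 121, nat_lit 92, nat_lit 146, nat_lit 138], [nat_lit 122, nat_lit 141, nat_lit 153, nat_lit 37]]

noncomputable def clBq21 : List (List ℕ) := [[nat_lit 123, nat_lit 154, nat_lit 155, nat_lit 38], [nat_lit 124, nat_lit 143, nat_lit 148, nat_lit 156], [nat_lit 125, nat_lit 157, nat_lit 98, nat_lit 158], [nat_lit 64, nat_lit 0, nat_lit 159, nat_lit 160]]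

noncomputable def clBq22 : List (List ℕ) := [[nat_lit 68, nat_lit 159, nat_lit 6, nat_lit 161], [nat_lit 69, nat_lit 162, nat_lit 163, nat_lit 41], [nat_lit 76, nat_lit 164, nat_lit 165, nat_lit 42], [nat_lit 77, nat_lit 166, nat_lit 167, nat_lit 168]]

noncomputable def clBq23 : List (List ℕ) := [[nat_lit 78, nat_lit 167, nat_lit 8, nat_lit 59], [nat_lit 159, nat_lit 56, nat_lit 9, nat_lit 169], [nat_lit 160, nat_lit 170, nat_lit 171, nat_lit 44], [nat_lit 161, nat_lit 172, nat_lit 173, nat_lit 45]]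

noncomputable def clBq24 : List (List ℕ) := [[nat_lit 162, nat_lit 174, nat_lit 175, nat_lit 176], [nat_lit 163, nat_lit 175, nat_lit 11, nat_lit 71], [nat_lit 164, nat_lit 177, nat_lit 178, nat_lit 179], [nat_lit 165, nat_lit 178, nat_lit 13, nat_lit 78]]

noncomputable def clBq25 : List (List ℕ) := [[nat_lit 166, nat_lit 57, nat_lit 180, nat_lit 181], [nat_lit 167, nat_lit 180, nat_lit 14, nat_lit 182], [nat_lit 168, nat_lit 176, nat_lit 183, nat_lit 48], [nat_lit 9, nat_lit 5, nat_lit 184, nat_lit 185]]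

noncomputable def clBq26 : List (List ℕ) := [[nat_lit 169, nat_lit 186, nat_lit 187, nat_lit 50], [nat_lit 170, nat_lit 188, nat_lit 189, nat_lit 190], [nat_lit 171, nat_lit 189, nat_lit 185, nat_lit 191], [nat_lit 10, nat_lit 184, nat_lit 41, nat_lit 192]]

noncomputable def clBq27 : List (List ℕ) := [[nat_lit 11, nat_lit 193, nat_lit 194, nat_lit 52], [nat_lit 172, nat_lit 195, nat_lit 196, nat_lit 197], [nat_lit 173, nat_lit 196, nat_lit 192, nat_lit 163], [nat_lit 174, nat_lit 69, nat_lit 198, nat_lit 199]]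

noncomputable def clBq28 : List (List ℕ) := [[nat_lit 175, nat_lit 198, nat_lit 193, nat_lit 200], [nat_lit 176, nat_lit 190, nat_lit 201, nat_lit 54], [nat_lit 71, nat_lit 202, nat_lit 161, nat_lit 55], [nat_lit 13, nat_lit 203, nat_lit 63, nat_lit 56]]

noncomputable def clBq29 : List (List ℕ) := [[nat_lit 14, nat_lit 204, nat_lit 205, nat_lit 206], [nat_lit 15, nat_lit 205, nat_lit 43, nat_lit 165], [nat_lit 177, nat_lit 76, nat_lit 207, nat_lit 208], [nat_lit 178, nat_lit 207, nat_lit 203, nat_lit 209]]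

noncomputable def clBq30 : List (List ℕ) := [[nat_lit 179, nat_lit 197, nat_lit 210, nat_lit 58], [nat_lit 180, nat_lit 78, nat_lit 204, nat_lit 196], [nat_lit 181, nat_lit 199, nat_lit 211, nat_lit 60], [nat_lit 182, nat_lit 212, nat_lit 213, nat_lit 61]]

noncomputable def clBq31 : List (List ℕ) := [[nat_lit 183, nat_lit 201, nat_lit 206, nat_lit 214], [nat_lit 80, nat_lit 215, nat_lit 164, nat_lit 216], [nat_lit 184, nat_lit 7, nat_lit 44, nat_lit 217], [nat_lit 185, nat_lit 218, nat_lit 219, nat_lit 64]]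

noncomputable def clBq32 : List (List ℕ) := [[nat_lit 186, nat_lit 220, nat_lit 221, nat_lit 222], [nat_lit 187, nat_lit 221, nat_lit 217, nat_lit 171], [nat_lit 188, nat_lit 160, nat_lit 223, nat_lit 210], [nat_lit 189, nat_lit 223, nat_lit 218, nat_lit 224]]

noncomputable def clBq33 : List (List ℕ) := [[nat_lit 190, nat_lit 168, nat_lit 225, nat_lit 66], [nat_lit 191, nat_lit 226, nat_lit 169, nat_lit 67], [nat_lit 192, nat_lit 227, nat_lit 75, nat_lit 68], [nat_lit 193, nat_lit 228, nat_lit 229, nat_lit 230]]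

noncomputable def clBq34 : List (List ℕ) := [[nat_lit 194, nat_lit 229, nat_lit 46, nat_lit 173], [nat_lit 195, nat_lit 161, nat_lit 231, nat_lit 232], [nat_lit 196, nat_lit 231, nat_lit 227, nat_lit 82], [nat_lit 197, nat_lit 222, nat_lit 181, nat_lit 70]]

noncomputable def clBq35 : List (List ℕ) := [[nat_lit 198, nat_lit 163, nat_lit 228, nat_lit 221], [nat_lit 199, nat_lit 210, nat_lit 233, nat_lit 72], [nat_lit 200, nat_lit 63, nat_lit 79, nat_lit 73], [nat_lit 201, nat_lit 225, nat_lit 230, nat_lit 234]]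

noncomputable def clBq36 : List (List ℕ) := [[nat_lit 202, nat_lit 235, nat_lit 172, nat_lit 236], [nat_lit 203, nat_lit 234, nat_lit 86, nat_lit 237], [nat_lit 204, nat_lit 8, nat_lit 236, nat_lit 238], [nat_lit 205, nat_lit 236, nat_lit 48, nat_lit 239]]

noncomputable def clBq37 : List (List ℕ) := [[nat_lit 206, nat_lit 230, nat_lit 240, nat_lit 77], [nat_lit 207, nat_lit 165, nat_lit 234, nat_lit 229], [nat_lit 208, nat_lit 232, nat_lit 74, nat_lit 79], [nat_lit 209, nat_lit 67, nat_lit 188, nat_lit 80]]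

noncomputable def clBq38 : List (List ℕ) := [[nat_lit 210, nat_lit 181, nat_lit 237, nat_lit 241], [nat_lit 211, nat_lit 233, nat_lit 238, nat_lit 172], [nat_lit 212, nat_lit 242, nat_lit 65, nat_lit 219], [nat_lit 213, nat_lit 65, nat_lit 239, nat_lit 183]]

noncomputable def clBq39 : List (List ℕ) := [[nat_lit 214, nat_lit 217, nat_lit 182, nat_lit 85], [nat_lit 215, nat_lit 59, nat_lit 177, nat_lit 175], [nat_lit 216, nat_lit 219, nat_lit 241, nat_lit 86], [nat_lit 126, nat_lit 3, nat_lit 20, nat_lit 243]]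

noncomputable def clBq40 : List (List ℕ) := [[nat_lit 127, nat_lit 244, nat_lit 245, nat_lit 87], [nat_lit 134, nat_lit 246, nat_lit 247, nat_lit 88], [nat_lit 135, nat_lit 248, nat_lit 249, nat_lit 250], [nat_lit 136, nat_lit 249, nat_lit 22, nat_lit 110]]

noncomputable def clBq41 : List (List ℕ) := [[nat_lit 145, nat_lit 251, nat_lit 252, nat_lit 253], [nat_lit 40, nat_lit 252, nat_lit 24, nat_lit 117], [nat_lit 146, nat_lit 4, nat_lit 254, nat_lit 255], [nat_lit 147, nat_lit 254, nat_lit 25, nat_lit 256]]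

noncomputable def clBq42 : List (List ℕ) := [[nat_lit 148, nat_lit 250, nat_lit 257, nat_lit 91], [nat_lit 243, nat_lit 258, nat_lit 154, nat_lit 93], [nat_lit 244, nat_lit 259, nat_lit 260, nat_lit 261], [nat_lit 245, nat_lit 260, nat_lit 28, nat_lit 129]]

noncomputable def clBq43 : List (List ℕ) := [[nat_lit 246, nat_lit 262, nat_lit 263, nat_lit 153], [nat_lit 247, nat_lit 263, nat_lit 30, nat_lit 136], [nat_lit 248, nat_lit 108, nat_lit 264, nat_lit 265], [nat_lit 249, nat_lit 264, nat_lit 31, nat_lit 157]]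

noncomputable def clBq44 : List (List ℕ) := [[nat_lit 250, nat_lit 261, nat_lit 150, nat_lit 96], [nat_lit 251, nat_lit 115, nat_lit 142, nat_lit 266], [nat_lit 252, nat_lit 142, nat_lit 35, nat_lit 267], [nat_lit 253, nat_lit 153, nat_lit 268, nat_lit 98]]

noncomputable def clBq45 : List (List ℕ) := [[nat_lit 254, nat_lit 117, nat_lit 37, nat_lit 263], [nat_lit 255, nat_lit 265, nat_lit 269, nat_lit 100], [nat_lit 256, nat_lit 133, nat_lit 270, nat_lit 101], [nat_lit 257, nat_lit 150, nat_lit 39, nat_lit 155]]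

noncomputable def clBq46 : List (List ℕ) := [[nat_lit 27, nat_lit 18, nat_lit 87, nat_lit 271], [nat_lit 28, nat_lit 272, nat_lit 273, nat_lit 103], [nat_lit 258, nat_lit 156, nat_lit 274, nat_lit 275], [nat_lit 154, nat_lit 274, nat_lit 271, nat_lit 245]]

noncomputable def clBq47 : List (List ℕ) := [[nat_lit 259, nat_lit 127, nat_lit 158, nat_lit 268], [nat_lit 260, nat_lit 158, nat_lit 272, nat_lit 276], [nat_lit 261, nat_lit 148, nat_lit 277, nat_lit 105], [nat_lit 129, nat_lit 278, nat_lit 243, nat_lit 106]]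

noncomputable def clBq48 : List (List ℕ) := [[nat_lit 30, nat_lit 279, nat_lit 114, nat_lit 107], [nat_lit 31, nat_lit 280, nat_lit 281, nat_lit 282], [nat_lit 32, nat_lit 281, nat_lit 89, nat_lit 247], [nat_lit 262, nat_lit 134, nat_lit 283, nat_lit 284]]

noncomputable def clBq49 : List (List ℕ) := [[nat_lit 263, nat_lit 283, nat_lit 279, nat_lit 121], [nat_lit 153, nat_lit 275, nat_lit 255, nat_lit 109], [nat_lit 264, nat_lit 136, nat_lit 280, nat_lit 274], [nat_lit 265, nat_lit 268, nat_lit 285, nat_lit 111]]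

noncomputable def clBq50 : List (List ℕ) := [[nat_lit 157, nat_lit 36, nat_lit 118, nat_lit 112], [nat_lit 150, nat_lit 277, nat_lit 282, nat_lit 286], [nat_lit 138, nat_lit 287, nat_lit 246, nat_lit 288], [nat_lit 35, nat_lit 286, nat_lit 125, nat_lit 289]]

noncomputable def clBq51 : List (List ℕ) := [[nat_lit 37, nat_lit 19, nat_lit 288, nat_lit 290], [nat_lit 38, nat_lit 288, nat_lit 91, nat_lit 291], [nat_lit 39, nat_lit 282, nat_lit 292, nat_lit 116], [nat_lit 142, nat_lit 40, nat_lit 286, nat_lit 281]]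

noncomputable def clBq52 : List (List ℕ) := [[nat_lit 266, nat_lit 284, nat_lit 113, nat_lit 118], [nat_lit 267, nat_lit 106, nat_lit 259, nat_lit 119], [nat_lit 268, nat_lit 255, nat_lit 289, nat_lit 130], [nat_lit 269, nat_lit 285, nat_lit 290, nat_lit 246]]

noncomputable def clBq53 : List (List ℕ) := [[nat_lit 133, nat_lit 293, nat_lit 104, nat_lit 273], [nat_lit 270, nat_lit 104, nat_lit 291, nat_lit 257], [nat_lit 155, nat_lit 271, nat_lit 256, nat_lit 124], [nat_lit 149, nat_lit 99, nat_lit 251, nat_lit 249]]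

noncomputable def clBq54 : List (List ℕ) := [[nat_lit 151, nat_lit 273, nat_lit 130, nat_lit 125], [nat_lit 271, nat_lit 294, nat_lit 133, nat_lit 126], [nat_lit 272, nat_lit 295, nat_lit 296, nat_lit 297], [nat_lit 273, nat_lit 296, nat_lit 94, nat_lit 154]]

noncomputable def clBq55 : List (List ℕ) := [[nat_lit 156, nat_lit 243, nat_lit 123, nat_lit 292], [nat_lit 274, nat_lit 123, nat_lit 294, nat_lit 140], [nat_lit 275, nat_lit 253, nat_lit 265, nat_lit 128], [nat_lit 158, nat_lit 245, nat_lit 295, nat_lit 252]]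

noncomputable def clBq56 : List (List ℕ) := [[nat_lit 276, nat_lit 114, nat_lit 137, nat_lit 131], [nat_lit 277, nat_lit 257, nat_lit 297, nat_lit 298], [nat_lit 278, nat_lit 291, nat_lit 258, nat_lit 299], [nat_lit 279, nat_lit 298, nat_lit 144, nat_lit 269]]

noncomputable def clBq57 : List (List ℕ) := [[nat_lit 280, nat_lit 22, nat_lit 299, nat_lit 300], [nat_lit 281, nat_lit 299, nat_lit 96, nat_lit 149], [nat_lit 282, nat_lit 297, nat_lit 266, nat_lit 135], [nat_lit 283, nat_lit 247, nat_lit 298, nat_lit 296]]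

noncomputable def clBq58 : List (List ℕ) := [[nat_lit 284, nat_lit 292, nat_lit 132, nat_lit 137], [nat_lit 285, nat_lit 289, nat_lit 300, nat_lit 258], [nat_lit 286, nat_lit 24, nat_lit 157, nat_lit 143], [nat_lit 287, nat_lit 110, nat_lit 262, nat_lit 260]]

noncomputable def clBq59 : List (List ℕ) := [[nat_lit 288, nat_lit 26, nat_lit 100, nat_lit 144], [nat_lit 289, nat_lit 269, nat_lit 301, nat_lit 145], [nat_lit 290, nat_lit 300, nat_lit 139, nat_lit 146], [nat_lit 291, nat_lit 129, nat_lit 156, nat_lit 147]]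

noncomputable def clBq60 : List (List ℕ) := [[nat_lit 292, nat_lit 266, nat_lit 102, nat_lit 270], [nat_lit 130, nat_lit 94, nat_lit 267, nat_lit 152], [nat_lit 293, nat_lit 256, nat_lit 128, nat_lit 264], [nat_lit 217, nat_lit 302, nat_lit 212, nat_lit 159]]

noncomputable def clBq61 : List (List ℕ) := [[nat_lit 218, nat_lit 303, nat_lit 304, nat_lit 305], [nat_lit 219, nat_lit 304, nat_lit 51, nat_lit 187], [nat_lit 227, nat_lit 306, nat_lit 307, nat_lit 211], [nat_lit 75, nat_lit 307, nat_lit 53, nat_lit 194]]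

noncomputable def clBq62 : List (List ℕ) := [[nat_lit 228, nat_lit 11, nat_lit 308, nat_lit 309], [nat_lit 229, nat_lit 308, nat_lit 54, nat_lit 215], [nat_lit 230, nat_lit 305, nat_lit 208, nat_lit 162], [nat_lit 234, nat_lit 13, nat_lit 200, nat_lit 310]]

noncomputable def clBq63 : List (List ℕ) := [[nat_lit 86, nat_lit 200, nat_lit 58, nat_lit 223], [nat_lit 237, nat_lit 211, nat_lit 311, nat_lit 164], [nat_lit 236, nat_lit 15, nat_lit 60, nat_lit 307], [nat_lit 238, nat_lit 309, nat_lit 312, nat_lit 166]]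

noncomputable def clBq64 : List (List ℕ) := [[nat_lit 239, nat_lit 191, nat_lit 220, nat_lit 167], [nat_lit 240, nat_lit 208, nat_lit 62, nat_lit 213], [nat_lit 302, nat_lit 214, nat_lit 242, nat_lit 233], [nat_lit 303, nat_lit 185, nat_lit 216, nat_lit 311]]

noncomputable def clBq65 : List (List ℕ) := [[nat_lit 304, nat_lit 216, nat_lit 66, nat_lit 235], [nat_lit 305, nat_lit 206, nat_lit 232, nat_lit 170], [nat_lit 306, nat_lit 192, nat_lit 224, nat_lit 313], [nat_lit 307, nat_lit 224, nat_lit 70, nat_lit 180]]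

noncomputable def clBq66 : List (List ℕ) := [[nat_lit 308, nat_lit 194, nat_lit 72, nat_lit 242], [nat_lit 309, nat_lit 311, nat_lit 314, nat_lit 174], [nat_lit 310, nat_lit 313, nat_lit 176, nat_lit 177], [nat_lit 223, nat_lit 171, nat_lit 303, nat_lit 178]]

noncomputable def clBq67 : List (List ℕ) := [[nat_lit 311, nat_lit 238, nat_lit 81, nat_lit 188], [nat_lit 312, nat_lit 314, nat_lit 83, nat_lit 227], [nat_lit 220, nat_lit 169, nat_lit 84, nat_lit 240], [nat_lit 65, nat_lit 315, nat_lit 191, nat_lit 184]]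

noncomputable def clBq68 : List (List ℕ) := [[nat_lit 66, nat_lit 241, nat_lit 316, nat_lit 317], [nat_lit 67, nat_lit 316, nat_lit 160, nat_lit 212], [nat_lit 242, nat_lit 182, nat_lit 315, nat_lit 198], [nat_lit 233, nat_lit 237, nat_lit 309, nat_lit 186]]

noncomputable def clBq69 : List (List ℕ) := [[nat_lit 235, nat_lit 71, nat_lit 195, nat_lit 189], [nat_lit 232, nat_lit 240, nat_lit 317, nat_lit 318], [nat_lit 221, nat_lit 84, nat_lit 302, nat_lit 319], [nat_lit 70, nat_lit 318, nat_lit 202, nat_lit 312]]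

noncomputable def clBq70 : List (List ℕ) := [[nat_lit 72, nat_lit 46, nat_lit 319, nat_lit 320], [nat_lit 73, nat_lit 319, nat_lit 162, nat_lit 207], [nat_lit 74, nat_lit 317, nat_lit 310, nat_lit 193], [nat_lit 224, nat_lit 75, nat_lit 318, nat_lit 316]]

noncomputable def clBq71 : List (List ℕ) := [[nat_lit 313, nat_lit 85, nat_lit 190, nat_lit 195], [nat_lit 314, nat_lit 81, nat_lit 320, nat_lit 302], [nat_lit 79, nat_lit 47, nat_lit 215, nat_lit 201], [nat_lit 231, nat_lit 173, nat_lit 306, nat_lit 304]]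

noncomputable def clBq72 : List (List ℕ) := [[nat_lit 82, nat_lit 49, nat_lit 166, nat_lit 202], [nat_lit 81, nat_lit 312, nat_lit 321, nat_lit 203], [nat_lit 83, nat_lit 320, nat_lit 197, nat_lit 204], [nat_lit 84, nat_lit 187, nat_lit 214, nat_lit 205]]

noncomputable def clBq73 : List (List ℕ) := [[nat_lit 85, nat_lit 310, nat_lit 168, nat_lit 220], [nat_lit 226, nat_lit 239, nat_lit 186, nat_lit 308], [nat_lit 315, nat_lit 213, nat_lit 226, nat_lit 314], [nat_lit 241, nat_lit 51, nat_lit 209, nat_lit 321]]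

noncomputable def clBq74 : List (List ℕ) := [[nat_lit 316, nat_lit 209, nat_lit 170, nat_lit 231], [nat_lit 317, nat_lit 62, nat_lit 313, nat_lit 218], [nat_lit 318, nat_lit 53, nat_lit 235, nat_lit 225], [nat_lit 319, nat_lit 55, nat_lit 174, nat_lit 226]]

noncomputable def clBq75 : List (List ℕ) := [[nat_lit 320, nat_lit 321, nat_lit 222, nat_lit 228], [nat_lit 321, nat_lit 83, nat_lit 179, nat_lit 303], [nat_lit 294, nat_lit 155, nat_lit 293, nat_lit 285], [nat_lit 295, nat_lit 28, nat_lit 151, nat_lit 301]]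

noncomputable def clBq76 : List (List ℕ) := [[nat_lit 296, nat_lit 151, nat_lit 105, nat_lit 287], [nat_lit 297, nat_lit 39, nat_lit 284, nat_lit 244], [nat_lit 298, nat_lit 30, nat_lit 276, nat_lit 322], [nat_lit 144, nat_lit 276, nat_lit 109, nat_lit 254]]

noncomputable def clBq77 : List (List ℕ) := [[nat_lit 299, nat_lit 32, nat_lit 111, nat_lit 293], [nat_lit 300, nat_lit 301, nat_lit 323, nat_lit 248], [nat_lit 143, nat_lit 322, nat_lit 250, nat_lit 251], [nat_lit 301, nat_lit 290, nat_lit 120, nat_lit 259]]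

noncomputable def clBq78 : List (List ℕ) := [[nat_lit 139, nat_lit 323, nat_lit 122, nat_lit 279], [nat_lit 322, nat_lit 124, nat_lit 261, nat_lit 262], [nat_lit 323, nat_lit 120, nat_lit 141, nat_lit 294], [nat_lit 128, nat_lit 270, nat_lit 278, nat_lit 323]]

noncomputable def clBq79 : List (List ℕ) := [[nat_lit 131, nat_lit 267, nat_lit 244, nat_lit 283], [nat_lit 132, nat_lit 102, nat_lit 322, nat_lit 272], [nat_lit 137, nat_lit 95, nat_lit 287, nat_lit 277], [nat_lit 140, nat_lit 97, nat_lit 248, nat_lit 278]]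

noncomputable def clBq80 : List (List ℕ) := [[nat_lit 141, nat_lit 152, nat_lit 275, nat_lit 280], [nat_lit 152, nat_lit 122, nat_lit 253, nat_lit 295], [nat_lit 225, nat_lit 183, nat_lit 305, nat_lit 306], [nat_lit 222, nat_lit 179, nat_lit 199, nat_lit 315]]

noncomputable def t2 : List ℕ := [nat_lit 64]

noncomputable def b1 : List ℕ := [nat_lit 41]

noncomputable def aw0 : List ℕ := [nat_lit 40]

noncomputable def aw1 : List ℕ := [nat_lit 65]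

noncomputable def aw2 : List ℕ := [nat_lit 66]

noncomputable def aw3 : List ℕ := [nat_lit 67]

noncomputable def aw4 : List ℕ := [nat_lit 68]

noncomputable def reps : List (ℕ × List ℕ) := [(nat_lit 1, aw0), (nat_lit 2, aw1), (nat_lit 3, aw2), (nat_lit 4, aw3), (nat_lit 8, aw4)]

noncomputable def relA : List (List ℕ) := []

noncomputable def relB : List (List ℕ) := [[nat_lit 0, nat_lit 0], [nat_lit 0, nat_lit 2, nat_lit 2, nat_lit 2, nat_lit 2, nat_lit 1, nat_lit 1, nat_lit 1, nat_lit 0, nat_lit 2, nat_lit 2, nat_lit 2, nat_lit 2, nat_lit 1, nat_lit 1, nat_lit 1, nat_lit 0, nat_lit 2, nat_lit 2, nat_lit 2, nat_lit 2, nat_lit 1, nat_lit 1, nat_lit 1, nat_lit 0, nat_lit 2, nat_lit 2, nat_lit 2, nat_lit 2, nat_lit 1, nat_lit 1, nat_lit 1, nat_lit 0, nat_lit 2, nat_lit 2, nat_lit 2, nat_lit 2, nat_lit 1, nat_lit 1, nat_lit 1, nat_lit 0, nat_lit 2, nat_lit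 2, nat_lit 2, nat_lit 2, nat_lit 1, nat_lit 1, nat_lit 1, nat_lit 0, nat_lit 2, nat_lit 2, nat_lit 2, nat_lit 2, nat_lit 1, nat_lit 1, nat_lit 1]]

noncomputable def sAq0 : List TC := [⟨nat_lit 1, nat_lit 0, [], []⟩, ⟨nat_lit 1, nat_lit 0, [nat_lit 40, nat_lit 40, nat_lit 40, nat_lit 40, nat_lit 40, nat_lit 40, nat_lit 40, nat_lit 40, nat_lit 40, nat_lit 40, nat_lit 40, nat_lit 40, nat_lit 40, nat_lit 40, nat_lit 40, nat_lit 40, nat_lit 40, nat_lit 40, nat_lit 40, nat_lit 40, nat_lit 40, nat_lit 40, nat_lit 40, nat_lit 40, nat_lit 40, nat_lit 40], []⟩]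

noncomputable def sAq1 : List TC := [⟨nat_lit 1, nat_lit 0, [nat_lit 40, nat_lit 40, nat_lit 40, nat_lit 40, nat_lit 40, nat_lit 40, nat_lit 40, nat_lit 40, nat_lit 40, nat_lit 40, nat_lit 40, nat_lit 40, nat_lit 40, nat_lit 40, nat_lit 40, nat_lit 40, nat_lit 40, nat_lit 40, nat_lit 40, nat_lit 40, nat_lit 40], []⟩, ⟨nat_lit 1, nat_lit 0, [nat_lit 40, nat_lit 40, nat_lit 40, nat_lit 40, nat_lit 40, nat_lit 40, nat_lit 40, nat_lit 40, nat_lit 40, nat_lit 40, nat_lit 40, nat_lit 40, nat_lit 40, nat_lit 40, nat_lit 40, nat_lit 40], []⟩]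

noncomputable def sAq2 : List TC := [⟨nat_lit 1, nat_lit 0, [nat_lit 40, nat_lit 40, nat_lit 40, nat_lit 40, nat_lit 40, nat_lit 40, nat_lit 40, nat_lit 40, nat_lit 40, nat_lit 40, nat_lit 40], []⟩, ⟨nat_lit 1, nat_lit 0, [nat_lit 40, nat_lit 40, nat_lit 40, nat_lit 40, nat_lit 40, nat_lit 40], []⟩]

noncomputable def sAq3 : List TC := [⟨nat_lit 1, nat_lit 0, [nat_lit 40], []⟩, ⟨nat_lit 1, nat_lit 0, [nat_lit 40, nat_lit 40, nat_lit 40, nat_lit 40, nat_lit 40, nat_lit 40, nat_lit 40, nat_lit 40, nat_lit 40, nat_lit 40, nat_lit 40, nat_lit 40, nat_lit 40, nat_lit 40, nat_lit 40, nat_lit 40, nat_lit 40, nat_lit 40, nat_lit 40, nat_lit 40, nat_lit 40, nat_lit 40, nat_lit 40, nat_lit 40, nat_lit 40, nat_lit 40, nat_lit 40], []⟩]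

noncomputable def sAq4 : List TC := [⟨nat_lit 1, nat_lit 0, [nat_lit 40, nat_lit 40, nat_lit 40, nat_lit 40, nat_lit 40, nat_lit 40, nat_lit 40, nat_lit 40, nat_lit 40, nat_lit 40, nat_lit 40, nat_lit 40, nat_lit 40, nat_lit 40, nat_lit 40, nat_lit 40, nat_lit 40, nat_lit 40, nat_lit 40, nat_lit 40, nat_lit 40, nat_lit 40], []⟩, ⟨nat_lit 1, nat_lit 0, [nat_lit 40, nat_lit 40, nat_lit 40, nat_lit 40, nat_lit 40, nat_lit 40, nat_lit 40, nat_lit 40, nat_lit 40, nat_lit 40, nat_lit 40, nat_lit 40, nat_lit 40, nat_lit 40, nat_lit 40, nat_lit 40, nat_lit 40], []⟩]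

noncomputable def sAq5 : List TC := [⟨nat_lit 1, nat_lit 0, [nat_lit 40, nat_lit 40, nat_lit 40, nat_lit 40, nat_lit 40, nat_lit 40, nat_lit 40, nat_lit 40, nat_lit 40, nat_lit 40, nat_lit 40, nat_lit 40], []⟩, ⟨nat_lit 1, nat_lit 0, [nat_lit 40, nat_lit 40, nat_lit 40, nat_lit 40, nat_lit 40, nat_lit 40, nat_lit 40], []⟩]

noncomputable def sAq6 : List TC := [⟨nat_lit 1, nat_lit 0, [nat_lit 40, nat_lit 40], []⟩, ⟨nat_lit 1, nat_lit 0, [nat_lit 40, nat_lit 40, nat_lit 40, nat_lit 40, nat_lit 40, nat_lit 40, nat_lit 40, nat_lit 40, nat_lit 40, nat_lit 40, nat_lit 40, nat_lit 40, nat_lit 40, nat_lit 40, nat_lit 40, nat_lit 40, nat_lit 40, nat_lit 40, nat_lit 40, nat_lit 40, nat_lit 40, nat_lit 40, nat_lit 40, nat_lit 40, nat_lit 40, nat_lit 40, nat_lit 40, nat_lit 40], []⟩]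

noncomputable def sAq7 : List TC := [⟨nat_lit 1, nat_lit 0, [nat_lit 40, nat_lit 40, nat_lit 40, nat_lit 40, nat_lit 40, nat_lit 40, nat_lit 40, nat_lit 40, nat_lit 40, nat_lit 40, nat_lit 40, nat_lit 40, nat_lit 40, nat_lit 40, nat_lit 40, nat_lit 40, nat_lit 40, nat_lit 40, nat_lit 40, nat_lit 40, nat_lit 40, nat_lit 40, nat_lit 40], []⟩, ⟨nat_lit 1, nat_lit 0, [nat_lit 40, nat_lit 40, nat_lit 40, nat_lit 40, nat_lit 40, nat_lit 40, nat_lit 40, nat_lit 40, nat_lit 40, nat_lit 40, nat_lit 40, nat_lit 40, nat_lit 40, nat_lit 40, nat_lit 40, nat_lit 40, nat_lit 40, nat_lit 40], []⟩]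

noncomputable def sAq8 : List TC := [⟨nat_lit 1, nat_lit 0, [nat_lit 40, nat_lit 40, nat_lit 40, nat_lit 40, nat_lit 40, nat_lit 40, nat_lit 40, nat_lit 40, nat_lit 40, nat_lit 40, nat_lit 40, nat_lit 40, nat_lit 40], []⟩, ⟨nat_lit 1, nat_lit 0, [nat_lit 40, nat_lit 40, nat_lit 40, nat_lit 40, nat_lit 40, nat_lit 40, nat_lit 40, nat_lit 40], []⟩]

noncomputable def sAq9 : List TC := [⟨nat_lit 1, nat_lit 0, [nat_lit 40, nat_lit 40, nat_lit 40], []⟩, ⟨nat_lit 1, nat_lit 0, [nat_lit 40, nat_lit 40, nat_lit 40, nat_lit 40, nat_lit 40, nat_lit 40, nat_lit 40, nat_lit 40, nat_lit 40, nat_lit 40, nat_lit 40, nat_lit 40, nat_lit 40, nat_lit 40, nat_lit 40, nat_lit 40, nat_lit 40, nat_lit 40, nat_lit 40, nat_lit 40, nat_lit 40, nat_lit 40, nat_lit 40, nat_lit 40, nat_lit 40, nat_lit 40, nat_lit 40, nat_lit 40, nat_lit 40], []⟩]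

noncomputable def sAq10 : List TC := [⟨nat_lit 1, nat_lit 0, [nat_lit 40, nat_lit 40, nat_lit 40, nat_lit 40, nat_lit 40, nat_lit 40, nat_lit 40, nat_lit 40, nat_lit 40, nat_lit 40, nat_lit 40, nat_lit 40, nat_lit 40, nat_lit 40, nat_lit 40, nat_lit 40, nat_lit 40, nat_lit 40, nat_lit 40, nat_lit 40, nat_lit 40, nat_lit 40, nat_lit 40, nat_lit 40], []⟩, ⟨nat_lit 1, nat_lit 0, [nat_lit 40, nat_lit 40, nat_lit 40, nat_lit 40, nat_lit 40, nat_lit 40, nat_lit 40, nat_lit 40, nat_lit 40, nat_lit 40, nat_lit 40, nat_lit 40, nat_lit 40, nat_lit 40, nat_lit 40, nat_lit 40, nat_lit 40, nat_lit 40, nat_lit 40], []⟩]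

noncomputable def sAq11 : List TC := [⟨nat_lit 1, nat_lit 0, [nat_lit 40, nat_lit 40, nat_lit 40, nat_lit 40, nat_lit 40, nat_lit 40, nat_lit 40, nat_lit 40, nat_lit 40, nat_lit 40, nat_lit 40, nat_lit 40, nat_lit 40, nat_lit 40], []⟩, ⟨nat_lit 1, nat_lit 0, [nat_lit 40, nat_lit 40, nat_lit 40, nat_lit 40, nat_lit 40, nat_lit 40, nat_lit 40, nat_lit 40, nat_lit 40], []⟩]

noncomputable def sAq12 : List TC := [⟨nat_lit 1, nat_lit 0, [nat_lit 40, nat_lit 40, nat_lit 40, nat_lit 40], []⟩, ⟨nat_lit 1, nat_lit 0, [nat_lit 40, nat_lit 40, nat_lit 40, nat_lit 40, nat_lit 40, nat_lit 40, nat_lit 40, nat_lit 40, nat_lit 40, nat_lit 40, nat_lit 40, nat_lit 40, nat_lit 40, nat_lit 40, nat_lit 40, nat_lit 40, nat_lit 40, nat_lit 40, nat_lit 40, nat_lit 40, nat_lit 40, nat_lit 40, nat_lit 40, nat_lit 40, nat_lit 40, nat_lit 40, nat_lit 40, nat_lit 40, nat_lit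 40, nat_lit 40], []⟩]

noncomputable def sAq13 : List TC := [⟨nat_lit 1, nat_lit 0, [nat_lit 40, nat_lit 40, nat_lit 40, nat_lit 40, nat_lit 40, nat_lit 40, nat_lit 40, nat_lit 40, nat_lit 40, nat_lit 40, nat_lit 40, nat_lit 40, nat_lit 40, nat_lit 40, nat_lit 40, nat_lit 40, nat_lit 40, nat_lit 40, nat_lit 40, nat_lit 40, nat_lit 40, nat_lit 40, nat_lit 40, nat_lit 40, nat_lit 40], []⟩, ⟨nat_lit 1, nat_lit 0, [nat_lit 40, nat_lit 40, nat_lit 40, nat_lit 40, nat_lit 40, nat_lit 40, nat_lit 40, nat_lit 40, nat_lit 40, nat_lit 40, nat_lit 40, nat_lit 40, nat_lit 40, nat_lit 40, nat_lit 40, nat_lit 40, nat_lit 40, nat_lit 40, nat_lit 40, nat_lit 40], []⟩]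

noncomputable def sAq14 : List TC := [⟨nat_lit 1, nat_lit 0, [nat_lit 40, nat_lit 40, nat_lit 40, nat_lit 40, nat_lit 40, nat_lit 40, nat_lit 40, nat_lit 40, nat_lit 40, nat_lit 40, nat_lit 40, nat_lit 40, nat_lit 40, nat_lit 40, nat_lit 40], []⟩, ⟨nat_lit 1, nat_lit 0, [nat_lit 40, nat_lit 40, nat_lit 40, nat_lit 40, nat_lit 40, nat_lit 40, nat_lit 40, nat_lit 40, nat_lit 40, nat_lit 40], []⟩]

noncomputable def sAq15 : List TC := [⟨nat_lit 1, nat_lit 0, [nat_lit 40, nat_lit 40, nat_lit 40, nat_lit 40, nat_lit 40], []⟩]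

noncomputable def zw : List ℕ := [nat_lit 37, nat_lit 31, nat_lit 3, nat_lit 31, nat_lit 28, nat_lit 25, nat_lit 29, nat_lit 30, nat_lit 36, nat_lit 37, nat_lit 38, nat_lit 64, nat_lit 39, nat_lit 33, nat_lit 4, nat_lit 26, nat_lit 31, nat_lit 30, nat_lit 32, nat_lit 33, nat_lit 35, nat_lit 36, nat_lit 38, nat_lit 64, nat_lit 6, nat_lit 1, nat_lit 6, nat_lit 25, nat_lit 27, nat_lit 31, nat_lit 30, nat_lit 33, nat_lit 36, nat_lit 35, nat_lit 38]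

noncomputable def hu : List ℕ := [nat_lit 40, nat_lit 40, nat_lit 64, nat_lit 40, nat_lit 40, nat_lit 64, nat_lit 41, nat_lit 40, nat_lit 40, nat_lit 41, nat_lit 40, nat_lit 64, nat_lit 41, nat_lit 41, nat_lit 40, nat_lit 41, nat_lit 41, nat_lit 64, nat_lit 41, nat_lit 40]

noncomputable def hv : List ℕ := [nat_lit 64, nat_lit 40, nat_lit 40, nat_lit 64, nat_lit 40, nat_lit 40, nat_lit 41, nat_lit 64, nat_lit 41, nat_lit 64, nat_lit 40, nat_lit 40, nat_lit 40, nat_lit 41, nat_lit 64, nat_lit 40, nat_lit 40, nat_lit 41, nat_lit 64, nat_lit 40]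

noncomputable def sB0q0 : List TC := [⟨nat_lit 1, nat_lit 0, [], []⟩, ⟨nat_lit 0, nat_lit 0, [], []⟩, ⟨nat_lit 0, nat_lit 0, [], []⟩, ⟨nat_lit 0, nat_lit 0, [], []⟩, ⟨nat_lit 0, nat_lit 1, [], []⟩, ⟨nat_lit 0, nat_lit 0, [], []⟩, ⟨nat_lit 0, nat_lit 0, [], []⟩, ⟨nat_lit 0, nat_lit 0, [], []⟩, ⟨nat_lit 0, nat_lit 0, [], []⟩, ⟨nat_lit 0, nat_lit 0, [], []⟩, ⟨nat_lit 0, nat_lit 0, [], []⟩, ⟨nat_lit 0, nat_lit 0, [], []⟩, ⟨nat_lit 0, nat_lit 0, [], []⟩, ⟨nat_lit 0, nat_lit 0, [], []⟩, ⟨nat_lit 0, nat_lit 0, [], []⟩, ⟨nat_lit 0, nat_lit 0, [], []⟩, ⟨nat_lit 0, nat_lit 1, [], []⟩, ⟨nat_lit 0, nat_lit 0, [], []⟩, ⟨nat_lit 0, nat_lit 0, [], []⟩, ⟨nat_lit 0, nat_lit 0, [], []⟩, ⟨nat_lit 0, nat_lit 0, [], []⟩, ⟨nat_lit 0, nat_lit 0, [], []⟩, ⟨nat_lit 0, nat_lit 0, [], []⟩, ⟨nat_lit 0, nat_lit 0, [], []⟩, ⟨nat_lit 0, nat_lit 1, [], []⟩, ⟨nat_lit 0, nat_lit 0,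 [], []⟩, ⟨nat_lit 0, nat_lit 1, [], []⟩, ⟨nat_lit 0, nat_lit 0, [], []⟩, ⟨nat_lit 0, nat_lit 0, [], []⟩, ⟨nat_lit 0, nat_lit 0, [], []⟩, ⟨nat_lit 0, nat_lit 0, [], []⟩, ⟨nat_lit 0, nat_lit 0, [], []⟩, ⟨nat_lit 0, nat_lit 0, [], []⟩, ⟨nat_lit 0, nat_lit 0, [], []⟩, ⟨nat_lit 0, nat_lit 0, [], []⟩, ⟨nat_lit 0, nat_lit 0, [], []⟩, ⟨nat_lit 0, nat_lit 0, [], []⟩, ⟨nat_lit 0, nat_lit 0, [], []⟩, ⟨nat_lit 0, nat_lit 0, [], []⟩, ⟨nat_lit 0, nat_lit 0, [], []⟩, ⟨nat_lit 0, nat_lit 0, [], []⟩, ⟨nat_lit 0, nat_lit 0, [], []⟩, ⟨nat_lit 0, nat_lit 0, [], []⟩, ⟨nat_lit 0, nat_lit 1, [], []⟩, ⟨nat_lit 0, nat_lit 0, [], []⟩, ⟨nat_lit 0, nat_lit 0, [], []⟩, ⟨nat_lit 0, nat_lit 0, [], []⟩, ⟨nat_lit 0, nat_lit 0, [], []⟩, ⟨nat_lit 0, nat_lit 0, [], []⟩, ⟨nat_lit 0, nat_lit 0, [], []⟩, ⟨nat_lit 0, nat_lit 0, [], []⟩, ⟨nat_lit 0, nat_lit 0, [], []⟩, ⟨nat_lit 0, nat_lit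 0, [], []⟩, ⟨nat_lit 0, nat_lit 0, [], []⟩, ⟨nat_lit 0, nat_lit 0, [], []⟩, ⟨nat_lit 0, nat_lit 0, [], []⟩, ⟨nat_lit 0, nat_lit 0, [], []⟩, ⟨nat_lit 0, nat_lit 0, [], []⟩, ⟨nat_lit 0, nat_lit 0, [], []⟩, ⟨nat_lit 0, nat_lit 0, [], []⟩, ⟨nat_lit 0, nat_lit 0, [], []⟩, ⟨nat_lit 0, nat_lit 0, [], []⟩, ⟨nat_lit 0, nat_lit 0, [], []⟩, ⟨nat_lit 0, nat_lit 0, [], []⟩, ⟨nat_lit 0, nat_lit 0, [], []⟩, ⟨nat_lit 0, nat_lit 0, [], []⟩, ⟨nat_lit 0, nat_lit 0, [], []⟩, ⟨nat_lit 0, nat_lit 0, [], []⟩, ⟨nat_lit 0, nat_lit 0, [], []⟩, ⟨nat_lit 0, nat_lit 0, [], []⟩, ⟨nat_lit 0, nat_lit 0, [], []⟩, ⟨nat_lit 0, nat_lit 0, [], []⟩, ⟨nat_lit 0, nat_lit 0, [], []⟩, ⟨nat_lit 0, nat_lit 0, [], []⟩, ⟨nat_lit 0, nat_lit 0, [], []⟩, ⟨nat_lit 0, nat_lit 0, [], []⟩, ⟨nat_lit 0, nat_lit 1, [], []⟩, ⟨nat_lit 0, nat_lit 0, [], []⟩, ⟨nat_lit 0, nat_lit 1, [], []⟩, ⟨nat_lit 0, nat_lit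 0, [], []⟩, ⟨nat_lit 0, nat_lit 0, [], []⟩, ⟨nat_lit 0, nat_lit 0, [], []⟩, ⟨nat_lit 0, nat_lit 0, [], []⟩, ⟨nat_lit 0, nat_lit 0, [], []⟩, ⟨nat_lit 0, nat_lit 0, [], []⟩, ⟨nat_lit 0, nat_lit 0, [], []⟩, ⟨nat_lit 0, nat_lit 0, [], []⟩, ⟨nat_lit 0, nat_lit 0, [], []⟩, ⟨nat_lit 0, nat_lit 0, [], []⟩, ⟨nat_lit 0, nat_lit 0, [], []⟩, ⟨nat_lit 0, nat_lit 0, [], []⟩, ⟨nat_lit 0, nat_lit 0, [], []⟩, ⟨nat_lit 0, nat_lit 0, [], []⟩, ⟨nat_lit 0, nat_lit 0, [], []⟩, ⟨nat_lit 0, nat_lit 0, [], []⟩, ⟨nat_lit 0, nat_lit 0, [], []⟩, ⟨nat_lit 0, nat_lit 0, [], []⟩, ⟨nat_lit 0, nat_lit 0, [], []⟩, ⟨nat_lit 0, nat_lit 0, [], []⟩, ⟨nat_lit 0, nat_lit 0, [], []⟩, ⟨nat_lit 0, nat_lit 0, [], []⟩, ⟨nat_lit 0, nat_lit 0, [], []⟩, ⟨nat_lit 0, nat_lit 0, [], []⟩, ⟨nat_lit 0, nat_lit 0, [], []⟩, ⟨nat_lit 0, nat_lit 0, [], []⟩, ⟨nat_lit 0, nat_lit 0, [], []⟩, ⟨nat_lit 0, nat_lit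 0, [], []⟩, ⟨nat_lit 0, nat_lit 0, [], []⟩, ⟨nat_lit 0, nat_lit 0, [], []⟩, ⟨nat_lit 0, nat_lit 0, [], []⟩, ⟨nat_lit 0, nat_lit 0, [], []⟩, ⟨nat_lit 0, nat_lit 0, [], []⟩, ⟨nat_lit 0, nat_lit 0, [], []⟩, ⟨nat_lit 0, nat_lit 0, [], []⟩, ⟨nat_lit 0, nat_lit 0, [], []⟩, ⟨nat_lit 0, nat_lit 0, [], []⟩, ⟨nat_lit 0, nat_lit 0, [], []⟩, ⟨nat_lit 0, nat_lit 0, [], []⟩, ⟨nat_lit 0, nat_lit 0, [], []⟩, ⟨nat_lit 0, nat_lit 0, [], []⟩, ⟨nat_lit 0, nat_lit 0, [], []⟩, ⟨nat_lit 0, nat_lit 0, [], []⟩, ⟨nat_lit 0, nat_lit 0, [], []⟩, ⟨nat_lit 0, nat_lit 0, [], []⟩, ⟨nat_lit 0, nat_lit 0, [], []⟩, ⟨nat_lit 0, nat_lit 0, [], []⟩, ⟨nat_lit 0, nat_lit 0, [], []⟩, ⟨nat_lit 0, nat_lit 0, [], []⟩, ⟨nat_lit 0, nat_lit 0, [], []⟩, ⟨nat_lit 0, nat_lit 0, [], []⟩, ⟨nat_lit 0, nat_lit 0, [], []⟩, ⟨nat_lit 0, nat_lit 1, [], []⟩, ⟨nat_lit 0, nat_lit 1, [], []⟩, ⟨nat_lit 0, nat_lit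 0, [], []⟩, ⟨nat_lit 0, nat_lit 0, [], []⟩, ⟨nat_lit 0, nat_lit 0, [], []⟩, ⟨nat_lit 0, nat_lit 0, [], []⟩, ⟨nat_lit 0, nat_lit 1, [], []⟩, ⟨nat_lit 0, nat_lit 0, [], []⟩, ⟨nat_lit 0, nat_lit 0, [], []⟩, ⟨nat_lit 0, nat_lit 0, [], []⟩, ⟨nat_lit 0, nat_lit 1, [], []⟩, ⟨nat_lit 0, nat_lit 0, [], []⟩, ⟨nat_lit 0, nat_lit 0, [], []⟩, ⟨nat_lit 0, nat_lit 0, [], []⟩, ⟨nat_lit 0, nat_lit 0, [], []⟩, ⟨nat_lit 0, nat_lit 0, [], []⟩, ⟨nat_lit 0, nat_lit 0, [], []⟩, ⟨nat_lit 0, nat_lit 0, [], []⟩, ⟨nat_lit 0, nat_lit 0, [], []⟩, ⟨nat_lit 0, nat_lit 0, [], []⟩, ⟨nat_lit 0, nat_lit 0, [], []⟩, ⟨nat_lit 0, nat_lit 0, [], []⟩, ⟨nat_lit 0, nat_lit 0, [], []⟩, ⟨nat_lit 0, nat_lit 0, [], []⟩, ⟨nat_lit 0, nat_lit 0, [], []⟩, ⟨nat_lit 0, nat_lit 0, [], []⟩, ⟨nat_lit 0, nat_lit 0, [], []⟩, ⟨nat_lit 0, nat_lit 0, [], []⟩, ⟨nat_lit 0, nat_lit 0, [], []⟩, ⟨nat_lit 0, nat_lit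 0, [], []⟩, ⟨nat_lit 0, nat_lit 0, [], []⟩, ⟨nat_lit 0, nat_lit 0, [], []⟩, ⟨nat_lit 0, nat_lit 0, [], []⟩, ⟨nat_lit 0, nat_lit 0, [], []⟩, ⟨nat_lit 0, nat_lit 0, [], []⟩, ⟨nat_lit 0, nat_lit 0, [], []⟩, ⟨nat_lit 0, nat_lit 0, [], []⟩, ⟨nat_lit 0, nat_lit 0, [], []⟩, ⟨nat_lit 0, nat_lit 0, [], []⟩, ⟨nat_lit 0, nat_lit 0, [], []⟩, ⟨nat_lit 0, nat_lit 0, [], []⟩, ⟨nat_lit 0, nat_lit 0, [], []⟩, ⟨nat_lit 0, nat_lit 0, [], []⟩, ⟨nat_lit 0, nat_lit 0, [], []⟩, ⟨nat_lit 0, nat_lit 0, [], []⟩, ⟨nat_lit 0, nat_lit 0, [], []⟩, ⟨nat_lit 0, nat_lit 0, [], []⟩, ⟨nat_lit 0, nat_lit 0, [], []⟩, ⟨nat_lit 0, nat_lit 0, [], []⟩, ⟨nat_lit 0, nat_lit 0, [], []⟩, ⟨nat_lit 0, nat_lit 0, [], []⟩]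

noncomputable def sB0q1 : List TC := [⟨nat_lit 0, nat_lit 0, [], []⟩, ⟨nat_lit 0, nat_lit 0, [], []⟩, ⟨nat_lit 0, nat_lit 0, [], []⟩, ⟨nat_lit 0, nat_lit 0, [], []⟩, ⟨nat_lit 0, nat_lit 0, [], []⟩, ⟨nat_lit 0, nat_lit 0, [], []⟩, ⟨nat_lit 0, nat_lit 0, [], []⟩, ⟨nat_lit 0, nat_lit 0, [], []⟩, ⟨nat_lit 0, nat_lit 0, [], []⟩, ⟨nat_lit 0, nat_lit 0, [], []⟩, ⟨nat_lit 0, nat_lit 0, [], []⟩, ⟨nat_lit 0, nat_lit 0, [], []⟩, ⟨nat_lit 0, nat_lit 0, [], []⟩, ⟨nat_lit 0, nat_lit 0, [], []⟩, ⟨nat_lit 0, nat_lit 0, [], []⟩, ⟨nat_lit 0, nat_lit 0, [], []⟩, ⟨nat_lit 0, nat_lit 0, [], []⟩, ⟨nat_lit 0, nat_lit 0, [], []⟩, ⟨nat_lit 0, nat_lit 0, [], []⟩, ⟨nat_lit 0, nat_lit 0, [], []⟩, ⟨nat_lit 0, nat_lit 0, [], []⟩, ⟨nat_lit 0, nat_lit 0, [], []⟩, ⟨nat_lit 0, nat_lit 0, [], []⟩, ⟨nat_lit 0, nat_lit 0, [], []⟩, ⟨nat_lit 0, nat_lit 0, [], []⟩, ⟨nat_lit 0, nat_lit 0,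 [], []⟩, ⟨nat_lit 0, nat_lit 0, [], []⟩, ⟨nat_lit 0, nat_lit 0, [], []⟩, ⟨nat_lit 0, nat_lit 0, [], []⟩, ⟨nat_lit 0, nat_lit 0, [], []⟩, ⟨nat_lit 0, nat_lit 0, [], []⟩, ⟨nat_lit 0, nat_lit 0, [], []⟩, ⟨nat_lit 0, nat_lit 0, [], []⟩, ⟨nat_lit 0, nat_lit 0, [], []⟩, ⟨nat_lit 0, nat_lit 0, [], []⟩, ⟨nat_lit 0, nat_lit 0, [], []⟩, ⟨nat_lit 0, nat_lit 0, [], []⟩, ⟨nat_lit 0, nat_lit 0, [], []⟩, ⟨nat_lit 0, nat_lit 0, [], []⟩, ⟨nat_lit 0, nat_lit 0, [], []⟩, ⟨nat_lit 0, nat_lit 0, [], []⟩, ⟨nat_lit 0, nat_lit 0, [], []⟩, ⟨nat_lit 0, nat_lit 0, [], []⟩, ⟨nat_lit 0, nat_lit 0, [], []⟩, ⟨nat_lit 0, nat_lit 0, [], []⟩, ⟨nat_lit 0, nat_lit 0, [], []⟩, ⟨nat_lit 0, nat_lit 0, [], []⟩, ⟨nat_lit 0, nat_lit 0, [], []⟩, ⟨nat_lit 0, nat_lit 0, [], []⟩, ⟨nat_lit 0, nat_lit 0, [], []⟩, ⟨nat_lit 0, nat_lit 0, [], []⟩, ⟨nat_lit 0, nat_lit 0, [], []⟩, ⟨nat_lit 0, nat_lit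 0, [], []⟩, ⟨nat_lit 0, nat_lit 0, [], []⟩, ⟨nat_lit 0, nat_lit 0, [], []⟩, ⟨nat_lit 0, nat_lit 0, [], []⟩, ⟨nat_lit 0, nat_lit 0, [], []⟩, ⟨nat_lit 0, nat_lit 0, [], []⟩, ⟨nat_lit 0, nat_lit 0, [], []⟩, ⟨nat_lit 0, nat_lit 0, [], []⟩, ⟨nat_lit 0, nat_lit 0, [], []⟩, ⟨nat_lit 0, nat_lit 0, [], []⟩, ⟨nat_lit 0, nat_lit 0, [], []⟩, ⟨nat_lit 0, nat_lit 0, [], []⟩, ⟨nat_lit 0, nat_lit 0, [], []⟩, ⟨nat_lit 0, nat_lit 0, [], []⟩, ⟨nat_lit 0, nat_lit 0, [], []⟩, ⟨nat_lit 0, nat_lit 0, [], []⟩, ⟨nat_lit 0, nat_lit 0, [], []⟩, ⟨nat_lit 0, nat_lit 0, [], []⟩, ⟨nat_lit 0, nat_lit 0, [], []⟩, ⟨nat_lit 0, nat_lit 0, [], []⟩, ⟨nat_lit 0, nat_lit 0, [], []⟩, ⟨nat_lit 0, nat_lit 0, [], []⟩, ⟨nat_lit 0, nat_lit 0, [], []⟩, ⟨nat_lit 0, nat_lit 0, [], []⟩, ⟨nat_lit 0, nat_lit 1, [], []⟩, ⟨nat_lit 0, nat_lit 0, [], []⟩, ⟨nat_lit 0, nat_lit 0, [], []⟩, ⟨nat_lit 0, nat_lit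 0, [], []⟩, ⟨nat_lit 0, nat_lit 0, [], []⟩, ⟨nat_lit 0, nat_lit 0, [], []⟩, ⟨nat_lit 0, nat_lit 1, [], []⟩, ⟨nat_lit 0, nat_lit 0, [], []⟩, ⟨nat_lit 0, nat_lit 0, [], []⟩, ⟨nat_lit 0, nat_lit 0, [], []⟩, ⟨nat_lit 0, nat_lit 0, [], []⟩, ⟨nat_lit 0, nat_lit 0, [], []⟩, ⟨nat_lit 0, nat_lit 0, [], []⟩, ⟨nat_lit 0, nat_lit 0, [], []⟩, ⟨nat_lit 0, nat_lit 0, [], []⟩, ⟨nat_lit 0, nat_lit 0, [], []⟩, ⟨nat_lit 0, nat_lit 0, [], []⟩, ⟨nat_lit 0, nat_lit 0, [], []⟩, ⟨nat_lit 0, nat_lit 0, [], []⟩, ⟨nat_lit 0, nat_lit 0, [], []⟩, ⟨nat_lit 0, nat_lit 0, [], []⟩, ⟨nat_lit 0, nat_lit 0, [], []⟩, ⟨nat_lit 0, nat_lit 0, [], []⟩, ⟨nat_lit 0, nat_lit 0, [], []⟩, ⟨nat_lit 0, nat_lit 0, [], []⟩, ⟨nat_lit 0, nat_lit 0, [], []⟩, ⟨nat_lit 0, nat_lit 0, [], []⟩, ⟨nat_lit 0, nat_lit 0, [], []⟩, ⟨nat_lit 0, nat_lit 0, [], []⟩, ⟨nat_lit 0, nat_lit 0, [], []⟩, ⟨nat_lit 0, nat_lit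 0, [], []⟩, ⟨nat_lit 0, nat_lit 0, [], []⟩, ⟨nat_lit 0, nat_lit 0, [], []⟩, ⟨nat_lit 0, nat_lit 0, [], []⟩, ⟨nat_lit 0, nat_lit 0, [], []⟩, ⟨nat_lit 0, nat_lit 0, [], []⟩, ⟨nat_lit 0, nat_lit 0, [], []⟩, ⟨nat_lit 0, nat_lit 0, [], []⟩, ⟨nat_lit 0, nat_lit 0, [], []⟩, ⟨nat_lit 0, nat_lit 0, [], []⟩, ⟨nat_lit 0, nat_lit 0, [], []⟩, ⟨nat_lit 0, nat_lit 0, [], []⟩, ⟨nat_lit 0, nat_lit 0, [], []⟩, ⟨nat_lit 0, nat_lit 0, [], []⟩, ⟨nat_lit 0, nat_lit 0, [], []⟩, ⟨nat_lit 0, nat_lit 0, [], []⟩, ⟨nat_lit 0, nat_lit 1, [], []⟩, ⟨nat_lit 0, nat_lit 1, [], []⟩, ⟨nat_lit 0, nat_lit 1, [], []⟩, ⟨nat_lit 0, nat_lit 0, [], []⟩, ⟨nat_lit 0, nat_lit 0, [], []⟩, ⟨nat_lit 0, nat_lit 1, [], []⟩, ⟨nat_lit 0, nat_lit 0, [], []⟩, ⟨nat_lit 0, nat_lit 0, [], []⟩, ⟨nat_lit 0, nat_lit 0, [], []⟩, ⟨nat_lit 0, nat_lit 0, [], []⟩, ⟨nat_lit 0, nat_lit 0, [], []⟩, ⟨nat_lit 0, nat_lit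 1, [], []⟩, ⟨nat_lit 0, nat_lit 0, [], []⟩, ⟨nat_lit 0, nat_lit 0, [], []⟩, ⟨nat_lit 0, nat_lit 0, [], []⟩, ⟨nat_lit 0, nat_lit 1, [], []⟩, ⟨nat_lit 0, nat_lit 0, [], []⟩, ⟨nat_lit 0, nat_lit 0, [], []⟩, ⟨nat_lit 0, nat_lit 0, [], []⟩, ⟨nat_lit 0, nat_lit 0, [], []⟩]

noncomputable def sB1q0 : List TC := [⟨nat_lit 0, nat_lit 1, [], []⟩, ⟨nat_lit 0, nat_lit 0, [], []⟩, ⟨nat_lit 0, nat_lit 0, [], []⟩, ⟨nat_lit 0, nat_lit 0, [], []⟩, ⟨nat_lit 0, nat_lit 1, [], []⟩, ⟨nat_lit 0, nat_lit 0, [], []⟩, ⟨nat_lit 0, nat_lit 0, [], []⟩, ⟨nat_lit 0, nat_lit 0, [], []⟩, ⟨nat_lit 0, nat_lit 0, [], []⟩, ⟨nat_lit 0, nat_lit 0, [], []⟩, ⟨nat_lit 0, nat_lit 0, [], []⟩, ⟨nat_lit 0, nat_lit 0, [], []⟩, ⟨nat_lit 0, nat_lit 0, [], []⟩, ⟨nat_lit 0, nat_lit 0, [], []⟩, ⟨nat_lit 0, nat_lit 0, [], []⟩, ⟨nat_lit 0, nat_lit 0, [], []⟩, ⟨nat_lit 0, nat_lit 1, [], []⟩, ⟨nat_lit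 0, nat_lit 0, [], []⟩, ⟨nat_lit 0, nat_lit 0, [], []⟩, ⟨nat_lit 0, nat_lit 0, [], []⟩, ⟨nat_lit 0, nat_lit 0, [], []⟩, ⟨nat_lit 0, nat_lit 0, [], []⟩, ⟨nat_lit 0, nat_lit 0, [], []⟩, ⟨nat_lit 0, nat_lit 0, [], []⟩, ⟨nat_lit 0, nat_lit 1, [], []⟩, ⟨nat_lit 0, nat_lit 0, [], []⟩, ⟨nat_lit 0, nat_lit 1, [], []⟩, ⟨nat_lit 0, nat_lit 0, [], []⟩, ⟨nat_lit 0, nat_lit 0, [], []⟩, ⟨nat_lit 0, nat_lit 0, [], []⟩, ⟨nat_lit 0, nat_lit 0, [], []⟩, ⟨nat_lit 0, nat_lit 0, [], []⟩, ⟨nat_lit 0, nat_lit 0, [], []⟩, ⟨nat_lit 0, nat_lit 0, [], []⟩, ⟨nat_lit 0, nat_lit 0, [], []⟩, ⟨nat_lit 0, nat_lit 0, [], []⟩, ⟨nat_lit 0, nat_lit 0, [], []⟩, ⟨nat_lit 0, nat_lit 0, [], []⟩, ⟨nat_lit 0, nat_lit 0, [], []⟩, ⟨nat_lit 0, nat_lit 0, [], []⟩, ⟨nat_lit 0, nat_lit 0, [], []⟩, ⟨nat_lit 0, nat_lit 0, [], []⟩, ⟨nat_lit 0, nat_lit 0, [], []⟩, ⟨nat_lit 0, nat_lit 1, [], []⟩, ⟨nat_lit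 0, nat_lit 0, [], []⟩, ⟨nat_lit 0, nat_lit 0, [], []⟩, ⟨nat_lit 0, nat_lit 0, [], []⟩, ⟨nat_lit 0, nat_lit 0, [], []⟩, ⟨nat_lit 0, nat_lit 0, [], []⟩, ⟨nat_lit 0, nat_lit 0, [], []⟩, ⟨nat_lit 0, nat_lit 0, [], []⟩, ⟨nat_lit 0, nat_lit 0, [], []⟩, ⟨nat_lit 0, nat_lit 0, [], []⟩, ⟨nat_lit 0, nat_lit 0, [], []⟩, ⟨nat_lit 0, nat_lit 0, [], []⟩, ⟨nat_lit 0, nat_lit 0, [], []⟩, ⟨nat_lit 0, nat_lit 0, [], []⟩, ⟨nat_lit 0, nat_lit 0, [], []⟩, ⟨nat_lit 0, nat_lit 0, [], []⟩, ⟨nat_lit 0, nat_lit 0, [], []⟩, ⟨nat_lit 0, nat_lit 0, [], []⟩, ⟨nat_lit 0, nat_lit 0, [], []⟩, ⟨nat_lit 0, nat_lit 0, [], []⟩, ⟨nat_lit 0, nat_lit 0, [], []⟩, ⟨nat_lit 0, nat_lit 0, [], []⟩, ⟨nat_lit 0, nat_lit 0, [], []⟩, ⟨nat_lit 0, nat_lit 0, [], []⟩, ⟨nat_lit 0, nat_lit 0, [], []⟩, ⟨nat_lit 0, nat_lit 0, [], []⟩, ⟨nat_lit 0, nat_lit 0, [], []⟩, ⟨nat_lit 0, nat_lit 0, [], []⟩, ⟨nat_lit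 0, nat_lit 0, [], []⟩, ⟨nat_lit 0, nat_lit 0, [], []⟩, ⟨nat_lit 0, nat_lit 0, [], []⟩, ⟨nat_lit 0, nat_lit 0, [], []⟩, ⟨nat_lit 0, nat_lit 0, [], []⟩, ⟨nat_lit 0, nat_lit 1, [], []⟩, ⟨nat_lit 0, nat_lit 0, [], []⟩, ⟨nat_lit 0, nat_lit 1, [], []⟩, ⟨nat_lit 0, nat_lit 0, [], []⟩, ⟨nat_lit 0, nat_lit 0, [], []⟩, ⟨nat_lit 0, nat_lit 0, [], []⟩, ⟨nat_lit 0, nat_lit 0, [], []⟩, ⟨nat_lit 0, nat_lit 0, [], []⟩, ⟨nat_lit 0, nat_lit 0, [], []⟩, ⟨nat_lit 0, nat_lit 0, [], []⟩, ⟨nat_lit 0, nat_lit 0, [], []⟩, ⟨nat_lit 0, nat_lit 0, [], []⟩, ⟨nat_lit 0, nat_lit 0, [], []⟩, ⟨nat_lit 0, nat_lit 0, [], []⟩, ⟨nat_lit 0, nat_lit 0, [], []⟩, ⟨nat_lit 0, nat_lit 0, [], []⟩, ⟨nat_lit 0, nat_lit 0, [], []⟩, ⟨nat_lit 0, nat_lit 0, [], []⟩, ⟨nat_lit 0, nat_lit 0, [], []⟩, ⟨nat_lit 0, nat_lit 0, [], []⟩, ⟨nat_lit 0, nat_lit 0, [], []⟩, ⟨nat_lit 0, nat_lit 0, [], []⟩, ⟨nat_lit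 0, nat_lit 0, [], []⟩, ⟨nat_lit 0, nat_lit 0, [], []⟩, ⟨nat_lit 0, nat_lit 0, [], []⟩, ⟨nat_lit 0, nat_lit 0, [], []⟩, ⟨nat_lit 0, nat_lit 0, [], []⟩, ⟨nat_lit 0, nat_lit 0, [], []⟩, ⟨nat_lit 0, nat_lit 0, [], []⟩, ⟨nat_lit 0, nat_lit 0, [], []⟩, ⟨nat_lit 0, nat_lit 0, [], []⟩, ⟨nat_lit 0, nat_lit 0, [], []⟩, ⟨nat_lit 0, nat_lit 0, [], []⟩, ⟨nat_lit 0, nat_lit 0, [], []⟩, ⟨nat_lit 0, nat_lit 0, [], []⟩, ⟨nat_lit 0, nat_lit 0, [], []⟩, ⟨nat_lit 0, nat_lit 0, [], []⟩, ⟨nat_lit 0, nat_lit 0, [], []⟩, ⟨nat_lit 0, nat_lit 0, [], []⟩, ⟨nat_lit 0, nat_lit 0, [], []⟩, ⟨nat_lit 0, nat_lit 0, [], []⟩, ⟨nat_lit 0, nat_lit 0, [], []⟩, ⟨nat_lit 0, nat_lit 0, [], []⟩, ⟨nat_lit 0, nat_lit 0, [], []⟩, ⟨nat_lit 0, nat_lit 0, [], []⟩, ⟨nat_lit 0, nat_lit 0, [], []⟩, ⟨nat_lit 0, nat_lit 0, [], []⟩, ⟨nat_lit 0, nat_lit 0, [], []⟩, ⟨nat_lit 0, nat_lit 0, [], []⟩, ⟨nat_lit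 0, nat_lit 0, [], []⟩, ⟨nat_lit 0, nat_lit 0, [], []⟩, ⟨nat_lit 0, nat_lit 0, [], []⟩, ⟨nat_lit 0, nat_lit 0, [], []⟩, ⟨nat_lit 0, nat_lit 0, [], []⟩, ⟨nat_lit 0, nat_lit 0, [], []⟩, ⟨nat_lit 0, nat_lit 1, [], []⟩, ⟨nat_lit 0, nat_lit 1, [], []⟩, ⟨nat_lit 0, nat_lit 0, [], []⟩, ⟨nat_lit 0, nat_lit 0, [], []⟩, ⟨nat_lit 0, nat_lit 0, [], []⟩, ⟨nat_lit 0, nat_lit 0, [], []⟩, ⟨nat_lit 0, nat_lit 1, [], []⟩, ⟨nat_lit 0, nat_lit 0, [], []⟩, ⟨nat_lit 0, nat_lit 0, [], []⟩, ⟨nat_lit 0, nat_lit 0, [], []⟩, ⟨nat_lit 0, nat_lit 1, [], []⟩, ⟨nat_lit 0, nat_lit 0, [], []⟩, ⟨nat_lit 0, nat_lit 0, [], []⟩, ⟨nat_lit 0, nat_lit 0, [], []⟩, ⟨nat_lit 0, nat_lit 0, [], []⟩, ⟨nat_lit 0, nat_lit 0, [], []⟩, ⟨nat_lit 0, nat_lit 0, [], []⟩, ⟨nat_lit 0, nat_lit 0, [], []⟩, ⟨nat_lit 0, nat_lit 0, [], []⟩, ⟨nat_lit 0, nat_lit 0, [], []⟩, ⟨nat_lit 0, nat_lit 0, [], []⟩, ⟨nat_lit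 0, nat_lit 0, [], []⟩, ⟨nat_lit 0, nat_lit 0, [], []⟩, ⟨nat_lit 0, nat_lit 0, [], []⟩, ⟨nat_lit 0, nat_lit 0, [], []⟩, ⟨nat_lit 0, nat_lit 0, [], []⟩, ⟨nat_lit 0, nat_lit 0, [], []⟩, ⟨nat_lit 0, nat_lit 0, [], []⟩, ⟨nat_lit 0, nat_lit 0, [], []⟩, ⟨nat_lit 0, nat_lit 0, [], []⟩, ⟨nat_lit 0, nat_lit 0, [], []⟩, ⟨nat_lit 0, nat_lit 0, [], []⟩, ⟨nat_lit 0, nat_lit 0, [], []⟩, ⟨nat_lit 0, nat_lit 0, [], []⟩, ⟨nat_lit 0, nat_lit 0, [], []⟩, ⟨nat_lit 0, nat_lit 0, [], []⟩, ⟨nat_lit 0, nat_lit 0, [], []⟩, ⟨nat_lit 0, nat_lit 0, [], []⟩, ⟨nat_lit 0, nat_lit 0, [], []⟩, ⟨nat_lit 0, nat_lit 0, [], []⟩, ⟨nat_lit 0, nat_lit 0, [], []⟩, ⟨nat_lit 0, nat_lit 0, [], []⟩, ⟨nat_lit 0, nat_lit 0, [], []⟩, ⟨nat_lit 0, nat_lit 0, [], []⟩, ⟨nat_lit 0, nat_lit 0, [], []⟩, ⟨nat_lit 0, nat_lit 0, [], []⟩, ⟨nat_lit 0, nat_lit 0, [], []⟩, ⟨nat_lit 0, nat_lit 0, [], []⟩, ⟨nat_lit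 0, nat_lit 0, [], []⟩, ⟨nat_lit 0, nat_lit 0, [], []⟩, ⟨nat_lit 0, nat_lit 0, [], []⟩]

noncomputable def sB1q1 : List TC := [⟨nat_lit 0, nat_lit 0, [], []⟩, ⟨nat_lit 0, nat_lit 0, [], []⟩, ⟨nat_lit 0, nat_lit 0, [], []⟩, ⟨nat_lit 0, nat_lit 0, [], []⟩, ⟨nat_lit 0, nat_lit 0, [], []⟩, ⟨nat_lit 0, nat_lit 0, [], []⟩, ⟨nat_lit 0, nat_lit 0, [], []⟩, ⟨nat_lit 0, nat_lit 0, [], []⟩, ⟨nat_lit 0, nat_lit 0, [], []⟩, ⟨nat_lit 0, nat_lit 0, [], []⟩, ⟨nat_lit 0, nat_lit 0, [], []⟩, ⟨nat_lit 0, nat_lit 0, [], []⟩, ⟨nat_lit 0, nat_lit 0, [], []⟩, ⟨nat_lit 0, nat_lit 0, [], []⟩, ⟨nat_lit 0, nat_lit 0, [], []⟩, ⟨nat_lit 0, nat_lit 0, [], []⟩, ⟨nat_lit 0, nat_lit 0, [], []⟩, ⟨nat_lit 0, nat_lit 0, [], []⟩, ⟨nat_lit 0, nat_lit 0, [], []⟩, ⟨nat_lit 0, nat_lit 0, [], []⟩, ⟨nat_lit 0, nat_lit 0, [], []⟩, ⟨nat_lit 0, nat_lit 0, [], []⟩, ⟨nat_lit 0, nat_lit 0, [], []⟩,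 ⟨nat_lit 0, nat_lit 0, [], []⟩, ⟨nat_lit 0, nat_lit 0, [], []⟩, ⟨nat_lit 0, nat_lit 0, [], []⟩, ⟨nat_lit 0, nat_lit 0, [], []⟩, ⟨nat_lit 0, nat_lit 0, [], []⟩, ⟨nat_lit 0, nat_lit 0, [], []⟩, ⟨nat_lit 0, nat_lit 0, [], []⟩, ⟨nat_lit 0, nat_lit 0, [], []⟩, ⟨nat_lit 0, nat_lit 0, [], []⟩, ⟨nat_lit 0, nat_lit 0, [], []⟩, ⟨nat_lit 0, nat_lit 0, [], []⟩, ⟨nat_lit 0, nat_lit 0, [], []⟩, ⟨nat_lit 0, nat_lit 0, [], []⟩, ⟨nat_lit 0, nat_lit 0, [], []⟩, ⟨nat_lit 0, nat_lit 0, [], []⟩, ⟨nat_lit 0, nat_lit 0, [], []⟩, ⟨nat_lit 0, nat_lit 0, [], []⟩, ⟨nat_lit 0, nat_lit 0, [], []⟩, ⟨nat_lit 0, nat_lit 0, [], []⟩, ⟨nat_lit 0, nat_lit 0, [], []⟩, ⟨nat_lit 0, nat_lit 0, [], []⟩, ⟨nat_lit 0, nat_lit 0, [], []⟩, ⟨nat_lit 0, nat_lit 0, [], []⟩, ⟨nat_lit 0, nat_lit 0, [], []⟩, ⟨nat_lit 0, nat_lit 0, [], []⟩, ⟨nat_lit 0, nat_lit 0, [], []⟩, ⟨nat_lit 0, nat_lit 0, [], []⟩,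 ⟨nat_lit 0, nat_lit 0, [], []⟩, ⟨nat_lit 0, nat_lit 0, [], []⟩, ⟨nat_lit 0, nat_lit 0, [], []⟩, ⟨nat_lit 0, nat_lit 0, [], []⟩, ⟨nat_lit 0, nat_lit 0, [], []⟩, ⟨nat_lit 0, nat_lit 0, [], []⟩, ⟨nat_lit 0, nat_lit 0, [], []⟩, ⟨nat_lit 0, nat_lit 0, [], []⟩, ⟨nat_lit 0, nat_lit 0, [], []⟩, ⟨nat_lit 0, nat_lit 0, [], []⟩, ⟨nat_lit 0, nat_lit 0, [], []⟩, ⟨nat_lit 0, nat_lit 0, [], []⟩, ⟨nat_lit 0, nat_lit 0, [], []⟩, ⟨nat_lit 0, nat_lit 0, [], []⟩, ⟨nat_lit 0, nat_lit 0, [], []⟩, ⟨nat_lit 0, nat_lit 0, [], []⟩, ⟨nat_lit 0, nat_lit 0, [], []⟩, ⟨nat_lit 0, nat_lit 0, [], []⟩, ⟨nat_lit 0, nat_lit 0, [], []⟩, ⟨nat_lit 0, nat_lit 0, [], []⟩, ⟨nat_lit 0, nat_lit 0, [], []⟩, ⟨nat_lit 0, nat_lit 0, [], []⟩, ⟨nat_lit 0, nat_lit 0, [], []⟩, ⟨nat_lit 0, nat_lit 0, [], []⟩, ⟨nat_lit 0, nat_lit 0, [], []⟩, ⟨nat_lit 0, nat_lit 0, [], []⟩, ⟨nat_lit 0, nat_lit 1, [], []⟩,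 ⟨nat_lit 0, nat_lit 0, [], []⟩, ⟨nat_lit 0, nat_lit 0, [], []⟩, ⟨nat_lit 0, nat_lit 0, [], []⟩, ⟨nat_lit 0, nat_lit 0, [], []⟩, ⟨nat_lit 0, nat_lit 0, [], []⟩, ⟨nat_lit 0, nat_lit 1, [], []⟩, ⟨nat_lit 0, nat_lit 0, [], []⟩, ⟨nat_lit 0, nat_lit 0, [], []⟩, ⟨nat_lit 0, nat_lit 0, [], []⟩, ⟨nat_lit 0, nat_lit 0, [], []⟩, ⟨nat_lit 0, nat_lit 0, [], []⟩, ⟨nat_lit 0, nat_lit 0, [], []⟩, ⟨nat_lit 0, nat_lit 0, [], []⟩, ⟨nat_lit 0, nat_lit 0, [], []⟩, ⟨nat_lit 0, nat_lit 0, [], []⟩, ⟨nat_lit 0, nat_lit 0, [], []⟩, ⟨nat_lit 0, nat_lit 0, [], []⟩, ⟨nat_lit 0, nat_lit 0, [], []⟩, ⟨nat_lit 0, nat_lit 0, [], []⟩, ⟨nat_lit 0, nat_lit 0, [], []⟩, ⟨nat_lit 0, nat_lit 0, [], []⟩, ⟨nat_lit 0, nat_lit 0, [], []⟩, ⟨nat_lit 0, nat_lit 0, [], []⟩, ⟨nat_lit 0, nat_lit 0, [], []⟩, ⟨nat_lit 0, nat_lit 0, [], []⟩, ⟨nat_lit 0, nat_lit 0, [], []⟩, ⟨nat_lit 0, nat_lit 0, [], []⟩,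 ⟨nat_lit 0, nat_lit 0, [], []⟩, ⟨nat_lit 0, nat_lit 0, [], []⟩, ⟨nat_lit 0, nat_lit 0, [], []⟩, ⟨nat_lit 0, nat_lit 0, [], []⟩, ⟨nat_lit 0, nat_lit 0, [], []⟩, ⟨nat_lit 0, nat_lit 0, [], []⟩, ⟨nat_lit 0, nat_lit 0, [], []⟩, ⟨nat_lit 0, nat_lit 0, [], []⟩, ⟨nat_lit 0, nat_lit 0, [], []⟩, ⟨nat_lit 0, nat_lit 0, [], []⟩, ⟨nat_lit 0, nat_lit 0, [], []⟩, ⟨nat_lit 0, nat_lit 0, [], []⟩, ⟨nat_lit 0, nat_lit 0, [], []⟩, ⟨nat_lit 0, nat_lit 0, [], []⟩, ⟨nat_lit 0, nat_lit 0, [], []⟩, ⟨nat_lit 0, nat_lit 0, [], []⟩, ⟨nat_lit 0, nat_lit 0, [], []⟩, ⟨nat_lit 0, nat_lit 0, [], []⟩, ⟨nat_lit 0, nat_lit 1, [], []⟩, ⟨nat_lit 0, nat_lit 1, [], []⟩, ⟨nat_lit 0, nat_lit 1, [], []⟩, ⟨nat_lit 0, nat_lit 0, [], []⟩, ⟨nat_lit 0, nat_lit 0, [], []⟩, ⟨nat_lit 0, nat_lit 1, [], []⟩, ⟨nat_lit 0, nat_lit 0, [], []⟩, ⟨nat_lit 0, nat_lit 0, [], []⟩, ⟨nat_lit 0, nat_lit 0, [], []⟩,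 ⟨nat_lit 0, nat_lit 0, [], []⟩, ⟨nat_lit 0, nat_lit 0, [], []⟩, ⟨nat_lit 0, nat_lit 1, [], []⟩, ⟨nat_lit 0, nat_lit 0, [], []⟩, ⟨nat_lit 0, nat_lit 0, [], []⟩, ⟨nat_lit 0, nat_lit 0, [], []⟩, ⟨nat_lit 0, nat_lit 1, [], []⟩, ⟨nat_lit 0, nat_lit 0, [], []⟩, ⟨nat_lit 0, nat_lit 0, [], []⟩, ⟨nat_lit 0, nat_lit 0, [], []⟩, ⟨nat_lit 0, nat_lit 0, [], []⟩]

noncomputable def sB2q0 : List TC := [⟨nat_lit 0, nat_lit 1, [], []⟩, ⟨nat_lit 0, nat_lit 0, [], []⟩, ⟨nat_lit 0, nat_lit 0, [], []⟩, ⟨nat_lit 0, nat_lit 0, [], []⟩, ⟨nat_lit 0, nat_lit 1, [], []⟩, ⟨nat_lit 0, nat_lit 0, [], []⟩, ⟨nat_lit 0, nat_lit 0, [], []⟩, ⟨nat_lit 0, nat_lit 0, [], []⟩, ⟨nat_lit 0, nat_lit 0, [], []⟩, ⟨nat_lit 0, nat_lit 0, [], []⟩, ⟨nat_lit 0, nat_lit 0, [], []⟩, ⟨nat_lit 0, nat_lit 0, [], []⟩, ⟨nat_lit 0, nat_lit 0, [], []⟩, ⟨nat_lit 0, nat_lit 0, [], []⟩, ⟨nat_lit 0, nat_lit 0,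 [], []⟩, ⟨nat_lit 0, nat_lit 0, [], []⟩, ⟨nat_lit 0, nat_lit 1, [], []⟩, ⟨nat_lit 0, nat_lit 0, [], []⟩, ⟨nat_lit 0, nat_lit 0, [], []⟩, ⟨nat_lit 0, nat_lit 0, [], []⟩, ⟨nat_lit 0, nat_lit 0, [], []⟩, ⟨nat_lit 0, nat_lit 0, [], []⟩, ⟨nat_lit 0, nat_lit 0, [], []⟩, ⟨nat_lit 0, nat_lit 0, [], []⟩, ⟨nat_lit 0, nat_lit 1, [], []⟩, ⟨nat_lit 0, nat_lit 0, [], []⟩, ⟨nat_lit 0, nat_lit 1, [], []⟩, ⟨nat_lit 0, nat_lit 0, [], []⟩, ⟨nat_lit 0, nat_lit 0, [], []⟩, ⟨nat_lit 0, nat_lit 0, [], []⟩, ⟨nat_lit 0, nat_lit 0, [], []⟩, ⟨nat_lit 0, nat_lit 0, [], []⟩, ⟨nat_lit 0, nat_lit 0, [], []⟩, ⟨nat_lit 0, nat_lit 0, [], []⟩, ⟨nat_lit 0, nat_lit 0, [], []⟩, ⟨nat_lit 0, nat_lit 0, [], []⟩, ⟨nat_lit 0, nat_lit 0, [], []⟩, ⟨nat_lit 0, nat_lit 0, [], []⟩, ⟨nat_lit 0, nat_lit 0, [], []⟩, ⟨nat_lit 0, nat_lit 0, [], []⟩, ⟨nat_lit 0, nat_lit 0, [], []⟩, ⟨nat_lit 0, nat_lit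 0, [], []⟩, ⟨nat_lit 0, nat_lit 0, [], []⟩, ⟨nat_lit 0, nat_lit 1, [], []⟩, ⟨nat_lit 0, nat_lit 0, [], []⟩, ⟨nat_lit 0, nat_lit 0, [], []⟩, ⟨nat_lit 0, nat_lit 0, [], []⟩, ⟨nat_lit 0, nat_lit 0, [], []⟩, ⟨nat_lit 0, nat_lit 0, [], []⟩, ⟨nat_lit 0, nat_lit 0, [], []⟩, ⟨nat_lit 0, nat_lit 0, [], []⟩, ⟨nat_lit 0, nat_lit 0, [], []⟩, ⟨nat_lit 0, nat_lit 0, [], []⟩, ⟨nat_lit 0, nat_lit 0, [], []⟩, ⟨nat_lit 0, nat_lit 0, [], []⟩, ⟨nat_lit 0, nat_lit 0, [], []⟩, ⟨nat_lit 0, nat_lit 0, [], []⟩, ⟨nat_lit 0, nat_lit 0, [], []⟩, ⟨nat_lit 0, nat_lit 0, [], []⟩, ⟨nat_lit 0, nat_lit 0, [], []⟩, ⟨nat_lit 0, nat_lit 0, [], []⟩, ⟨nat_lit 0, nat_lit 0, [], []⟩, ⟨nat_lit 0, nat_lit 0, [], []⟩, ⟨nat_lit 0, nat_lit 0, [], []⟩, ⟨nat_lit 0, nat_lit 0, [], []⟩, ⟨nat_lit 0, nat_lit 0, [], []⟩, ⟨nat_lit 0, nat_lit 0, [], []⟩, ⟨nat_lit 0, nat_lit 0, [], []⟩, ⟨nat_lit 0, nat_lit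 0, [], []⟩, ⟨nat_lit 0, nat_lit 0, [], []⟩, ⟨nat_lit 0, nat_lit 0, [], []⟩, ⟨nat_lit 0, nat_lit 0, [], []⟩, ⟨nat_lit 0, nat_lit 0, [], []⟩, ⟨nat_lit 0, nat_lit 0, [], []⟩, ⟨nat_lit 0, nat_lit 0, [], []⟩, ⟨nat_lit 0, nat_lit 0, [], []⟩, ⟨nat_lit 0, nat_lit 1, [], []⟩, ⟨nat_lit 0, nat_lit 0, [], []⟩, ⟨nat_lit 0, nat_lit 1, [], []⟩, ⟨nat_lit 0, nat_lit 0, [], []⟩, ⟨nat_lit 0, nat_lit 0, [], []⟩, ⟨nat_lit 0, nat_lit 0, [], []⟩, ⟨nat_lit 0, nat_lit 0, [], []⟩, ⟨nat_lit 0, nat_lit 0, [], []⟩, ⟨nat_lit 0, nat_lit 0, [], []⟩, ⟨nat_lit 0, nat_lit 0, [], []⟩, ⟨nat_lit 0, nat_lit 0, [], []⟩, ⟨nat_lit 0, nat_lit 0, [], []⟩, ⟨nat_lit 0, nat_lit 0, [], []⟩, ⟨nat_lit 0, nat_lit 0, [], []⟩, ⟨nat_lit 0, nat_lit 0, [], []⟩, ⟨nat_lit 0, nat_lit 0, [], []⟩, ⟨nat_lit 0, nat_lit 0, [], []⟩, ⟨nat_lit 0, nat_lit 0, [], []⟩, ⟨nat_lit 0, nat_lit 0, [], []⟩, ⟨nat_lit 0, nat_lit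 0, [], []⟩, ⟨nat_lit 0, nat_lit 0, [], []⟩, ⟨nat_lit 0, nat_lit 0, [], []⟩, ⟨nat_lit 0, nat_lit 0, [], []⟩, ⟨nat_lit 0, nat_lit 0, [], []⟩, ⟨nat_lit 0, nat_lit 0, [], []⟩, ⟨nat_lit 0, nat_lit 0, [], []⟩, ⟨nat_lit 0, nat_lit 0, [], []⟩, ⟨nat_lit 0, nat_lit 0, [], []⟩, ⟨nat_lit 0, nat_lit 0, [], []⟩, ⟨nat_lit 0, nat_lit 0, [], []⟩, ⟨nat_lit 0, nat_lit 0, [], []⟩, ⟨nat_lit 0, nat_lit 0, [], []⟩, ⟨nat_lit 0, nat_lit 0, [], []⟩, ⟨nat_lit 0, nat_lit 0, [], []⟩, ⟨nat_lit 0, nat_lit 0, [], []⟩, ⟨nat_lit 0, nat_lit 0, [], []⟩, ⟨nat_lit 0, nat_lit 0, [], []⟩, ⟨nat_lit 0, nat_lit 0, [], []⟩, ⟨nat_lit 0, nat_lit 0, [], []⟩, ⟨nat_lit 0, nat_lit 0, [], []⟩, ⟨nat_lit 0, nat_lit 0, [], []⟩, ⟨nat_lit 0, nat_lit 0, [], []⟩, ⟨nat_lit 0, nat_lit 0, [], []⟩, ⟨nat_lit 0, nat_lit 0, [], []⟩, ⟨nat_lit 0, nat_lit 0, [], []⟩, ⟨nat_lit 0, nat_lit 0, [], []⟩, ⟨nat_lit 0, nat_lit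 0, [], []⟩, ⟨nat_lit 0, nat_lit 0, [], []⟩, ⟨nat_lit 0, nat_lit 0, [], []⟩, ⟨nat_lit 0, nat_lit 0, [], []⟩, ⟨nat_lit 0, nat_lit 0, [], []⟩, ⟨nat_lit 0, nat_lit 0, [], []⟩, ⟨nat_lit 0, nat_lit 0, [], []⟩, ⟨nat_lit 0, nat_lit 0, [], []⟩, ⟨nat_lit 0, nat_lit 0, [], []⟩, ⟨nat_lit 0, nat_lit 1, [], []⟩, ⟨nat_lit 0, nat_lit 1, [], []⟩, ⟨nat_lit 0, nat_lit 0, [], []⟩, ⟨nat_lit 0, nat_lit 0, [], []⟩, ⟨nat_lit 0, nat_lit 0, [], []⟩, ⟨nat_lit 0, nat_lit 0, [], []⟩, ⟨nat_lit 0, nat_lit 1, [], []⟩, ⟨nat_lit 0, nat_lit 0, [], []⟩, ⟨nat_lit 0, nat_lit 0, [], []⟩, ⟨nat_lit 0, nat_lit 0, [], []⟩, ⟨nat_lit 0, nat_lit 1, [], []⟩, ⟨nat_lit 0, nat_lit 0, [], []⟩, ⟨nat_lit 0, nat_lit 0, [], []⟩, ⟨nat_lit 0, nat_lit 0, [], []⟩, ⟨nat_lit 0, nat_lit 0, [], []⟩, ⟨nat_lit 0, nat_lit 0, [], []⟩, ⟨nat_lit 0, nat_lit 0, [], []⟩, ⟨nat_lit 0, nat_lit 0, [], []⟩, ⟨nat_lit 0, nat_lit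 0, [], []⟩, ⟨nat_lit 0, nat_lit 0, [], []⟩, ⟨nat_lit 0, nat_lit 0, [], []⟩, ⟨nat_lit 0, nat_lit 0, [], []⟩, ⟨nat_lit 0, nat_lit 0, [], []⟩, ⟨nat_lit 0, nat_lit 0, [], []⟩, ⟨nat_lit 0, nat_lit 0, [], []⟩, ⟨nat_lit 0, nat_lit 0, [], []⟩, ⟨nat_lit 0, nat_lit 0, [], []⟩, ⟨nat_lit 0, nat_lit 0, [], []⟩, ⟨nat_lit 0, nat_lit 0, [], []⟩, ⟨nat_lit 0, nat_lit 0, [], []⟩, ⟨nat_lit 0, nat_lit 0, [], []⟩, ⟨nat_lit 0, nat_lit 0, [], []⟩, ⟨nat_lit 0, nat_lit 0, [], []⟩, ⟨nat_lit 0, nat_lit 0, [], []⟩, ⟨nat_lit 0, nat_lit 0, [], []⟩, ⟨nat_lit 0, nat_lit 0, [], []⟩, ⟨nat_lit 0, nat_lit 0, [], []⟩, ⟨nat_lit 0, nat_lit 0, [], []⟩, ⟨nat_lit 0, nat_lit 0, [], []⟩, ⟨nat_lit 0, nat_lit 0, [], []⟩, ⟨nat_lit 0, nat_lit 0, [], []⟩, ⟨nat_lit 0, nat_lit 0, [], []⟩, ⟨nat_lit 0, nat_lit 0, [], []⟩, ⟨nat_lit 0, nat_lit 0, [], []⟩, ⟨nat_lit 0, nat_lit 0, [], []⟩, ⟨nat_lit 0, nat_lit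 0, [], []⟩, ⟨nat_lit 0, nat_lit 0, [], []⟩, ⟨nat_lit 0, nat_lit 0, [], []⟩, ⟨nat_lit 0, nat_lit 0, [], []⟩, ⟨nat_lit 0, nat_lit 0, [], []⟩, ⟨nat_lit 0, nat_lit 0, [], []⟩]

noncomputable def sB2q1 : List TC := [⟨nat_lit 0, nat_lit 0, [], []⟩, ⟨nat_lit 0, nat_lit 0, [], []⟩, ⟨nat_lit 0, nat_lit 0, [], []⟩, ⟨nat_lit 0, nat_lit 0, [], []⟩, ⟨nat_lit 0, nat_lit 0, [], []⟩, ⟨nat_lit 0, nat_lit 0, [], []⟩, ⟨nat_lit 0, nat_lit 0, [], []⟩, ⟨nat_lit 0, nat_lit 0, [], []⟩, ⟨nat_lit 0, nat_lit 0, [], []⟩, ⟨nat_lit 0, nat_lit 0, [], []⟩, ⟨nat_lit 0, nat_lit 0, [], []⟩, ⟨nat_lit 0, nat_lit 0, [], []⟩, ⟨nat_lit 0, nat_lit 0, [], []⟩, ⟨nat_lit 0, nat_lit 0, [], []⟩, ⟨nat_lit 0, nat_lit 0, [], []⟩, ⟨nat_lit 0, nat_lit 0, [], []⟩, ⟨nat_lit 0, nat_lit 0, [], []⟩, ⟨nat_lit 0, nat_lit 0, [], []⟩, ⟨nat_lit 0, nat_lit 0, [], []⟩, ⟨nat_lit 0, nat_lit 0, [], []⟩, ⟨nat_lit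 0, nat_lit 0, [], []⟩, ⟨nat_lit 0, nat_lit 0, [], []⟩, ⟨nat_lit 0, nat_lit 0, [], []⟩, ⟨nat_lit 0, nat_lit 0, [], []⟩, ⟨nat_lit 0, nat_lit 0, [], []⟩, ⟨nat_lit 0, nat_lit 0, [], []⟩, ⟨nat_lit 0, nat_lit 0, [], []⟩, ⟨nat_lit 0, nat_lit 0, [], []⟩, ⟨nat_lit 0, nat_lit 0, [], []⟩, ⟨nat_lit 0, nat_lit 0, [], []⟩, ⟨nat_lit 0, nat_lit 0, [], []⟩, ⟨nat_lit 0, nat_lit 0, [], []⟩, ⟨nat_lit 0, nat_lit 0, [], []⟩, ⟨nat_lit 0, nat_lit 0, [], []⟩, ⟨nat_lit 0, nat_lit 0, [], []⟩, ⟨nat_lit 0, nat_lit 0, [], []⟩, ⟨nat_lit 0, nat_lit 0, [], []⟩, ⟨nat_lit 0, nat_lit 0, [], []⟩, ⟨nat_lit 0, nat_lit 0, [], []⟩, ⟨nat_lit 0, nat_lit 0, [], []⟩, ⟨nat_lit 0, nat_lit 0, [], []⟩, ⟨nat_lit 0, nat_lit 0, [], []⟩, ⟨nat_lit 0, nat_lit 0, [], []⟩, ⟨nat_lit 0, nat_lit 0, [], []⟩, ⟨nat_lit 0, nat_lit 0, [], []⟩, ⟨nat_lit 0, nat_lit 0, [], []⟩, ⟨nat_lit 0, nat_lit 0, [], []⟩, ⟨nat_lit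 0, nat_lit 0, [], []⟩, ⟨nat_lit 0, nat_lit 0, [], []⟩, ⟨nat_lit 0, nat_lit 0, [], []⟩, ⟨nat_lit 0, nat_lit 0, [], []⟩, ⟨nat_lit 0, nat_lit 0, [], []⟩, ⟨nat_lit 0, nat_lit 0, [], []⟩, ⟨nat_lit 0, nat_lit 0, [], []⟩, ⟨nat_lit 0, nat_lit 0, [], []⟩, ⟨nat_lit 0, nat_lit 0, [], []⟩, ⟨nat_lit 0, nat_lit 0, [], []⟩, ⟨nat_lit 0, nat_lit 0, [], []⟩, ⟨nat_lit 0, nat_lit 0, [], []⟩, ⟨nat_lit 0, nat_lit 0, [], []⟩, ⟨nat_lit 0, nat_lit 0, [], []⟩, ⟨nat_lit 0, nat_lit 0, [], []⟩, ⟨nat_lit 0, nat_lit 0, [], []⟩, ⟨nat_lit 0, nat_lit 0, [], []⟩, ⟨nat_lit 0, nat_lit 0, [], []⟩, ⟨nat_lit 0, nat_lit 0, [], []⟩, ⟨nat_lit 0, nat_lit 0, [], []⟩, ⟨nat_lit 0, nat_lit 0, [], []⟩, ⟨nat_lit 0, nat_lit 0, [], []⟩, ⟨nat_lit 0, nat_lit 0, [], []⟩, ⟨nat_lit 0, nat_lit 0, [], []⟩, ⟨nat_lit 0, nat_lit 0, [], []⟩, ⟨nat_lit 0, nat_lit 0, [], []⟩, ⟨nat_lit 0, nat_lit 0, [], []⟩, ⟨nat_lit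 0, nat_lit 0, [], []⟩, ⟨nat_lit 0, nat_lit 0, [], []⟩, ⟨nat_lit 0, nat_lit 1, [], []⟩, ⟨nat_lit 0, nat_lit 0, [], []⟩, ⟨nat_lit 0, nat_lit 0, [], []⟩, ⟨nat_lit 0, nat_lit 0, [], []⟩, ⟨nat_lit 0, nat_lit 0, [], []⟩, ⟨nat_lit 0, nat_lit 0, [], []⟩, ⟨nat_lit 0, nat_lit 1, [], []⟩, ⟨nat_lit 0, nat_lit 0, [], []⟩, ⟨nat_lit 0, nat_lit 0, [], []⟩, ⟨nat_lit 0, nat_lit 0, [], []⟩, ⟨nat_lit 0, nat_lit 0, [], []⟩, ⟨nat_lit 0, nat_lit 0, [], []⟩, ⟨nat_lit 0, nat_lit 0, [], []⟩, ⟨nat_lit 0, nat_lit 0, [], []⟩, ⟨nat_lit 0, nat_lit 0, [], []⟩, ⟨nat_lit 0, nat_lit 0, [], []⟩, ⟨nat_lit 0, nat_lit 0, [], []⟩, ⟨nat_lit 0, nat_lit 0, [], []⟩, ⟨nat_lit 0, nat_lit 0, [], []⟩, ⟨nat_lit 0, nat_lit 0, [], []⟩, ⟨nat_lit 0, nat_lit 0, [], []⟩, ⟨nat_lit 0, nat_lit 0, [], []⟩, ⟨nat_lit 0, nat_lit 0, [], []⟩, ⟨nat_lit 0, nat_lit 0, [], []⟩, ⟨nat_lit 0, nat_lit 0, [], []⟩, ⟨nat_lit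 0, nat_lit 0, [], []⟩, ⟨nat_lit 0, nat_lit 0, [], []⟩, ⟨nat_lit 0, nat_lit 0, [], []⟩, ⟨nat_lit 0, nat_lit 0, [], []⟩, ⟨nat_lit 0, nat_lit 0, [], []⟩, ⟨nat_lit 0, nat_lit 0, [], []⟩, ⟨nat_lit 0, nat_lit 0, [], []⟩, ⟨nat_lit 0, nat_lit 0, [], []⟩, ⟨nat_lit 0, nat_lit 0, [], []⟩, ⟨nat_lit 0, nat_lit 0, [], []⟩, ⟨nat_lit 0, nat_lit 0, [], []⟩, ⟨nat_lit 0, nat_lit 0, [], []⟩, ⟨nat_lit 0, nat_lit 0, [], []⟩, ⟨nat_lit 0, nat_lit 0, [], []⟩, ⟨nat_lit 0, nat_lit 0, [], []⟩, ⟨nat_lit 0, nat_lit 0, [], []⟩, ⟨nat_lit 0, nat_lit 0, [], []⟩, ⟨nat_lit 0, nat_lit 0, [], []⟩, ⟨nat_lit 0, nat_lit 0, [], []⟩, ⟨nat_lit 0, nat_lit 0, [], []⟩, ⟨nat_lit 0, nat_lit 0, [], []⟩, ⟨nat_lit 0, nat_lit 1, [], []⟩, ⟨nat_lit 0, nat_lit 1, [], []⟩, ⟨nat_lit 0, nat_lit 1, [], []⟩, ⟨nat_lit 0, nat_lit 0, [], []⟩, ⟨nat_lit 0, nat_lit 0, [], []⟩, ⟨nat_lit 0, nat_lit 1, [], []⟩, ⟨nat_lit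 0, nat_lit 0, [], []⟩, ⟨nat_lit 0, nat_lit 0, [], []⟩, ⟨nat_lit 0, nat_lit 0, [], []⟩, ⟨nat_lit 0, nat_lit 0, [], []⟩, ⟨nat_lit 0, nat_lit 0, [], []⟩, ⟨nat_lit 0, nat_lit 1, [], []⟩, ⟨nat_lit 0, nat_lit 0, [], []⟩, ⟨nat_lit 0, nat_lit 0, [], []⟩, ⟨nat_lit 0, nat_lit 0, [], []⟩, ⟨nat_lit 0, nat_lit 1, [], []⟩, ⟨nat_lit 0, nat_lit 0, [], []⟩, ⟨nat_lit 0, nat_lit 0, [], []⟩, ⟨nat_lit 0, nat_lit 0, [], []⟩, ⟨nat_lit 0, nat_lit 0, [], []⟩]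

noncomputable def sB3q0 : List TC := [⟨nat_lit 0, nat_lit 1, [], []⟩, ⟨nat_lit 0, nat_lit 0, [], []⟩, ⟨nat_lit 0, nat_lit 0, [], []⟩, ⟨nat_lit 0, nat_lit 0, [], []⟩, ⟨nat_lit 0, nat_lit 1, [], []⟩, ⟨nat_lit 0, nat_lit 0, [], []⟩, ⟨nat_lit 0, nat_lit 0, [], []⟩, ⟨nat_lit 0, nat_lit 0, [], []⟩, ⟨nat_lit 0, nat_lit 0, [], []⟩, ⟨nat_lit 0, nat_lit 0, [], []⟩, ⟨nat_lit 0, nat_lit 0, [], []⟩, ⟨nat_lit 0, nat_lit 0, [], []⟩, ⟨nat_lit 0, nat_lit 0, [], []⟩, ⟨nat_lit 0, nat_lit 0, [], []⟩, ⟨nat_lit 0, nat_lit 0, [], []⟩, ⟨nat_lit 0, nat_lit 0, [], []⟩, ⟨nat_lit 0, nat_lit 1, [], []⟩, ⟨nat_lit 0, nat_lit 0, [], []⟩, ⟨nat_lit 0, nat_lit 0, [], []⟩, ⟨nat_lit 0, nat_lit 0, [], []⟩, ⟨nat_lit 0, nat_lit 0, [], []⟩, ⟨nat_lit 0, nat_lit 0, [], []⟩, ⟨nat_lit 0, nat_lit 0, [], []⟩, ⟨nat_lit 0, nat_lit 0, [], []⟩, ⟨nat_lit 0, nat_lit 1, [], []⟩, ⟨nat_lit 0, nat_lit 0,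 [], []⟩, ⟨nat_lit 0, nat_lit 1, [], []⟩, ⟨nat_lit 0, nat_lit 0, [], []⟩, ⟨nat_lit 0, nat_lit 0, [], []⟩, ⟨nat_lit 0, nat_lit 0, [], []⟩, ⟨nat_lit 0, nat_lit 0, [], []⟩, ⟨nat_lit 0, nat_lit 0, [], []⟩, ⟨nat_lit 0, nat_lit 0, [], []⟩, ⟨nat_lit 0, nat_lit 0, [], []⟩, ⟨nat_lit 0, nat_lit 0, [], []⟩, ⟨nat_lit 0, nat_lit 0, [], []⟩, ⟨nat_lit 0, nat_lit 0, [], []⟩, ⟨nat_lit 0, nat_lit 0, [], []⟩, ⟨nat_lit 0, nat_lit 0, [], []⟩, ⟨nat_lit 0, nat_lit 0, [], []⟩, ⟨nat_lit 0, nat_lit 0, [], []⟩, ⟨nat_lit 0, nat_lit 0, [], []⟩, ⟨nat_lit 0, nat_lit 0, [], []⟩, ⟨nat_lit 0, nat_lit 1, [], []⟩, ⟨nat_lit 0, nat_lit 0, [], []⟩, ⟨nat_lit 0, nat_lit 0, [], []⟩, ⟨nat_lit 0, nat_lit 0, [], []⟩, ⟨nat_lit 0, nat_lit 0, [], []⟩, ⟨nat_lit 0, nat_lit 0, [], []⟩, ⟨nat_lit 0, nat_lit 0, [], []⟩, ⟨nat_lit 0, nat_lit 0, [], []⟩, ⟨nat_lit 0, nat_lit 0, [], []⟩, ⟨nat_lit 0, nat_lit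 0, [], []⟩, ⟨nat_lit 0, nat_lit 0, [], []⟩, ⟨nat_lit 0, nat_lit 0, [], []⟩, ⟨nat_lit 0, nat_lit 0, [], []⟩, ⟨nat_lit 0, nat_lit 0, [], []⟩, ⟨nat_lit 0, nat_lit 0, [], []⟩, ⟨nat_lit 0, nat_lit 0, [], []⟩, ⟨nat_lit 0, nat_lit 0, [], []⟩, ⟨nat_lit 0, nat_lit 0, [], []⟩, ⟨nat_lit 0, nat_lit 0, [], []⟩, ⟨nat_lit 0, nat_lit 0, [], []⟩, ⟨nat_lit 0, nat_lit 0, [], []⟩, ⟨nat_lit 0, nat_lit 0, [], []⟩, ⟨nat_lit 0, nat_lit 0, [], []⟩, ⟨nat_lit 0, nat_lit 0, [], []⟩, ⟨nat_lit 0, nat_lit 0, [], []⟩, ⟨nat_lit 0, nat_lit 0, [], []⟩, ⟨nat_lit 0, nat_lit 0, [], []⟩, ⟨nat_lit 0, nat_lit 0, [], []⟩, ⟨nat_lit 0, nat_lit 0, [], []⟩, ⟨nat_lit 0, nat_lit 0, [], []⟩, ⟨nat_lit 0, nat_lit 0, [], []⟩, ⟨nat_lit 0, nat_lit 0, [], []⟩, ⟨nat_lit 0, nat_lit 0, [], []⟩, ⟨nat_lit 0, nat_lit 1, [], []⟩, ⟨nat_lit 0, nat_lit 0, [], []⟩, ⟨nat_lit 0, nat_lit 1, [], []⟩, ⟨nat_lit 0, nat_lit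 0, [], []⟩, ⟨nat_lit 0, nat_lit 0, [], []⟩, ⟨nat_lit 0, nat_lit 0, [], []⟩, ⟨nat_lit 0, nat_lit 0, [], []⟩, ⟨nat_lit 0, nat_lit 0, [], []⟩, ⟨nat_lit 0, nat_lit 0, [], []⟩, ⟨nat_lit 0, nat_lit 0, [], []⟩, ⟨nat_lit 0, nat_lit 0, [], []⟩, ⟨nat_lit 0, nat_lit 0, [], []⟩, ⟨nat_lit 0, nat_lit 0, [], []⟩, ⟨nat_lit 0, nat_lit 0, [], []⟩, ⟨nat_lit 0, nat_lit 0, [], []⟩, ⟨nat_lit 0, nat_lit 0, [], []⟩, ⟨nat_lit 0, nat_lit 0, [], []⟩, ⟨nat_lit 0, nat_lit 0, [], []⟩, ⟨nat_lit 0, nat_lit 0, [], []⟩, ⟨nat_lit 0, nat_lit 0, [], []⟩, ⟨nat_lit 0, nat_lit 0, [], []⟩, ⟨nat_lit 0, nat_lit 0, [], []⟩, ⟨nat_lit 0, nat_lit 0, [], []⟩, ⟨nat_lit 0, nat_lit 0, [], []⟩, ⟨nat_lit 0, nat_lit 0, [], []⟩, ⟨nat_lit 0, nat_lit 0, [], []⟩, ⟨nat_lit 0, nat_lit 0, [], []⟩, ⟨nat_lit 0, nat_lit 0, [], []⟩, ⟨nat_lit 0, nat_lit 0, [], []⟩, ⟨nat_lit 0, nat_lit 0, [], []⟩, ⟨nat_lit 0, nat_lit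 0, [], []⟩, ⟨nat_lit 0, nat_lit 0, [], []⟩, ⟨nat_lit 0, nat_lit 0, [], []⟩, ⟨nat_lit 0, nat_lit 0, [], []⟩, ⟨nat_lit 0, nat_lit 0, [], []⟩, ⟨nat_lit 0, nat_lit 0, [], []⟩, ⟨nat_lit 0, nat_lit 0, [], []⟩, ⟨nat_lit 0, nat_lit 0, [], []⟩, ⟨nat_lit 0, nat_lit 0, [], []⟩, ⟨nat_lit 0, nat_lit 0, [], []⟩, ⟨nat_lit 0, nat_lit 0, [], []⟩, ⟨nat_lit 0, nat_lit 0, [], []⟩, ⟨nat_lit 0, nat_lit 0, [], []⟩, ⟨nat_lit 0, nat_lit 0, [], []⟩, ⟨nat_lit 0, nat_lit 0, [], []⟩, ⟨nat_lit 0, nat_lit 0, [], []⟩, ⟨nat_lit 0, nat_lit 0, [], []⟩, ⟨nat_lit 0, nat_lit 0, [], []⟩, ⟨nat_lit 0, nat_lit 0, [], []⟩, ⟨nat_lit 0, nat_lit 0, [], []⟩, ⟨nat_lit 0, nat_lit 0, [], []⟩, ⟨nat_lit 0, nat_lit 0, [], []⟩, ⟨nat_lit 0, nat_lit 0, [], []⟩, ⟨nat_lit 0, nat_lit 0, [], []⟩, ⟨nat_lit 0, nat_lit 0, [], []⟩, ⟨nat_lit 0, nat_lit 1, [], []⟩, ⟨nat_lit 0, nat_lit 1, [], []⟩, ⟨nat_lit 0, nat_lit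 0, [], []⟩, ⟨nat_lit 0, nat_lit 0, [], []⟩, ⟨nat_lit 0, nat_lit 0, [], []⟩, ⟨nat_lit 0, nat_lit 0, [], []⟩, ⟨nat_lit 0, nat_lit 1, [], []⟩, ⟨nat_lit 0, nat_lit 0, [], []⟩, ⟨nat_lit 0, nat_lit 0, [], []⟩, ⟨nat_lit 0, nat_lit 0, [], []⟩, ⟨nat_lit 0, nat_lit 1, [], []⟩, ⟨nat_lit 0, nat_lit 0, [], []⟩, ⟨nat_lit 0, nat_lit 0, [], []⟩, ⟨nat_lit 0, nat_lit 0, [], []⟩, ⟨nat_lit 0, nat_lit 0, [], []⟩, ⟨nat_lit 0, nat_lit 0, [], []⟩, ⟨nat_lit 0, nat_lit 0, [], []⟩, ⟨nat_lit 0, nat_lit 0, [], []⟩, ⟨nat_lit 0, nat_lit 0, [], []⟩, ⟨nat_lit 0, nat_lit 0, [], []⟩, ⟨nat_lit 0, nat_lit 0, [], []⟩, ⟨nat_lit 0, nat_lit 0, [], []⟩, ⟨nat_lit 0, nat_lit 0, [], []⟩, ⟨nat_lit 0, nat_lit 0, [], []⟩, ⟨nat_lit 0, nat_lit 0, [], []⟩, ⟨nat_lit 0, nat_lit 0, [], []⟩, ⟨nat_lit 0, nat_lit 0, [], []⟩, ⟨nat_lit 0, nat_lit 0, [], []⟩, ⟨nat_lit 0, nat_lit 0, [], []⟩, ⟨nat_lit 0, nat_lit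 0, [], []⟩, ⟨nat_lit 0, nat_lit 0, [], []⟩, ⟨nat_lit 0, nat_lit 0, [], []⟩, ⟨nat_lit 0, nat_lit 0, [], []⟩, ⟨nat_lit 0, nat_lit 0, [], []⟩, ⟨nat_lit 0, nat_lit 0, [], []⟩, ⟨nat_lit 0, nat_lit 0, [], []⟩, ⟨nat_lit 0, nat_lit 0, [], []⟩, ⟨nat_lit 0, nat_lit 0, [], []⟩, ⟨nat_lit 0, nat_lit 0, [], []⟩, ⟨nat_lit 0, nat_lit 0, [], []⟩, ⟨nat_lit 0, nat_lit 0, [], []⟩, ⟨nat_lit 0, nat_lit 0, [], []⟩, ⟨nat_lit 0, nat_lit 0, [], []⟩, ⟨nat_lit 0, nat_lit 0, [], []⟩, ⟨nat_lit 0, nat_lit 0, [], []⟩, ⟨nat_lit 0, nat_lit 0, [], []⟩, ⟨nat_lit 0, nat_lit 0, [], []⟩, ⟨nat_lit 0, nat_lit 0, [], []⟩, ⟨nat_lit 0, nat_lit 0, [], []⟩, ⟨nat_lit 0, nat_lit 0, [], []⟩, ⟨nat_lit 0, nat_lit 0, [], []⟩]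

noncomputable def sB3q1 : List TC := [⟨nat_lit 0, nat_lit 0, [], []⟩, ⟨nat_lit 0, nat_lit 0, [], []⟩, ⟨nat_lit 0, nat_lit 0, [], []⟩, ⟨nat_lit 0, nat_lit 0, [], []⟩, ⟨nat_lit 0, nat_lit 0, [], []⟩, ⟨nat_lit 0, nat_lit 0, [], []⟩, ⟨nat_lit 0, nat_lit 0, [], []⟩, ⟨nat_lit 0, nat_lit 0, [], []⟩, ⟨nat_lit 0, nat_lit 0, [], []⟩, ⟨nat_lit 0, nat_lit 0, [], []⟩, ⟨nat_lit 0, nat_lit 0, [], []⟩, ⟨nat_lit 0, nat_lit 0, [], []⟩, ⟨nat_lit 0, nat_lit 0, [], []⟩, ⟨nat_lit 0, nat_lit 0, [], []⟩, ⟨nat_lit 0, nat_lit 0, [], []⟩, ⟨nat_lit 0, nat_lit 0, [], []⟩, ⟨nat_lit 0, nat_lit 0, [], []⟩, ⟨nat_lit 0, nat_lit 0, [], []⟩, ⟨nat_lit 0, nat_lit 0, [], []⟩, ⟨nat_lit 0, nat_lit 0, [], []⟩, ⟨nat_lit 0, nat_lit 0, [], []⟩, ⟨nat_lit 0, nat_lit 0, [], []⟩, ⟨nat_lit 0, nat_lit 0, [], []⟩, ⟨nat_lit 0, nat_lit 0, [], []⟩, ⟨nat_lit 0, nat_lit 0, [], []⟩, ⟨nat_lit 0, nat_lit 0,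 [], []⟩, ⟨nat_lit 0, nat_lit 0, [], []⟩, ⟨nat_lit 0, nat_lit 0, [], []⟩, ⟨nat_lit 0, nat_lit 0, [], []⟩, ⟨nat_lit 0, nat_lit 0, [], []⟩, ⟨nat_lit 0, nat_lit 0, [], []⟩, ⟨nat_lit 0, nat_lit 0, [], []⟩, ⟨nat_lit 0, nat_lit 0, [], []⟩, ⟨nat_lit 0, nat_lit 0, [], []⟩, ⟨nat_lit 0, nat_lit 0, [], []⟩, ⟨nat_lit 0, nat_lit 0, [], []⟩, ⟨nat_lit 0, nat_lit 0, [], []⟩, ⟨nat_lit 0, nat_lit 0, [], []⟩, ⟨nat_lit 0, nat_lit 0, [], []⟩, ⟨nat_lit 0, nat_lit 0, [], []⟩, ⟨nat_lit 0, nat_lit 0, [], []⟩, ⟨nat_lit 0, nat_lit 0, [], []⟩, ⟨nat_lit 0, nat_lit 0, [], []⟩, ⟨nat_lit 0, nat_lit 0, [], []⟩, ⟨nat_lit 0, nat_lit 0, [], []⟩, ⟨nat_lit 0, nat_lit 0, [], []⟩, ⟨nat_lit 0, nat_lit 0, [], []⟩, ⟨nat_lit 0, nat_lit 0, [], []⟩, ⟨nat_lit 0, nat_lit 0, [], []⟩, ⟨nat_lit 0, nat_lit 0, [], []⟩, ⟨nat_lit 0, nat_lit 0, [], []⟩, ⟨nat_lit 0, nat_lit 0, [], []⟩, ⟨nat_lit 0, nat_lit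 0, [], []⟩, ⟨nat_lit 0, nat_lit 0, [], []⟩, ⟨nat_lit 0, nat_lit 0, [], []⟩, ⟨nat_lit 0, nat_lit 0, [], []⟩, ⟨nat_lit 0, nat_lit 0, [], []⟩, ⟨nat_lit 0, nat_lit 0, [], []⟩, ⟨nat_lit 0, nat_lit 0, [], []⟩, ⟨nat_lit 0, nat_lit 0, [], []⟩, ⟨nat_lit 0, nat_lit 0, [], []⟩, ⟨nat_lit 0, nat_lit 0, [], []⟩, ⟨nat_lit 0, nat_lit 0, [], []⟩, ⟨nat_lit 0, nat_lit 0, [], []⟩, ⟨nat_lit 0, nat_lit 0, [], []⟩, ⟨nat_lit 0, nat_lit 0, [], []⟩, ⟨nat_lit 0, nat_lit 0, [], []⟩, ⟨nat_lit 0, nat_lit 0, [], []⟩, ⟨nat_lit 0, nat_lit 0, [], []⟩, ⟨nat_lit 0, nat_lit 0, [], []⟩, ⟨nat_lit 0, nat_lit 0, [], []⟩, ⟨nat_lit 0, nat_lit 0, [], []⟩, ⟨nat_lit 0, nat_lit 0, [], []⟩, ⟨nat_lit 0, nat_lit 0, [], []⟩, ⟨nat_lit 0, nat_lit 0, [], []⟩, ⟨nat_lit 0, nat_lit 0, [], []⟩, ⟨nat_lit 0, nat_lit 1, [], []⟩, ⟨nat_lit 0, nat_lit 0, [], []⟩, ⟨nat_lit 0, nat_lit 0, [], []⟩, ⟨nat_lit 0, nat_lit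 0, [], []⟩, ⟨nat_lit 0, nat_lit 0, [], []⟩, ⟨nat_lit 0, nat_lit 0, [], []⟩, ⟨nat_lit 0, nat_lit 1, [], []⟩, ⟨nat_lit 0, nat_lit 0, [], []⟩, ⟨nat_lit 0, nat_lit 0, [], []⟩, ⟨nat_lit 0, nat_lit 0, [], []⟩, ⟨nat_lit 0, nat_lit 0, [], []⟩, ⟨nat_lit 0, nat_lit 0, [], []⟩, ⟨nat_lit 0, nat_lit 0, [], []⟩, ⟨nat_lit 0, nat_lit 0, [], []⟩, ⟨nat_lit 0, nat_lit 0, [], []⟩, ⟨nat_lit 0, nat_lit 0, [], []⟩, ⟨nat_lit 0, nat_lit 0, [], []⟩, ⟨nat_lit 0, nat_lit 0, [], []⟩, ⟨nat_lit 0, nat_lit 0, [], []⟩, ⟨nat_lit 0, nat_lit 0, [], []⟩, ⟨nat_lit 0, nat_lit 0, [], []⟩, ⟨nat_lit 0, nat_lit 0, [], []⟩, ⟨nat_lit 0, nat_lit 0, [], []⟩, ⟨nat_lit 0, nat_lit 0, [], []⟩, ⟨nat_lit 0, nat_lit 0, [], []⟩, ⟨nat_lit 0, nat_lit 0, [], []⟩, ⟨nat_lit 0, nat_lit 0, [], []⟩, ⟨nat_lit 0, nat_lit 0, [], []⟩, ⟨nat_lit 0, nat_lit 0, [], []⟩, ⟨nat_lit 0, nat_lit 0, [], []⟩, ⟨nat_lit 0, nat_lit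 0, [], []⟩, ⟨nat_lit 0, nat_lit 0, [], []⟩, ⟨nat_lit 0, nat_lit 0, [], []⟩, ⟨nat_lit 0, nat_lit 0, [], []⟩, ⟨nat_lit 0, nat_lit 0, [], []⟩, ⟨nat_lit 0, nat_lit 0, [], []⟩, ⟨nat_lit 0, nat_lit 0, [], []⟩, ⟨nat_lit 0, nat_lit 0, [], []⟩, ⟨nat_lit 0, nat_lit 0, [], []⟩, ⟨nat_lit 0, nat_lit 0, [], []⟩, ⟨nat_lit 0, nat_lit 0, [], []⟩, ⟨nat_lit 0, nat_lit 0, [], []⟩, ⟨nat_lit 0, nat_lit 0, [], []⟩, ⟨nat_lit 0, nat_lit 0, [], []⟩, ⟨nat_lit 0, nat_lit 0, [], []⟩, ⟨nat_lit 0, nat_lit 0, [], []⟩, ⟨nat_lit 0, nat_lit 1, [], []⟩, ⟨nat_lit 0, nat_lit 1, [], []⟩, ⟨nat_lit 0, nat_lit 1, [], []⟩, ⟨nat_lit 0, nat_lit 0, [], []⟩, ⟨nat_lit 0, nat_lit 0, [], []⟩, ⟨nat_lit 0, nat_lit 1, [], []⟩, ⟨nat_lit 0, nat_lit 0, [], []⟩, ⟨nat_lit 0, nat_lit 0, [], []⟩, ⟨nat_lit 0, nat_lit 0, [], []⟩, ⟨nat_lit 0, nat_lit 0, [], []⟩, ⟨nat_lit 0, nat_lit 0, [], []⟩, ⟨nat_lit 0, nat_lit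 1, [], []⟩, ⟨nat_lit 0, nat_lit 0, [], []⟩, ⟨nat_lit 0, nat_lit 0, [], []⟩, ⟨nat_lit 0, nat_lit 0, [], []⟩, ⟨nat_lit 0, nat_lit 1, [], []⟩, ⟨nat_lit 0, nat_lit 0, [], []⟩, ⟨nat_lit 0, nat_lit 0, [], []⟩, ⟨nat_lit 0, nat_lit 0, [], []⟩, ⟨nat_lit 0, nat_lit 0, [], []⟩]

noncomputable def sB4q0 : List TC := [⟨nat_lit 0, nat_lit 1, [], []⟩, ⟨nat_lit 0, nat_lit 0, [], []⟩, ⟨nat_lit 0, nat_lit 0, [], []⟩, ⟨nat_lit 0, nat_lit 0, [], []⟩, ⟨nat_lit 0, nat_lit 1, [], []⟩, ⟨nat_lit 0, nat_lit 0, [], []⟩, ⟨nat_lit 0, nat_lit 0, [], []⟩, ⟨nat_lit 0, nat_lit 0, [], []⟩, ⟨nat_lit 0, nat_lit 0, [], []⟩, ⟨nat_lit 0, nat_lit 0, [], []⟩, ⟨nat_lit 0, nat_lit 0, [], []⟩, ⟨nat_lit 0, nat_lit 0, [], []⟩, ⟨nat_lit 0, nat_lit 0, [], []⟩, ⟨nat_lit 0, nat_lit 0, [], []⟩, ⟨nat_lit 0, nat_lit 0, [], []⟩, ⟨nat_lit 0, nat_lit 0, [], []⟩, ⟨nat_lit 0, nat_lit 1, [], []⟩, ⟨nat_lit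 0, nat_lit 0, [], []⟩, ⟨nat_lit 0, nat_lit 0, [], []⟩, ⟨nat_lit 0, nat_lit 0, [], []⟩, ⟨nat_lit 0, nat_lit 0, [], []⟩, ⟨nat_lit 0, nat_lit 0, [], []⟩, ⟨nat_lit 0, nat_lit 0, [], []⟩, ⟨nat_lit 0, nat_lit 0, [], []⟩, ⟨nat_lit 0, nat_lit 1, [], []⟩, ⟨nat_lit 0, nat_lit 0, [], []⟩, ⟨nat_lit 0, nat_lit 1, [], []⟩, ⟨nat_lit 0, nat_lit 0, [], []⟩, ⟨nat_lit 0, nat_lit 0, [], []⟩, ⟨nat_lit 0, nat_lit 0, [], []⟩, ⟨nat_lit 0, nat_lit 0, [], []⟩, ⟨nat_lit 0, nat_lit 0, [], []⟩, ⟨nat_lit 0, nat_lit 0, [], []⟩, ⟨nat_lit 0, nat_lit 0, [], []⟩, ⟨nat_lit 0, nat_lit 0, [], []⟩, ⟨nat_lit 0, nat_lit 0, [], []⟩, ⟨nat_lit 0, nat_lit 0, [], []⟩, ⟨nat_lit 0, nat_lit 0, [], []⟩, ⟨nat_lit 0, nat_lit 0, [], []⟩, ⟨nat_lit 0, nat_lit 0, [], []⟩, ⟨nat_lit 0, nat_lit 0, [], []⟩, ⟨nat_lit 0, nat_lit 0, [], []⟩, ⟨nat_lit 0, nat_lit 0, [], []⟩, ⟨nat_lit 0, nat_lit 1, [], []⟩, ⟨nat_lit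 0, nat_lit 0, [], []⟩, ⟨nat_lit 0, nat_lit 0, [], []⟩, ⟨nat_lit 0, nat_lit 0, [], []⟩, ⟨nat_lit 0, nat_lit 0, [], []⟩, ⟨nat_lit 0, nat_lit 0, [], []⟩, ⟨nat_lit 0, nat_lit 0, [], []⟩, ⟨nat_lit 0, nat_lit 0, [], []⟩, ⟨nat_lit 0, nat_lit 0, [], []⟩, ⟨nat_lit 0, nat_lit 0, [], []⟩, ⟨nat_lit 0, nat_lit 0, [], []⟩, ⟨nat_lit 0, nat_lit 0, [], []⟩, ⟨nat_lit 0, nat_lit 0, [], []⟩, ⟨nat_lit 0, nat_lit 0, [], []⟩, ⟨nat_lit 0, nat_lit 0, [], []⟩, ⟨nat_lit 0, nat_lit 0, [], []⟩, ⟨nat_lit 0, nat_lit 0, [], []⟩, ⟨nat_lit 0, nat_lit 0, [], []⟩, ⟨nat_lit 0, nat_lit 0, [], []⟩, ⟨nat_lit 0, nat_lit 0, [], []⟩, ⟨nat_lit 0, nat_lit 0, [], []⟩, ⟨nat_lit 0, nat_lit 0, [], []⟩, ⟨nat_lit 0, nat_lit 0, [], []⟩, ⟨nat_lit 0, nat_lit 0, [], []⟩, ⟨nat_lit 0, nat_lit 0, [], []⟩, ⟨nat_lit 0, nat_lit 0, [], []⟩, ⟨nat_lit 0, nat_lit 0, [], []⟩, ⟨nat_lit 0, nat_lit 0, [], []⟩, ⟨nat_lit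 0, nat_lit 0, [], []⟩, ⟨nat_lit 0, nat_lit 0, [], []⟩, ⟨nat_lit 0, nat_lit 0, [], []⟩, ⟨nat_lit 0, nat_lit 0, [], []⟩, ⟨nat_lit 0, nat_lit 0, [], []⟩, ⟨nat_lit 0, nat_lit 1, [], []⟩, ⟨nat_lit 0, nat_lit 0, [], []⟩, ⟨nat_lit 0, nat_lit 1, [], []⟩, ⟨nat_lit 0, nat_lit 0, [], []⟩, ⟨nat_lit 0, nat_lit 0, [], []⟩, ⟨nat_lit 0, nat_lit 0, [], []⟩, ⟨nat_lit 0, nat_lit 0, [], []⟩, ⟨nat_lit 0, nat_lit 0, [], []⟩, ⟨nat_lit 0, nat_lit 0, [], []⟩, ⟨nat_lit 0, nat_lit 0, [], []⟩, ⟨nat_lit 0, nat_lit 0, [], []⟩, ⟨nat_lit 0, nat_lit 0, [], []⟩, ⟨nat_lit 0, nat_lit 0, [], []⟩, ⟨nat_lit 0, nat_lit 0, [], []⟩, ⟨nat_lit 0, nat_lit 0, [], []⟩, ⟨nat_lit 0, nat_lit 0, [], []⟩, ⟨nat_lit 0, nat_lit 0, [], []⟩, ⟨nat_lit 0, nat_lit 0, [], []⟩, ⟨nat_lit 0, nat_lit 0, [], []⟩, ⟨nat_lit 0, nat_lit 0, [], []⟩, ⟨nat_lit 0, nat_lit 0, [], []⟩, ⟨nat_lit 0, nat_lit 0, [], []⟩, ⟨nat_lit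 0, nat_lit 0, [], []⟩, ⟨nat_lit 0, nat_lit 0, [], []⟩, ⟨nat_lit 0, nat_lit 0, [], []⟩, ⟨nat_lit 0, nat_lit 0, [], []⟩, ⟨nat_lit 0, nat_lit 0, [], []⟩, ⟨nat_lit 0, nat_lit 0, [], []⟩, ⟨nat_lit 0, nat_lit 0, [], []⟩, ⟨nat_lit 0, nat_lit 0, [], []⟩, ⟨nat_lit 0, nat_lit 0, [], []⟩, ⟨nat_lit 0, nat_lit 0, [], []⟩, ⟨nat_lit 0, nat_lit 0, [], []⟩, ⟨nat_lit 0, nat_lit 0, [], []⟩, ⟨nat_lit 0, nat_lit 0, [], []⟩, ⟨nat_lit 0, nat_lit 0, [], []⟩, ⟨nat_lit 0, nat_lit 0, [], []⟩, ⟨nat_lit 0, nat_lit 0, [], []⟩, ⟨nat_lit 0, nat_lit 0, [], []⟩, ⟨nat_lit 0, nat_lit 0, [], []⟩, ⟨nat_lit 0, nat_lit 0, [], []⟩, ⟨nat_lit 0, nat_lit 0, [], []⟩, ⟨nat_lit 0, nat_lit 0, [], []⟩, ⟨nat_lit 0, nat_lit 0, [], []⟩, ⟨nat_lit 0, nat_lit 0, [], []⟩, ⟨nat_lit 0, nat_lit 0, [], []⟩, ⟨nat_lit 0, nat_lit 0, [], []⟩, ⟨nat_lit 0, nat_lit 0, [], []⟩, ⟨nat_lit 0, nat_lit 0, [], []⟩, ⟨nat_lit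 0, nat_lit 0, [], []⟩, ⟨nat_lit 0, nat_lit 0, [], []⟩, ⟨nat_lit 0, nat_lit 0, [], []⟩, ⟨nat_lit 0, nat_lit 0, [], []⟩, ⟨nat_lit 0, nat_lit 0, [], []⟩, ⟨nat_lit 0, nat_lit 0, [], []⟩, ⟨nat_lit 0, nat_lit 1, [], []⟩, ⟨nat_lit 0, nat_lit 1, [], []⟩, ⟨nat_lit 0, nat_lit 0, [], []⟩, ⟨nat_lit 0, nat_lit 0, [], []⟩, ⟨nat_lit 0, nat_lit 0, [], []⟩, ⟨nat_lit 0, nat_lit 0, [], []⟩, ⟨nat_lit 0, nat_lit 1, [], []⟩, ⟨nat_lit 0, nat_lit 0, [], []⟩, ⟨nat_lit 0, nat_lit 0, [], []⟩, ⟨nat_lit 0, nat_lit 0, [], []⟩, ⟨nat_lit 0, nat_lit 1, [], []⟩, ⟨nat_lit 0, nat_lit 0, [], []⟩, ⟨nat_lit 0, nat_lit 0, [], []⟩, ⟨nat_lit 0, nat_lit 0, [], []⟩, ⟨nat_lit 0, nat_lit 0, [], []⟩, ⟨nat_lit 0, nat_lit 0, [], []⟩, ⟨nat_lit 0, nat_lit 0, [], []⟩, ⟨nat_lit 0, nat_lit 0, [], []⟩, ⟨nat_lit 0, nat_lit 0, [], []⟩, ⟨nat_lit 0, nat_lit 0, [], []⟩, ⟨nat_lit 0, nat_lit 0, [], []⟩, ⟨nat_lit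 0, nat_lit 0, [], []⟩, ⟨nat_lit 0, nat_lit 0, [], []⟩, ⟨nat_lit 0, nat_lit 0, [], []⟩, ⟨nat_lit 0, nat_lit 0, [], []⟩, ⟨nat_lit 0, nat_lit 0, [], []⟩, ⟨nat_lit 0, nat_lit 0, [], []⟩, ⟨nat_lit 0, nat_lit 0, [], []⟩, ⟨nat_lit 0, nat_lit 0, [], []⟩, ⟨nat_lit 0, nat_lit 0, [], []⟩, ⟨nat_lit 0, nat_lit 0, [], []⟩, ⟨nat_lit 0, nat_lit 0, [], []⟩, ⟨nat_lit 0, nat_lit 0, [], []⟩, ⟨nat_lit 0, nat_lit 0, [], []⟩, ⟨nat_lit 0, nat_lit 0, [], []⟩, ⟨nat_lit 0, nat_lit 0, [], []⟩, ⟨nat_lit 0, nat_lit 0, [], []⟩, ⟨nat_lit 0, nat_lit 0, [], []⟩, ⟨nat_lit 0, nat_lit 0, [], []⟩, ⟨nat_lit 0, nat_lit 0, [], []⟩, ⟨nat_lit 0, nat_lit 0, [], []⟩, ⟨nat_lit 0, nat_lit 0, [], []⟩, ⟨nat_lit 0, nat_lit 0, [], []⟩, ⟨nat_lit 0, nat_lit 0, [], []⟩, ⟨nat_lit 0, nat_lit 0, [], []⟩, ⟨nat_lit 0, nat_lit 0, [], []⟩, ⟨nat_lit 0, nat_lit 0, [], []⟩, ⟨nat_lit 0, nat_lit 0, [], []⟩, ⟨nat_lit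 0, nat_lit 0, [], []⟩, ⟨nat_lit 0, nat_lit 0, [], []⟩, ⟨nat_lit 0, nat_lit 0, [], []⟩]

noncomputable def sB4q1 : List TC := [⟨nat_lit 0, nat_lit 0, [], []⟩, ⟨nat_lit 0, nat_lit 0, [], []⟩, ⟨nat_lit 0, nat_lit 0, [], []⟩, ⟨nat_lit 0, nat_lit 0, [], []⟩, ⟨nat_lit 0, nat_lit 0, [], []⟩, ⟨nat_lit 0, nat_lit 0, [], []⟩, ⟨nat_lit 0, nat_lit 0, [], []⟩, ⟨nat_lit 0, nat_lit 0, [], []⟩, ⟨nat_lit 0, nat_lit 0, [], []⟩, ⟨nat_lit 0, nat_lit 0, [], []⟩, ⟨nat_lit 0, nat_lit 0, [], []⟩, ⟨nat_lit 0, nat_lit 0, [], []⟩, ⟨nat_lit 0, nat_lit 0, [], []⟩, ⟨nat_lit 0, nat_lit 0, [], []⟩, ⟨nat_lit 0, nat_lit 0, [], []⟩, ⟨nat_lit 0, nat_lit 0, [], []⟩, ⟨nat_lit 0, nat_lit 0, [], []⟩, ⟨nat_lit 0, nat_lit 0, [], []⟩, ⟨nat_lit 0, nat_lit 0, [], []⟩, ⟨nat_lit 0, nat_lit 0, [], []⟩, ⟨nat_lit 0, nat_lit 0, [], []⟩, ⟨nat_lit 0, nat_lit 0, [], []⟩, ⟨nat_lit 0, nat_lit 0, [], []⟩,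 ⟨nat_lit 0, nat_lit 0, [], []⟩, ⟨nat_lit 0, nat_lit 0, [], []⟩, ⟨nat_lit 0, nat_lit 0, [], []⟩, ⟨nat_lit 0, nat_lit 0, [], []⟩, ⟨nat_lit 0, nat_lit 0, [], []⟩, ⟨nat_lit 0, nat_lit 0, [], []⟩, ⟨nat_lit 0, nat_lit 0, [], []⟩, ⟨nat_lit 0, nat_lit 0, [], []⟩, ⟨nat_lit 0, nat_lit 0, [], []⟩, ⟨nat_lit 0, nat_lit 0, [], []⟩, ⟨nat_lit 0, nat_lit 0, [], []⟩, ⟨nat_lit 0, nat_lit 0, [], []⟩, ⟨nat_lit 0, nat_lit 0, [], []⟩, ⟨nat_lit 0, nat_lit 0, [], []⟩, ⟨nat_lit 0, nat_lit 0, [], []⟩, ⟨nat_lit 0, nat_lit 0, [], []⟩, ⟨nat_lit 0, nat_lit 0, [], []⟩, ⟨nat_lit 0, nat_lit 0, [], []⟩, ⟨nat_lit 0, nat_lit 0, [], []⟩, ⟨nat_lit 0, nat_lit 0, [], []⟩, ⟨nat_lit 0, nat_lit 0, [], []⟩, ⟨nat_lit 0, nat_lit 0, [], []⟩, ⟨nat_lit 0, nat_lit 0, [], []⟩, ⟨nat_lit 0, nat_lit 0, [], []⟩, ⟨nat_lit 0, nat_lit 0, [], []⟩, ⟨nat_lit 0, nat_lit 0, [], []⟩, ⟨nat_lit 0, nat_lit 0, [], []⟩,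 ⟨nat_lit 0, nat_lit 0, [], []⟩, ⟨nat_lit 0, nat_lit 0, [], []⟩, ⟨nat_lit 0, nat_lit 0, [], []⟩, ⟨nat_lit 0, nat_lit 0, [], []⟩, ⟨nat_lit 0, nat_lit 0, [], []⟩, ⟨nat_lit 0, nat_lit 0, [], []⟩, ⟨nat_lit 0, nat_lit 0, [], []⟩, ⟨nat_lit 0, nat_lit 0, [], []⟩, ⟨nat_lit 0, nat_lit 0, [], []⟩, ⟨nat_lit 0, nat_lit 0, [], []⟩, ⟨nat_lit 0, nat_lit 0, [], []⟩, ⟨nat_lit 0, nat_lit 0, [], []⟩, ⟨nat_lit 0, nat_lit 0, [], []⟩, ⟨nat_lit 0, nat_lit 0, [], []⟩, ⟨nat_lit 0, nat_lit 0, [], []⟩, ⟨nat_lit 0, nat_lit 0, [], []⟩, ⟨nat_lit 0, nat_lit 0, [], []⟩, ⟨nat_lit 0, nat_lit 0, [], []⟩, ⟨nat_lit 0, nat_lit 0, [], []⟩, ⟨nat_lit 0, nat_lit 0, [], []⟩, ⟨nat_lit 0, nat_lit 0, [], []⟩, ⟨nat_lit 0, nat_lit 0, [], []⟩, ⟨nat_lit 0, nat_lit 0, [], []⟩, ⟨nat_lit 0, nat_lit 0, [], []⟩, ⟨nat_lit 0, nat_lit 0, [], []⟩, ⟨nat_lit 0, nat_lit 0, [], []⟩, ⟨nat_lit 0, nat_lit 1, [], []⟩,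 ⟨nat_lit 0, nat_lit 0, [], []⟩, ⟨nat_lit 0, nat_lit 0, [], []⟩, ⟨nat_lit 0, nat_lit 0, [], []⟩, ⟨nat_lit 0, nat_lit 0, [], []⟩, ⟨nat_lit 0, nat_lit 0, [], []⟩, ⟨nat_lit 0, nat_lit 1, [], []⟩, ⟨nat_lit 0, nat_lit 0, [], []⟩, ⟨nat_lit 0, nat_lit 0, [], []⟩, ⟨nat_lit 0, nat_lit 0, [], []⟩, ⟨nat_lit 0, nat_lit 0, [], []⟩, ⟨nat_lit 0, nat_lit 0, [], []⟩, ⟨nat_lit 0, nat_lit 0, [], []⟩, ⟨nat_lit 0, nat_lit 0, [], []⟩, ⟨nat_lit 0, nat_lit 0, [], []⟩, ⟨nat_lit 0, nat_lit 0, [], []⟩, ⟨nat_lit 0, nat_lit 0, [], []⟩, ⟨nat_lit 0, nat_lit 0, [], []⟩, ⟨nat_lit 0, nat_lit 0, [], []⟩, ⟨nat_lit 0, nat_lit 0, [], []⟩, ⟨nat_lit 0, nat_lit 0, [], []⟩, ⟨nat_lit 0, nat_lit 0, [], []⟩, ⟨nat_lit 0, nat_lit 0, [], []⟩, ⟨nat_lit 0, nat_lit 0, [], []⟩, ⟨nat_lit 0, nat_lit 0, [], []⟩, ⟨nat_lit 0, nat_lit 0, [], []⟩, ⟨nat_lit 0, nat_lit 0, [], []⟩, ⟨nat_lit 0, nat_lit 0, [], []⟩,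 ⟨nat_lit 0, nat_lit 0, [], []⟩, ⟨nat_lit 0, nat_lit 0, [], []⟩, ⟨nat_lit 0, nat_lit 0, [], []⟩, ⟨nat_lit 0, nat_lit 0, [], []⟩, ⟨nat_lit 0, nat_lit 0, [], []⟩, ⟨nat_lit 0, nat_lit 0, [], []⟩, ⟨nat_lit 0, nat_lit 0, [], []⟩, ⟨nat_lit 0, nat_lit 0, [], []⟩, ⟨nat_lit 0, nat_lit 0, [], []⟩, ⟨nat_lit 0, nat_lit 0, [], []⟩, ⟨nat_lit 0, nat_lit 0, [], []⟩, ⟨nat_lit 0, nat_lit 0, [], []⟩, ⟨nat_lit 0, nat_lit 0, [], []⟩, ⟨nat_lit 0, nat_lit 0, [], []⟩, ⟨nat_lit 0, nat_lit 0, [], []⟩, ⟨nat_lit 0, nat_lit 0, [], []⟩, ⟨nat_lit 0, nat_lit 0, [], []⟩, ⟨nat_lit 0, nat_lit 0, [], []⟩, ⟨nat_lit 0, nat_lit 1, [], []⟩, ⟨nat_lit 0, nat_lit 1, [], []⟩, ⟨nat_lit 0, nat_lit 1, [], []⟩, ⟨nat_lit 0, nat_lit 0, [], []⟩, ⟨nat_lit 0, nat_lit 0, [], []⟩, ⟨nat_lit 0, nat_lit 1, [], []⟩, ⟨nat_lit 0, nat_lit 0, [], []⟩, ⟨nat_lit 0, nat_lit 0, [], []⟩, ⟨nat_lit 0, nat_lit 0, [], []⟩,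 ⟨nat_lit 0, nat_lit 0, [], []⟩, ⟨nat_lit 0, nat_lit 0, [], []⟩, ⟨nat_lit 0, nat_lit 1, [], []⟩, ⟨nat_lit 0, nat_lit 0, [], []⟩, ⟨nat_lit 0, nat_lit 0, [], []⟩, ⟨nat_lit 0, nat_lit 0, [], []⟩, ⟨nat_lit 0, nat_lit 1, [], []⟩, ⟨nat_lit 0, nat_lit 0, [], []⟩, ⟨nat_lit 0, nat_lit 0, [], []⟩, ⟨nat_lit 0, nat_lit 0, [], []⟩, ⟨nat_lit 0, nat_lit 0, [], []⟩]

end Cfsg.Agent.H9.OLy
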