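import Cfsg.Agent.H9.OThD

/-! Outer automorphisms of the group Th. Checks. -/

set_option autoImplicit false
set_option maxRecDepth 100000

namespace Cfsg.Agent.H9.OTh

set_option Elab.async false

theorem e1 : (L0.lettersLt (L0.ThFB.P.k + 2) Rl &&
      (L0.ThG.R.all fun r => L0.consB (L0.ThFB.P.k + 2) L0.ThFB.P.iv Rl (r.flatMap L0.ThG.s)) &&
      (List.range (L0.ThFB.P.k + 2)).all fun j => decide (L0.ThFB.P.iv j < L0.ThFB.P.k + 2) && Rl.contains [j, L0.ThFB.P.iv j] &&
        (L0.ThG.t j).all (fun a => decide (a < 16)) &&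
        (L0.consB (L0.ThFB.P.k + 2) L0.ThFB.P.iv Rl (L0.ThFB.P.iv j :: (L0.ThG.t j).flatMap L0.ThG.s) &&
          L0.consB (L0.ThFB.P.k + 2) L0.ThFB.P.iv (L0.ThH.R ++ L0.ThG.R.map fun r => r.flatMap L0.ThG.s) (L0.ThFB.P.iv j :: (L0.ThG.t j).flatMap L0.ThG.s))) = true := by decide +kernel

theorem rl10 : allL Rl10 (P.relB fun j => Mt (ren L0.ThFB.P.k (nat_lit 50) j)) = true := by decide +kernel

theorem rhB3_0 : allPow (below (nat_lit 819) (rhB rhoB3)) 9 (0 * 2 ^ 9) = true := by decide +kernel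

theorem clA_0 : all2 (((([] :: CLA)).drop (0 * 39)).take 39) (clE e.U e.K X ([] :: CLA) (DA.DH ++ DA.DG)) clAq0 = true := by decide +kernel

theorem df_59 : dfB 59 = true := by decide +kernel

theorem rB13x1c : DB.repB e X d13 rB13x1 = true := by decide +kernel

theorem rl22 : allL Rl22 (P.relB fun j => Mt (ren L0.ThFB.P.k (nat_lit 50) j)) = true := by decide +kernel

theorem rB8x2c : DB.repB e X d8 rB8x2 = true := by decide +kernel

theorem df_64 : dfB 64 = true := by decide +kernel

theorem df_18 : dfB 18 = true := by decide +kernel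

theorem rhB2_1 : allPow (below (nat_lit 819) (rhB rhoB2)) 9 (1 * 2 ^ 9) = true := by decide +kernel

theorem hBB : DB.hB e = true := by decide +kernel

theorem df_22 : dfB 22 = true := by decide +kernel

theorem scA_0 : allPow (below (nat_lit 819) (scanB e.T iv (tr e.T DA.y) LA0 LAs [])) 10 (0 * 2 ^ 10) = true := by decide +kernel

theorem v0l2b_0 : allPow (below (nat_lit 96) (e.orbB (Env.sing v0l2S) v0l2r v0l2 v0l2t (nat_lit 128))) 7 (0 * 2 ^ 7) = true := by decide +kernel

theorem syB11 : DB.sylB e d11 cB11 = true := by decide +kernel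

theorem c13l0c_0 : allPow (below (nat_lit 147) (L0.levT e.T c13l0S c13l0r c13l0 e.N)) 8 (0 * 2 ^ 8) = true := by decide +kernel

theorem c11l0a : allL c11l0S (e.inT d11) = true := by decide +kernel

theorem c6l0a : allL c6l0S (e.inT d6) = true := by decide +kernel

theorem c14l0a : allL c14l0S (e.inT d14) = true := by decide +kernel

theorem c6l2a : allL c6l2S (e.inT d6) = true := by decide +kernel

theorem v0l2a : (L0.lettersB e.K (Env.sing v0l2S) && Nat.blt v0l2.β e.M && Nat.ble v0l2.n 96 && Nat.blt (nat_lit 55) v0l2.n &&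
    Nat.beq (Nat.land (v0l2r (nat_lit 55)) v0l2.pm) v0l2.β && e.subB v0l2S [] v0l2.β) = true := by decide +kernel

theorem v2l0a : (L0.lettersB e.K (Env.sing v2l0S) && Nat.blt v2l0.β e.M && Nat.ble v2l0.n 60 && Nat.blt (nat_lit 39) v2l0.n &&
    Nat.beq (Nat.land (v2l0r (nat_lit 39)) v2l0.pm) v2l0.β && e.subB v2l0S v2l1S v2l0.β) = true := by decide +kernel

theorem syA9 : DA.sylB e d9 cA9 = true := by decide +kernel

theorem gBB : DB.gB e X = true := by decide +kernel

theorem c1l1b : (L0.lettersB e.k c1l1S && L0.RAct.fixB e.T c1l1S [c1l0.β] && Nat.blt c1l1.β e.N && Nat.ble c1l1.n 512) = true := by decide +kernel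

theorem c8l2b : (L0.lettersB e.k c8l2S && L0.RAct.fixB e.T c8l2S [c8l1.β, c8l0.β] && Nat.blt c8l2.β e.N && Nat.ble c8l2.n 3) = true := by decide +kernel

theorem c11l0b : (L0.lettersB e.k c11l0S && L0.RAct.fixB e.T c11l0S [] && Nat.blt c11l0.β e.N && Nat.ble c11l0.n 21) = true := by decide +kernel

theorem bsb : (L0.lettersB e.k bsS && L0.RAct.fixB e.U bsS [] && Nat.blt bs.β e.M && Nat.ble bs.n 6) = true := by decide +kernel

theorem df_7 : dfB 7 = true := by decide +kernel

theorem df_14 : dfB 14 = true := by decide +kernel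

theorem df_37 : dfB 37 = true := by decide +kernel

theorem df_44 : dfB 44 = true := by decide +kernel

theorem df_51 : dfB 51 = true := by decide +kernel

theorem c12l1c_0 : allPow (below (nat_lit 3) (L0.levT e.T c12l1S c12l1r c12l1 e.N)) 2 (0 * 2 ^ 2) = true := by decide +kernel

end Cfsg.Agent.H9.OTh
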