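import Cfsg.Agent.H9.OThD

/-! Outer automorphisms of the group Th. Checks. -/

set_option autoImplicit false
set_option maxRecDepth 100000

namespace Cfsg.Agent.H9.OTh

set_option Elab.async false

theorem rl19 : allL Rl19 (P.relB fun j => Mt (ren L0.ThFB.P.k (nat_lit 50) j)) = true := by decide +kernel

theorem df_54 : dfB 54 = true := by decide +kernel

theorem rB12x1c : DB.repB e X d12 rB12x1 = true := by decide +kernel

theorem rl0 : allL Rl0 (P.relB fun j => Mt (ren L0.ThFB.P.k (nat_lit 50) j)) = true := by decide +kernel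

theorem rB13x0c : DB.repB e X d13 rB13x0 = true := by decide +kernel

theorem df_68 : dfB 68 = true := by decide +kernel

theorem slp_0 : allPow (below (nat_lit 819) (slpB (mix L0.ThFB.P.k L0.ThFB.P.T T1) WH L0.ThFB.P.k)) 8 (0 * 2 ^ 8) = true := by decide +kernel

theorem rl14 : allL Rl14 (P.relB fun j => Mt (ren L0.ThFB.P.k (nat_lit 50) j)) = true := by decide +kernel

theorem rB11x0c : DB.repB e X d11 rB11x0 = true := by decide +kernel

theorem df_57 : dfB 57 = true := by decide +kernel

theorem rB7x0c : DB.repB e X d7 rB7x0 = true := by decide +kernel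

theorem sA_0 : all2 (((([] :: CLA)).drop (0 * 15)).take 15) (stgB e.U e.K X [] [DA.b] relA DB.b DB.b true false) sAq0 = true := by decide +kernel

theorem df_17 : dfB 17 = true := by decide +kernel

theorem syB9 : DB.sylB e d9 cB9 = true := by decide +kernel

theorem syB6 : DB.sylB e d6 cB6 = true := by decide +kernel

theorem sB0_0 : all2 (((([] :: CLB)).drop (0 * 24)).take 24) (stgB e.U e.K X [DB.b, aw0] [DB.b, aw0] relB t2 t2 ([DB.b, aw0] == [DB.b, DA.b]) false) sB0q0 = true := by decide +kernel

theorem scB_0 : allPow (below (nat_lit 819) (scanB e.T iv (tr e.T DB.y) LB0 LBs [])) 10 (0 * 2 ^ 10) = true := by decide +kernel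

theorem syB13 : DB.sylB e d13 cB13 = true := by decide +kernel

theorem v0l0b_0 : allPow (below (nat_lit 56) (e.orbB (Env.sing v0l0S) v0l0r v0l0 v0l0t (nat_lit 64))) 6 (0 * 2 ^ 6) = true := by decide +kernel

theorem rA14x0c : DA.repB e X d14 rA14x0 = true := by decide +kernel

theorem c8l0a : allL c8l0S (e.inT d8) = true := by decide +kernel

theorem c7l0a : allL c7l0S (e.inT d7) = true := by decide +kernel

theorem c12l1a : allL c12l1S (e.inT d12) = true := by decide +kernel

theorem c14l0c_0 : allPow (below (nat_lit 39) (L0.levT e.T c14l0S c14l0r c14l0 e.N)) 6 (0 * 2 ^ 6) = true := by decide +kernel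

theorem c13l1c_0 : allPow (below (nat_lit 24) (L0.levT e.T c13l1S c13l1r c13l1 e.N)) 5 (0 * 2 ^ 5) = true := by decide +kernel

theorem v1l1a : (L0.lettersB e.K (Env.sing v1l1S) && Nat.blt v1l1.β e.M && Nat.ble v1l1.n 27 && Nat.blt (nat_lit 3) v1l1.n &&
    Nat.beq (Nat.land (v1l1r (nat_lit 3)) v1l1.pm) v1l1.β && e.subB v1l1S v1l2S v1l1.β) = true := by decide +kernel

theorem syA6 : DA.sylB e d6 cA6 = true := by decide +kernel

theorem syA13 : DA.sylB e d13 cA13 = true := by decide +kernel

theorem c11l2a : allL c11l2S (e.inT d11) = true := by decide +kernel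

theorem c6l1b : (L0.lettersB e.k c6l1S && L0.RAct.fixB e.T c6l1S [c6l0.β] && Nat.blt c6l1.β e.N && Nat.ble c6l1.n 9) = true := by decide +kernel

theorem c9l1b : (L0.lettersB e.k c9l1S && L0.RAct.fixB e.T c9l1S [c9l0.β] && Nat.blt c9l1.β e.N && Nat.ble c9l1.n 2) = true := by decide +kernel

theorem c13l1b : (L0.lettersB e.k c13l1S && L0.RAct.fixB e.T c13l1S [c13l0.β] && Nat.blt c13l1.β e.N && Nat.ble c13l1.n 24) = true := by decide +kernel

theorem df_1 : dfB 1 = true := by decide +kernel

theorem df_8 : dfB 8 = true := by decide +kernel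

theorem df_15 : dfB 15 = true := by decide +kernel

theorem df_38 : dfB 38 = true := by decide +kernel

theorem df_45 : dfB 45 = true := by decide +kernel

theorem stA : LA0.toLv.statB e.T e.N e.k [] = true := by decide +kernel

theorem c8l1c_0 : allPow (below (nat_lit 2) (L0.levT e.T c8l1S c8l1r c8l1 e.N)) 1 (0 * 2 ^ 1) = true := by decide +kernel

end Cfsg.Agent.H9.OTh
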