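import Cfsg.Agent.H9.OThD

/-! Outer automorphisms of the group Th. Checks. -/

set_option autoImplicit false
set_option maxRecDepth 100000

namespace Cfsg.Agent.H9.OTh

set_option Elab.async false

theorem df_60 : dfB 60 = true := by decide +kernel

theorem df_67 : dfB 67 = true := by decide +kernel

theorem df_70 : dfB 70 = true := by decide +kernel

theorem rl1 : allL Rl1 (P.relB fun j => Mt (ren L0.ThFB.P.k (nat_lit 50) j)) = true := by decide +kernel

theorem df_32 : dfB 32 = true := by decide +kernel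

theorem rhB4_0 : allPow (below (nat_lit 819) (rhB rhoB4)) 9 (0 * 2 ^ 9) = true := by decide +kernel

theorem df_30 : dfB 30 = true := by decide +kernel

theorem rhB1_0 : allPow (below (nat_lit 819) (rhB rhoB1)) 9 (0 * 2 ^ 9) = true := by decide +kernel

theorem sA_2 : all2 (((([] :: CLA)).drop (2 * 15)).take 15) (stgB e.U e.K X [] [DA.b] relA DB.b DB.b true false) sAq2 = true := by decide +kernel

theorem rB8x3c : DB.repB e X d8 rB8x3 = true := by decide +kernel

theorem rB9x1c : DB.repB e X d9 rB9x1 = true := by decide +kernel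

theorem rl8 : allL Rl8 (P.relB fun j => Mt (ren L0.ThFB.P.k (nat_lit 50) j)) = true := by decide +kernel

theorem df_27 : dfB 27 = true := by decide +kernel

theorem df_19 : dfB 19 = true := by decide +kernel

theorem hsA : (invB e.T e.k e.B iv && ltB e.k DA.y && statSB e.T e.k e.B DA.y (LA0 :: LAs) [] &&
    DA.linkB (LA0 :: LAs) && centB e.T iv (tr e.T DA.y) LAs (genP (tr e.T DA.y) [] LA0.xs LA0.β) &&
    allL DA.rho (ltB e.k)) = true := by decide +kernel

theorem df_24 : dfB 24 = true := by decide +kernel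

theorem ptB_0 : allPow (below (nat_lit 819) (LB0.toLv.ptB e.T e.N)) 10 (0 * 2 ^ 10) = true := by decide +kernel

theorem syB7 : DB.sylB e d7 cB7 = true := by decide +kernel

theorem v1l0b_0 : allPow (below (nat_lit 54) (e.orbB (Env.sing v1l0S) v1l0r v1l0 v1l0t (nat_lit 64))) 6 (0 * 2 ^ 6) = true := by decide +kernel

theorem v1l1b_0 : allPow (below (nat_lit 27) (e.orbB (Env.sing v1l1S) v1l1r v1l1 v1l1t (nat_lit 32))) 5 (0 * 2 ^ 5) = true := by decide +kernel

theorem v4l0b_0 : allPow (below (nat_lit 31) (e.orbB (Env.sing v4l0S) v4l0r v4l0 v4l0t (nat_lit 32))) 5 (0 * 2 ^ 5) = true := by decide +kernel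

theorem syB14 : DB.sylB e d14 cB14 = true := by decide +kernel

theorem c8l1a : allL c8l1S (e.inT d8) = true := by decide +kernel

theorem c14l1a : allL c14l1S (e.inT d14) = true := by decide +kernel

theorem c11l0c_0 : allPow (below (nat_lit 21) (L0.levT e.T c11l0S c11l0r c11l0 e.N)) 5 (0 * 2 ^ 5) = true := by decide +kernel

theorem v0l0a : (L0.lettersB e.K (Env.sing v0l0S) && Nat.blt v0l0.β e.M && Nat.ble v0l0.n 56 && Nat.blt (nat_lit 38) v0l0.n &&
    Nat.beq (Nat.land (v0l0r (nat_lit 38)) v0l0.pm) v0l0.β && e.subB v0l0S v0l1S v0l0.β) = true := by decide +kernel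

theorem v4l0a : (L0.lettersB e.K (Env.sing v4l0S) && Nat.blt v4l0.β e.M && Nat.ble v4l0.n 31 && Nat.blt (nat_lit 10) v4l0.n &&
    Nat.beq (Nat.land (v4l0r (nat_lit 10)) v4l0.pm) v4l0.β && e.subB v4l0S [] v4l0.β) = true := by decide +kernel

theorem syA11 : DA.sylB e d11 cA11 = true := by decide +kernel

theorem c7l0c_0 : allPow (below (nat_lit 18) (L0.levT e.T c7l0S c7l0r c7l0 e.N)) 5 (0 * 2 ^ 5) = true := by decide +kernel

theorem c6l0b : (L0.lettersB e.k c6l0S && L0.RAct.fixB e.T c6l0S [] && Nat.blt c6l0.β e.N && Nat.ble c6l0.n 512) = true := by decide +kernel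

theorem c9l0b : (L0.lettersB e.k c9l0S && L0.RAct.fixB e.T c9l0S [] && Nat.blt c9l0.β e.N && Nat.ble c9l0.n 27) = true := by decide +kernel

theorem c13l0b : (L0.lettersB e.k c13l0S && L0.RAct.fixB e.T c13l0S [] && Nat.blt c13l0.β e.N && Nat.ble c13l0.n 147) = true := by decide +kernel

theorem df_2 : dfB 2 = true := by decide +kernel

theorem df_9 : dfB 9 = true := by decide +kernel

theorem df_16 : dfB 16 = true := by decide +kernel

theorem df_39 : dfB 39 = true := by decide +kernel

theorem df_46 : dfB 46 = true := by decide +kernel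

theorem stB : LB0.toLv.statB e.T e.N e.k [] = true := by decide +kernel

theorem c14l1c_0 : allPow (below (nat_lit 2) (L0.levT e.T c14l1S c14l1r c14l1 e.N)) 1 (0 * 2 ^ 1) = true := by decide +kernel

end Cfsg.Agent.H9.OTh
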