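import Cfsg.Agent.H9.OThD

/-! Outer automorphisms of the group Th. Checks. -/

set_option autoImplicit false
set_option maxRecDepth 100000

namespace Cfsg.Agent.H9.OTh

set_option Elab.async false

theorem df_52 : dfB 52 = true := by decide +kernel

theorem rl6 : allL Rl6 (P.relB fun j => Mt (ren L0.ThFB.P.k (nat_lit 50) j)) = true := by decide +kernel

theorem rl15 : allL Rl15 (P.relB fun j => Mt (ren L0.ThFB.P.k (nat_lit 50) j)) = true := by decide +kernel

theorem rl9 : allL Rl9 (P.relB fun j => Mt (ren L0.ThFB.P.k (nat_lit 50) j)) = true := by decide +kernel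

theorem rl7 : allL Rl7 (P.relB fun j => Mt (ren L0.ThFB.P.k (nat_lit 50) j)) = true := by decide +kernel

theorem rl11 : allL Rl11 (P.relB fun j => Mt (ren L0.ThFB.P.k (nat_lit 50) j)) = true := by decide +kernel

theorem df_31 : dfB 31 = true := by decide +kernel

theorem rhB2_0 : allPow (below (nat_lit 819) (rhB rhoB2)) 9 (0 * 2 ^ 9) = true := by decide +kernel

theorem rl13 : allL Rl13 (P.relB fun j => Mt (ren L0.ThFB.P.k (nat_lit 50) j)) = true := by decide +kernel

theorem rB8x4c : DB.repB e X d8 rB8x4 = true := by decide +kernel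

theorem rl21 : allL Rl21 (P.relB fun j => Mt (ren L0.ThFB.P.k (nat_lit 50) j)) = true := by decide +kernel

theorem rl17 : allL Rl17 (P.relB fun j => Mt (ren L0.ThFB.P.k (nat_lit 50) j)) = true := by decide +kernel

theorem rhB1_1 : allPow (below (nat_lit 819) (rhB rhoB1)) 9 (1 * 2 ^ 9) = true := by decide +kernel

theorem df_21 : dfB 21 = true := by decide +kernel

theorem syA14 : DA.sylB e d14 cA14 = true := by decide +kernel

theorem df_28 : dfB 28 = true := by decide +kernel

theorem hP : P.ok2 = true := by decide +kernel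

theorem ptA_0 : allPow (below (nat_lit 819) (LA0.toLv.ptB e.T e.N)) 10 (0 * 2 ^ 10) = true := by decide +kernel

theorem syB1 : DB.sylB e d1 cB1 = true := by decide +kernel

theorem hBA : DA.hB e = true := by decide +kernel

theorem c13l0a : allL c13l0S (e.inT d13) = true := by decide +kernel

theorem c12l0a : allL c12l0S (e.inT d12) = true := by decide +kernel

theorem cbA : chainB e.T e.N e.k (LAs.map SLv.toLv) [LA0.toLv.β] = true := by decide +kernel

theorem c9l1a : allL c9l1S (e.inT d9) = true := by decide +kernel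

theorem c9l0c_0 : allPow (below (nat_lit 27) (L0.levT e.T c9l0S c9l0r c9l0 e.N)) 5 (0 * 2 ^ 5) = true := by decide +kernel

theorem v1l2a : (L0.lettersB e.K (Env.sing v1l2S) && Nat.blt v1l2.β e.M && Nat.ble v1l2.n 324 && Nat.blt (nat_lit 25) v1l2.n &&
    Nat.beq (Nat.land (v1l2r (nat_lit 25)) v1l2.pm) v1l2.β && e.subB v1l2S [] v1l2.β) = true := by decide +kernel

theorem syA1 : DA.sylB e d1 cA1 = true := by decide +kernel

theorem syA12 : DA.sylB e d12 cA12 = true := by decide +kernel

theorem c7l1c_0 : allPow (below (nat_lit 16) (L0.levT e.T c7l1S c7l1r c7l1 e.N)) 4 (0 * 2 ^ 4) = true := by decide +kernel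

theorem c7l1b : (L0.lettersB e.k c7l1S && L0.RAct.fixB e.T c7l1S [c7l0.β] && Nat.blt c7l1.β e.N && Nat.ble c7l1.n 16) = true := by decide +kernel

theorem c11l2b : (L0.lettersB e.k c11l2S && L0.RAct.fixB e.T c11l2S [c11l1.β, c11l0.β] && Nat.blt c11l2.β e.N && Nat.ble c11l2.n 3) = true := by decide +kernel

theorem c14l1b : (L0.lettersB e.k c14l1S && L0.RAct.fixB e.T c14l1S [c14l0.β] && Nat.blt c14l1.β e.N && Nat.ble c14l1.n 2) = true := by decide +kernel

theorem df_3 : dfB 3 = true := by decide +kernel

theorem df_10 : dfB 10 = true := by decide +kernel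

theorem df_33 : dfB 33 = true := by decide +kernel

theorem df_40 : dfB 40 = true := by decide +kernel

theorem df_47 : dfB 47 = true := by decide +kernel

theorem c1l2c_0 : allPow (below (nat_lit 8) (L0.levT e.T c1l2S c1l2r c1l2 e.N)) 3 (0 * 2 ^ 3) = true := by decide +kernel

theorem c11l1c_0 : allPow (below (nat_lit 2) (L0.levT e.T c11l1S c11l1r c11l1 e.N)) 1 (0 * 2 ^ 1) = true := by decide +kernel

end Cfsg.Agent.H9.OTh
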