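import Cfsg.Agent.H9.OThD

/-! Outer automorphisms of the group Th. Checks. -/

set_option autoImplicit false
set_option maxRecDepth 100000

namespace Cfsg.Agent.H9.OTh

set_option Elab.async false

theorem df_55 : dfB 55 = true := by decide +kernel

theorem df_53 : dfB 53 = true := by decide +kernel

theorem rl18 : allL Rl18 (P.relB fun j => Mt (ren L0.ThFB.P.k (nat_lit 50) j)) = true := by decide +kernel

theorem rB1x0c : DB.repB e X d1 rB1x0 = true := by decide +kernel

theorem rl16 : allL Rl16 (P.relB fun j => Mt (ren L0.ThFB.P.k (nat_lit 50) j)) = true := by decide +kernel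

theorem rl3 : allL Rl3 (P.relB fun j => Mt (ren L0.ThFB.P.k (nat_lit 50) j)) = true := by decide +kernel

theorem sA_1 : all2 (((([] :: CLA)).drop (1 * 15)).take 15) (stgB e.U e.K X [] [DA.b] relA DB.b DB.b true false) sAq1 = true := by decide +kernel

theorem rB12x0c : DB.repB e X d12 rB12x0 = true := by decide +kernel

theorem rB14x0c : DB.repB e X d14 rB14x0 = true := by decide +kernel

theorem df_56 : dfB 56 = true := by decide +kernel

theorem rB9x0c : DB.repB e X d9 rB9x0 = true := by decide +kernel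

theorem rhB3_1 : allPow (below (nat_lit 819) (rhB rhoB3)) 9 (1 * 2 ^ 9) = true := by decide +kernel

theorem df_23 : dfB 23 = true := by decide +kernel

theorem rhB0_1 : allPow (below (nat_lit 819) (rhB rhoB0)) 9 (1 * 2 ^ 9) = true := by decide +kernel

theorem v1l2b_0 : allPow (below (nat_lit 324) (e.orbB (Env.sing v1l2S) v1l2r v1l2 v1l2t (nat_lit 512))) 9 (0 * 2 ^ 9) = true := by decide +kernel

theorem df_29 : dfB 29 = true := by decide +kernel

theorem v0l1b_0 : allPow (below (nat_lit 128) (e.orbB (Env.sing v0l1S) v0l1r v0l1 v0l1t (nat_lit 128))) 7 (0 * 2 ^ 7) = true := by decide +kernel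

theorem gn : e.genB X [t2, DB.b, DA.b] (nat_lit 140736414613504) ((LB0 :: LBs).map SLv.toLv) zw (nat_lit 32) hu hv = true := by decide +kernel

theorem v2l1b_0 : allPow (below (nat_lit 50) (e.orbB (Env.sing v2l1S) v2l1r v2l1 v2l1t (nat_lit 64))) 6 (0 * 2 ^ 6) = true := by decide +kernel

theorem c7l1a : allL c7l1S (e.inT d7) = true := by decide +kernel

theorem c8l0c_0 : allPow (below (nat_lit 81) (L0.levT e.T c8l0S c8l0r c8l0 e.N)) 7 (0 * 2 ^ 7) = true := by decide +kernel

theorem bsa : allL bsS (e.inT d10) = true := by decide +kernel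

theorem c11l1a : allL c11l1S (e.inT d11) = true := by decide +kernel

theorem c8l2a : allL c8l2S (e.inT d8) = true := by decide +kernel

theorem c1l2a : allL c1l2S (e.inT d1) = true := by decide +kernel

theorem v1l0a : (L0.lettersB e.K (Env.sing v1l0S) && Nat.blt v1l0.β e.M && Nat.ble v1l0.n 54 && Nat.blt (nat_lit 25) v1l0.n &&
    Nat.beq (Nat.land (v1l0r (nat_lit 25)) v1l0.pm) v1l0.β && e.subB v1l0S v1l1S v1l0.β) = true := by decide +kernel

theorem syA7 : DA.sylB e d7 cA7 = true := by decide +kernel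

theorem c12l0c_0 : allPow (below (nat_lit 24) (L0.levT e.T c12l0S c12l0r c12l0 e.N)) 5 (0 * 2 ^ 5) = true := by decide +kernel

theorem c1l3b : (L0.lettersB e.k c1l3S && L0.RAct.fixB e.T c1l3S [c1l2.β, c1l1.β, c1l0.β] && Nat.blt c1l3.β e.N && Nat.ble c1l3.n 3) = true := by decide +kernel

theorem c6l2b : (L0.lettersB e.k c6l2S && L0.RAct.fixB e.T c6l2S [c6l1.β, c6l0.β] && Nat.blt c6l2.β e.N && Nat.ble c6l2.n 3) = true := by decide +kernel

theorem c8l0b : (L0.lettersB e.k c8l0S && L0.RAct.fixB e.T c8l0S [] && Nat.blt c8l0.β e.N && Nat.ble c8l0.n 81) = true := by decide +kernel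

theorem c12l0b : (L0.lettersB e.k c12l0S && L0.RAct.fixB e.T c12l0S [] && Nat.blt c12l0.β e.N && Nat.ble c12l0.n 24) = true := by decide +kernel

theorem df_0 : dfB 0 = true := by decide +kernel

theorem df_6 : dfB 6 = true := by decide +kernel

theorem df_13 : dfB 13 = true := by decide +kernel

theorem df_36 : dfB 36 = true := by decide +kernel

theorem df_43 : dfB 43 = true := by decide +kernel

theorem df_50 : dfB 50 = true := by decide +kernel

theorem c8l2c_0 : allPow (below (nat_lit 3) (L0.levT e.T c8l2S c8l2r c8l2 e.N)) 2 (0 * 2 ^ 2) = true := by decide +kernel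

theorem c11l2c_0 : allPow (below (nat_lit 3) (L0.levT e.T c11l2S c11l2r c11l2 e.N)) 2 (0 * 2 ^ 2) = true := by decide +kernel

end Cfsg.Agent.H9.OTh
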