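import Cfsg.Agent.H9.OThD

/-! Outer automorphisms of the group Th. Checks. -/

set_option autoImplicit false
set_option maxRecDepth 100000

namespace Cfsg.Agent.H9.OTh

set_option Elab.async false

theorem df_66 : dfB 66 = true := by decide +kernel

theorem df_61 : dfB 61 = true := by decide +kernel

theorem df_71 : dfB 71 = true := by decide +kernel

theorem rl2 : allL Rl2 (P.relB fun j => Mt (ren L0.ThFB.P.k (nat_lit 50) j)) = true := by decide +kernel

theorem df_58 : dfB 58 = true := by decide +kernel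

theorem rl4 : allL Rl4 (P.relB fun j => Mt (ren L0.ThFB.P.k (nat_lit 50) j)) = true := by decide +kernel

theorem slp_2 : allPow (below (nat_lit 819) (slpB (mix L0.ThFB.P.k L0.ThFB.P.T T1) WH L0.ThFB.P.k)) 8 (2 * 2 ^ 8) = true := by decide +kernel

theorem rB11x1c : DB.repB e X d11 rB11x1 = true := by decide +kernel

theorem rB8x1c : DB.repB e X d8 rB8x1 = true := by decide +kernel

theorem rB8x0c : DB.repB e X d8 rB8x0 = true := by decide +kernel

theorem rB7x1c : DB.repB e X d7 rB7x1 = true := by decide +kernel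

theorem rl12 : allL Rl12 (P.relB fun j => Mt (ren L0.ThFB.P.k (nat_lit 50) j)) = true := by decide +kernel

theorem df_62 : dfB 62 = true := by decide +kernel

theorem df_20 : dfB 20 = true := by decide +kernel

theorem hsB : (invB e.T e.k e.B iv && ltB e.k DB.y && statSB e.T e.k e.B DB.y (LB0 :: LBs) [] &&
    DB.linkB (LB0 :: LBs) && centB e.T iv (tr e.T DB.y) LBs (genP (tr e.T DB.y) [] LB0.xs LB0.β) &&
    allL DB.rho (ltB e.k)) = true := by decide +kernel

theorem df_25 : dfB 25 = true := by decide +kernel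

theorem c6l0c_0 : allPow (below (nat_lit 512) (L0.levT e.T c6l0S c6l0r c6l0 e.N)) 9 (0 * 2 ^ 9) = true := by decide +kernel

theorem syB12 : DB.sylB e d12 cB12 = true := by decide +kernel

theorem v2l0b_0 : allPow (below (nat_lit 60) (e.orbB (Env.sing v2l0S) v2l0r v2l0 v2l0t (nat_lit 64))) 6 (0 * 2 ^ 6) = true := by decide +kernel

theorem ab : abB e.U e.K X DA.b DB.b 13 2 (143127000 * 634023936) reps relA = true := by decide +kernel

theorem bsc_0 : allPow (below (nat_lit 6) (L0.levT e.U bsS bsr bs e.M)) 3 (0 * 2 ^ 3) = true := by decide +kernel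

theorem syB10 : DB.sylB e d10 cB10 = true := by decide +kernel

theorem v3l0b_0 : allPow (below (nat_lit 19) (e.orbB (Env.sing v3l0S) v3l0r v3l0 v3l0t (nat_lit 32))) 5 (0 * 2 ^ 5) = true := by decide +kernel

theorem c1l3a : allL c1l3S (e.inT d1) = true := by decide +kernel

theorem c1l0a : allL c1l0S (e.inT d1) = true := by decide +kernel

theorem v2l1a : (L0.lettersB e.K (Env.sing v2l1S) && Nat.blt v2l1.β e.M && Nat.ble v2l1.n 50 && Nat.blt (nat_lit 31) v2l1.n &&
    Nat.beq (Nat.land (v2l1r (nat_lit 31)) v2l1.pm) v2l1.β && e.subB v2l1S [] v2l1.β) = true := by decide +kernel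

theorem syA8 : DA.sylB e d8 cA8 = true := by decide +kernel

theorem gBA : DA.gB e X = true := by decide +kernel

theorem c1l2b : (L0.lettersB e.k c1l2S && L0.RAct.fixB e.T c1l2S [c1l1.β, c1l0.β] && Nat.blt c1l2.β e.N && Nat.ble c1l2.n 8) = true := by decide +kernel

theorem c7l0b : (L0.lettersB e.k c7l0S && L0.RAct.fixB e.T c7l0S [] && Nat.blt c7l0.β e.N && Nat.ble c7l0.n 18) = true := by decide +kernel

theorem c11l1b : (L0.lettersB e.k c11l1S && L0.RAct.fixB e.T c11l1S [c11l0.β] && Nat.blt c11l1.β e.N && Nat.ble c11l1.n 2) = true := by decide +kernel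

theorem c14l0b : (L0.lettersB e.k c14l0S && L0.RAct.fixB e.T c14l0S [] && Nat.blt c14l0.β e.N && Nat.ble c14l0.n 39) = true := by decide +kernel

theorem df_4 : dfB 4 = true := by decide +kernel

theorem df_11 : dfB 11 = true := by decide +kernel

theorem df_34 : dfB 34 = true := by decide +kernel

theorem df_41 : dfB 41 = true := by decide +kernel

theorem df_48 : dfB 48 = true := by decide +kernel

theorem c1l3c_0 : allPow (below (nat_lit 3) (L0.levT e.T c1l3S c1l3r c1l3 e.N)) 2 (0 * 2 ^ 2) = true := by decide +kernel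

theorem c1l0c_0 : allPow (below (nat_lit 3) (L0.levT e.T c1l0S c1l0r c1l0 e.N)) 2 (0 * 2 ^ 2) = true := by decide +kernel

end Cfsg.Agent.H9.OTh
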