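import Cfsg.Agent.H9.OThC0
import Cfsg.Agent.H9.OThC1
import Cfsg.Agent.H9.OThC2
import Cfsg.Agent.H9.OThC3
import Cfsg.Agent.H9.OThC4
import Cfsg.Agent.H9.OThC5
import Cfsg.Agent.H9.OThC6

/-! Outer automorphisms of the group Th. -/

set_option autoImplicit false
set_option maxRecDepth 100000

namespace Cfsg.Agent.H9.OTh

theorem slp : ∀ i < 819, (slpB (mix L0.ThFB.P.k L0.ThFB.P.T T1) WH L0.ThFB.P.k) i = true :=
  all_of_blocks (d := 8) (m := 4) (by decide) (forall_lt_succ'' (forall_lt_succ'' (forall_lt_succ'' (forall_lt_succ'' forall_lt_zero'' slp_0) slp_1) slp_2) slp_3)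

theorem rel : ∀ r ∈ Rl, P.relB (fun j => Mt (ren L0.ThFB.P.k (nat_lit 50) j)) r = true :=
  List.forall_mem_append.mpr ⟨(allL_iff _ _).mp rl0, List.forall_mem_append.mpr ⟨(allL_iff _ _).mp rl1, List.forall_mem_append.mpr ⟨(allL_iff _ _).mp rl2, List.forall_mem_append.mpr ⟨(allL_iff _ _).mp rl3, List.forall_mem_append.mpr ⟨(allL_iff _ _).mp rl4, List.forall_mem_append.mpr ⟨(allL_iff _ _).mp rl5, List.forall_mem_append.mpr ⟨(allL_iff _ _).mp rl6, List.forall_mem_append.mpr ⟨(allL_iff _ _).mp rl7, List.forall_mem_append.mpr ⟨(allL_iff _ _).mp rl8, List.forall_mem_append.mpr ⟨(allL_iff _ _).mp rl9, List.forall_mem_append.mpr ⟨(allL_iff _ _).mp rl10, List.forall_mem_append.mpr ⟨(allL_iff _ _).mp rl11, List.forall_mem_append.mpr ⟨(allL_iff _ _).mp rl12, List.forall_mem_append.mpr ⟨(allL_iff _ _).mp rl13, List.forall_mem_append.mpr ⟨(allL_iff _ _).mp rl14, List.forall_mem_append.mpr ⟨(allL_iff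 _ _).mp rl15, List.forall_mem_append.mpr ⟨(allL_iff _ _).mp rl16, List.forall_mem_append.mpr ⟨(allL_iff _ _).mp rl17, List.forall_mem_append.mpr ⟨(allL_iff _ _).mp rl18, List.forall_mem_append.mpr ⟨(allL_iff _ _).mp rl19, List.forall_mem_append.mpr ⟨(allL_iff _ _).mp rl20, List.forall_mem_append.mpr ⟨(allL_iff _ _).mp rl21, (allL_iff _ _).mp rl22⟩⟩⟩⟩⟩⟩⟩⟩⟩⟩⟩⟩⟩⟩⟩⟩⟩⟩⟩⟩⟩⟩

theorem df_a0 : ∀ j < 30, dfB j = true :=
  (forall_lt_succ'' (forall_lt_succ'' (forall_lt_succ'' (forall_lt_succ'' (forall_lt_succ'' (forall_lt_succ'' (forall_lt_succ'' (forall_lt_succ'' (forall_lt_succ'' (forall_lt_succ'' (forall_lt_succ'' (forall_lt_succ'' (forall_lt_succ'' (forall_lt_succ'' (forall_lt_succ'' (forall_lt_succ'' (forall_lt_succ'' (forall_lt_succ'' (forall_lt_succ'' (forall_lt_succ'' (forall_lt_succ'' (forall_lt_succ'' (forall_lt_succ'' (forall_lt_succ'' (forall_lt_succ'' (forall_lt_succ'' (forall_lt_succ''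 (forall_lt_succ'' (forall_lt_succ'' (forall_lt_succ'' forall_lt_zero'' df_0) df_1) df_2) df_3) df_4) df_5) df_6) df_7) df_8) df_9) df_10) df_11) df_12) df_13) df_14) df_15) df_16) df_17) df_18) df_19) df_20) df_21) df_22) df_23) df_24) df_25) df_26) df_27) df_28) df_29)

theorem df_a30 : ∀ j < 60, dfB j = true :=
  (forall_lt_succ'' (forall_lt_succ'' (forall_lt_succ'' (forall_lt_succ'' (forall_lt_succ'' (forall_lt_succ'' (forall_lt_succ'' (forall_lt_succ'' (forall_lt_succ'' (forall_lt_succ'' (forall_lt_succ'' (forall_lt_succ'' (forall_lt_succ'' (forall_lt_succ'' (forall_lt_succ'' (forall_lt_succ'' (forall_lt_succ'' (forall_lt_succ'' (forall_lt_succ'' (forall_lt_succ'' (forall_lt_succ'' (forall_lt_succ'' (forall_lt_succ'' (forall_lt_succ'' (forall_lt_succ'' (forall_lt_succ'' (forall_lt_succ'' (forall_lt_succ'' (forall_lt_succ'' (forall_lt_succ'' df_a0 df_30) df_31) df_32) df_33) df_34) df_35)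 df_36) df_37) df_38) df_39) df_40) df_41) df_42) df_43) df_44) df_45) df_46) df_47) df_48) df_49) df_50) df_51) df_52) df_53) df_54) df_55) df_56) df_57) df_58) df_59)

theorem df : ∀ j < 72, dfB j = true :=
  (forall_lt_succ'' (forall_lt_succ'' (forall_lt_succ'' (forall_lt_succ'' (forall_lt_succ'' (forall_lt_succ'' (forall_lt_succ'' (forall_lt_succ'' (forall_lt_succ'' (forall_lt_succ'' (forall_lt_succ'' (forall_lt_succ'' df_a30 df_60) df_61) df_62) df_63) df_64) df_65) df_66) df_67) df_68) df_69) df_70) df_71)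

theorem c1l3c : ∀ i < 3, (L0.levT e.T c1l3S c1l3r c1l3 e.N) i = true :=
  all_of_blocks (d := 2) (m := 1) (by decide) (forall_lt_succ'' forall_lt_zero'' c1l3c_0)

theorem c1l2c : ∀ i < 8, (L0.levT e.T c1l2S c1l2r c1l2 e.N) i = true :=
  all_of_blocks (d := 3) (m := 1) (by decide) (forall_lt_succ'' forall_lt_zero'' c1l2c_0)

theorem c1l1c : ∀ i < 512, (L0.levT e.T c1l1S c1l1r c1l1 e.N) i = true :=
  all_of_blocks (d := 9) (m := 1) (by decide) (forall_lt_succ'' forall_lt_zero'' c1l1c_0)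

theorem c1l0c : ∀ i < 3, (L0.levT e.T c1l0S c1l0r c1l0 e.N) i = true :=
  all_of_blocks (d := 2) (m := 1) (by decide) (forall_lt_succ'' forall_lt_zero'' c1l0c_0)

theorem c6l2c : ∀ i < 3, (L0.levT e.T c6l2S c6l2r c6l2 e.N) i = true :=
  all_of_blocks (d := 2) (m := 1) (by decide) (forall_lt_succ'' forall_lt_zero'' c6l2c_0)

theorem c6l1c : ∀ i < 9, (L0.levT e.T c6l1S c6l1r c6l1 e.N) i = true :=
  all_of_blocks (d := 4) (m := 1) (by decide) (forall_lt_succ'' forall_lt_zero'' c6l1c_0)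

theorem c6l0c : ∀ i < 512, (L0.levT e.T c6l0S c6l0r c6l0 e.N) i = true :=
  all_of_blocks (d := 9) (m := 1) (by decide) (forall_lt_succ'' forall_lt_zero'' c6l0c_0)

theorem c7l1c : ∀ i < 16, (L0.levT e.T c7l1S c7l1r c7l1 e.N) i = true :=
  all_of_blocks (d := 4) (m := 1) (by decide) (forall_lt_succ'' forall_lt_zero'' c7l1c_0)

theorem c7l0c : ∀ i < 18, (L0.levT e.T c7l0S c7l0r c7l0 e.N) i = true :=
  all_of_blocks (d := 5) (m := 1) (by decide) (forall_lt_succ'' forall_lt_zero'' c7l0c_0)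

theorem c8l2c : ∀ i < 3, (L0.levT e.T c8l2S c8l2r c8l2 e.N) i = true :=
  all_of_blocks (d := 2) (m := 1) (by decide) (forall_lt_succ'' forall_lt_zero'' c8l2c_0)

theorem c8l1c : ∀ i < 2, (L0.levT e.T c8l1S c8l1r c8l1 e.N) i = true :=
  all_of_blocks (d := 1) (m := 1) (by decide) (forall_lt_succ'' forall_lt_zero'' c8l1c_0)

theorem c8l0c : ∀ i < 81, (L0.levT e.T c8l0S c8l0r c8l0 e.N) i = true :=
  all_of_blocks (d := 7) (m := 1) (by decide) (forall_lt_succ'' forall_lt_zero'' c8l0c_0)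

theorem c9l1c : ∀ i < 2, (L0.levT e.T c9l1S c9l1r c9l1 e.N) i = true :=
  all_of_blocks (d := 1) (m := 1) (by decide) (forall_lt_succ'' forall_lt_zero'' c9l1c_0)

theorem c9l0c : ∀ i < 27, (L0.levT e.T c9l0S c9l0r c9l0 e.N) i = true :=
  all_of_blocks (d := 5) (m := 1) (by decide) (forall_lt_succ'' forall_lt_zero'' c9l0c_0)

theorem c11l2c : ∀ i < 3, (L0.levT e.T c11l2S c11l2r c11l2 e.N) i = true :=
  all_of_blocks (d := 2) (m := 1) (by decide) (forall_lt_succ'' forall_lt_zero'' c11l2c_0)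

theorem c11l1c : ∀ i < 2, (L0.levT e.T c11l1S c11l1r c11l1 e.N) i = true :=
  all_of_blocks (d := 1) (m := 1) (by decide) (forall_lt_succ'' forall_lt_zero'' c11l1c_0)

theorem c11l0c : ∀ i < 21, (L0.levT e.T c11l0S c11l0r c11l0 e.N) i = true :=
  all_of_blocks (d := 5) (m := 1) (by decide) (forall_lt_succ'' forall_lt_zero'' c11l0c_0)

theorem c12l1c : ∀ i < 3, (L0.levT e.T c12l1S c12l1r c12l1 e.N) i = true :=
  all_of_blocks (d := 2) (m := 1) (by decide) (forall_lt_succ'' forall_lt_zero'' c12l1c_0)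

theorem c12l0c : ∀ i < 24, (L0.levT e.T c12l0S c12l0r c12l0 e.N) i = true :=
  all_of_blocks (d := 5) (m := 1) (by decide) (forall_lt_succ'' forall_lt_zero'' c12l0c_0)

theorem c13l1c : ∀ i < 24, (L0.levT e.T c13l1S c13l1r c13l1 e.N) i = true :=
  all_of_blocks (d := 5) (m := 1) (by decide) (forall_lt_succ'' forall_lt_zero'' c13l1c_0)

theorem c13l0c : ∀ i < 147, (L0.levT e.T c13l0S c13l0r c13l0 e.N) i = true :=
  all_of_blocks (d := 8) (m := 1) (by decide) (forall_lt_succ'' forall_lt_zero'' c13l0c_0)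

theorem c14l1c : ∀ i < 2, (L0.levT e.T c14l1S c14l1r c14l1 e.N) i = true :=
  all_of_blocks (d := 1) (m := 1) (by decide) (forall_lt_succ'' forall_lt_zero'' c14l1c_0)

theorem c14l0c : ∀ i < 39, (L0.levT e.T c14l0S c14l0r c14l0 e.N) i = true :=
  all_of_blocks (d := 6) (m := 1) (by decide) (forall_lt_succ'' forall_lt_zero'' c14l0c_0)

theorem bsc : ∀ i < 6, (L0.levT e.U bsS bsr bs e.M) i = true :=
  all_of_blocks (d := 3) (m := 1) (by decide) (forall_lt_succ'' forall_lt_zero'' bsc_0)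

theorem v0l2b : ∀ i < 96, (e.orbB (Env.sing v0l2S) v0l2r v0l2 v0l2t (nat_lit 128)) i = true :=
  all_of_blocks (d := 7) (m := 1) (by decide) (forall_lt_succ'' forall_lt_zero'' v0l2b_0)

theorem v0l1b : ∀ i < 128, (e.orbB (Env.sing v0l1S) v0l1r v0l1 v0l1t (nat_lit 128)) i = true :=
  all_of_blocks (d := 7) (m := 1) (by decide) (forall_lt_succ'' forall_lt_zero'' v0l1b_0)

theorem v0l0b : ∀ i < 56, (e.orbB (Env.sing v0l0S) v0l0r v0l0 v0l0t (nat_lit 64)) i = true :=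
  all_of_blocks (d := 6) (m := 1) (by decide) (forall_lt_succ'' forall_lt_zero'' v0l0b_0)

theorem v1l2b : ∀ i < 324, (e.orbB (Env.sing v1l2S) v1l2r v1l2 v1l2t (nat_lit 512)) i = true :=
  all_of_blocks (d := 9) (m := 1) (by decide) (forall_lt_succ'' forall_lt_zero'' v1l2b_0)

theorem v1l1b : ∀ i < 27, (e.orbB (Env.sing v1l1S) v1l1r v1l1 v1l1t (nat_lit 32)) i = true :=
  all_of_blocks (d := 5) (m := 1) (by decide) (forall_lt_succ'' forall_lt_zero'' v1l1b_0)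

theorem v1l0b : ∀ i < 54, (e.orbB (Env.sing v1l0S) v1l0r v1l0 v1l0t (nat_lit 64)) i = true :=
  all_of_blocks (d := 6) (m := 1) (by decide) (forall_lt_succ'' forall_lt_zero'' v1l0b_0)

theorem v2l1b : ∀ i < 50, (e.orbB (Env.sing v2l1S) v2l1r v2l1 v2l1t (nat_lit 64)) i = true :=
  all_of_blocks (d := 6) (m := 1) (by decide) (forall_lt_succ'' forall_lt_zero'' v2l1b_0)

theorem v2l0b : ∀ i < 60, (e.orbB (Env.sing v2l0S) v2l0r v2l0 v2l0t (nat_lit 64)) i = true :=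
  all_of_blocks (d := 6) (m := 1) (by decide) (forall_lt_succ'' forall_lt_zero'' v2l0b_0)

theorem v3l0b : ∀ i < 19, (e.orbB (Env.sing v3l0S) v3l0r v3l0 v3l0t (nat_lit 32)) i = true :=
  all_of_blocks (d := 5) (m := 1) (by decide) (forall_lt_succ'' forall_lt_zero'' v3l0b_0)

theorem v4l0b : ∀ i < 31, (e.orbB (Env.sing v4l0S) v4l0r v4l0 v4l0t (nat_lit 32)) i = true :=
  all_of_blocks (d := 5) (m := 1) (by decide) (forall_lt_succ'' forall_lt_zero'' v4l0b_0)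

theorem ptA : ∀ i < 819, (LA0.toLv.ptB e.T e.N) i = true :=
  all_of_blocks (d := 10) (m := 1) (by decide) (forall_lt_succ'' forall_lt_zero'' ptA_0)

theorem chA : ChainChk e.T e.N e.k ((LA0 :: LAs).map SLv.toLv) [] :=
  ⟨stA, ptA, chainChk_of cbA⟩

theorem scA : ∀ i < 819, (scanB e.T iv (tr e.T DA.y) LA0 LAs []) i = true :=
  all_of_blocks (d := 10) (m := 1) (by decide) (forall_lt_succ'' forall_lt_zero'' scA_0)

theorem h3A : ∀ d ∈ Wd, ∃ c : CC, DA.sylB e d c = true ∧ ∀ r ∈ c.reps, DA.repB e X d r = true :=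
  List.forall_mem_cons.mpr ⟨⟨cA1, syA1, fun _ h => absurd h List.not_mem_nil⟩, List.forall_mem_cons.mpr ⟨⟨cA6, syA6, fun _ h => absurd h List.not_mem_nil⟩, List.forall_mem_cons.mpr ⟨⟨cA7, syA7, fun _ h => absurd h List.not_mem_nil⟩, List.forall_mem_cons.mpr ⟨⟨cA8, syA8, fun _ h => absurd h List.not_mem_nil⟩, List.forall_mem_cons.mpr ⟨⟨cA9, syA9, fun _ h => absurd h List.not_mem_nil⟩, List.forall_mem_cons.mpr ⟨⟨cA10, syA10, fun _ h => absurd h List.not_mem_nil⟩, List.forall_mem_cons.mpr ⟨⟨cA11, syA11, fun _ h => absurd h List.not_mem_nil⟩, List.forall_mem_cons.mpr ⟨⟨cA12, syA12, fun _ h => absurd h List.not_mem_nil⟩, List.forall_mem_cons.mpr ⟨⟨cA13, syA13, fun _ h => absurd h List.not_mem_nil⟩, List.forall_mem_cons.mpr ⟨⟨cA14, syA14, List.forall_mem_cons.mpr ⟨rA14x0c, List.forall_mem_cons.mpr ⟨rA14x1c, fun _ h => absurd h List.not_mem_nil⟩⟩⟩, fun _ h => absurd h List.not_mem_nil⟩⟩⟩⟩⟩⟩⟩⟩⟩⟩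

theorem clA : ∀ c ∈ ([] :: CLA), ∃ q, (clE e.U e.K X ([] :: CLA) (DA.DH ++ DA.DG)) c q = true :=
  forall_chunks 39 1 (forall_lt_succ'' forall_lt_zero'' (all2_ex clA_0)) (by decide +kernel)

theorem ptB : ∀ i < 819, (LB0.toLv.ptB e.T e.N) i = true :=
  all_of_blocks (d := 10) (m := 1) (by decide) (forall_lt_succ'' forall_lt_zero'' ptB_0)

theorem chB : ChainChk e.T e.N e.k ((LB0 :: LBs).map SLv.toLv) [] :=
  ⟨stB, ptB, chainChk_of cbB⟩

theorem scB : ∀ i < 819, (scanB e.T iv (tr e.T DB.y) LB0 LBs []) i = true :=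
  all_of_blocks (d := 10) (m := 1) (by decide) (forall_lt_succ'' forall_lt_zero'' scB_0)

theorem rhB0 : ∀ i < 819, (rhB rhoB0) i = true :=
  all_of_blocks (d := 9) (m := 2) (by decide) (forall_lt_succ'' (forall_lt_succ'' forall_lt_zero'' rhB0_0) rhB0_1)

theorem rhB1 : ∀ i < 819, (rhB rhoB1) i = true :=
  all_of_blocks (d := 9) (m := 2) (by decide) (forall_lt_succ'' (forall_lt_succ'' forall_lt_zero'' rhB1_0) rhB1_1)

theorem rhB2 : ∀ i < 819, (rhB rhoB2) i = true :=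
  all_of_blocks (d := 9) (m := 2) (by decide) (forall_lt_succ'' (forall_lt_succ'' forall_lt_zero'' rhB2_0) rhB2_1)

theorem rhB3 : ∀ i < 819, (rhB rhoB3) i = true :=
  all_of_blocks (d := 9) (m := 2) (by decide) (forall_lt_succ'' (forall_lt_succ'' forall_lt_zero'' rhB3_0) rhB3_1)

theorem rhB4 : ∀ i < 819, (rhB rhoB4) i = true :=
  all_of_blocks (d := 9) (m := 2) (by decide) (forall_lt_succ'' (forall_lt_succ'' forall_lt_zero'' rhB4_0) rhB4_1)

theorem h3B : ∀ d ∈ Wd, ∃ c : CC, DB.sylB e d c = true ∧ ∀ r ∈ c.reps, DB.repB e X d r = true :=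
  List.forall_mem_cons.mpr ⟨⟨cB1, syB1, List.forall_mem_cons.mpr ⟨rB1x0c, fun _ h => absurd h List.not_mem_nil⟩⟩, List.forall_mem_cons.mpr ⟨⟨cB6, syB6, fun _ h => absurd h List.not_mem_nil⟩, List.forall_mem_cons.mpr ⟨⟨cB7, syB7, List.forall_mem_cons.mpr ⟨rB7x0c, List.forall_mem_cons.mpr ⟨rB7x1c, fun _ h => absurd h List.not_mem_nil⟩⟩⟩, List.forall_mem_cons.mpr ⟨⟨cB8, syB8, List.forall_mem_cons.mpr ⟨rB8x0c, List.forall_mem_cons.mpr ⟨rB8x1c, List.forall_mem_cons.mpr ⟨rB8x2c, List.forall_mem_cons.mpr ⟨rB8x3c, List.forall_mem_cons.mpr ⟨rB8x4c, fun _ h => absurd h List.not_mem_nil⟩⟩⟩⟩⟩⟩, List.forall_mem_cons.mpr ⟨⟨cB9, syB9, List.forall_mem_cons.mpr ⟨rB9x0c, List.forall_mem_cons.mpr ⟨rB9x1c, fun _ h => absurd h List.not_mem_nil⟩⟩⟩, List.forall_mem_cons.mpr ⟨⟨cB10, syB10, fun _ h => absurd h List.not_mem_nil⟩, List.forall_mem_cons.mpr ⟨⟨cB11, syB11, List.forall_mem_cons.mpr ⟨rB11x0c, List.forall_mem_cons.mpr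 ⟨rB11x1c, fun _ h => absurd h List.not_mem_nil⟩⟩⟩, List.forall_mem_cons.mpr ⟨⟨cB12, syB12, List.forall_mem_cons.mpr ⟨rB12x0c, List.forall_mem_cons.mpr ⟨rB12x1c, fun _ h => absurd h List.not_mem_nil⟩⟩⟩, List.forall_mem_cons.mpr ⟨⟨cB13, syB13, List.forall_mem_cons.mpr ⟨rB13x0c, List.forall_mem_cons.mpr ⟨rB13x1c, fun _ h => absurd h List.not_mem_nil⟩⟩⟩, List.forall_mem_cons.mpr ⟨⟨cB14, syB14, List.forall_mem_cons.mpr ⟨rB14x0c, fun _ h => absurd h List.not_mem_nil⟩⟩, fun _ h => absurd h List.not_mem_nil⟩⟩⟩⟩⟩⟩⟩⟩⟩⟩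

theorem clB : ∀ c ∈ ([] :: CLB), ∃ q, (clE e.U e.K X ([] :: CLB) (DB.DH ++ DB.DG)) c q = true :=
  forall_chunks 24 1 (forall_lt_succ'' forall_lt_zero'' (all2_ex clB_0)) (by decide +kernel)

theorem sA : ∀ c ∈ ([] :: CLA), ∃ q, (stgB e.U e.K X [] [DA.b] relA DB.b DB.b true false) c q = true :=
  forall_chunks 15 3 (forall_lt_succ'' (forall_lt_succ'' (forall_lt_succ'' forall_lt_zero'' (all2_ex sA_0)) (all2_ex sA_1)) (all2_ex sA_2)) (by decide +kernel)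

theorem sB0 : ∀ c ∈ ([] :: CLB), ∃ q, (stgB e.U e.K X [DB.b, aw0] [DB.b, aw0] relB t2 t2 ([DB.b, aw0] == [DB.b, DA.b]) false) c q = true :=
  forall_chunks 24 1 (forall_lt_succ'' forall_lt_zero'' (all2_ex sB0_0)) (by decide +kernel)

set_option linter.unusedSectionVars false
set_option linter.style.haveILetI false

section
variable {H G : Type} [Group H] [Group G] [Finite H] [Finite G] {A : RA H e.N} {g : ℕ → H}
  {V : RA G e.M} {γ : ℕ → G} {φ : H →* G}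

theorem le1 (C : Ctx e A g V γ φ Wd) : d1.s ≤ Nat.card (TT φ (L0.ev γ d1.w)) :=
  le_of_eq_of_le (b := c1l0.n * (c1l1.n * (c1l2.n * (c1l3.n * (1))))) (by decide +kernel) (ChB.le (chB_cons (C.lev (.head _) (L0.ofRA_tab C.tab) c1l0a c1l0b c1l0c) (chB_cons (C.lev (.head _) (L0.ofRA_tab C.tab) c1l1a c1l1b c1l1c) (chB_cons (C.lev (.head _) (L0.ofRA_tab C.tab) c1l2a c1l2b c1l2c) (chB_cons (C.lev (.head _) (L0.ofRA_tab C.tab) c1l3a c1l3b c1l3c) chB_nil)))))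

theorem le6 (C : Ctx e A g V γ φ Wd) : d6.s ≤ Nat.card (TT φ (L0.ev γ d6.w)) :=
  le_of_eq_of_le (b := c6l0.n * (c6l1.n * (c6l2.n * (1)))) (by decide +kernel) (ChB.le (chB_cons (C.lev (.tail _ (.head _)) (L0.ofRA_tab C.tab) c6l0a c6l0b c6l0c) (chB_cons (C.lev (.tail _ (.head _)) (L0.ofRA_tab C.tab) c6l1a c6l1b c6l1c) (chB_cons (C.lev (.tail _ (.head _)) (L0.ofRA_tab C.tab) c6l2a c6l2b c6l2c) chB_nil))))

theorem le7 (C : Ctx e A g V γ φ Wd) : d7.s ≤ Nat.card (TT φ (L0.ev γ d7.w)) :=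
  le_of_eq_of_le (b := c7l0.n * (c7l1.n * (1))) (by decide +kernel) (ChB.le (chB_cons (C.lev (.tail _ (.tail _ (.head _))) (L0.ofRA_tab C.tab) c7l0a c7l0b c7l0c) (chB_cons (C.lev (.tail _ (.tail _ (.head _))) (L0.ofRA_tab C.tab) c7l1a c7l1b c7l1c) chB_nil)))

theorem le8 (C : Ctx e A g V γ φ Wd) : d8.s ≤ Nat.card (TT φ (L0.ev γ d8.w)) :=
  le_of_eq_of_le (b := c8l0.n * (c8l1.n * (c8l2.n * (1)))) (by decide +kernel) (ChB.le (chB_cons (C.lev (.tail _ (.tail _ (.tail _ (.head _)))) (L0.ofRA_tab C.tab) c8l0a c8l0b c8l0c) (chB_cons (C.lev (.tail _ (.tail _ (.tail _ (.head _)))) (L0.ofRA_tab C.tab) c8l1a c8l1b c8l1c) (chB_cons (C.lev (.tail _ (.tail _ (.tail _ (.head _)))) (L0.ofRA_tab C.tab) c8l2a c8l2b c8l2c) chB_nil))))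

theorem le9 (C : Ctx e A g V γ φ Wd) : d9.s ≤ Nat.card (TT φ (L0.ev γ d9.w)) :=
  le_of_eq_of_le (b := c9l0.n * (c9l1.n * (1))) (by decide +kernel) (ChB.le (chB_cons (C.lev (.tail _ (.tail _ (.tail _ (.tail _ (.head _))))) (L0.ofRA_tab C.tab) c9l0a c9l0b c9l0c) (chB_cons (C.lev (.tail _ (.tail _ (.tail _ (.tail _ (.head _))))) (L0.ofRA_tab C.tab) c9l1a c9l1b c9l1c) chB_nil)))

theorem le11 (C : Ctx e A g V γ φ Wd) : d11.s ≤ Nat.card (TT φ (L0.ev γ d11.w)) :=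
  le_of_eq_of_le (b := c11l0.n * (c11l1.n * (c11l2.n * (1)))) (by decide +kernel) (ChB.le (chB_cons (C.lev (.tail _ (.tail _ (.tail _ (.tail _ (.tail _ (.tail _ (.head _))))))) (L0.ofRA_tab C.tab) c11l0a c11l0b c11l0c) (chB_cons (C.lev (.tail _ (.tail _ (.tail _ (.tail _ (.tail _ (.tail _ (.head _))))))) (L0.ofRA_tab C.tab) c11l1a c11l1b c11l1c) (chB_cons (C.lev (.tail _ (.tail _ (.tail _ (.tail _ (.tail _ (.tail _ (.head _))))))) (L0.ofRA_tab C.tab) c11l2a c11l2b c11l2c) chB_nil))))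

theorem le12 (C : Ctx e A g V γ φ Wd) : d12.s ≤ Nat.card (TT φ (L0.ev γ d12.w)) :=
  le_of_eq_of_le (b := c12l0.n * (c12l1.n * (1))) (by decide +kernel) (ChB.le (chB_cons (C.lev (.tail _ (.tail _ (.tail _ (.tail _ (.tail _ (.tail _ (.tail _ (.head _)))))))) (L0.ofRA_tab C.tab) c12l0a c12l0b c12l0c) (chB_cons (C.lev (.tail _ (.tail _ (.tail _ (.tail _ (.tail _ (.tail _ (.tail _ (.head _)))))))) (L0.ofRA_tab C.tab) c12l1a c12l1b c12l1c) chB_nil)))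

theorem le13 (C : Ctx e A g V γ φ Wd) : d13.s ≤ Nat.card (TT φ (L0.ev γ d13.w)) :=
  le_of_eq_of_le (b := c13l0.n * (c13l1.n * (1))) (by decide +kernel) (ChB.le (chB_cons (C.lev (.tail _ (.tail _ (.tail _ (.tail _ (.tail _ (.tail _ (.tail _ (.tail _ (.head _))))))))) (L0.ofRA_tab C.tab) c13l0a c13l0b c13l0c) (chB_cons (C.lev (.tail _ (.tail _ (.tail _ (.tail _ (.tail _ (.tail _ (.tail _ (.tail _ (.head _))))))))) (L0.ofRA_tab C.tab) c13l1a c13l1b c13l1c) chB_nil)))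

theorem le14 (C : Ctx e A g V γ φ Wd) : d14.s ≤ Nat.card (TT φ (L0.ev γ d14.w)) :=
  le_of_eq_of_le (b := c14l0.n * (c14l1.n * (1))) (by decide +kernel) (ChB.le (chB_cons (C.lev (.tail _ (.tail _ (.tail _ (.tail _ (.tail _ (.tail _ (.tail _ (.tail _ (.tail _ (.head _)))))))))) (L0.ofRA_tab C.tab) c14l0a c14l0b c14l0c) (chB_cons (C.lev (.tail _ (.tail _ (.tail _ (.tail _ (.tail _ (.tail _ (.tail _ (.tail _ (.tail _ (.head _)))))))))) (L0.ofRA_tab C.tab) c14l1a c14l1b c14l1c) chB_nil)))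

theorem chb (C : Ctx e A g V γ φ Wd) : ChB ((L0.ofRA V).comap φ) (TT φ (L0.ev γ d10.w)) [] [bs.β] d10.s :=
  (show bs.n * 1 = d10.s by decide +kernel) ▸ chB_cons (C.lev (.tail _ (.tail _ (.tail _ (.tail _ (.tail _ (.head _)))))) C.tabV bsa bsb bsc) chB_nil

theorem le10 (C : Ctx e A g V γ φ Wd) : d10.s ≤ Nat.card (TT φ (L0.ev γ d10.w)) := (chb C).le

theorem dv0 (C : Ctx e A g V γ φ Wd) : 688128 ∣ Nat.card G :=
  (show v0l0.n * (v0l1.n * (v0l2.n * (1))) = 688128 by decide +kernel) ▸ (C.dvd_step v0l0a v0l0b (C.dvd_step v0l1a v0l1b (C.dvd_step v0l2a v0l2b (one_dvd _)))).trans (Subgroup.card_subgroup_dvd_card _)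

theorem dv1 (C : Ctx e A g V γ φ Wd) : 472392 ∣ Nat.card G :=
  (show v1l0.n * (v1l1.n * (v1l2.n * (1))) = 472392 by decide +kernel) ▸ (C.dvd_step v1l0a v1l0b (C.dvd_step v1l1a v1l1b (C.dvd_step v1l2a v1l2b (one_dvd _)))).trans (Subgroup.card_subgroup_dvd_card _)

theorem dv2 (C : Ctx e A g V γ φ Wd) : 3000 ∣ Nat.card G :=
  (show v2l0.n * (v2l1.n * (1)) = 3000 by decide +kernel) ▸ (C.dvd_step v2l0a v2l0b (C.dvd_step v2l1a v2l1b (one_dvd _))).trans (Subgroup.card_subgroup_dvd_card _)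

theorem dv3 (C : Ctx e A g V γ φ Wd) : 19 ∣ Nat.card G :=
  (show v3l0.n * (1) = 19 by decide +kernel) ▸ (C.dvd_step v3l0a v3l0b (one_dvd _)).trans (Subgroup.card_subgroup_dvd_card _)

theorem dv4 (C : Ctx e A g V γ φ Wd) : 31 ∣ Nat.card G :=
  (show v4l0.n * (1) = 31 by decide +kernel) ▸ (C.dvd_step v4l0a v4l0b (one_dvd _)).trans (Subgroup.card_subgroup_dvd_card _)

theorem ord (C : Ctx e A g V γ φ Wd) (hh : Nat.card H = 634023936) :
    Nat.card G ∣ 143127000 * 634023936 ∧ ∀ d ∈ Wd, Nat.card (TT φ (L0.ev γ d.w)) = d.s :=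
  C.orders (D := (Nat.lcm 688128 (Nat.lcm 472392 (Nat.lcm 3000 (Nat.lcm 19 31))))) hh (List.forall_mem_cons.mpr ⟨le1 C, List.forall_mem_cons.mpr ⟨le6 C, List.forall_mem_cons.mpr ⟨le7 C, List.forall_mem_cons.mpr ⟨le8 C, List.forall_mem_cons.mpr ⟨le9 C, List.forall_mem_cons.mpr ⟨le10 C, List.forall_mem_cons.mpr ⟨le11 C, List.forall_mem_cons.mpr ⟨le12 C, List.forall_mem_cons.mpr ⟨le13 C, List.forall_mem_cons.mpr ⟨le14 C, fun _ h => absurd h List.not_mem_nil⟩⟩⟩⟩⟩⟩⟩⟩⟩⟩)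
    (Nat.lcm_dvd (dv0 C) (Nat.lcm_dvd (dv1 C) (Nat.lcm_dvd (dv2 C) (Nat.lcm_dvd (dv3 C) (dv4 C))))) (by decide +kernel)

theorem base (C : Ctx e A g V γ φ Wd) (hh : Nat.card H = 634023936) : V.IsBase X ∧ Function.Injective φ :=
  C.isBase (.tail _ (.tail _ (.tail _ (.tail _ (.tail _ (.head _)))))) ((ord C hh).2 _ (.tail _ (.tail _ (.tail _ (.tail _ (.tail _ (.head _))))))) (chb C)

theorem gdA (C : Ctx e A g V γ φ Wd) (hh : Nat.card H = 634023936) : A.Good g e.k e.T ((LA0 :: LAs).map SLv.toLv) [] :=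
  (RA.card_eq_of_chain C.tab chA (hh.le.trans (by decide +kernel))).2

theorem cHA (C : Ctx e A g V γ φ Wd) (hh : Nat.card H = 634023936) : CH g DA :=
  C.ch_of (gdA C hh) hsA scA (fun _ h => absurd h List.not_mem_nil)

theorem ceA (C : Ctx e A g V γ φ Wd) (hh : Nat.card H = 634023936) : ∀ x, L0.ev γ DA.b * x = x * L0.ev γ DA.b →
    ∃ c ∈ [] :: CLA, x = L0.ev γ c := fun x hx =>
  list_of_clE C.tabG (base C hh).1 clA x (C.cent (base C hh).1 (base C hh).2 (ord C hh).2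
    (show Nat.Prime 13 by norm_num) (cHA C hh) hBA gBA h3A x hx)

theorem gdB (C : Ctx e A g V γ φ Wd) (hh : Nat.card H = 634023936) : A.Good g e.k e.T ((LB0 :: LBs).map SLv.toLv) [] :=
  (RA.card_eq_of_chain C.tab chB (hh.le.trans (by decide +kernel))).2

theorem cHB (C : Ctx e A g V γ φ Wd) (hh : Nat.card H = 634023936) : CH g DB :=
  C.ch_of (gdB C hh) hsB scB (List.forall_mem_cons.mpr ⟨rhB0, List.forall_mem_cons.mpr ⟨rhB1, List.forall_mem_cons.mpr ⟨rhB2, List.forall_mem_cons.mpr ⟨rhB3, List.forall_mem_cons.mpr ⟨rhB4, fun _ h => absurd h List.not_mem_nil⟩⟩⟩⟩⟩)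

theorem ceB (C : Ctx e A g V γ φ Wd) (hh : Nat.card H = 634023936) : ∀ x, L0.ev γ DB.b * x = x * L0.ev γ DB.b →
    ∃ c ∈ [] :: CLB, x = L0.ev γ c := fun x hx =>
  list_of_clE C.tabG (base C hh).1 clB x (C.cent (base C hh).1 (base C hh).2 (ord C hh).2
    (show Nat.Prime 3 by norm_num) (cHB C hh) hBB gBB h3B x hx)

theorem rg0 (C : Ctx e A g V γ φ Wd) (hh : Nat.card H = 634023936) : Rig γ [DB.b, DA.b] [DB.b, aw0] :=
  rig_step (j := 1) (i := 0) C.tabG (base C hh).1 (ceB C hh)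
    (by rw [r0, rB]; decide +kernel) sB0 (rig_gen (C.gen_top (base C hh).1 (gdB C hh) gn))

theorem rg (C : Ctx e A g V γ φ Wd) (hh : Nat.card H = 634023936) : ∀ q ∈ reps, Rig γ [DB.b, DA.b] [DB.b, q.2] :=
  List.forall_mem_cons.mpr ⟨rg0 C hh, fun _ h => absurd h List.not_mem_nil⟩

theorem out (C : Ctx e A g V γ φ Wd) (hh : Nat.card H = 634023936) : Nat.card (Cfsg.Out G) = 1 :=
  out_one_of C.tabG (base C hh).1 (by norm_num) (ord C hh).1 (ceA C hh) ab sA (rg C hh)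

end

theorem card_out : Nat.card (Cfsg.Out Cfsg.Spor.Th) = 1 := by
  haveI := L0.ThG.finite
  obtain ⟨A, ht, hb, hc⟩ := L0.ThG.exists_act
  obtain ⟨B, hB⟩ := L0.ThActN.ex
  obtain ⟨φ, z, h1, h2⟩ := L0.ThG.br
  have h : L0.Dce.CtxH L0.ThFB.P A (L0.PG.gen 17 L0.ThH.R) :=
    L0.Dce.ctxH_of (R := L0.ThH.R) ht hb (fun _ => L0.PG.rel) (by decide +kernel)
  obtain ⟨g, V, γ, h3, C⟩ := exists_ctx h (L0.PG.genL_range _ _) L0.ThG.isPres h1 (L0.forall_app (L0.Dce.rel_XX (R := L0.ThH.R) (by decide +kernel) (fun _ => L0.PG.rel) φ z) h2)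
    (L0.ThClo.fin h (L0.Dce.ctxG_one h h2 (by decide +kernel)) hB hc.le
      (L0.Dce.gen_of L0.ThG.isPres.gen_top h1)).2 hP slp rel df e1 e2
  exact out C hc

end Cfsg.Agent.H9.OTh
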