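import Cfsg.Agent.H9.OThD

/-! Outer automorphisms of the group Th. Checks. -/

set_option autoImplicit false
set_option maxRecDepth 100000

namespace Cfsg.Agent.H9.OTh

set_option Elab.async false

theorem syB8 : DB.sylB e d8 cB8 = true := by decide +kernel

theorem rl20 : allL Rl20 (P.relB fun j => Mt (ren L0.ThFB.P.k (nat_lit 50) j)) = true := by decide +kernel

theorem df_69 : dfB 69 = true := by decide +kernel

theorem slp_1 : allPow (below (nat_lit 819) (slpB (mix L0.ThFB.P.k L0.ThFB.P.T T1) WH L0.ThFB.P.k)) 8 (1 * 2 ^ 8) = true := by decide +kernel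

theorem df_63 : dfB 63 = true := by decide +kernel

theorem rhB0_0 : allPow (below (nat_lit 819) (rhB rhoB0)) 9 (0 * 2 ^ 9) = true := by decide +kernel

theorem df_65 : dfB 65 = true := by decide +kernel

theorem e2 : (slpW WH L0.ThFB.P.k && Nat.beq (L0.ThFB.P.k + WH.length) (nat_lit 50) && slpW WG ((nat_lit 50) + 2) &&
      Nat.beq ((nat_lit 50) + 2 + WG.length) (nat_lit 72) && P.topB (nat_lit 2) E0 &&
      (allLt (L0.ThFB.P.k + 2) fun j => !(Nat.beq (Mt (ren L0.ThFB.P.k (nat_lit 50) j)) 0) && P.okV (Mt (ren L0.ThFB.P.k (nat_lit 50) j))) &&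
      (allLt L0.ThFB.P.k fun j => P.inW (nat_lit 2) (P.tabF Mt (mkDf L0.ThFB.P.k (nat_lit 50) WH WG) (nat_lit 72) E0 j)) &&
      (allL Wd fun d => (mkEnv P 819 L0.ThFB.P.k (nat_lit 50) (nat_lit 72) (mix L0.ThFB.P.k L0.ThFB.P.T T1) L0.ThFB.P.bs Mt WH WG E0 (nat_lit 2)).dcB d &&
        !(P.inW (nat_lit 2) (tr (P.tabF Mt (mkDf L0.ThFB.P.k (nat_lit 50) WH WG) (nat_lit 72)) d.w E0))) &&
      L0.ThClo.L.all fun i => L0.ThFB.P.W i == [] || ((L0.ThFB.P.W i).all (fun a => decide (a < L0.ThFB.P.k + 2)) &&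
        Wd.any fun d => d.w == (L0.ThFB.P.W i).map (ren L0.ThFB.P.k (nat_lit 50)))) = true := by decide +kernel

theorem rhB4_1 : allPow (below (nat_lit 819) (rhB rhoB4)) 9 (1 * 2 ^ 9) = true := by decide +kernel

theorem df_26 : dfB 26 = true := by decide +kernel

theorem rl5 : allL Rl5 (P.relB fun j => Mt (ren L0.ThFB.P.k (nat_lit 50) j)) = true := by decide +kernel

theorem clB_0 : all2 (((([] :: CLB)).drop (0 * 24)).take 24) (clE e.U e.K X ([] :: CLB) (DB.DH ++ DB.DG)) clBq0 = true := by decide +kernel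

theorem slp_3 : allPow (below (nat_lit 819) (slpB (mix L0.ThFB.P.k L0.ThFB.P.T T1) WH L0.ThFB.P.k)) 8 (3 * 2 ^ 8) = true := by decide +kernel

theorem c1l1c_0 : allPow (below (nat_lit 512) (L0.levT e.T c1l1S c1l1r c1l1 e.N)) 9 (0 * 2 ^ 9) = true := by decide +kernel

theorem rB : relsB e.U e.K X [t2, DB.b, DA.b] relB = true := by decide +kernel

theorem cbB : chainB e.T e.N e.k (LBs.map SLv.toLv) [LB0.toLv.β] = true := by decide +kernel

theorem rA14x1c : DA.repB e X d14 rA14x1 = true := by decide +kernel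

theorem c13l1a : allL c13l1S (e.inT d13) = true := by decide +kernel

theorem c1l1a : allL c1l1S (e.inT d1) = true := by decide +kernel

theorem c9l0a : allL c9l0S (e.inT d9) = true := by decide +kernel

theorem c6l1a : allL c6l1S (e.inT d6) = true := by decide +kernel

theorem v0l1a : (L0.lettersB e.K (Env.sing v0l1S) && Nat.blt v0l1.β e.M && Nat.ble v0l1.n 128 && Nat.blt (nat_lit 10) v0l1.n &&
    Nat.beq (Nat.land (v0l1r (nat_lit 10)) v0l1.pm) v0l1.β && e.subB v0l1S v0l2S v0l1.β) = true := by decide +kernel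

theorem v3l0a : (L0.lettersB e.K (Env.sing v3l0S) && Nat.blt v3l0.β e.M && Nat.ble v3l0.n 19 && Nat.blt (nat_lit 8) v3l0.n &&
    Nat.beq (Nat.land (v3l0r (nat_lit 8)) v3l0.pm) v3l0.β && e.subB v3l0S [] v3l0.β) = true := by decide +kernel

theorem syA10 : DA.sylB e d10 cA10 = true := by decide +kernel

theorem r0 : eqW e.U e.K X (DB.b ++ t2) (t2 ++ rp 1 DB.b) = true := by decide +kernel

theorem c1l0b : (L0.lettersB e.k c1l0S && L0.RAct.fixB e.T c1l0S [] && Nat.blt c1l0.β e.N && Nat.ble c1l0.n 3) = true := by decide +kernel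

theorem c8l1b : (L0.lettersB e.k c8l1S && L0.RAct.fixB e.T c8l1S [c8l0.β] && Nat.blt c8l1.β e.N && Nat.ble c8l1.n 2) = true := by decide +kernel

theorem c12l1b : (L0.lettersB e.k c12l1S && L0.RAct.fixB e.T c12l1S [c12l0.β] && Nat.blt c12l1.β e.N && Nat.ble c12l1.n 3) = true := by decide +kernel

theorem c6l1c_0 : allPow (below (nat_lit 9) (L0.levT e.T c6l1S c6l1r c6l1 e.N)) 4 (0 * 2 ^ 4) = true := by decide +kernel

theorem df_5 : dfB 5 = true := by decide +kernel

theorem df_12 : dfB 12 = true := by decide +kernel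

theorem df_35 : dfB 35 = true := by decide +kernel

theorem df_42 : dfB 42 = true := by decide +kernel

theorem df_49 : dfB 49 = true := by decide +kernel

theorem c6l2c_0 : allPow (below (nat_lit 3) (L0.levT e.T c6l2S c6l2r c6l2 e.N)) 2 (0 * 2 ^ 2) = true := by decide +kernel

theorem c9l1c_0 : allPow (below (nat_lit 2) (L0.levT e.T c9l1S c9l1r c9l1 e.N)) 1 (0 * 2 ^ 1) = true := by decide +kernel

end Cfsg.Agent.H9.OTh
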