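import Cfsg.Agent.H9.DO
import Cfsg.Agent.L0.Th.Grp
import Cfsg.Agent.H9.OThL0
import Cfsg.Agent.H9.OThL1
import Cfsg.Agent.H9.OThL2

/-! Outer automorphisms of the group Th. Data. -/

set_option autoImplicit false
set_option maxRecDepth 100000

namespace Cfsg.Agent.H9.OTh

noncomputable def P : PM := ⟨nat_lit 248, nat_lit 8, nat_lit 2, nat_lit 1, nat_lit 1, cM, rM, oM⟩

noncomputable def MtB : L0.BT := (.node (.node (.node (.node (.node (.node (.node (.leaf m0) (.leaf m64)) (.leaf m32)) (.node (.leaf m16) (.leaf (nat_lit 0)))) (.node (.node (.leaf m8) (.leaf (nat_lit 0))) (.node (.leaf m24) (.leaf m56)))) (.node (.node (.node (.node (.leaf m4) (.leaf m68)) (.leaf (nat_lit 0))) (.node (.leaf m20) (.leaf m52))) (.node (.node (.leaf m12) (.leaf (nat_lit 0))) (.node (.leaf m28) (.leaf m60))))) (.node (.node (.node (.node (.node (.leaf m2) (.leaf m66)) (.leaf (nat_lit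 0))) (.node (.leaf m18) (.leaf m50))) (.node (.node (.leaf m10) (.leaf (nat_lit 0))) (.node (.leaf m26) (.leaf m58)))) (.node (.node (.node (.node (.leaf m6) (.leaf m70)) (.leaf (nat_lit 0))) (.node (.leaf m22) (.leaf m54))) (.node (.node (.leaf m14) (.leaf (nat_lit 0))) (.node (.leaf m30) (.leaf m62)))))) (.node (.node (.node (.node (.node (.node (.leaf m1) (.leaf m65)) (.leaf (nat_lit 0))) (.node (.leaf m17) (.leaf (nat_lit 0)))) (.node (.node (.leaf m9) (.leaf (nat_lit 0))) (.node (.leaf m25) (.leaf m57)))) (.node (.node (.node (.node (.leaf m5) (.leaf m69)) (.leaf (nat_lit 0))) (.node (.leaf m21) (.leaf m53))) (.node (.node (.leaf m13) (.leaf (nat_lit 0))) (.node (.leaf m29) (.leaf m61))))) (.node (.node (.node (.node (.node (.leaf m3) (.leaf m67)) (.leaf (nat_lit 0))) (.node (.leaf m19) (.leaf m51))) (.node (.node (.leaf m11) (.leaf (nat_lit 0))) (.node (.leaf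 m27) (.leaf m59)))) (.node (.node (.node (.node (.leaf m7) (.leaf m71)) (.leaf (nat_lit 0))) (.node (.leaf m23) (.leaf m55))) (.node (.node (.leaf m15) (.leaf (nat_lit 0))) (.node (.leaf m31) (.leaf m63)))))))

noncomputable def Mt (s : ℕ) : ℕ := L0.BT.get MtB s

noncomputable def T1B : L0.BT := (.node (.node (.node (.node (.node (.node (.leaf T1B_0) (.leaf T1B_32)) (.leaf T1B_16)) (.node (.leaf T1B_8) (.leaf T1B_24))) (.node (.node (.leaf T1B_4) (.leaf T1B_20)) (.node (.leaf T1B_12) (.leaf T1B_28)))) (.node (.node (.node (.leaf T1B_2) (.leaf T1B_18)) (.node (.leaf T1B_10) (.leaf T1B_26))) (.node (.node (.leaf T1B_6) (.leaf T1B_22)) (.node (.leaf T1B_14) (.leaf T1B_30))))) (.node (.node (.node (.node (.leaf T1B_1) (.leaf T1B_17)) (.node (.leaf T1B_9) (.leaf T1B_25))) (.node (.node (.leaf T1B_5) (.leaf T1B_21)) (.node (.leaf T1B_13) (.leaf T1B_29)))) (.node (.node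 (.node (.leaf T1B_3) (.leaf T1B_19)) (.node (.leaf T1B_11) (.leaf T1B_27))) (.node (.node (.leaf T1B_7) (.leaf T1B_23)) (.node (.leaf T1B_15) (.leaf T1B_31))))))

noncomputable def T1 (c s : ℕ) : ℕ := Nat.land (Nat.shiftRight (L0.BT.get T1B s) (Nat.mul (nat_lit 10) c)) (nat_lit 1023)

noncomputable def WH : List (List ℕ) := [[nat_lit 12, nat_lit 1, nat_lit 2, nat_lit 14, nat_lit 12, nat_lit 3], [nat_lit 14, nat_lit 1, nat_lit 13, nat_lit 7, nat_lit 1, nat_lit 11, nat_lit 5], [nat_lit 7, nat_lit 15, nat_lit 13, nat_lit 0, nat_lit 9], [nat_lit 18, nat_lit 18, nat_lit 18, nat_lit 17, nat_lit 18], [nat_lit 18, nat_lit 18, nat_lit 19, nat_lit 17, nat_lit 19], [nat_lit 20, nat_lit 21, nat_lit 20], [nat_lit 21, nat_lit 21, nat_lit 20, nat_lit 20, nat_lit 21, nat_lit 20, nat_lit 20], [nat_lit 22, nat_lit 22, nat_lit 23], [nat_lit 23, nat_lit 22, nat_lit 24], [nat_lit 24,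 nat_lit 23, nat_lit 22, nat_lit 22, nat_lit 23, nat_lit 22], [nat_lit 26, nat_lit 25, nat_lit 26, nat_lit 26, nat_lit 25, nat_lit 26], [nat_lit 26, nat_lit 25], [nat_lit 27, nat_lit 28, nat_lit 27], [nat_lit 29, nat_lit 1, nat_lit 19, nat_lit 18, nat_lit 26, nat_lit 20, nat_lit 26, nat_lit 22, nat_lit 22, nat_lit 27, nat_lit 26], [nat_lit 4, nat_lit 13, nat_lit 2, nat_lit 24, nat_lit 17, nat_lit 21, nat_lit 24, nat_lit 24, nat_lit 25, nat_lit 26, nat_lit 28], [nat_lit 12, nat_lit 20, nat_lit 0, nat_lit 20, nat_lit 18, nat_lit 20, nat_lit 21, nat_lit 28, nat_lit 22, nat_lit 25, nat_lit 29, nat_lit 27, nat_lit 29, nat_lit 29], [nat_lit 31, nat_lit 31, nat_lit 31, nat_lit 31], [nat_lit 30, nat_lit 32, nat_lit 30], [nat_lit 31, nat_lit 32], [nat_lit 31, nat_lit 31, nat_lit 30, nat_lit 30, nat_lit 30, nat_lit 35, nat_lit 31], [nat_lit 34, nat_lit 30, nat_lit 34, nat_lit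 34, nat_lit 30, nat_lit 34, nat_lit 35, nat_lit 30], [nat_lit 36, nat_lit 36, nat_lit 37], [nat_lit 36, nat_lit 38, nat_lit 37], [nat_lit 37, nat_lit 37], [nat_lit 38, nat_lit 38, nat_lit 37, nat_lit 38], [nat_lit 41, nat_lit 40, nat_lit 40], [nat_lit 42, nat_lit 40, nat_lit 42], [nat_lit 41, nat_lit 40, nat_lit 40, nat_lit 40, nat_lit 41, nat_lit 43], [nat_lit 42, nat_lit 42, nat_lit 42, nat_lit 40, nat_lit 42, nat_lit 42, nat_lit 43, nat_lit 40], [nat_lit 44, nat_lit 45], [nat_lit 4, nat_lit 13, nat_lit 2, nat_lit 24, nat_lit 17, nat_lit 21, nat_lit 24, nat_lit 24, nat_lit 25, nat_lit 26, nat_lit 28], [nat_lit 11, nat_lit 14, nat_lit 0, nat_lit 22, nat_lit 19, nat_lit 22, nat_lit 20, nat_lit 26, nat_lit 24, nat_lit 25, nat_lit 25, nat_lit 27, nat_lit 27, nat_lit 29, nat_lit 29], [nat_lit 3, nat_lit 2, nat_lit 22, nat_lit 19, nat_lit 29, nat_lit 20, nat_lit 23,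 nat_lit 22, nat_lit 29, nat_lit 25, nat_lit 28]]

noncomputable def WG : List (List ℕ) := [[nat_lit 19, nat_lit 16, nat_lit 3, nat_lit 17, nat_lit 17, nat_lit 21, nat_lit 20, nat_lit 26, nat_lit 22, nat_lit 26, nat_lit 28, nat_lit 27, nat_lit 27, nat_lit 29, nat_lit 50, nat_lit 16, nat_lit 16, nat_lit 50, nat_lit 11, nat_lit 50, nat_lit 19, nat_lit 2, nat_lit 3, nat_lit 22, nat_lit 19, nat_lit 21, nat_lit 23, nat_lit 20, nat_lit 25, nat_lit 26, nat_lit 28, nat_lit 29], [nat_lit 16, nat_lit 29, nat_lit 0, nat_lit 17, nat_lit 17, nat_lit 29, nat_lit 20, nat_lit 25, nat_lit 22, nat_lit 25, nat_lit 28, nat_lit 27, nat_lit 27, nat_lit 50, nat_lit 3, nat_lit 50, nat_lit 9, nat_lit 50, nat_lit 15, nat_lit 0, nat_lit 22, nat_lit 19, nat_lit 23, nat_lit 20, nat_lit 25, nat_lit 22, nat_lit 25, nat_lit 28, nat_lit 27, nat_lit 27, nat_lit 29], [nat_lit 25, nat_lit 13, nat_lit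 1, nat_lit 17, nat_lit 17, nat_lit 22, nat_lit 22, nat_lit 26, nat_lit 27, nat_lit 29, nat_lit 29, nat_lit 50, nat_lit 3, nat_lit 10, nat_lit 50, nat_lit 28, nat_lit 6, nat_lit 3, nat_lit 18, nat_lit 20, nat_lit 21, nat_lit 27, nat_lit 24, nat_lit 29, nat_lit 27], [nat_lit 25, nat_lit 10, nat_lit 17, nat_lit 18, nat_lit 21, nat_lit 28, nat_lit 22, nat_lit 29, nat_lit 25, nat_lit 25, nat_lit 28, nat_lit 27, nat_lit 27, nat_lit 29, nat_lit 29, nat_lit 50, nat_lit 3, nat_lit 10, nat_lit 50, nat_lit 19, nat_lit 16, nat_lit 2, nat_lit 20, nat_lit 17, nat_lit 22, nat_lit 20, nat_lit 26, nat_lit 22, nat_lit 26, nat_lit 28, nat_lit 29, nat_lit 29], [nat_lit 55, nat_lit 54, nat_lit 55, nat_lit 54, nat_lit 54, nat_lit 55, nat_lit 54, nat_lit 55, nat_lit 54], [nat_lit 55, nat_lit 55, nat_lit 55, nat_lit 55, nat_lit 55, nat_lit 55, nat_lit 55, nat_lit 55, nat_lit 55], [nat_lit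 56, nat_lit 57, nat_lit 56, nat_lit 57, nat_lit 56, nat_lit 57, nat_lit 56, nat_lit 56, nat_lit 56, nat_lit 57, nat_lit 56, nat_lit 57, nat_lit 56, nat_lit 57], [nat_lit 56, nat_lit 56, nat_lit 56, nat_lit 56, nat_lit 57, nat_lit 56, nat_lit 56, nat_lit 56, nat_lit 57, nat_lit 56, nat_lit 56], [nat_lit 23, nat_lit 7, nat_lit 1, nat_lit 17, nat_lit 21, nat_lit 23, nat_lit 20, nat_lit 23, nat_lit 25, nat_lit 22, nat_lit 29, nat_lit 25, nat_lit 25, nat_lit 28, nat_lit 29, nat_lit 50, nat_lit 3, nat_lit 50, nat_lit 9, nat_lit 50, nat_lit 28, nat_lit 13, nat_lit 0, nat_lit 18, nat_lit 21, nat_lit 23, nat_lit 20, nat_lit 26, nat_lit 24, nat_lit 25, nat_lit 25, nat_lit 27, nat_lit 29], [nat_lit 18, nat_lit 20, nat_lit 3, nat_lit 27, nat_lit 17, nat_lit 21, nat_lit 23, nat_lit 20, nat_lit 26, nat_lit 24, nat_lit 29, nat_lit 25, nat_lit 27, nat_lit 27, nat_lit 50, nat_lit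 3, nat_lit 10, nat_lit 50, nat_lit 14, nat_lit 15, nat_lit 18, nat_lit 25, nat_lit 20, nat_lit 28, nat_lit 22, nat_lit 26, nat_lit 27, nat_lit 29], [nat_lit 60, nat_lit 60, nat_lit 61, nat_lit 60, nat_lit 61, nat_lit 61], [nat_lit 60, nat_lit 61, nat_lit 60, nat_lit 60, nat_lit 60, nat_lit 60, nat_lit 61, nat_lit 60, nat_lit 60, nat_lit 60], [nat_lit 62, nat_lit 63, nat_lit 62, nat_lit 63, nat_lit 62, nat_lit 63, nat_lit 62, nat_lit 63], [nat_lit 63, nat_lit 62, nat_lit 62, nat_lit 62, nat_lit 63, nat_lit 62, nat_lit 62, nat_lit 62, nat_lit 62], [nat_lit 17, nat_lit 23, nat_lit 0, nat_lit 17, nat_lit 17, nat_lit 26, nat_lit 20, nat_lit 25, nat_lit 26, nat_lit 29, nat_lit 28, nat_lit 29, nat_lit 50, nat_lit 3, nat_lit 50, nat_lit 9, nat_lit 50, nat_lit 13, nat_lit 15, nat_lit 5, nat_lit 20, nat_lit 18, nat_lit 20, nat_lit 21, nat_lit 22, nat_lit 29, nat_lit 25, nat_lit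 25, nat_lit 28, nat_lit 27, nat_lit 27, nat_lit 29], [nat_lit 7, nat_lit 24, nat_lit 19, nat_lit 20, nat_lit 21, nat_lit 28, nat_lit 22, nat_lit 25, nat_lit 26, nat_lit 27, nat_lit 50, nat_lit 3, nat_lit 10, nat_lit 50, nat_lit 24, nat_lit 9, nat_lit 1, nat_lit 17, nat_lit 25, nat_lit 20, nat_lit 22, nat_lit 22, nat_lit 25, nat_lit 26, nat_lit 28, nat_lit 27, nat_lit 27], [nat_lit 66, nat_lit 66, nat_lit 66, nat_lit 67, nat_lit 67, nat_lit 66, nat_lit 66, nat_lit 66, nat_lit 66, nat_lit 66, nat_lit 67, nat_lit 67, nat_lit 66], [nat_lit 66, nat_lit 66, nat_lit 66, nat_lit 66, nat_lit 66, nat_lit 66, nat_lit 66, nat_lit 66, nat_lit 66, nat_lit 67, nat_lit 67, nat_lit 67, nat_lit 67], [nat_lit 21, nat_lit 24, nat_lit 0, nat_lit 20, nat_lit 17, nat_lit 28, nat_lit 20, nat_lit 24, nat_lit 24, nat_lit 50, nat_lit 3, nat_lit 10, nat_lit 50, nat_lit 24, nat_lit 21, nat_lit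 0, nat_lit 24, nat_lit 19, nat_lit 23, nat_lit 20, nat_lit 24, nat_lit 22, nat_lit 25, nat_lit 28, nat_lit 29], [nat_lit 23, nat_lit 12, nat_lit 2, nat_lit 21, nat_lit 24, nat_lit 22, nat_lit 26, nat_lit 29, nat_lit 27, nat_lit 50, nat_lit 3, nat_lit 10, nat_lit 50, nat_lit 25, nat_lit 7, nat_lit 1, nat_lit 18, nat_lit 19, nat_lit 25, nat_lit 20, nat_lit 26, nat_lit 24, nat_lit 29, nat_lit 27, nat_lit 29]]

noncomputable def e : Env := mkEnv P 819 L0.ThFB.P.k (nat_lit 50) (nat_lit 72) (mix L0.ThFB.P.k L0.ThFB.P.T T1) L0.ThFB.P.bs Mt WH WG E0 (nat_lit 2)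

noncomputable def IVt : L0.Dce.GT (List ℕ) := (.node (.node (.node (.node (.node (.node (.leaf [nat_lit 0]) (.leaf [nat_lit 32, nat_lit 32, nat_lit 32, nat_lit 32, nat_lit 32, nat_lit 32, nat_lit 32, nat_lit 32, nat_lit 32, nat_lit 32, nat_lit 32, nat_lit 32])) (.node (.leaf [nat_lit 15]) (.leaf [nat_lit 48, nat_lit 48, nat_lit 48, nat_lit 48, nat_lit 48, nat_lit 48, nat_lit 48, nat_lit 48, nat_lit 48, nat_lit 48, nat_lit 48]))) (.node (.node (.leaf [nat_lit 6]) (.leaf [nat_lit 40, nat_lit 40])) (.leaf [nat_lit 24, nat_lit 24, nat_lit 24, nat_lit 24, nat_lit 24]))) (.node (.node (.node (.leaf [nat_lit 4]) (.leaf [nat_lit 24, nat_lit 6, nat_lit 0, nat_lit 17, nat_lit 26, nat_lit 20, nat_lit 26, nat_lit 22, nat_lit 25, nat_lit 25, nat_lit 29])) (.leaf [nat_lit 21, nat_lit 20, nat_lit 24, nat_lit 24, nat_lit 29, nat_lit 25, nat_lit 28, nat_lit 27, nat_lit 27])) (.node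 (.node (.leaf [nat_lit 11]) (.leaf [nat_lit 44, nat_lit 44])) (.leaf [nat_lit 28, nat_lit 28])))) (.node (.node (.node (.node (.leaf [nat_lit 2]) (.leaf [nat_lit 34, nat_lit 34, nat_lit 34, nat_lit 34, nat_lit 34, nat_lit 34, nat_lit 34, nat_lit 34, nat_lit 34, nat_lit 34, nat_lit 34, nat_lit 34])) (.leaf [nat_lit 18, nat_lit 18, nat_lit 18, nat_lit 18, nat_lit 18, nat_lit 18])) (.node (.node (.leaf [nat_lit 9]) (.leaf [nat_lit 42, nat_lit 42, nat_lit 42, nat_lit 42, nat_lit 42])) (.leaf [nat_lit 25, nat_lit 29, nat_lit 27, nat_lit 29, nat_lit 29]))) (.node (.node (.node (.leaf [nat_lit 8]) (.leaf [nat_lit 5, nat_lit 20, nat_lit 2, nat_lit 25, nat_lit 18, nat_lit 20, nat_lit 21, nat_lit 23, nat_lit 25, nat_lit 22, nat_lit 27, nat_lit 26, nat_lit 29, nat_lit 28])) (.leaf [nat_lit 22, nat_lit 22, nat_lit 22, nat_lit 22, nat_lit 22, nat_lit 22])) (.node (.node (.leaf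 [nat_lit 13]) (.leaf [nat_lit 46, nat_lit 46])) (.leaf [nat_lit 30, nat_lit 30, nat_lit 30, nat_lit 30, nat_lit 30, nat_lit 30, nat_lit 30, nat_lit 30, nat_lit 30, nat_lit 30, nat_lit 30, nat_lit 30]))))) (.node (.node (.node (.node (.node (.leaf [nat_lit 1]) (.leaf [nat_lit 33, nat_lit 33])) (.node (.leaf [nat_lit 22, nat_lit 19, nat_lit 21, nat_lit 26, nat_lit 24, nat_lit 29, nat_lit 25]) (.leaf [nat_lit 49, nat_lit 49, nat_lit 49, nat_lit 49, nat_lit 49]))) (.node (.node (.leaf [nat_lit 10]) (.leaf [nat_lit 41, nat_lit 41, nat_lit 41, nat_lit 41, nat_lit 41, nat_lit 41, nat_lit 41, nat_lit 41, nat_lit 41, nat_lit 41, nat_lit 41])) (.leaf [nat_lit 25, nat_lit 25]))) (.node (.node (.node (.leaf [nat_lit 7]) (.leaf [nat_lit 37, nat_lit 37, nat_lit 37, nat_lit 37, nat_lit 37])) (.leaf [nat_lit 29, nat_lit 20, nat_lit 27, nat_lit 24, nat_lit 25, nat_lit 26, nat_lit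 29, nat_lit 29])) (.node (.node (.leaf [nat_lit 14]) (.leaf [nat_lit 45, nat_lit 45])) (.leaf [nat_lit 29, nat_lit 29])))) (.node (.node (.node (.node (.leaf [nat_lit 3]) (.leaf [nat_lit 14, nat_lit 15, nat_lit 6, nat_lit 17, nat_lit 18, nat_lit 29, nat_lit 20, nat_lit 23, nat_lit 25, nat_lit 22, nat_lit 25, nat_lit 29, nat_lit 27, nat_lit 29, nat_lit 29])) (.leaf [nat_lit 19, nat_lit 19, nat_lit 19, nat_lit 19, nat_lit 19, nat_lit 19, nat_lit 19, nat_lit 19, nat_lit 19, nat_lit 19, nat_lit 19])) (.node (.node (.leaf [nat_lit 12]) (.leaf [nat_lit 43, nat_lit 43, nat_lit 43, nat_lit 43, nat_lit 43, nat_lit 43, nat_lit 43, nat_lit 43, nat_lit 43, nat_lit 43, nat_lit 43, nat_lit 43, nat_lit 43])) (.leaf [nat_lit 27, nat_lit 27]))) (.node (.node (.node (.leaf [nat_lit 5]) (.leaf [nat_lit 39, nat_lit 39, nat_lit 39, nat_lit 39, nat_lit 39, nat_lit 39, nat_lit 39, nat_lit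 39])) (.leaf [nat_lit 22, nat_lit 24, nat_lit 25, nat_lit 25])) (.node (.node (.leaf [nat_lit 16]) (.leaf [nat_lit 47, nat_lit 47, nat_lit 47, nat_lit 47, nat_lit 47, nat_lit 47, nat_lit 47, nat_lit 47, nat_lit 47, nat_lit 47, nat_lit 47])) (.leaf [nat_lit 31, nat_lit 31, nat_lit 31, nat_lit 31, nat_lit 31, nat_lit 31, nat_lit 31, nat_lit 31, nat_lit 31, nat_lit 31, nat_lit 31]))))))

noncomputable def iv (s : ℕ) : List ℕ := L0.Dce.GT.get IVt s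

noncomputable def d1 : DCo := ⟨[nat_lit 50], dE1, nat_lit 36864⟩

noncomputable def d6 : DCo := ⟨[nat_lit 50, nat_lit 3, nat_lit 50], dE6, nat_lit 13824⟩

noncomputable def d7 : DCo := ⟨[nat_lit 50, nat_lit 11, nat_lit 50], dE7, nat_lit 288⟩

noncomputable def d8 : DCo := ⟨[nat_lit 50, nat_lit 1, nat_lit 3, nat_lit 50], dE8, nat_lit 486⟩

noncomputable def d9 : DCo := ⟨[nat_lit 50, nat_lit 9, nat_lit 50], dE9, nat_lit 54⟩

noncomputable def d10 : DCo := ⟨[nat_lit 50, nat_lit 3, nat_lit 10, nat_lit 50], dE10, nat_lit 6⟩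

noncomputable def d11 : DCo := ⟨[nat_lit 50, nat_lit 3, nat_lit 50, nat_lit 1, nat_lit 3, nat_lit 50], dE11, nat_lit 126⟩

noncomputable def d12 : DCo := ⟨[nat_lit 50, nat_lit 14, nat_lit 15, nat_lit 50, nat_lit 11, nat_lit 50], dE12, nat_lit 72⟩

noncomputable def d13 : DCo := ⟨[nat_lit 50, nat_lit 16, nat_lit 16, nat_lit 50, nat_lit 11, nat_lit 50], dE13, nat_lit 3528⟩

noncomputable def d14 : DCo := ⟨[nat_lit 50, nat_lit 3, nat_lit 50, nat_lit 9, nat_lit 50], dE14, nat_lit 78⟩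

noncomputable def Wd : List DCo := [d1, d6, d7, d8, d9, d10, d11, d12, d13, d14]

noncomputable def Rl0 : List (List ℕ) := [[nat_lit 0, nat_lit 0], [nat_lit 1, nat_lit 1], [nat_lit 2, nat_lit 2], [nat_lit 3, nat_lit 3], [nat_lit 4, nat_lit 4], [nat_lit 5, nat_lit 7], [nat_lit 6, nat_lit 8], [nat_lit 7, nat_lit 5]]

noncomputable def Rl1 : List (List ℕ) := [[nat_lit 8, nat_lit 6], [nat_lit 9, nat_lit 10], [nat_lit 10, nat_lit 9], [nat_lit 11, nat_lit 12], [nat_lit 12, nat_lit 11], [nat_lit 13, nat_lit 14], [nat_lit 14, nat_lit 13], [nat_lit 15, nat_lit 16]]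

noncomputable def Rl2 : List (List ℕ) := [[nat_lit 16, nat_lit 15], [nat_lit 17, nat_lit 18], [nat_lit 18, nat_lit 17], [nat_lit 0, nat_lit 1, nat_lit 0, nat_lit 1, nat_lit 0, nat_lit 1], [nat_lit 0, nat_lit 4, nat_lit 0, nat_lit 4]]

noncomputable def Rl3 : List (List ℕ) := [[nat_lit 1, nat_lit 2, nat_lit 1, nat_lit 2, nat_lit 1, nat_lit 2], [nat_lit 1, nat_lit 3, nat_lit 1, nat_lit 3], [nat_lit 1, nat_lit 4, nat_lit 1, nat_lit 4]]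

noncomputable def Rl4 : List (List ℕ) := [[nat_lit 0, nat_lit 3, nat_lit 2, nat_lit 3, nat_lit 2, nat_lit 3, nat_lit 2, nat_lit 3, nat_lit 2], [nat_lit 2, nat_lit 4, nat_lit 2, nat_lit 4]]

noncomputable def Rl5 : List (List ℕ) := [[nat_lit 3, nat_lit 4, nat_lit 3, nat_lit 4, nat_lit 3, nat_lit 4]]

noncomputable def Rl6 : List (List ℕ) := [[nat_lit 1, nat_lit 2, nat_lit 3, nat_lit 4, nat_lit 1, nat_lit 2, nat_lit 3, nat_lit 4, nat_lit 1, nat_lit 2, nat_lit 3, nat_lit 4, nat_lit 1, nat_lit 2, nat_lit 3, nat_lit 4, nat_lit 1, nat_lit 2, nat_lit 3, nat_lit 4, nat_lit 1, nat_lit 2, nat_lit 3, nat_lit 4, nat_lit 1, nat_lit 2, nat_lit 3, nat_lit 4, nat_lit 1, nat_lit 2, nat_lit 3, nat_lit 4]]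

noncomputable def Rl7 : List (List ℕ) := [[nat_lit 5, nat_lit 5, nat_lit 5, nat_lit 5, nat_lit 5, nat_lit 5, nat_lit 5], [nat_lit 7, nat_lit 0, nat_lit 5, nat_lit 0], [nat_lit 7, nat_lit 1, nat_lit 5, nat_lit 1]]

noncomputable def Rl8 : List (List ℕ) := [[nat_lit 7, nat_lit 2, nat_lit 5, nat_lit 2], [nat_lit 5, nat_lit 3, nat_lit 5, nat_lit 3]]

noncomputable def Rl9 : List (List ℕ) := [[nat_lit 4, nat_lit 7, nat_lit 4, nat_lit 7, nat_lit 7, nat_lit 4, nat_lit 5, nat_lit 5, nat_lit 5], [nat_lit 6, nat_lit 6, nat_lit 6], [nat_lit 8, nat_lit 0, nat_lit 6, nat_lit 0]]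

noncomputable def Rl10 : List (List ℕ) := [[nat_lit 8, nat_lit 1, nat_lit 6, nat_lit 1], [nat_lit 8, nat_lit 2, nat_lit 6, nat_lit 2], [nat_lit 8, nat_lit 3, nat_lit 6, nat_lit 3], [nat_lit 8, nat_lit 4, nat_lit 6, nat_lit 4]]

noncomputable def Rl11 : List (List ℕ) := [[nat_lit 8, nat_lit 5, nat_lit 6, nat_lit 7, nat_lit 7], [nat_lit 17, nat_lit 17, nat_lit 2, nat_lit 0], [nat_lit 18, nat_lit 0, nat_lit 17, nat_lit 0]]

noncomputable def Rl12 : List (List ℕ) := [[nat_lit 18, nat_lit 2, nat_lit 17, nat_lit 2], [nat_lit 18, nat_lit 4, nat_lit 17, nat_lit 4]]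

noncomputable def Rl13 : List (List ℕ) := [[nat_lit 3, nat_lit 4, nat_lit 18, nat_lit 3, nat_lit 17, nat_lit 3, nat_lit 4, nat_lit 18, nat_lit 3, nat_lit 17]]

noncomputable def Rl14 : List (List ℕ) := [[nat_lit 18, nat_lit 1, nat_lit 2, nat_lit 0, nat_lit 1, nat_lit 17, nat_lit 1, nat_lit 0, nat_lit 2, nat_lit 1, nat_lit 4]]

noncomputable def Rl15 : List (List ℕ) := [[nat_lit 3, nat_lit 18, nat_lit 3, nat_lit 1, nat_lit 2, nat_lit 0, nat_lit 1, nat_lit 3, nat_lit 17, nat_lit 3, nat_lit 1, nat_lit 0, nat_lit 2, nat_lit 1, nat_lit 2, nat_lit 4, nat_lit 3, nat_lit 18, nat_lit 3, nat_lit 1, nat_lit 2, nat_lit 0, nat_lit 1, nat_lit 4, nat_lit 18]]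

noncomputable def Rl16 : List (List ℕ) := [[nat_lit 18, nat_lit 6, nat_lit 17, nat_lit 6], [nat_lit 4, nat_lit 7, nat_lit 7, nat_lit 18, nat_lit 5, nat_lit 5, nat_lit 4, nat_lit 7, nat_lit 7, nat_lit 17, nat_lit 5, nat_lit 5]]

noncomputable def Rl17 : List (List ℕ) := [[nat_lit 0, nat_lit 2, nat_lit 7, nat_lit 18, nat_lit 7, nat_lit 18, nat_lit 7, nat_lit 18]]

noncomputable def Rl18 : List (List ℕ) := [[nat_lit 0, nat_lit 2, nat_lit 7, nat_lit 18, nat_lit 5, nat_lit 17, nat_lit 7, nat_lit 18, nat_lit 5, nat_lit 17, nat_lit 7, nat_lit 18, nat_lit 5, nat_lit 17, nat_lit 7, nat_lit 18, nat_lit 5, nat_lit 17]]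

noncomputable def Rl19 : List (List ℕ) := [[nat_lit 3, nat_lit 7, nat_lit 7, nat_lit 17, nat_lit 5, nat_lit 5, nat_lit 3, nat_lit 7, nat_lit 7, nat_lit 17, nat_lit 5, nat_lit 5, nat_lit 3, nat_lit 7, nat_lit 7, nat_lit 17, nat_lit 5, nat_lit 5, nat_lit 3, nat_lit 7, nat_lit 7, nat_lit 17, nat_lit 4, nat_lit 3, nat_lit 2, nat_lit 3, nat_lit 4, nat_lit 5, nat_lit 5, nat_lit 5, nat_lit 4, nat_lit 3, nat_lit 2, nat_lit 3, nat_lit 4, nat_lit 7, nat_lit 3, nat_lit 2, nat_lit 3, nat_lit 2, nat_lit 0]]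

noncomputable def Rl20 : List (List ℕ) := [[nat_lit 10, nat_lit 1, nat_lit 2, nat_lit 3, nat_lit 4, nat_lit 5], [nat_lit 12, nat_lit 3, nat_lit 5, nat_lit 1, nat_lit 2, nat_lit 3, nat_lit 4, nat_lit 7, nat_lit 7]]

noncomputable def Rl21 : List (List ℕ) := [[nat_lit 14, nat_lit 5, nat_lit 4, nat_lit 3, nat_lit 2, nat_lit 1, nat_lit 0, nat_lit 3, nat_lit 6]]

noncomputable def Rl22 : List (List ℕ) := [[nat_lit 16, nat_lit 4, nat_lit 3, nat_lit 5, nat_lit 5, nat_lit 2, nat_lit 1, nat_lit 3, nat_lit 2, nat_lit 8]]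

noncomputable def Rl : List (List ℕ) := Rl0 ++ (Rl1 ++ (Rl2 ++ (Rl3 ++ (Rl4 ++ (Rl5 ++ (Rl6 ++ (Rl7 ++ (Rl8 ++ (Rl9 ++ (Rl10 ++ (Rl11 ++ (Rl12 ++ (Rl13 ++ (Rl14 ++ (Rl15 ++ (Rl16 ++ (Rl17 ++ (Rl18 ++ (Rl19 ++ (Rl20 ++ (Rl21 ++ (Rl22))))))))))))))))))))))

noncomputable def dfB (j : ℕ) : Bool := Nat.blt j L0.ThFB.P.k || Nat.beq j (nat_lit 50) || Nat.beq j ((nat_lit 50) + 1) ||
  P.defB Mt (mkDf L0.ThFB.P.k (nat_lit 50) WH WG) (nat_lit 72) j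

noncomputable def c1l3rD : ℕ := nat_lit 0x1207900e800f

noncomputable def c1l3r (c : ℕ) : ℕ := Nat.land (Nat.shiftRight c1l3rD (Nat.mul (nat_lit 15) c)) (nat_lit 32767)

noncomputable def c1l3 : L0.LvP := ⟨nat_lit 1023, nat_lit 10, nat_lit 1, nat_lit 11, nat_lit 3, nat_lit 13, nat_lit 3, nat_lit 15⟩

noncomputable def c1l3S : List (List ℕ) := [[nat_lit 7, nat_lit 20, nat_lit 18, nat_lit 21, nat_lit 23, nat_lit 20, nat_lit 24, nat_lit 27, nat_lit 26, nat_lit 29, nat_lit 27, nat_lit 29, nat_lit 29]]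

noncomputable def c1l2rD : ℕ := nat_lit 0x8c0fa2079083bb81c8a085603d00120005

noncomputable def c1l2r (c : ℕ) : ℕ := Nat.land (Nat.shiftRight c1l2rD (Nat.mul (nat_lit 17) c)) (nat_lit 131071)

noncomputable def c1l2 : L0.LvP := ⟨nat_lit 1023, nat_lit 10, nat_lit 3, nat_lit 12, nat_lit 7, nat_lit 15, nat_lit 8, nat_lit 5⟩

noncomputable def c1l2S : List (List ℕ) := [[nat_lit 4], [nat_lit 6, nat_lit 17, nat_lit 18, nat_lit 21, nat_lit 20, nat_lit 26, nat_lit 29], [nat_lit 7, nat_lit 18, nat_lit 18]]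

noncomputable def c1l1r (c : ℕ) : ℕ := Nat.land (Nat.shiftRight c1l1rD (Nat.mul (nat_lit 24) c)) (nat_lit 16777215)

noncomputable def c1l1 : L0.LvP := ⟨nat_lit 1023, nat_lit 10, nat_lit 1, nat_lit 11, nat_lit 511, nat_lit 20, nat_lit 512, nat_lit 1⟩

noncomputable def c1l1S : List (List ℕ) := [[nat_lit 29, nat_lit 4, nat_lit 5, nat_lit 24, nat_lit 19, nat_lit 29, nat_lit 20, nat_lit 26, nat_lit 24, nat_lit 25, nat_lit 26, nat_lit 29, nat_lit 28, nat_lit 29], [nat_lit 6, nat_lit 24, nat_lit 0, nat_lit 17, nat_lit 17, nat_lit 21, nat_lit 23, nat_lit 20, nat_lit 22, nat_lit 24, nat_lit 29, nat_lit 25, nat_lit 25, nat_lit 28, nat_lit 27, nat_lit 27]]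

noncomputable def c1l0rD : ℕ := nat_lit 0x80868030000

noncomputable def c1l0r (c : ℕ) : ℕ := Nat.land (Nat.shiftRight c1l0rD (Nat.mul (nat_lit 15) c)) (nat_lit 32767)

noncomputable def c1l0 : L0.LvP := ⟨nat_lit 1023, nat_lit 10, nat_lit 1, nat_lit 11, nat_lit 3, nat_lit 13, nat_lit 3, nat_lit 0⟩

noncomputable def c1l0S : List (List ℕ) := [[nat_lit 17, nat_lit 2, nat_lit 1, nat_lit 18, nat_lit 29, nat_lit 20, nat_lit 28, nat_lit 22, nat_lit 25, nat_lit 28, nat_lit 29]]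

noncomputable def c6l2rD : ℕ := nat_lit 0x1207900e800f

noncomputable def c6l2r (c : ℕ) : ℕ := Nat.land (Nat.shiftRight c6l2rD (Nat.mul (nat_lit 15) c)) (nat_lit 32767)

noncomputable def c6l2 : L0.LvP := ⟨nat_lit 1023, nat_lit 10, nat_lit 1, nat_lit 11, nat_lit 3, nat_lit 13, nat_lit 3, nat_lit 15⟩

noncomputable def c6l2S : List (List ℕ) := [[nat_lit 7, nat_lit 20, nat_lit 18, nat_lit 21, nat_lit 23, nat_lit 20, nat_lit 24, nat_lit 27, nat_lit 26, nat_lit 29, nat_lit 27, nat_lit 29, nat_lit 29]]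

noncomputable def c6l1rD : ℕ := nat_lit 0x3881f8803caa075080e080102401e66025980280003

noncomputable def c6l1r (c : ℕ) : ℕ := Nat.land (Nat.shiftRight c6l1rD (Nat.mul (nat_lit 19) c)) (nat_lit 524287)

noncomputable def c6l1 : L0.LvP := ⟨nat_lit 1023, nat_lit 10, nat_lit 1, nat_lit 11, nat_lit 15, nat_lit 15, nat_lit 9, nat_lit 3⟩

noncomputable def c6l1S : List (List ℕ) := [[nat_lit 23, nat_lit 4, nat_lit 0, nat_lit 19, nat_lit 26, nat_lit 21, nat_lit 26, nat_lit 24, nat_lit 26, nat_lit 29, nat_lit 28, nat_lit 29, nat_lit 29]]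

noncomputable def c6l0r (c : ℕ) : ℕ := Nat.land (Nat.shiftRight c6l0rD (Nat.mul (nat_lit 24) c)) (nat_lit 16777215)

noncomputable def c6l0 : L0.LvP := ⟨nat_lit 1023, nat_lit 10, nat_lit 1, nat_lit 11, nat_lit 511, nat_lit 20, nat_lit 512, nat_lit 1⟩

noncomputable def c6l0S : List (List ℕ) := [[nat_lit 22, nat_lit 15, nat_lit 2, nat_lit 17, nat_lit 18, nat_lit 21, nat_lit 26, nat_lit 22, nat_lit 22, nat_lit 26, nat_lit 28, nat_lit 27, nat_lit 27], [nat_lit 20, nat_lit 9, nat_lit 0, nat_lit 19, nat_lit 18, nat_lit 21, nat_lit 26, nat_lit 22, nat_lit 28, nat_lit 27, nat_lit 27]]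

noncomputable def c7l1rD : ℕ := nat_lit 0x208984312d9e2527449790529f0a1ae0f9081e2003b2f0717c0a3cc104f01ea302d7e0480005

noncomputable def c7l1r (c : ℕ) : ℕ := Nat.land (Nat.shiftRight c7l1rD (Nat.mul (nat_lit 19) c)) (nat_lit 524287)

noncomputable def c7l1 : L0.LvP := ⟨nat_lit 1023, nat_lit 10, nat_lit 3, nat_lit 12, nat_lit 15, nat_lit 16, nat_lit 16, nat_lit 5⟩

noncomputable def c7l1S : List (List ℕ) := [[nat_lit 6, nat_lit 17, nat_lit 18, nat_lit 21, nat_lit 20, nat_lit 26, nat_lit 29], [nat_lit 3, nat_lit 2, nat_lit 0, nat_lit 22, nat_lit 20, nat_lit 26, nat_lit 22, nat_lit 25, nat_lit 26, nat_lit 28, nat_lit 29], [nat_lit 7, nat_lit 18, nat_lit 18], [nat_lit 18, nat_lit 9, nat_lit 17, nat_lit 17, nat_lit 22, nat_lit 22, nat_lit 20, nat_lit 28, nat_lit 22, nat_lit 29, nat_lit 25, nat_lit 25, nat_lit 27, nat_lit 27]]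

noncomputable def c7l0rD : ℕ := nat_lit 0x1ab5fc0abd6556a40acd974e53e9ac3c2c9c8510b09d260b91be31f5753a9f4893ba41a44133da60300000

noncomputable def c7l0r (c : ℕ) : ℕ := Nat.land (Nat.shiftRight c7l0rD (Nat.mul (nat_lit 19) c)) (nat_lit 524287)

noncomputable def c7l0 : L0.LvP := ⟨nat_lit 1023, nat_lit 10, nat_lit 1, nat_lit 11, nat_lit 31, nat_lit 16, nat_lit 18, nat_lit 0⟩

noncomputable def c7l0S : List (List ℕ) := [[nat_lit 8, nat_lit 21, nat_lit 0, nat_lit 21, nat_lit 17, nat_lit 21, nat_lit 22, nat_lit 25, nat_lit 26, nat_lit 29, nat_lit 27, nat_lit 29], [nat_lit 21, nat_lit 1, nat_lit 18, nat_lit 28, nat_lit 20, nat_lit 26, nat_lit 22, nat_lit 22, nat_lit 27, nat_lit 26, nat_lit 27]]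

noncomputable def c8l2rD : ℕ := nat_lit 0x1207900e800f

noncomputable def c8l2r (c : ℕ) : ℕ := Nat.land (Nat.shiftRight c8l2rD (Nat.mul (nat_lit 15) c)) (nat_lit 32767)

noncomputable def c8l2 : L0.LvP := ⟨nat_lit 1023, nat_lit 10, nat_lit 1, nat_lit 11, nat_lit 3, nat_lit 13, nat_lit 3, nat_lit 15⟩

noncomputable def c8l2S : List (List ℕ) := [[nat_lit 7, nat_lit 20, nat_lit 18, nat_lit 21, nat_lit 23, nat_lit 20, nat_lit 24, nat_lit 27, nat_lit 26, nat_lit 29, nat_lit 27, nat_lit 29, nat_lit 29]]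

noncomputable def c8l1rD : ℕ := nat_lit 0x219c001

noncomputable def c8l1r (c : ℕ) : ℕ := Nat.land (Nat.shiftRight c8l1rD (Nat.mul (nat_lit 13) c)) (nat_lit 8191)

noncomputable def c8l1 : L0.LvP := ⟨nat_lit 1023, nat_lit 10, nat_lit 1, nat_lit 11, nat_lit 1, nat_lit 12, nat_lit 2, nat_lit 1⟩

noncomputable def c8l1S : List (List ℕ) := [[nat_lit 0, nat_lit 27, nat_lit 0, nat_lit 24, nat_lit 19, nat_lit 26, nat_lit 21, nat_lit 20, nat_lit 27, nat_lit 24, nat_lit 27, nat_lit 26, nat_lit 27, nat_lit 29]]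

noncomputable def c8l0r (c : ℕ) : ℕ := Nat.land (Nat.shiftRight c8l0rD (Nat.mul (nat_lit 22) c)) (nat_lit 4194303)

noncomputable def c8l0 : L0.LvP := ⟨nat_lit 1023, nat_lit 10, nat_lit 1, nat_lit 11, nat_lit 127, nat_lit 18, nat_lit 81, nat_lit 0⟩

noncomputable def c8l0S : List (List ℕ) := [[nat_lit 4, nat_lit 11, nat_lit 18, nat_lit 20, nat_lit 20, nat_lit 27, nat_lit 24, nat_lit 25, nat_lit 26, nat_lit 27, nat_lit 29, nat_lit 29], [nat_lit 18, nat_lit 17, nat_lit 0, nat_lit 17, nat_lit 17, nat_lit 22, nat_lit 20, nat_lit 24, nat_lit 25, nat_lit 26, nat_lit 28, nat_lit 27, nat_lit 27, nat_lit 29, nat_lit 29]]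

noncomputable def c9l1rD : ℕ := nat_lit 0x219c001

noncomputable def c9l1r (c : ℕ) : ℕ := Nat.land (Nat.shiftRight c9l1rD (Nat.mul (nat_lit 13) c)) (nat_lit 8191)

noncomputable def c9l1 : L0.LvP := ⟨nat_lit 1023, nat_lit 10, nat_lit 1, nat_lit 11, nat_lit 1, nat_lit 12, nat_lit 2, nat_lit 1⟩

noncomputable def c9l1S : List (List ℕ) := [[nat_lit 0, nat_lit 27, nat_lit 0, nat_lit 24, nat_lit 19, nat_lit 26, nat_lit 21, nat_lit 20, nat_lit 27, nat_lit 24, nat_lit 27, nat_lit 26, nat_lit 27, nat_lit 29]]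

noncomputable def c9l0rD : ℕ := nat_lit 0xdccc95f73486c02056caea68833c5c65955c290373de6db3c997cba9aaa515ba92e34dca41b3203264443c2860a8075510b9da10c2c18a98231b029cc0300000

noncomputable def c9l0r (c : ℕ) : ℕ := Nat.land (Nat.shiftRight c9l0rD (Nat.mul (nat_lit 19) c)) (nat_lit 524287)

noncomputable def c9l0 : L0.LvP := ⟨nat_lit 1023, nat_lit 10, nat_lit 1, nat_lit 11, nat_lit 31, nat_lit 16, nat_lit 27, nat_lit 0⟩

noncomputable def c9l0S : List (List ℕ) := [[nat_lit 15, nat_lit 10, nat_lit 1, nat_lit 27, nat_lit 17, nat_lit 20, nat_lit 20, nat_lit 24, nat_lit 25, nat_lit 29, nat_lit 29], [nat_lit 16, nat_lit 4, nat_lit 1, nat_lit 27, nat_lit 17, nat_lit 28, nat_lit 20, nat_lit 25, nat_lit 22, nat_lit 26, nat_lit 27]]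

noncomputable def c11l2rD : ℕ := nat_lit 0x807a80e800f

noncomputable def c11l2r (c : ℕ) : ℕ := Nat.land (Nat.shiftRight c11l2rD (Nat.mul (nat_lit 15) c)) (nat_lit 32767)

noncomputable def c11l2 : L0.LvP := ⟨nat_lit 1023, nat_lit 10, nat_lit 1, nat_lit 11, nat_lit 3, nat_lit 13, nat_lit 3, nat_lit 15⟩

noncomputable def c11l2S : List (List ℕ) := [[nat_lit 6]]

noncomputable def c11l1rD : ℕ := nat_lit 0x2276001

noncomputable def c11l1r (c : ℕ) : ℕ := Nat.land (Nat.shiftRight c11l1rD (Nat.mul (nat_lit 13) c)) (nat_lit 8191)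

noncomputable def c11l1 : L0.LvP := ⟨nat_lit 1023, nat_lit 10, nat_lit 1, nat_lit 11, nat_lit 1, nat_lit 12, nat_lit 2, nat_lit 1⟩

noncomputable def c11l1S : List (List ℕ) := [[nat_lit 23, nat_lit 7, nat_lit 19, nat_lit 26, nat_lit 20, nat_lit 25, nat_lit 22, nat_lit 29, nat_lit 25, nat_lit 29, nat_lit 28, nat_lit 29, nat_lit 29]]

noncomputable def c11l0rD : ℕ := nat_lit 0x3995144275283124059b9ca3b11199e209123d90468818c321119b62158c328104298081b40a1000bb201365019980100000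

noncomputable def c11l0r (c : ℕ) : ℕ := Nat.land (Nat.shiftRight c11l0rD (Nat.mul (nat_lit 19) c)) (nat_lit 524287)

noncomputable def c11l0 : L0.LvP := ⟨nat_lit 1023, nat_lit 10, nat_lit 1, nat_lit 11, nat_lit 31, nat_lit 16, nat_lit 21, nat_lit 0⟩

noncomputable def c11l0S : List (List ℕ) := [[nat_lit 1, nat_lit 29, nat_lit 1, nat_lit 22, nat_lit 19, nat_lit 28, nat_lit 20, nat_lit 27, nat_lit 24, nat_lit 29, nat_lit 25, nat_lit 25, nat_lit 29, nat_lit 27, nat_lit 29, nat_lit 29], [nat_lit 29, nat_lit 14, nat_lit 19, nat_lit 18, nat_lit 26, nat_lit 21, nat_lit 26, nat_lit 24, nat_lit 27]]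

noncomputable def c12l1rD : ℕ := nat_lit 0x12a750a98001

noncomputable def c12l1r (c : ℕ) : ℕ := Nat.land (Nat.shiftRight c12l1rD (Nat.mul (nat_lit 15) c)) (nat_lit 32767)

noncomputable def c12l1 : L0.LvP := ⟨nat_lit 1023, nat_lit 10, nat_lit 1, nat_lit 11, nat_lit 3, nat_lit 13, nat_lit 3, nat_lit 1⟩

noncomputable def c12l1S : List (List ℕ) := [[nat_lit 9, nat_lit 6, nat_lit 1, nat_lit 20, nat_lit 17, nat_lit 21, nat_lit 20, nat_lit 27, nat_lit 26, nat_lit 27, nat_lit 29, nat_lit 29]]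

noncomputable def c12l0rD : ℕ := nat_lit 0x20d7cd3af58f5a566b36953b2da72b10bd2a16a84251682ab8f8ca9f067bcf275755cae43553412a2c453a589fc5cd34180caf010800080000

noncomputable def c12l0r (c : ℕ) : ℕ := Nat.land (Nat.shiftRight c12l0rD (Nat.mul (nat_lit 19) c)) (nat_lit 524287)

noncomputable def c12l0 : L0.LvP := ⟨nat_lit 1023, nat_lit 10, nat_lit 1, nat_lit 11, nat_lit 31, nat_lit 16, nat_lit 24, nat_lit 0⟩

noncomputable def c12l0S : List (List ℕ) := [[nat_lit 24, nat_lit 0, nat_lit 17, nat_lit 17, nat_lit 29, nat_lit 20, nat_lit 27, nat_lit 22, nat_lit 22, nat_lit 25, nat_lit 28], [nat_lit 4, nat_lit 21, nat_lit 0, nat_lit 21, nat_lit 17, nat_lit 21, nat_lit 27, nat_lit 24, nat_lit 27, nat_lit 26, nat_lit 29, nat_lit 29]]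

noncomputable def c13l1rD : ℕ := nat_lit 0x67e5720c4ebd8531f07675e59bbab0b71356c685d31299d6911dd7de5203a4926d482ab24d554ba6d274d58c674289c4b12b490d6501480001

noncomputable def c13l1r (c : ℕ) : ℕ := Nat.land (Nat.shiftRight c13l1rD (Nat.mul (nat_lit 19) c)) (nat_lit 524287)

noncomputable def c13l1 : L0.LvP := ⟨nat_lit 1023, nat_lit 10, nat_lit 1, nat_lit 11, nat_lit 31, nat_lit 16, nat_lit 24, nat_lit 1⟩

noncomputable def c13l1S : List (List ℕ) := [[nat_lit 21, nat_lit 7, nat_lit 24, nat_lit 19, nat_lit 28, nat_lit 20, nat_lit 24, nat_lit 22, nat_lit 29, nat_lit 25, nat_lit 28, nat_lit 27, nat_lit 27], [nat_lit 7, nat_lit 0, nat_lit 24, nat_lit 17, nat_lit 20, nat_lit 21, nat_lit 24, nat_lit 24, nat_lit 25, nat_lit 27, nat_lit 27]]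

noncomputable def c13l0r (c : ℕ) : ℕ := Nat.land (Nat.shiftRight c13l0rD (Nat.mul (nat_lit 23) c)) (nat_lit 8388607)

noncomputable def c13l0 : L0.LvP := ⟨nat_lit 1023, nat_lit 10, nat_lit 1, nat_lit 11, nat_lit 255, nat_lit 19, nat_lit 147, nat_lit 0⟩

noncomputable def c13l0S : List (List ℕ) := [[nat_lit 14, nat_lit 5, nat_lit 1, nat_lit 18, nat_lit 19, nat_lit 26, nat_lit 20, nat_lit 28, nat_lit 22, nat_lit 27, nat_lit 26, nat_lit 29, nat_lit 28, nat_lit 29, nat_lit 29], [nat_lit 22, nat_lit 21, nat_lit 0, nat_lit 20, nat_lit 17, nat_lit 22, nat_lit 20, nat_lit 24, nat_lit 24, nat_lit 29, nat_lit 25, nat_lit 27, nat_lit 27]]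

noncomputable def c14l1rD : ℕ := nat_lit 0x2276001

noncomputable def c14l1r (c : ℕ) : ℕ := Nat.land (Nat.shiftRight c14l1rD (Nat.mul (nat_lit 13) c)) (nat_lit 8191)

noncomputable def c14l1 : L0.LvP := ⟨nat_lit 1023, nat_lit 10, nat_lit 1, nat_lit 11, nat_lit 1, nat_lit 12, nat_lit 2, nat_lit 1⟩

noncomputable def c14l1S : List (List ℕ) := [[nat_lit 23, nat_lit 7, nat_lit 19, nat_lit 26, nat_lit 20, nat_lit 25, nat_lit 22, nat_lit 29, nat_lit 25, nat_lit 29, nat_lit 28, nat_lit 29, nat_lit 29]]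

noncomputable def c14l0rD : ℕ := nat_lit 0xa7f30f0f2b8431fa76dbb06cfc56b98f6a84e2a66629d6fe9a20678c5e6e69265202598ee52a6e1a89da4c258b4c97d6a5734e52fd1114e29018f0e98d4d9898d54ccb2ab0b1a6894ac09266482d345c81448cbc35b2421a341d6f814edc0600000

noncomputable def c14l0r (c : ℕ) : ℕ := Nat.land (Nat.shiftRight c14l0rD (Nat.mul (nat_lit 20) c)) (nat_lit 1048575)

noncomputable def c14l0 : L0.LvP := ⟨nat_lit 1023, nat_lit 10, nat_lit 1, nat_lit 11, nat_lit 63, nat_lit 17, nat_lit 39, nat_lit 0⟩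

noncomputable def c14l0S : List (List ℕ) := [[nat_lit 0, nat_lit 10, nat_lit 0, nat_lit 24, nat_lit 17, nat_lit 20, nat_lit 22, nat_lit 29, nat_lit 29], [nat_lit 17, nat_lit 13, nat_lit 18, nat_lit 22, nat_lit 29, nat_lit 25, nat_lit 25, nat_lit 27, nat_lit 29, nat_lit 29]]

noncomputable def bsr (c : ℕ) : ℕ := Nat.land (Nat.shiftRight bsrD (Nat.mul (nat_lit 1990) c)) (nat_lit 112122138210376418382112617302508006252179463094599140671644798518141236464098663462564402960596315421723238734276119411469445211021782747209563609000649725135869130024719023438172635886953168819754811513733873285919546351217176136667301783242642923799711910701330467586859989849241515282750160373017903009125164950180135259377323715632728573145444117676200197965533814287619148566636993448985613167301959569331441814577169706892972697421731624269082899837795011641166950960536789100742267536344365803472051196859107437039403111737726615731362574007697876147886258594553557393376919388439633643700223)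

noncomputable def bs : L0.LvP := ⟨pmV, nat_lit 1984, nat_lit 1, nat_lit 1985, nat_lit 7, nat_lit 1988, nat_lit 6, bv⟩

noncomputable def bsS : List (List ℕ) := [[nat_lit 4, nat_lit 1, nat_lit 18, nat_lit 19, nat_lit 25, nat_lit 20, nat_lit 29, nat_lit 25, nat_lit 28, nat_lit 27, nat_lit 27, nat_lit 29, nat_lit 29], [nat_lit 21, nat_lit 17, nat_lit 26, nat_lit 21, nat_lit 24, nat_lit 24, nat_lit 29, nat_lit 25, nat_lit 29, nat_lit 28, nat_lit 29]]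

noncomputable def X : List ℕ := [bs.β] ++ [e.E, d10.E]

noncomputable def v0l2rB : L0.BT := (.node (.node (.node (.leaf v0l2rB_0) (.leaf v0l2rB_4)) (.leaf v0l2rB_2)) (.node (.node (.leaf v0l2rB_1) (.leaf v0l2rB_5)) (.leaf v0l2rB_3)))

noncomputable def v0l2r (c : ℕ) : ℕ := L0.rowOf v0l2rB (nat_lit 4) (nat_lit 15) (nat_lit 1996) (nat_lit 7175816845464090776455207507360512400139485638054345002985267105161039133702314461604121789478164186990287278993671642334044493505394095821412070976041582408695624321582017500043048696765002804464307936878967890298850966477899272746707314127529147123181562284885149925559039350351456978096010263873145792584010556811528656600148717800494628681308423531276812669794164114407625508264767580735079242707325412437212276132938861241150252634990823953221305589618880745034684861474354502447505122326039411422211276598982875970521799151214503406807204736492664073464720550051427673176122840860136553196814335)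 c

noncomputable def v0l2 : L0.LvP := ⟨pmV, nat_lit 1984, nat_lit 1, nat_lit 1985, nat_lit 127, nat_lit 1992, nat_lit 96, v0l2v⟩

noncomputable def v0l2t (c : ℕ) : ℕ := Nat.land (Nat.shiftRight v0l2tD (Nat.mul (nat_lit 14) c)) (nat_lit 16383)

noncomputable def v0l2S : List ℕ := [nat_lit 58, nat_lit 59]

noncomputable def v0l1rB : L0.BT := (.node (.node (.node (.leaf v0l1rB_0) (.leaf v0l1rB_4)) (.node (.leaf v0l1rB_2) (.leaf v0l1rB_6))) (.node (.node (.leaf v0l1rB_1) (.leaf v0l1rB_5)) (.node (.leaf v0l1rB_3) (.leaf v0l1rB_7))))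

noncomputable def v0l1r (c : ℕ) : ℕ := L0.rowOf v0l1rB (nat_lit 4) (nat_lit 15) (nat_lit 1996) (nat_lit 7175816845464090776455207507360512400139485638054345002985267105161039133702314461604121789478164186990287278993671642334044493505394095821412070976041582408695624321582017500043048696765002804464307936878967890298850966477899272746707314127529147123181562284885149925559039350351456978096010263873145792584010556811528656600148717800494628681308423531276812669794164114407625508264767580735079242707325412437212276132938861241150252634990823953221305589618880745034684861474354502447505122326039411422211276598982875970521799151214503406807204736492664073464720550051427673176122840860136553196814335) c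

noncomputable def v0l1 : L0.LvP := ⟨pmV, nat_lit 1984, nat_lit 1, nat_lit 1985, nat_lit 127, nat_lit 1992, nat_lit 128, v0l1v⟩

noncomputable def v0l1t (c : ℕ) : ℕ := Nat.land (Nat.shiftRight v0l1tD (Nat.mul (nat_lit 14) c)) (nat_lit 16383)

noncomputable def v0l1S : List ℕ := [nat_lit 56, nat_lit 57]

noncomputable def v0l0rB : L0.BT := (.node (.node (.leaf v0l0rB_0) (.leaf v0l0rB_2)) (.node (.leaf v0l0rB_1) (.leaf v0l0rB_3)))

noncomputable def v0l0r (c : ℕ) : ℕ := L0.rowOf v0l0rB (nat_lit 4) (nat_lit 15) (nat_lit 1994) (nat_lit 1793954211366022694113801876840128100034871409513586250746316776290259783425578615401030447369541046747571819748417910583511123376348523955353017744010395602173906080395504375010762174191250701116076984219741972574712741619474818186676828531882286780795390571221287481389759837587864244524002565968286448146002639202882164150037179450123657170327105882819203167448541028601906377066191895183769810676831353109303069033234715310287563158747705988305326397404720186258671215368588625611876280581509852855552819149745718992630449787803625851701801184123166018366180137512856918294030710215034138299203583)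 c

noncomputable def v0l0 : L0.LvP := ⟨pmV, nat_lit 1984, nat_lit 1, nat_lit 1985, nat_lit 63, nat_lit 1991, nat_lit 56, v0l0v⟩

noncomputable def v0l0tD : ℕ := nat_lit 0x32541ed51767529a31ac18c0089de235956a0cf866212917a95685b36cb43c38189dd023d3258b7c7b446f3488a5406b29c15a94c1df2d69a1dac475c06bee70abaf1b02425e464dcdb4ce790620c6839312d8b7

noncomputable def v0l0t (c : ℕ) : ℕ := Nat.land (Nat.shiftRight v0l0tD (Nat.mul (nat_lit 12) c)) (nat_lit 4095)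

noncomputable def v0l0S : List ℕ := [nat_lit 54, nat_lit 55]

noncomputable def v1l2rB : L0.BT := (.node (.node (.node (.node (.node (.leaf v1l2rB_0) (.leaf v1l2rB_16)) (.leaf v1l2rB_8)) (.node (.node (.leaf v1l2rB_4) (.leaf v1l2rB_20)) (.leaf v1l2rB_12))) (.node (.node (.node (.leaf v1l2rB_2) (.leaf v1l2rB_18)) (.leaf v1l2rB_10)) (.node (.leaf v1l2rB_6) (.leaf v1l2rB_14)))) (.node (.node (.node (.node (.leaf v1l2rB_1) (.leaf v1l2rB_17)) (.leaf v1l2rB_9)) (.node (.leaf v1l2rB_5) (.leaf v1l2rB_13))) (.node (.node (.node (.leaf v1l2rB_3) (.leaf v1l2rB_19)) (.leaf v1l2rB_11)) (.node (.leaf v1l2rB_7) (.leaf v1l2rB_15)))))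

noncomputable def v1l2r (c : ℕ) : ℕ := L0.rowOf v1l2rB (nat_lit 4) (nat_lit 15) (nat_lit 1999) (nat_lit 57406534763712726211641660058884099201115885104434760023882136841288313069618515692832974315825313495922298231949373138672355948043152766571296567808332659269564994572656140000344389574120022435714463495031743122390807731823194181973658513020233176985452498279081199404472314802811655824768082110985166340672084454492229252801189742403957029450467388250214501358353312915261004066118140645880633941658603299497698209063510889929202021079926591625770444716951045960277478891794836019580040978608315291377690212791863007764174393209716027254457637891941312587717764400411421385408982726881092425574514687) c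

noncomputable def v1l2 : L0.LvP := ⟨pmV, nat_lit 1984, nat_lit 1, nat_lit 1985, nat_lit 511, nat_lit 1994, nat_lit 324, v1l2v⟩

noncomputable def v1l2t (c : ℕ) : ℕ := Nat.land (Nat.shiftRight v1l2tD (Nat.mul (nat_lit 18) c)) (nat_lit 262143)

noncomputable def v1l2S : List ℕ := [nat_lit 64, nat_lit 65]

noncomputable def v1l1rB : L0.BT := (.node (.leaf v1l1rB_0) (.leaf v1l1rB_1))

noncomputable def v1l1r (c : ℕ) : ℕ := L0.rowOf v1l1rB (nat_lit 4) (nat_lit 15) (nat_lit 1993) (nat_lit 896977105683011347056900938420064050017435704756793125373158388145129891712789307700515223684770523373785909874208955291755561688174261977676508872005197801086953040197752187505381087095625350558038492109870986287356370809737409093338414265941143390397695285610643740694879918793932122262001282984143224073001319601441082075018589725061828585163552941409601583724270514300953188533095947591884905338415676554651534516617357655143781579373852994152663198702360093129335607684294312805938140290754926427776409574872859496315224893901812925850900592061583009183090068756428459147015355107517069149601791)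 c

noncomputable def v1l1 : L0.LvP := ⟨pmV, nat_lit 1984, nat_lit 1, nat_lit 1985, nat_lit 31, nat_lit 1990, nat_lit 27, v1l1v⟩

noncomputable def v1l1tD : ℕ := nat_lit 0x180d0504289329c557968ee02169ab02db1b2b8a847c58d8265b5a4df0bbc74815c3

noncomputable def v1l1t (c : ℕ) : ℕ := Nat.land (Nat.shiftRight v1l1tD (Nat.mul (nat_lit 10) c)) (nat_lit 1023)

noncomputable def v1l1S : List ℕ := [nat_lit 62, nat_lit 63]

noncomputable def v1l0rB : L0.BT := (.node (.node (.leaf v1l0rB_0) (.leaf v1l0rB_2)) (.node (.leaf v1l0rB_1) (.leaf v1l0rB_3)))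

noncomputable def v1l0r (c : ℕ) : ℕ := L0.rowOf v1l0rB (nat_lit 4) (nat_lit 15) (nat_lit 1994) (nat_lit 1793954211366022694113801876840128100034871409513586250746316776290259783425578615401030447369541046747571819748417910583511123376348523955353017744010395602173906080395504375010762174191250701116076984219741972574712741619474818186676828531882286780795390571221287481389759837587864244524002565968286448146002639202882164150037179450123657170327105882819203167448541028601906377066191895183769810676831353109303069033234715310287563158747705988305326397404720186258671215368588625611876280581509852855552819149745718992630449787803625851701801184123166018366180137512856918294030710215034138299203583) c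

noncomputable def v1l0 : L0.LvP := ⟨pmV, nat_lit 1984, nat_lit 1, nat_lit 1985, nat_lit 63, nat_lit 1991, nat_lit 54, v1l0v⟩

noncomputable def v1l0tD : ℕ := nat_lit 0x464817ba82e2045a2f1ab3e77c754e6950cb15cb75c0f26d09395bc917990086525d02216ccaf4a9f58232536c9f013350a49e701d49b1d6044208e6cd8c54bee9a98408832b139a74d4d6a63932d061ea

noncomputable def v1l0t (c : ℕ) : ℕ := Nat.land (Nat.shiftRight v1l0tD (Nat.mul (nat_lit 12) c)) (nat_lit 4095)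

noncomputable def v1l0S : List ℕ := [nat_lit 60, nat_lit 61]

noncomputable def v2l1rB : L0.BT := (.node (.node (.leaf v2l1rB_0) (.leaf v2l1rB_2)) (.node (.leaf v2l1rB_1) (.leaf v2l1rB_3)))

noncomputable def v2l1r (c : ℕ) : ℕ := L0.rowOf v2l1rB (nat_lit 4) (nat_lit 15) (nat_lit 1995) (nat_lit 3587908422732045388227603753680256200069742819027172501492633552580519566851157230802060894739082093495143639496835821167022246752697047910706035488020791204347812160791008750021524348382501402232153968439483945149425483238949636373353657063764573561590781142442574962779519675175728489048005131936572896292005278405764328300074358900247314340654211765638406334897082057203812754132383790367539621353662706218606138066469430620575126317495411976610652794809440372517342430737177251223752561163019705711105638299491437985260899575607251703403602368246332036732360275025713836588061420430068276598407167)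 c

noncomputable def v2l1 : L0.LvP := ⟨pmV, nat_lit 1984, nat_lit 1, nat_lit 1985, nat_lit 63, nat_lit 1991, nat_lit 50, v2l1v⟩

noncomputable def v2l1tD : ℕ := nat_lit 0x3d74ea5a20cb12e8e741c5d8223a64b71a1e70ead675bc694a6799045b2f844c0600f26115246d2dd6c7353911b9488294a54081a09f2a85096651c3bcd6901883019f03a07ebaac61598c

noncomputable def v2l1t (c : ℕ) : ℕ := Nat.land (Nat.shiftRight v2l1tD (Nat.mul (nat_lit 12) c)) (nat_lit 4095)

noncomputable def v2l1S : List ℕ := [nat_lit 68, nat_lit 69]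

noncomputable def v2l0rB : L0.BT := (.node (.node (.leaf v2l0rB_0) (.leaf v2l0rB_2)) (.node (.leaf v2l0rB_1) (.leaf v2l0rB_3)))

noncomputable def v2l0r (c : ℕ) : ℕ := L0.rowOf v2l0rB (nat_lit 4) (nat_lit 15) (nat_lit 1995) (nat_lit 3587908422732045388227603753680256200069742819027172501492633552580519566851157230802060894739082093495143639496835821167022246752697047910706035488020791204347812160791008750021524348382501402232153968439483945149425483238949636373353657063764573561590781142442574962779519675175728489048005131936572896292005278405764328300074358900247314340654211765638406334897082057203812754132383790367539621353662706218606138066469430620575126317495411976610652794809440372517342430737177251223752561163019705711105638299491437985260899575607251703403602368246332036732360275025713836588061420430068276598407167) c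

noncomputable def v2l0 : L0.LvP := ⟨pmV, nat_lit 1984, nat_lit 1, nat_lit 1985, nat_lit 63, nat_lit 1991, nat_lit 60, v2l0v⟩

noncomputable def v2l0tD : ℕ := nat_lit 0x2125088dc9ab357aea7ade4e8b58310465bb3847f4dd59c7664cfa402e2115e69875fb1a4d1250c43c93c0dd4c0e094b86fa233223e5472b81296037d1d1aebf813962c5f0089da7a59540aa6ecae9b4949292cf728b456f31f6

noncomputable def v2l0t (c : ℕ) : ℕ := Nat.land (Nat.shiftRight v2l0tD (Nat.mul (nat_lit 12) c)) (nat_lit 4095)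

noncomputable def v2l0S : List ℕ := [nat_lit 66, nat_lit 67]

noncomputable def v3l0r (c : ℕ) : ℕ := Nat.land (Nat.shiftRight v3l0rD (Nat.mul (nat_lit 1995) c)) (nat_lit 3587908422732045388227603753680256200069742819027172501492633552580519566851157230802060894739082093495143639496835821167022246752697047910706035488020791204347812160791008750021524348382501402232153968439483945149425483238949636373353657063764573561590781142442574962779519675175728489048005131936572896292005278405764328300074358900247314340654211765638406334897082057203812754132383790367539621353662706218606138066469430620575126317495411976610652794809440372517342430737177251223752561163019705711105638299491437985260899575607251703403602368246332036732360275025713836588061420430068276598407167)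

noncomputable def v3l0 : L0.LvP := ⟨pmV, nat_lit 1984, nat_lit 1, nat_lit 1985, nat_lit 31, nat_lit 1990, nat_lit 19, v3l0v⟩

noncomputable def v3l0tD : ℕ := nat_lit 0x2868649608188128a277b52e

noncomputable def v3l0t (c : ℕ) : ℕ := Nat.land (Nat.shiftRight v3l0tD (Nat.mul (nat_lit 5) c)) (nat_lit 31)

noncomputable def v3l0S : List ℕ := [nat_lit 70]

noncomputable def v4l0rB : L0.BT := (.node (.leaf v4l0rB_0) (.leaf v4l0rB_1))

noncomputable def v4l0r (c : ℕ) : ℕ := L0.rowOf v4l0rB (nat_lit 4) (nat_lit 15) (nat_lit 1995) (nat_lit 3587908422732045388227603753680256200069742819027172501492633552580519566851157230802060894739082093495143639496835821167022246752697047910706035488020791204347812160791008750021524348382501402232153968439483945149425483238949636373353657063764573561590781142442574962779519675175728489048005131936572896292005278405764328300074358900247314340654211765638406334897082057203812754132383790367539621353662706218606138066469430620575126317495411976610652794809440372517342430737177251223752561163019705711105638299491437985260899575607251703403602368246332036732360275025713836588061420430068276598407167)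 c

noncomputable def v4l0 : L0.LvP := ⟨pmV, nat_lit 1984, nat_lit 1, nat_lit 1985, nat_lit 31, nat_lit 1990, nat_lit 31, v4l0v⟩

noncomputable def v4l0tD : ℕ := nat_lit 0x20a43fcd58f4e113a149e532d6f6ce23b650dc

noncomputable def v4l0t (c : ℕ) : ℕ := Nat.land (Nat.shiftRight v4l0tD (Nat.mul (nat_lit 5) c)) (nat_lit 31)

noncomputable def v4l0S : List ℕ := [nat_lit 71]

noncomputable def LA0t (c : ℕ) : ℕ := Nat.land (Nat.shiftRight LA0tD (Nat.mul (nat_lit 5) c)) (nat_lit 31)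

noncomputable def LA0 : SLv := ⟨⟨nat_lit 40, LA0t, nat_lit 1073741823, nat_lit 4, nat_lit 819, fun i => i⟩, true, [nat_lit 306, nat_lit 155, nat_lit 321, nat_lit 540, nat_lit 109, nat_lit 564, nat_lit 703, nat_lit 271, nat_lit 65, nat_lit 366, nat_lit 376, nat_lit 614, nat_lit 40], [nat_lit 30], nat_lit 12, []⟩

noncomputable def LA1t (c : ℕ) : ℕ := Nat.land (Nat.shiftRight LA1tD (Nat.mul (nat_lit 5) c)) (nat_lit 31)

noncomputable def LA1pD : ℕ := nat_lit 0xab2a8999f97e1b7675984cd323c0eb318731384405403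

noncomputable def LA1p (c : ℕ) : ℕ := Nat.land (Nat.shiftRight LA1pD (Nat.mul (nat_lit 10) c)) (nat_lit 1023)

noncomputable def LA1 : SLv := ⟨⟨nat_lit 306, LA1t, nat_lit 192806912, nat_lit 4, nat_lit 18, LA1p⟩, false, [], [], nat_lit 0, []⟩

noncomputable def LA2t (c : ℕ) : ℕ := Nat.land (Nat.shiftRight LA2tD (Nat.mul (nat_lit 5) c)) (nat_lit 31)

noncomputable def LA2pD : ℕ := nat_lit 0xb1a899ca709ae1b822056fd5c564b026c8710c1b

noncomputable def LA2p (c : ℕ) : ℕ := Nat.land (Nat.shiftRight LA2pD (Nat.mul (nat_lit 10) c)) (nat_lit 1023)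

noncomputable def LA2 : SLv := ⟨⟨nat_lit 155, LA2t, nat_lit 921698304, nat_lit 4, nat_lit 16, LA2p⟩, false, [], [], nat_lit 0, []⟩

noncomputable def LA3t (c : ℕ) : ℕ := Nat.land (Nat.shiftRight LA3tD (Nat.mul (nat_lit 5) c)) (nat_lit 31)

noncomputable def LA3pD : ℕ := nat_lit 0xb46468ba296f1ad691925ed4149924380a30580f

noncomputable def LA3p (c : ℕ) : ℕ := Nat.land (Nat.shiftRight LA3pD (Nat.mul (nat_lit 10) c)) (nat_lit 1023)

noncomputable def LA3 : SLv := ⟨⟨nat_lit 321, LA3t, nat_lit 532676608, nat_lit 4, nat_lit 16, LA3p⟩, false, [], [], nat_lit 0, []⟩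

noncomputable def LA4t (c : ℕ) : ℕ := Nat.land (Nat.shiftRight LA4tD (Nat.mul (nat_lit 5) c)) (nat_lit 31)

noncomputable def LA4pD : ℕ := nat_lit 0xc17049c659870d52dc75

noncomputable def LA4p (c : ℕ) : ℕ := Nat.land (Nat.shiftRight LA4pD (Nat.mul (nat_lit 10) c)) (nat_lit 1023)

noncomputable def LA4 : SLv := ⟨⟨nat_lit 540, LA4t, nat_lit 771751936, nat_lit 4, nat_lit 8, LA4p⟩, false, [], [], nat_lit 0, []⟩

noncomputable def LA5t (c : ℕ) : ℕ := Nat.land (Nat.shiftRight LA5tD (Nat.mul (nat_lit 5) c)) (nat_lit 31)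

noncomputable def LA5pD : ℕ := nat_lit 0x2eb6f5825ccda1b462

noncomputable def LA5p (c : ℕ) : ℕ := Nat.land (Nat.shiftRight LA5pD (Nat.mul (nat_lit 10) c)) (nat_lit 1023)

noncomputable def LA5 : SLv := ⟨⟨nat_lit 109, LA5t, nat_lit 939524096, nat_lit 4, nat_lit 7, LA5p⟩, false, [], [], nat_lit 0, []⟩

noncomputable def LA6t (c : ℕ) : ℕ := Nat.land (Nat.shiftRight LA6tD (Nat.mul (nat_lit 5) c)) (nat_lit 31)

noncomputable def LA6pD : ℕ := nat_lit 0x3138fe34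

noncomputable def LA6p (c : ℕ) : ℕ := Nat.land (Nat.shiftRight LA6pD (Nat.mul (nat_lit 10) c)) (nat_lit 1023)

noncomputable def LA6 : SLv := ⟨⟨nat_lit 564, LA6t, nat_lit 536870912, nat_lit 3, nat_lit 3, LA6p⟩, false, [], [], nat_lit 0, []⟩

noncomputable def LAs : List SLv := [LA1, LA2, LA3, LA4, LA5, LA6]

noncomputable def DA : CD := ⟨[nat_lit 30], [nat_lit 30], nat_lit 1, nat_lit 13, [nat_lit 30], [],
  [[([nat_lit 0], nat_lit 0)]],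
  [[nat_lit 30]], [[nat_lit 53]], []⟩

noncomputable def rhA (r : List ℕ) (i : ℕ) : Bool := force (LA0.pts i) (fun δ => cand e.T iv LA0 (emptyB e.T iv LAs)
  (tr e.T r) (genP (tr e.T r) [] LA0.xs δ) δ) false

noncomputable def cA1 : CC := ⟨[], [(nat_lit 14316723603, [])],
  [⟨nat_lit 1, nat_lit 99, [], []⟩],
  []⟩

noncomputable def cA6 : CC := ⟨[], [(nat_lit 14316723603, [])],
  [⟨nat_lit 1, nat_lit 99, [], []⟩],
  []⟩

noncomputable def cA7 : CC := ⟨[], [(nat_lit 14316723603, [])],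
  [⟨nat_lit 1, nat_lit 99, [], []⟩],
  []⟩

noncomputable def cA8 : CC := ⟨[], [(nat_lit 14316723603, [])],
  [⟨nat_lit 1, nat_lit 99, [], []⟩],
  []⟩

noncomputable def cA9 : CC := ⟨[], [(nat_lit 14316723603, [])],
  [⟨nat_lit 1, nat_lit 99, [], []⟩],
  []⟩

noncomputable def cA10 : CC := ⟨[], [(nat_lit 14316723603, [])],
  [⟨nat_lit 1, nat_lit 99, [], []⟩],
  []⟩

noncomputable def cA11 : CC := ⟨[], [(nat_lit 14316723603, [])],
  [⟨nat_lit 1, nat_lit 99, [], []⟩],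
  []⟩

noncomputable def cA12 : CC := ⟨[], [(nat_lit 14316723603, [])],
  [⟨nat_lit 1, nat_lit 99, [], []⟩],
  []⟩

noncomputable def cA13 : CC := ⟨[], [(nat_lit 14316723603, [])],
  [⟨nat_lit 1, nat_lit 99, [], []⟩],
  []⟩

noncomputable def rA14x0 : RP := ⟨[nat_lit 23, nat_lit 16, nat_lit 24, nat_lit 19, nat_lit 20, nat_lit 27, nat_lit 22, nat_lit 22, nat_lit 27, nat_lit 26, nat_lit 29, nat_lit 28, nat_lit 29, nat_lit 29], [nat_lit 7, nat_lit 1, nat_lit 24, nat_lit 19, nat_lit 21, nat_lit 27, nat_lit 22, nat_lit 22, nat_lit 25, nat_lit 26, nat_lit 27], [⟨nat_lit 1, nat_lit 0, [nat_lit 15, nat_lit 0, nat_lit 22, nat_lit 19, nat_lit 23, nat_lit 20, nat_lit 25, nat_lit 22, nat_lit 25, nat_lit 28, nat_lit 27, nat_lit 27, nat_lit 29], [nat_lit 0, nat_lit 1]⟩]⟩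

noncomputable def rA14x1 : RP := ⟨[nat_lit 14, nat_lit 9, nat_lit 17, nat_lit 21, nat_lit 20, nat_lit 27, nat_lit 26, nat_lit 29], [nat_lit 1, nat_lit 16, nat_lit 3, nat_lit 21, nat_lit 17, nat_lit 26, nat_lit 21, nat_lit 22, nat_lit 22, nat_lit 25, nat_lit 29, nat_lit 27], [⟨nat_lit 1, nat_lit 0, [nat_lit 14, nat_lit 5, nat_lit 0, nat_lit 18, nat_lit 18, nat_lit 23, nat_lit 20, nat_lit 23, nat_lit 25, nat_lit 22, nat_lit 25, nat_lit 26, nat_lit 29, nat_lit 28, nat_lit 29], [nat_lit 1, nat_lit 1]⟩]⟩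

noncomputable def cA14 : CC := ⟨[[nat_lit 29, nat_lit 4, nat_lit 1, nat_lit 21, nat_lit 26, nat_lit 24, nat_lit 25, nat_lit 28, nat_lit 27, nat_lit 27]], [(nat_lit 6813061833, [nat_lit 0, nat_lit 0]), (nat_lit 14316723603, []), (nat_lit 34702406831, [nat_lit 0, nat_lit 0, nat_lit 0, nat_lit 0, nat_lit 0, nat_lit 0, nat_lit 0, nat_lit 0, nat_lit 0, nat_lit 0]), (nat_lit 48177264701, [nat_lit 0, nat_lit 0, nat_lit 0, nat_lit 0, nat_lit 0]), (nat_lit 121311242455, [nat_lit 0, nat_lit 0, nat_lit 0, nat_lit 0, nat_lit 0, nat_lit 0, nat_lit 0, nat_lit 0]), (nat_lit 132085950480, [nat_lit 0, nat_lit 0, nat_lit 0, nat_lit 0, nat_lit 0, nat_lit 0, nat_lit 0, nat_lit 0, nat_lit 0, nat_lit 0, nat_lit 0]), (nat_lit 160259157089, [nat_lit 0, nat_lit 0, nat_lit 0]), (nat_lit 251354843452, [nat_lit 0, nat_lit 0, nat_lit 0, nat_lit 0]), (nat_lit 256435640983, [nat_lit 0, nat_lit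 0, nat_lit 0, nat_lit 0, nat_lit 0, nat_lit 0, nat_lit 0]), (nat_lit 277958255089, [nat_lit 0, nat_lit 0, nat_lit 0, nat_lit 0, nat_lit 0, nat_lit 0, nat_lit 0, nat_lit 0, nat_lit 0, nat_lit 0, nat_lit 0, nat_lit 0]), (nat_lit 332495533559, [nat_lit 0, nat_lit 0, nat_lit 0, nat_lit 0, nat_lit 0, nat_lit 0]), (nat_lit 418009261814, [nat_lit 0]), (nat_lit 428353573560, [nat_lit 0, nat_lit 0, nat_lit 0, nat_lit 0, nat_lit 0, nat_lit 0, nat_lit 0, nat_lit 0, nat_lit 0])],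
  [⟨nat_lit 2, nat_lit 0, [], []⟩, ⟨nat_lit 1, nat_lit 99, [], []⟩, ⟨nat_lit 2, nat_lit 1, [], []⟩, ⟨nat_lit 2, nat_lit 0, [nat_lit 25, nat_lit 1, nat_lit 22, nat_lit 19, nat_lit 20, nat_lit 21, nat_lit 24, nat_lit 24, nat_lit 29, nat_lit 25, nat_lit 25, nat_lit 27, nat_lit 27, nat_lit 29], []⟩, ⟨nat_lit 2, nat_lit 0, [nat_lit 18, nat_lit 3, nat_lit 19, nat_lit 20, nat_lit 20, nat_lit 24, nat_lit 27, nat_lit 26, nat_lit 28, nat_lit 29, nat_lit 29], []⟩, ⟨nat_lit 2, nat_lit 0, [nat_lit 20, nat_lit 13, nat_lit 3, nat_lit 17, nat_lit 18, nat_lit 29, nat_lit 20, nat_lit 23, nat_lit 25, nat_lit 22, nat_lit 26, nat_lit 29, nat_lit 28], []⟩, ⟨nat_lit 2, nat_lit 1, [nat_lit 20, nat_lit 13, nat_lit 3, nat_lit 17, nat_lit 18, nat_lit 29, nat_lit 20, nat_lit 23, nat_lit 25, nat_lit 22, nat_lit 26, nat_lit 29, nat_lit 28], []⟩, ⟨nat_lit 2, nat_lit 1, [nat_lit 10, nat_lit 3,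 nat_lit 18, nat_lit 19, nat_lit 25, nat_lit 20, nat_lit 22, nat_lit 24, nat_lit 25, nat_lit 27, nat_lit 27, nat_lit 29, nat_lit 29], []⟩, ⟨nat_lit 2, nat_lit 0, [nat_lit 8, nat_lit 21, nat_lit 1, nat_lit 24, nat_lit 19, nat_lit 21, nat_lit 20, nat_lit 28, nat_lit 22, nat_lit 29, nat_lit 25, nat_lit 29, nat_lit 28], []⟩, ⟨nat_lit 2, nat_lit 1, [nat_lit 25, nat_lit 1, nat_lit 22, nat_lit 19, nat_lit 20, nat_lit 21, nat_lit 24, nat_lit 24, nat_lit 29, nat_lit 25, nat_lit 25, nat_lit 27, nat_lit 27, nat_lit 29], []⟩, ⟨nat_lit 2, nat_lit 0, [nat_lit 10, nat_lit 3, nat_lit 18, nat_lit 19, nat_lit 25, nat_lit 20, nat_lit 22, nat_lit 24, nat_lit 25, nat_lit 27, nat_lit 27, nat_lit 29, nat_lit 29], []⟩, ⟨nat_lit 2, nat_lit 1, [nat_lit 18, nat_lit 3, nat_lit 19, nat_lit 20, nat_lit 20, nat_lit 24, nat_lit 27, nat_lit 26, nat_lit 28, nat_lit 29, nat_lit 29], []⟩, ⟨nat_lit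 2, nat_lit 1, [nat_lit 8, nat_lit 21, nat_lit 1, nat_lit 24, nat_lit 19, nat_lit 21, nat_lit 20, nat_lit 28, nat_lit 22, nat_lit 29, nat_lit 25, nat_lit 29, nat_lit 28], []⟩],
  [rA14x0, rA14x1]⟩

noncomputable def CLA : List (List ℕ) := [[nat_lit 30], [nat_lit 53], [nat_lit 30, nat_lit 30], [nat_lit 30, nat_lit 53], [nat_lit 53, nat_lit 53], [nat_lit 30, nat_lit 30, nat_lit 30], [nat_lit 30, nat_lit 30, nat_lit 53], [nat_lit 30, nat_lit 53, nat_lit 53], [nat_lit 30, nat_lit 30, nat_lit 30, nat_lit 30], [nat_lit 30, nat_lit 30, nat_lit 30, nat_lit 53], [nat_lit 30, nat_lit 30, nat_lit 53, nat_lit 53], [nat_lit 30, nat_lit 30, nat_lit 30, nat_lit 30, nat_lit 30], [nat_lit 30, nat_lit 30, nat_lit 30, nat_lit 30, nat_lit 53], [nat_lit 30, nat_lit 30, nat_lit 30, nat_lit 53, nat_lit 53], [nat_lit 30, nat_lit 30, nat_lit 30, nat_lit 30, nat_lit 30, nat_lit 30], [nat_lit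 30, nat_lit 30, nat_lit 30, nat_lit 30, nat_lit 30, nat_lit 53], [nat_lit 30, nat_lit 30, nat_lit 30, nat_lit 30, nat_lit 53, nat_lit 53], [nat_lit 30, nat_lit 30, nat_lit 30, nat_lit 30, nat_lit 30, nat_lit 30, nat_lit 30], [nat_lit 30, nat_lit 30, nat_lit 30, nat_lit 30, nat_lit 30, nat_lit 30, nat_lit 53], [nat_lit 30, nat_lit 30, nat_lit 30, nat_lit 30, nat_lit 30, nat_lit 53, nat_lit 53], [nat_lit 30, nat_lit 30, nat_lit 30, nat_lit 30, nat_lit 30, nat_lit 30, nat_lit 30, nat_lit 30], [nat_lit 30, nat_lit 30, nat_lit 30, nat_lit 30, nat_lit 30, nat_lit 30, nat_lit 30, nat_lit 53], [nat_lit 30, nat_lit 30, nat_lit 30, nat_lit 30, nat_lit 30, nat_lit 30, nat_lit 53, nat_lit 53], [nat_lit 30, nat_lit 30, nat_lit 30, nat_lit 30, nat_lit 30, nat_lit 30, nat_lit 30, nat_lit 30, nat_lit 30], [nat_lit 30, nat_lit 30, nat_lit 30, nat_lit 30, nat_lit 30, nat_lit 30,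 nat_lit 30, nat_lit 30, nat_lit 53], [nat_lit 30, nat_lit 30, nat_lit 30, nat_lit 30, nat_lit 30, nat_lit 30, nat_lit 30, nat_lit 53, nat_lit 53], [nat_lit 30, nat_lit 30, nat_lit 30, nat_lit 30, nat_lit 30, nat_lit 30, nat_lit 30, nat_lit 30, nat_lit 30, nat_lit 30], [nat_lit 30, nat_lit 30, nat_lit 30, nat_lit 30, nat_lit 30, nat_lit 30, nat_lit 30, nat_lit 30, nat_lit 30, nat_lit 53], [nat_lit 30, nat_lit 30, nat_lit 30, nat_lit 30, nat_lit 30, nat_lit 30, nat_lit 30, nat_lit 30, nat_lit 53, nat_lit 53], [nat_lit 30, nat_lit 30, nat_lit 30, nat_lit 30, nat_lit 30, nat_lit 30, nat_lit 30, nat_lit 30, nat_lit 30, nat_lit 30, nat_lit 30], [nat_lit 30, nat_lit 30, nat_lit 30, nat_lit 30, nat_lit 30, nat_lit 30, nat_lit 30, nat_lit 30, nat_lit 30, nat_lit 30, nat_lit 53], [nat_lit 30, nat_lit 30, nat_lit 30, nat_lit 30, nat_lit 30, nat_lit 30, nat_lit 30, nat_lit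 30, nat_lit 30, nat_lit 53, nat_lit 53], [nat_lit 30, nat_lit 30, nat_lit 30, nat_lit 30, nat_lit 30, nat_lit 30, nat_lit 30, nat_lit 30, nat_lit 30, nat_lit 30, nat_lit 30, nat_lit 30], [nat_lit 30, nat_lit 30, nat_lit 30, nat_lit 30, nat_lit 30, nat_lit 30, nat_lit 30, nat_lit 30, nat_lit 30, nat_lit 30, nat_lit 30, nat_lit 53], [nat_lit 30, nat_lit 30, nat_lit 30, nat_lit 30, nat_lit 30, nat_lit 30, nat_lit 30, nat_lit 30, nat_lit 30, nat_lit 30, nat_lit 53, nat_lit 53], [nat_lit 30, nat_lit 30, nat_lit 30, nat_lit 30, nat_lit 30, nat_lit 30, nat_lit 30, nat_lit 30, nat_lit 30, nat_lit 30, nat_lit 30, nat_lit 30, nat_lit 53], [nat_lit 30, nat_lit 30, nat_lit 30, nat_lit 30, nat_lit 30, nat_lit 30, nat_lit 30, nat_lit 30, nat_lit 30, nat_lit 30, nat_lit 30, nat_lit 53, nat_lit 53], [nat_lit 30, nat_lit 30, nat_lit 30, nat_lit 30, nat_lit 30, nat_lit 30, nat_lit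 30, nat_lit 30, nat_lit 30, nat_lit 30, nat_lit 30, nat_lit 30, nat_lit 53, nat_lit 53]]

noncomputable def clAq0 : List (List ℕ) := [[nat_lit 1, nat_lit 2], [nat_lit 3, nat_lit 4], [nat_lit 4, nat_lit 5], [nat_lit 6, nat_lit 7], [nat_lit 7, nat_lit 8], [nat_lit 8, nat_lit 0], [nat_lit 9, nat_lit 10], [nat_lit 10, nat_lit 11], [nat_lit 11, nat_lit 1], [nat_lit 12, nat_lit 13], [nat_lit 13, nat_lit 14], [nat_lit 14, nat_lit 3], [nat_lit 15, nat_lit 16], [nat_lit 16, nat_lit 17], [nat_lit 17, nat_lit 6], [nat_lit 18, nat_lit 19], [nat_lit 19, nat_lit 20], [nat_lit 20, nat_lit 9], [nat_lit 21, nat_lit 22], [nat_lit 22, nat_lit 23], [nat_lit 23, nat_lit 12], [nat_lit 24, nat_lit 25], [nat_lit 25, nat_lit 26], [nat_lit 26, nat_lit 15], [nat_lit 27, nat_lit 28], [nat_lit 28, nat_lit 29], [nat_lit 29, nat_lit 18], [nat_lit 30, nat_lit 31], [nat_lit 31, nat_lit 32], [nat_lit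 32, nat_lit 21], [nat_lit 33, nat_lit 34], [nat_lit 34, nat_lit 35], [nat_lit 35, nat_lit 24], [nat_lit 0, nat_lit 36], [nat_lit 36, nat_lit 37], [nat_lit 37, nat_lit 27], [nat_lit 2, nat_lit 38], [nat_lit 38, nat_lit 30], [nat_lit 5, nat_lit 33]]

noncomputable def LB0t (c : ℕ) : ℕ := Nat.land (Nat.shiftRight LB0tD (Nat.mul (nat_lit 6) c)) (nat_lit 63)

noncomputable def LB0 : SLv := ⟨⟨nat_lit 0, LB0t, nat_lit 140727824678912, nat_lit 5, nat_lit 819, fun i => i⟩, true, [nat_lit 451, nat_lit 346, nat_lit 0], [nat_lit 47], nat_lit 11, [(nat_lit 26, [nat_lit 49, nat_lit 48, nat_lit 49, nat_lit 48, nat_lit 48]), (nat_lit 96, [nat_lit 49, nat_lit 49, nat_lit 48, nat_lit 49]), (nat_lit 135, [nat_lit 48, nat_lit 47, nat_lit 47, nat_lit 48, nat_lit 47]), (nat_lit 94, [nat_lit 47, nat_lit 47, nat_lit 49, nat_lit 49, nat_lit 48, nat_lit 49, nat_lit 48]), (nat_lit 10, [nat_lit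 47, nat_lit 48, nat_lit 49, nat_lit 49, nat_lit 47, nat_lit 48]), (nat_lit 41, [nat_lit 47, nat_lit 49, nat_lit 47, nat_lit 47, nat_lit 47]), (nat_lit 3, [nat_lit 47, nat_lit 47, nat_lit 49, nat_lit 47, nat_lit 48, nat_lit 48]), (nat_lit 13, [nat_lit 47, nat_lit 47, nat_lit 47, nat_lit 47, nat_lit 48, nat_lit 48]), (nat_lit 23, [nat_lit 49, nat_lit 47, nat_lit 47, nat_lit 49, nat_lit 49]), (nat_lit 105, [nat_lit 47, nat_lit 48, nat_lit 47, nat_lit 48, nat_lit 49, nat_lit 49, nat_lit 48]), (nat_lit 58, [nat_lit 47, nat_lit 47, nat_lit 47, nat_lit 48, nat_lit 47, nat_lit 48, nat_lit 49, nat_lit 49]), (nat_lit 109, [nat_lit 48, nat_lit 48, nat_lit 48]), (nat_lit 33, [nat_lit 47, nat_lit 47, nat_lit 49, nat_lit 47, nat_lit 47, nat_lit 47, nat_lit 49]), (nat_lit 182, [nat_lit 47, nat_lit 48, nat_lit 47, nat_lit 47, nat_lit 47]), (nat_lit 34, [nat_lit 49, nat_lit 47,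 nat_lit 49, nat_lit 48, nat_lit 49]), (nat_lit 20, [nat_lit 48, nat_lit 47, nat_lit 48, nat_lit 48]), (nat_lit 4, [nat_lit 47, nat_lit 49, nat_lit 49, nat_lit 49, nat_lit 49])]⟩

noncomputable def LB1t (c : ℕ) : ℕ := Nat.land (Nat.shiftRight LB1tD (Nat.mul (nat_lit 6) c)) (nat_lit 63)

noncomputable def LB1p (c : ℕ) : ℕ := Nat.land (Nat.shiftRight LB1pD (Nat.mul (nat_lit 10) c)) (nat_lit 1023)

noncomputable def LB1 : SLv := ⟨⟨nat_lit 451, LB1t, nat_lit 140668768878592, nat_lit 5, nat_lit 288, LB1p⟩, false, [], [], nat_lit 0, []⟩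

noncomputable def LB2t (c : ℕ) : ℕ := Nat.land (Nat.shiftRight LB2tD (Nat.mul (nat_lit 6) c)) (nat_lit 63)

noncomputable def LB2p (c : ℕ) : ℕ := Nat.land (Nat.shiftRight LB2pD (Nat.mul (nat_lit 10) c)) (nat_lit 1023)

noncomputable def LB2 : SLv := ⟨⟨nat_lit 346, LB2t, nat_lit 139637976727552, nat_lit 5, nat_lit 128, LB2p⟩, false, [], [], nat_lit 0, []⟩

noncomputable def LB3tD : ℕ := nat_lit 0x2dbae000000000000000000000000000000000000000000000000000000000b80000000000000000000000000000000000000bc000000000000000000000002e000000000000000000000000000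

noncomputable def LB3t (c : ℕ) : ℕ := Nat.land (Nat.shiftRight LB3tD (Nat.mul (nat_lit 6) c)) (nat_lit 63)

noncomputable def LB3pD : ℕ := nat_lit 0x19b2e47a8c90a

noncomputable def LB3p (c : ℕ) : ℕ := Nat.land (Nat.shiftRight LB3pD (Nat.mul (nat_lit 7) c)) (nat_lit 127)

noncomputable def LB3 : SLv := ⟨⟨nat_lit 10, LB3t, nat_lit 123145302310912, nat_lit 4, nat_lit 7, LB3p⟩, true, [nat_lit 146, nat_lit 236, nat_lit 10], [], nat_lit 0, [(nat_lit 102, [nat_lit 47, nat_lit 49, nat_lit 47, nat_lit 49, nat_lit 48]), (nat_lit 18, [nat_lit 47, nat_lit 47, nat_lit 47, nat_lit 47, nat_lit 48, nat_lit 47, nat_lit 49])]⟩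

noncomputable def LB4t (c : ℕ) : ℕ := Nat.land (Nat.shiftRight LB4tD (Nat.mul (nat_lit 6) c)) (nat_lit 63)

noncomputable def LB4pD : ℕ := nat_lit 0x549e092

noncomputable def LB4p (c : ℕ) : ℕ := Nat.land (Nat.shiftRight LB4pD (Nat.mul (nat_lit 9) c)) (nat_lit 511)

noncomputable def LB4 : SLv := ⟨⟨nat_lit 146, LB4t, nat_lit 70368744177664, nat_lit 3, nat_lit 3, LB4p⟩, false, [], [], nat_lit 0, []⟩

noncomputable def LBs : List SLv := [LB1, LB2, LB3, LB4]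

noncomputable def rhoB0 : List ℕ := [nat_lit 24, nat_lit 19, nat_lit 20, nat_lit 21, nat_lit 22, nat_lit 24, nat_lit 25, nat_lit 25, nat_lit 28]

noncomputable def rhoB1 : List ℕ := [nat_lit 17, nat_lit 18, nat_lit 21, nat_lit 20, nat_lit 22, nat_lit 22, nat_lit 25, nat_lit 26, nat_lit 29, nat_lit 28]

noncomputable def rhoB2 : List ℕ := [nat_lit 22, nat_lit 9, nat_lit 18, nat_lit 26, nat_lit 20, nat_lit 22, nat_lit 24, nat_lit 26, nat_lit 27, nat_lit 29]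

noncomputable def rhoB3 : List ℕ := [nat_lit 22, nat_lit 9, nat_lit 24, nat_lit 17, nat_lit 17, nat_lit 22, nat_lit 20, nat_lit 27, nat_lit 22, nat_lit 22, nat_lit 27, nat_lit 26, nat_lit 27, nat_lit 27, nat_lit 29]

noncomputable def rhoB4 : List ℕ := [nat_lit 26, nat_lit 22, nat_lit 0, nat_lit 19, nat_lit 18, nat_lit 20, nat_lit 27, nat_lit 24, nat_lit 25, nat_lit 25, nat_lit 29, nat_lit 28, nat_lit 29, nat_lit 29]

noncomputable def DB : CD := ⟨[nat_lit 31], [nat_lit 33], nat_lit 4, nat_lit 3, [nat_lit 47, nat_lit 48, nat_lit 49], [[nat_lit 1, nat_lit 12, nat_lit 0, nat_lit 25, nat_lit 20, nat_lit 24, nat_lit 25, nat_lit 29, nat_lit 27, nat_lit 29, nat_lit 29], [nat_lit 15, nat_lit 4, nat_lit 0, nat_lit 20, nat_lit 17, nat_lit 21, nat_lit 22, nat_lit 27, nat_lit 27, nat_lit 29, nat_lit 29], [nat_lit 12, nat_lit 24, nat_lit 0, nat_lit 21, nat_lit 17, nat_lit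 26, nat_lit 20, nat_lit 27, nat_lit 24, nat_lit 25, nat_lit 26, nat_lit 29, nat_lit 28, nat_lit 29], [nat_lit 21, nat_lit 12, nat_lit 1, nat_lit 18, nat_lit 19, nat_lit 23, nat_lit 20, nat_lit 22, nat_lit 24, nat_lit 29, nat_lit 28], [nat_lit 3, nat_lit 2, nat_lit 22, nat_lit 19, nat_lit 29, nat_lit 20, nat_lit 23, nat_lit 22, nat_lit 29, nat_lit 25, nat_lit 28], [nat_lit 20, nat_lit 9, nat_lit 1, nat_lit 19, nat_lit 18, nat_lit 22, nat_lit 20, nat_lit 26, nat_lit 27, nat_lit 29], [nat_lit 27, nat_lit 6, nat_lit 0, nat_lit 21, nat_lit 17, nat_lit 20, nat_lit 21, nat_lit 24, nat_lit 25, nat_lit 26, nat_lit 27, nat_lit 27, nat_lit 29, nat_lit 29], [nat_lit 1, nat_lit 29, nat_lit 0, nat_lit 24, nat_lit 17, nat_lit 20, nat_lit 26, nat_lit 22, nat_lit 25, nat_lit 26, nat_lit 27, nat_lit 29, nat_lit 29], [nat_lit 29, nat_lit 3, nat_lit 0, nat_lit 18, nat_lit 18, nat_lit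 23, nat_lit 25, nat_lit 22, nat_lit 25, nat_lit 26, nat_lit 29, nat_lit 28, nat_lit 29], [nat_lit 10, nat_lit 16, nat_lit 1, nat_lit 27, nat_lit 17, nat_lit 22, nat_lit 22, nat_lit 20, nat_lit 26, nat_lit 22, nat_lit 22, nat_lit 28, nat_lit 29, nat_lit 29], [nat_lit 2, nat_lit 22, nat_lit 0, nat_lit 17, nat_lit 17, nat_lit 21, nat_lit 27, nat_lit 24, nat_lit 25, nat_lit 26, nat_lit 29], [nat_lit 11, nat_lit 14, nat_lit 0, nat_lit 22, nat_lit 19, nat_lit 22, nat_lit 20, nat_lit 26, nat_lit 24, nat_lit 25, nat_lit 25, nat_lit 27, nat_lit 27, nat_lit 29, nat_lit 29], [nat_lit 9, nat_lit 3, nat_lit 17, nat_lit 17, nat_lit 20, nat_lit 21, nat_lit 24, nat_lit 29, nat_lit 25, nat_lit 25, nat_lit 29, nat_lit 28], [nat_lit 14, nat_lit 29, nat_lit 4, nat_lit 27, nat_lit 17, nat_lit 26, nat_lit 21, nat_lit 20, nat_lit 26, nat_lit 22, nat_lit 22, nat_lit 26, nat_lit 29, nat_lit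 28], [nat_lit 0, nat_lit 28, nat_lit 0, nat_lit 18, nat_lit 22, nat_lit 22, nat_lit 20, nat_lit 24, nat_lit 25, nat_lit 26, nat_lit 27, nat_lit 27, nat_lit 29], [nat_lit 9, nat_lit 1, nat_lit 18, nat_lit 19, nat_lit 23, nat_lit 20, nat_lit 26, nat_lit 22, nat_lit 25, nat_lit 25, nat_lit 27, nat_lit 29], [nat_lit 14, nat_lit 10, nat_lit 18, nat_lit 19, nat_lit 26, nat_lit 21, nat_lit 25, nat_lit 22, nat_lit 25, nat_lit 25, nat_lit 29, nat_lit 29], [nat_lit 26, nat_lit 14, nat_lit 24, nat_lit 17, nat_lit 17, nat_lit 23, nat_lit 20, nat_lit 26, nat_lit 24, nat_lit 25, nat_lit 29, nat_lit 27, nat_lit 29], [nat_lit 27, nat_lit 11, nat_lit 0, nat_lit 22, nat_lit 19, nat_lit 20, nat_lit 25, nat_lit 22, nat_lit 27, nat_lit 26, nat_lit 28, nat_lit 27, nat_lit 27, nat_lit 29, nat_lit 29], [nat_lit 28, nat_lit 6, nat_lit 3, nat_lit 21, nat_lit 17, nat_lit 23, nat_lit 20, nat_lit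 22, nat_lit 29, nat_lit 25, nat_lit 29, nat_lit 27], [nat_lit 23, nat_lit 19, nat_lit 0, nat_lit 21, nat_lit 27, nat_lit 22, nat_lit 22, nat_lit 29, nat_lit 25], [nat_lit 18, nat_lit 11, nat_lit 0, nat_lit 20, nat_lit 18, nat_lit 25, nat_lit 20, nat_lit 27, nat_lit 24, nat_lit 29, nat_lit 25, nat_lit 25, nat_lit 27, nat_lit 29, nat_lit 29], [nat_lit 20, nat_lit 13, nat_lit 3, nat_lit 17, nat_lit 18, nat_lit 28, nat_lit 20, nat_lit 28, nat_lit 22, nat_lit 29, nat_lit 25, nat_lit 25, nat_lit 27, nat_lit 27, nat_lit 29, nat_lit 29], [nat_lit 16, nat_lit 12, nat_lit 24, nat_lit 19, nat_lit 21, nat_lit 22, nat_lit 22, nat_lit 25, nat_lit 29, nat_lit 28], [nat_lit 19, nat_lit 16, nat_lit 0, nat_lit 19, nat_lit 26, nat_lit 20, nat_lit 26, nat_lit 22, nat_lit 22, nat_lit 25, nat_lit 26, nat_lit 29, nat_lit 28], [nat_lit 23, nat_lit 6, nat_lit 18, nat_lit 19, nat_lit 26,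 nat_lit 21, nat_lit 20, nat_lit 26, nat_lit 24, nat_lit 25, nat_lit 28], [nat_lit 14, nat_lit 10, nat_lit 21, nat_lit 17, nat_lit 20, nat_lit 24, nat_lit 25, nat_lit 25, nat_lit 27, nat_lit 27, nat_lit 29, nat_lit 29], [nat_lit 0, nat_lit 28, nat_lit 0, nat_lit 24, nat_lit 17, nat_lit 17, nat_lit 26, nat_lit 24, nat_lit 28, nat_lit 29], [nat_lit 9, nat_lit 1, nat_lit 18, nat_lit 22, nat_lit 20, nat_lit 27, nat_lit 24, nat_lit 26, nat_lit 29, nat_lit 28, nat_lit 29, nat_lit 29], [nat_lit 10, nat_lit 2, nat_lit 24, nat_lit 19, nat_lit 20, nat_lit 20, nat_lit 27, nat_lit 24, nat_lit 25, nat_lit 26, nat_lit 28, nat_lit 27, nat_lit 27, nat_lit 29], [nat_lit 25, nat_lit 11, nat_lit 20, nat_lit 21, nat_lit 26, nat_lit 24, nat_lit 25, nat_lit 27], [nat_lit 14, nat_lit 1, nat_lit 0, nat_lit 17, nat_lit 17, nat_lit 29, nat_lit 20, nat_lit 23, nat_lit 22, nat_lit 27, nat_lit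 26, nat_lit 29, nat_lit 28], [nat_lit 2, nat_lit 25, nat_lit 12, nat_lit 20, nat_lit 17, nat_lit 28, nat_lit 20, nat_lit 26, nat_lit 22, nat_lit 29, nat_lit 25, nat_lit 27, nat_lit 29, nat_lit 29], [nat_lit 24, nat_lit 16, nat_lit 4, nat_lit 24, nat_lit 17, nat_lit 26, nat_lit 21, nat_lit 26, nat_lit 22, nat_lit 27, nat_lit 26, nat_lit 28, nat_lit 29], [nat_lit 25, nat_lit 10, nat_lit 24, nat_lit 17, nat_lit 17, nat_lit 25, nat_lit 20, nat_lit 26, nat_lit 24, nat_lit 29, nat_lit 25, nat_lit 28, nat_lit 29], [nat_lit 29, nat_lit 4, nat_lit 5, nat_lit 20, nat_lit 18, nat_lit 22, nat_lit 22, nat_lit 20, nat_lit 23, nat_lit 22, nat_lit 29, nat_lit 25, nat_lit 28, nat_lit 29], [nat_lit 3, nat_lit 19, nat_lit 1, nat_lit 21, nat_lit 17, nat_lit 25, nat_lit 20, nat_lit 22, nat_lit 24, nat_lit 29, nat_lit 28], [nat_lit 18, nat_lit 16, nat_lit 0, nat_lit 20, nat_lit 17, nat_lit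 26, nat_lit 20, nat_lit 28, nat_lit 22, nat_lit 25, nat_lit 25], [nat_lit 18, nat_lit 15, nat_lit 0, nat_lit 24, nat_lit 17, nat_lit 17, nat_lit 20, nat_lit 24, nat_lit 22, nat_lit 25, nat_lit 28, nat_lit 29, nat_lit 29], [nat_lit 3, nat_lit 0, nat_lit 17, nat_lit 18, nat_lit 26, nat_lit 20, nat_lit 25, nat_lit 22, nat_lit 25, nat_lit 25, nat_lit 29, nat_lit 28, nat_lit 29, nat_lit 29], [nat_lit 20, nat_lit 16, nat_lit 0, nat_lit 24, nat_lit 17, nat_lit 17, nat_lit 29, nat_lit 20, nat_lit 22, nat_lit 22, nat_lit 29, nat_lit 25, nat_lit 25, nat_lit 28], [nat_lit 23, nat_lit 11, nat_lit 2, nat_lit 19, nat_lit 29, nat_lit 20, nat_lit 28, nat_lit 29, nat_lit 29], [nat_lit 29, nat_lit 1, nat_lit 0, nat_lit 18, nat_lit 18, nat_lit 22, nat_lit 20, nat_lit 28, nat_lit 22, nat_lit 25, nat_lit 26], [nat_lit 10, nat_lit 12, nat_lit 0, nat_lit 22, nat_lit 19, nat_lit 25, nat_lit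 20, nat_lit 22, nat_lit 22, nat_lit 27, nat_lit 29], [nat_lit 0, nat_lit 19, nat_lit 5, nat_lit 19, nat_lit 18, nat_lit 20, nat_lit 25, nat_lit 22, nat_lit 26], [nat_lit 10, nat_lit 2, nat_lit 18, nat_lit 19, nat_lit 23, nat_lit 20, nat_lit 25, nat_lit 22, nat_lit 25, nat_lit 25, nat_lit 28, nat_lit 29, nat_lit 29], [nat_lit 7, nat_lit 25, nat_lit 0, nat_lit 18, nat_lit 18, nat_lit 21, nat_lit 28, nat_lit 22, nat_lit 29, nat_lit 25, nat_lit 28, nat_lit 29], [nat_lit 23, nat_lit 12, nat_lit 2, nat_lit 23, nat_lit 20, nat_lit 27, nat_lit 24, nat_lit 26, nat_lit 29, nat_lit 27], [nat_lit 20, nat_lit 16, nat_lit 0, nat_lit 24, nat_lit 19, nat_lit 21, nat_lit 23, nat_lit 20, nat_lit 22, nat_lit 22, nat_lit 26, nat_lit 29, nat_lit 28, nat_lit 29, nat_lit 29], [nat_lit 9, nat_lit 23, nat_lit 7, nat_lit 20, nat_lit 18, nat_lit 20, nat_lit 22, nat_lit 25, nat_lit 27, nat_lit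 29], [nat_lit 19, nat_lit 5, nat_lit 1, nat_lit 20, nat_lit 18, nat_lit 26, nat_lit 20, nat_lit 23, nat_lit 22, nat_lit 26, nat_lit 27, nat_lit 27], [nat_lit 16, nat_lit 12, nat_lit 0, nat_lit 18, nat_lit 19, nat_lit 26, nat_lit 20, nat_lit 25, nat_lit 22, nat_lit 25, nat_lit 28, nat_lit 27, nat_lit 27, nat_lit 29], [nat_lit 20, nat_lit 3, nat_lit 0, nat_lit 18, nat_lit 18, nat_lit 25, nat_lit 20, nat_lit 28, nat_lit 22, nat_lit 25, nat_lit 27, nat_lit 29, nat_lit 29]],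
  [[([nat_lit 0], nat_lit 0), ([], nat_lit 12), ([], nat_lit 5)], [([nat_lit 0, nat_lit 0, nat_lit 0, nat_lit 0, nat_lit 0, nat_lit 0, nat_lit 0, nat_lit 0, nat_lit 0, nat_lit 0], nat_lit 42), ([], nat_lit 14), ([], nat_lit 3)], [([nat_lit 0], nat_lit 47), ([], nat_lit 13), ([], nat_lit 4)], [([nat_lit 0, nat_lit 0, nat_lit 0, nat_lit 0], nat_lit 28), ([nat_lit 0], nat_lit 43), ([nat_lit 0, nat_lit 0, nat_lit 0, nat_lit 0, nat_lit 0, nat_lit 0], nat_lit 31)], [([nat_lit 0, nat_lit 0, nat_lit 0, nat_lit 0], nat_lit 27), ([nat_lit 0], nat_lit 4), ([nat_lit 0, nat_lit 0, nat_lit 0, nat_lit 0, nat_lit 0], nat_lit 12)], [([nat_lit 0, nat_lit 0, nat_lit 0, nat_lit 0], nat_lit 29), ([nat_lit 0, nat_lit 0, nat_lit 0, nat_lit 0, nat_lit 0, nat_lit 0, nat_lit 0], nat_lit 51), ([nat_lit 0, nat_lit 0, nat_lit 0, nat_lit 0, nat_lit 0, nat_lit 0, nat_lit 0, nat_lit 0, nat_lit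 0], nat_lit 42)], [([nat_lit 0], nat_lit 13), ([nat_lit 0, nat_lit 0, nat_lit 0, nat_lit 0, nat_lit 0], nat_lit 11), ([nat_lit 0, nat_lit 0, nat_lit 0, nat_lit 0, nat_lit 0, nat_lit 0, nat_lit 0], nat_lit 1)], [([nat_lit 0, nat_lit 0, nat_lit 0, nat_lit 0, nat_lit 0, nat_lit 0], nat_lit 20), ([nat_lit 0, nat_lit 0, nat_lit 0, nat_lit 0, nat_lit 0], nat_lit 52), ([nat_lit 0, nat_lit 0, nat_lit 0, nat_lit 0, nat_lit 0, nat_lit 0, nat_lit 0, nat_lit 0, nat_lit 0, nat_lit 0], nat_lit 47)], [([nat_lit 0, nat_lit 0, nat_lit 0, nat_lit 0, nat_lit 0, nat_lit 0, nat_lit 0, nat_lit 0, nat_lit 0, nat_lit 0], nat_lit 15), ([nat_lit 0, nat_lit 0, nat_lit 0, nat_lit 0, nat_lit 0], nat_lit 1), ([nat_lit 0, nat_lit 0, nat_lit 0, nat_lit 0, nat_lit 0, nat_lit 0, nat_lit 0, nat_lit 0, nat_lit 0, nat_lit 0], nat_lit 23)], [([], nat_lit 39), ([], nat_lit 41), ([nat_lit 0, nat_lit 0,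 nat_lit 0, nat_lit 0, nat_lit 0], nat_lit 38)], [([], nat_lit 38), ([nat_lit 0, nat_lit 0, nat_lit 0, nat_lit 0, nat_lit 0, nat_lit 0, nat_lit 0, nat_lit 0, nat_lit 0, nat_lit 0], nat_lit 28), ([nat_lit 0, nat_lit 0, nat_lit 0, nat_lit 0, nat_lit 0], nat_lit 36)], [([], nat_lit 40), ([nat_lit 0], nat_lit 2), ([nat_lit 0, nat_lit 0, nat_lit 0, nat_lit 0, nat_lit 0, nat_lit 0, nat_lit 0, nat_lit 0], nat_lit 46)], [([nat_lit 0, nat_lit 0, nat_lit 0, nat_lit 0, nat_lit 0], nat_lit 3), ([nat_lit 0, nat_lit 0, nat_lit 0, nat_lit 0, nat_lit 0, nat_lit 0, nat_lit 0, nat_lit 0, nat_lit 0, nat_lit 0], nat_lit 38), ([nat_lit 0, nat_lit 0, nat_lit 0, nat_lit 0, nat_lit 0, nat_lit 0, nat_lit 0, nat_lit 0, nat_lit 0, nat_lit 0], nat_lit 29)], [([nat_lit 0, nat_lit 0, nat_lit 0, nat_lit 0, nat_lit 0, nat_lit 0, nat_lit 0, nat_lit 0, nat_lit 0, nat_lit 0], nat_lit 26), ([nat_lit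 0, nat_lit 0, nat_lit 0, nat_lit 0, nat_lit 0, nat_lit 0, nat_lit 0, nat_lit 0, nat_lit 0, nat_lit 0], nat_lit 6), ([nat_lit 0, nat_lit 0, nat_lit 0, nat_lit 0, nat_lit 0, nat_lit 0, nat_lit 0, nat_lit 0, nat_lit 0, nat_lit 0, nat_lit 0], nat_lit 19)], [([nat_lit 0], nat_lit 46), ([nat_lit 0, nat_lit 0, nat_lit 0, nat_lit 0, nat_lit 0, nat_lit 0, nat_lit 0, nat_lit 0], nat_lit 50), ([], nat_lit 44)], [([nat_lit 0, nat_lit 0, nat_lit 0, nat_lit 0, nat_lit 0], nat_lit 4), ([nat_lit 0], nat_lit 46), ([nat_lit 0, nat_lit 0], nat_lit 20)], [([nat_lit 0, nat_lit 0, nat_lit 0, nat_lit 0, nat_lit 0], nat_lit 43), ([nat_lit 0, nat_lit 0, nat_lit 0, nat_lit 0, nat_lit 0], nat_lit 3), ([nat_lit 0, nat_lit 0, nat_lit 0, nat_lit 0, nat_lit 0, nat_lit 0, nat_lit 0, nat_lit 0, nat_lit 0], nat_lit 13)], [([nat_lit 0, nat_lit 0, nat_lit 0, nat_lit 0, nat_lit 0, nat_lit 0, nat_lit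 0, nat_lit 0, nat_lit 0, nat_lit 0, nat_lit 0], nat_lit 51), ([nat_lit 0, nat_lit 0, nat_lit 0, nat_lit 0, nat_lit 0, nat_lit 0, nat_lit 0, nat_lit 0, nat_lit 0, nat_lit 0], nat_lit 26), ([nat_lit 0, nat_lit 0, nat_lit 0, nat_lit 0, nat_lit 0, nat_lit 0], nat_lit 15)], [([nat_lit 0, nat_lit 0, nat_lit 0, nat_lit 0, nat_lit 0, nat_lit 0, nat_lit 0, nat_lit 0, nat_lit 0, nat_lit 0], nat_lit 45), ([nat_lit 0, nat_lit 0, nat_lit 0, nat_lit 0, nat_lit 0, nat_lit 0, nat_lit 0, nat_lit 0], nat_lit 33), ([nat_lit 0], nat_lit 24)], [([nat_lit 0, nat_lit 0, nat_lit 0], nat_lit 48), ([nat_lit 0, nat_lit 0], nat_lit 24), ([nat_lit 0, nat_lit 0, nat_lit 0, nat_lit 0, nat_lit 0, nat_lit 0, nat_lit 0, nat_lit 0, nat_lit 0, nat_lit 0], nat_lit 16)], [([nat_lit 0, nat_lit 0, nat_lit 0, nat_lit 0, nat_lit 0], nat_lit 16), ([nat_lit 0, nat_lit 0, nat_lit 0], nat_lit 23), ([nat_lit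 0, nat_lit 0, nat_lit 0, nat_lit 0, nat_lit 0, nat_lit 0], nat_lit 18)], [([nat_lit 0, nat_lit 0], nat_lit 33), ([nat_lit 0, nat_lit 0, nat_lit 0, nat_lit 0, nat_lit 0, nat_lit 0, nat_lit 0, nat_lit 0], nat_lit 40), ([nat_lit 0, nat_lit 0, nat_lit 0, nat_lit 0, nat_lit 0, nat_lit 0, nat_lit 0, nat_lit 0], nat_lit 27)], [([nat_lit 0, nat_lit 0, nat_lit 0, nat_lit 0, nat_lit 0, nat_lit 0, nat_lit 0, nat_lit 0, nat_lit 0, nat_lit 0, nat_lit 0], nat_lit 35), ([nat_lit 0, nat_lit 0, nat_lit 0, nat_lit 0, nat_lit 0, nat_lit 0, nat_lit 0, nat_lit 0], nat_lit 39), ([nat_lit 0, nat_lit 0, nat_lit 0, nat_lit 0, nat_lit 0, nat_lit 0, nat_lit 0, nat_lit 0], nat_lit 28)], [([nat_lit 0, nat_lit 0, nat_lit 0], nat_lit 12), ([nat_lit 0, nat_lit 0, nat_lit 0, nat_lit 0, nat_lit 0, nat_lit 0, nat_lit 0], nat_lit 10), ([nat_lit 0, nat_lit 0, nat_lit 0, nat_lit 0, nat_lit 0, nat_lit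 0, nat_lit 0, nat_lit 0], nat_lit 33)], [([nat_lit 0, nat_lit 0, nat_lit 0, nat_lit 0, nat_lit 0, nat_lit 0], nat_lit 22), ([nat_lit 0, nat_lit 0, nat_lit 0, nat_lit 0, nat_lit 0, nat_lit 0, nat_lit 0, nat_lit 0, nat_lit 0, nat_lit 0], nat_lit 35), ([nat_lit 0, nat_lit 0, nat_lit 0, nat_lit 0, nat_lit 0, nat_lit 0, nat_lit 0, nat_lit 0], nat_lit 32)], [([nat_lit 0, nat_lit 0, nat_lit 0, nat_lit 0, nat_lit 0, nat_lit 0, nat_lit 0], nat_lit 25), ([nat_lit 0, nat_lit 0, nat_lit 0, nat_lit 0, nat_lit 0, nat_lit 0, nat_lit 0], nat_lit 7), ([nat_lit 0, nat_lit 0, nat_lit 0, nat_lit 0, nat_lit 0, nat_lit 0, nat_lit 0, nat_lit 0, nat_lit 0, nat_lit 0], nat_lit 2)], [([nat_lit 0, nat_lit 0, nat_lit 0, nat_lit 0, nat_lit 0, nat_lit 0, nat_lit 0], nat_lit 34), ([nat_lit 0, nat_lit 0, nat_lit 0, nat_lit 0, nat_lit 0], nat_lit 5), ([nat_lit 0, nat_lit 0, nat_lit 0, nat_lit 0,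 nat_lit 0, nat_lit 0, nat_lit 0, nat_lit 0, nat_lit 0], nat_lit 14)], [([nat_lit 0, nat_lit 0, nat_lit 0, nat_lit 0, nat_lit 0, nat_lit 0, nat_lit 0, nat_lit 0, nat_lit 0], nat_lit 8), ([nat_lit 0, nat_lit 0, nat_lit 0, nat_lit 0, nat_lit 0, nat_lit 0, nat_lit 0, nat_lit 0], nat_lit 19), ([nat_lit 0, nat_lit 0, nat_lit 0, nat_lit 0, nat_lit 0, nat_lit 0, nat_lit 0, nat_lit 0], nat_lit 53)], [([nat_lit 0, nat_lit 0, nat_lit 0, nat_lit 0], nat_lit 23), ([nat_lit 0, nat_lit 0, nat_lit 0, nat_lit 0, nat_lit 0, nat_lit 0, nat_lit 0, nat_lit 0], nat_lit 20), ([nat_lit 0, nat_lit 0, nat_lit 0, nat_lit 0, nat_lit 0, nat_lit 0, nat_lit 0, nat_lit 0, nat_lit 0], nat_lit 51)], [([nat_lit 0, nat_lit 0, nat_lit 0, nat_lit 0, nat_lit 0], nat_lit 18), ([nat_lit 0, nat_lit 0, nat_lit 0, nat_lit 0, nat_lit 0, nat_lit 0, nat_lit 0, nat_lit 0], nat_lit 18), ([nat_lit 0, nat_lit 0,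 nat_lit 0, nat_lit 0, nat_lit 0, nat_lit 0, nat_lit 0, nat_lit 0, nat_lit 0], nat_lit 48)], [([nat_lit 0, nat_lit 0, nat_lit 0], nat_lit 44), ([nat_lit 0, nat_lit 0, nat_lit 0], nat_lit 53), ([nat_lit 0, nat_lit 0, nat_lit 0, nat_lit 0, nat_lit 0, nat_lit 0, nat_lit 0, nat_lit 0], nat_lit 40)], [([nat_lit 0, nat_lit 0, nat_lit 0, nat_lit 0, nat_lit 0, nat_lit 0], nat_lit 36), ([nat_lit 0, nat_lit 0, nat_lit 0, nat_lit 0, nat_lit 0, nat_lit 0, nat_lit 0, nat_lit 0, nat_lit 0, nat_lit 0, nat_lit 0], nat_lit 21), ([nat_lit 0, nat_lit 0, nat_lit 0, nat_lit 0, nat_lit 0, nat_lit 0, nat_lit 0, nat_lit 0], nat_lit 39)], [([nat_lit 0, nat_lit 0, nat_lit 0, nat_lit 0, nat_lit 0], nat_lit 53), ([nat_lit 0, nat_lit 0, nat_lit 0, nat_lit 0, nat_lit 0], nat_lit 25), ([nat_lit 0], nat_lit 17)], [([], nat_lit 21), ([nat_lit 0, nat_lit 0, nat_lit 0, nat_lit 0], nat_lit 34), ([nat_lit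 0, nat_lit 0, nat_lit 0], nat_lit 37)], [([nat_lit 0, nat_lit 0, nat_lit 0, nat_lit 0, nat_lit 0, nat_lit 0, nat_lit 0, nat_lit 0, nat_lit 0, nat_lit 0], nat_lit 6), ([nat_lit 0, nat_lit 0, nat_lit 0, nat_lit 0, nat_lit 0, nat_lit 0, nat_lit 0, nat_lit 0], nat_lit 29), ([nat_lit 0, nat_lit 0, nat_lit 0, nat_lit 0, nat_lit 0, nat_lit 0, nat_lit 0, nat_lit 0, nat_lit 0], nat_lit 41)], [([nat_lit 0, nat_lit 0, nat_lit 0, nat_lit 0, nat_lit 0, nat_lit 0, nat_lit 0, nat_lit 0], nat_lit 50), ([nat_lit 0, nat_lit 0, nat_lit 0, nat_lit 0, nat_lit 0, nat_lit 0, nat_lit 0, nat_lit 0], nat_lit 27), ([nat_lit 0, nat_lit 0, nat_lit 0, nat_lit 0, nat_lit 0, nat_lit 0, nat_lit 0], nat_lit 0)], [([nat_lit 0, nat_lit 0, nat_lit 0, nat_lit 0, nat_lit 0], nat_lit 2), ([], nat_lit 45), ([nat_lit 0, nat_lit 0, nat_lit 0, nat_lit 0, nat_lit 0, nat_lit 0, nat_lit 0], nat_lit 9)], [([nat_lit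 0, nat_lit 0, nat_lit 0, nat_lit 0], nat_lit 41), ([nat_lit 0, nat_lit 0, nat_lit 0], nat_lit 22), ([nat_lit 0, nat_lit 0, nat_lit 0, nat_lit 0], nat_lit 30)], [([nat_lit 0, nat_lit 0, nat_lit 0], nat_lit 32), ([nat_lit 0, nat_lit 0, nat_lit 0, nat_lit 0, nat_lit 0, nat_lit 0, nat_lit 0, nat_lit 0], nat_lit 49), ([nat_lit 0, nat_lit 0, nat_lit 0, nat_lit 0, nat_lit 0, nat_lit 0, nat_lit 0], nat_lit 11)], [([nat_lit 0, nat_lit 0, nat_lit 0, nat_lit 0, nat_lit 0, nat_lit 0], nat_lit 19), ([nat_lit 0, nat_lit 0, nat_lit 0, nat_lit 0, nat_lit 0, nat_lit 0, nat_lit 0, nat_lit 0], nat_lit 48), ([nat_lit 0, nat_lit 0, nat_lit 0, nat_lit 0, nat_lit 0, nat_lit 0, nat_lit 0, nat_lit 0, nat_lit 0, nat_lit 0], nat_lit 49)], [([nat_lit 0, nat_lit 0, nat_lit 0, nat_lit 0, nat_lit 0, nat_lit 0, nat_lit 0, nat_lit 0, nat_lit 0, nat_lit 0], nat_lit 17), ([nat_lit 0, nat_lit 0, nat_lit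 0, nat_lit 0, nat_lit 0, nat_lit 0, nat_lit 0, nat_lit 0], nat_lit 47), ([nat_lit 0, nat_lit 0, nat_lit 0], nat_lit 8)], [([nat_lit 0, nat_lit 0, nat_lit 0, nat_lit 0, nat_lit 0, nat_lit 0, nat_lit 0, nat_lit 0, nat_lit 0, nat_lit 0, nat_lit 0], nat_lit 1), ([nat_lit 0, nat_lit 0, nat_lit 0, nat_lit 0, nat_lit 0, nat_lit 0, nat_lit 0, nat_lit 0, nat_lit 0, nat_lit 0], nat_lit 15), ([nat_lit 0], nat_lit 43)], [([nat_lit 0, nat_lit 0, nat_lit 0], nat_lit 37), ([nat_lit 0, nat_lit 0, nat_lit 0, nat_lit 0, nat_lit 0, nat_lit 0, nat_lit 0], nat_lit 42), ([nat_lit 0, nat_lit 0, nat_lit 0, nat_lit 0, nat_lit 0], nat_lit 7)], [([], nat_lit 7), ([], nat_lit 44), ([nat_lit 0, nat_lit 0, nat_lit 0, nat_lit 0, nat_lit 0, nat_lit 0, nat_lit 0], nat_lit 21)], [([nat_lit 0, nat_lit 0, nat_lit 0, nat_lit 0, nat_lit 0, nat_lit 0, nat_lit 0, nat_lit 0, nat_lit 0, nat_lit 0, nat_lit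 0], nat_lit 52), ([nat_lit 0, nat_lit 0, nat_lit 0, nat_lit 0, nat_lit 0, nat_lit 0, nat_lit 0, nat_lit 0, nat_lit 0, nat_lit 0], nat_lit 16), ([nat_lit 0, nat_lit 0], nat_lit 45)], [([nat_lit 0, nat_lit 0, nat_lit 0, nat_lit 0, nat_lit 0, nat_lit 0, nat_lit 0, nat_lit 0, nat_lit 0], nat_lit 5), ([nat_lit 0, nat_lit 0], nat_lit 36), ([nat_lit 0, nat_lit 0, nat_lit 0, nat_lit 0, nat_lit 0, nat_lit 0, nat_lit 0, nat_lit 0, nat_lit 0, nat_lit 0, nat_lit 0], nat_lit 50)], [([nat_lit 0], nat_lit 14), ([nat_lit 0, nat_lit 0, nat_lit 0, nat_lit 0, nat_lit 0], nat_lit 9), ([nat_lit 0, nat_lit 0, nat_lit 0, nat_lit 0], nat_lit 10)], [([nat_lit 0, nat_lit 0, nat_lit 0, nat_lit 0], nat_lit 31), ([nat_lit 0], nat_lit 31), ([nat_lit 0, nat_lit 0, nat_lit 0, nat_lit 0, nat_lit 0], nat_lit 35)], [([nat_lit 0, nat_lit 0, nat_lit 0, nat_lit 0, nat_lit 0, nat_lit 0, nat_lit 0], nat_lit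 9), ([nat_lit 0, nat_lit 0, nat_lit 0, nat_lit 0, nat_lit 0, nat_lit 0, nat_lit 0, nat_lit 0, nat_lit 0], nat_lit 37), ([nat_lit 0, nat_lit 0], nat_lit 25)], [([nat_lit 0, nat_lit 0, nat_lit 0, nat_lit 0], nat_lit 30), ([nat_lit 0, nat_lit 0, nat_lit 0, nat_lit 0, nat_lit 0, nat_lit 0, nat_lit 0, nat_lit 0, nat_lit 0, nat_lit 0], nat_lit 0), ([nat_lit 0, nat_lit 0, nat_lit 0, nat_lit 0, nat_lit 0], nat_lit 6)], [([nat_lit 0, nat_lit 0, nat_lit 0], nat_lit 24), ([nat_lit 0, nat_lit 0, nat_lit 0], nat_lit 8), ([nat_lit 0, nat_lit 0, nat_lit 0, nat_lit 0, nat_lit 0, nat_lit 0, nat_lit 0, nat_lit 0, nat_lit 0], nat_lit 52)], [([nat_lit 0, nat_lit 0, nat_lit 0, nat_lit 0, nat_lit 0, nat_lit 0, nat_lit 0], nat_lit 11), ([nat_lit 0, nat_lit 0, nat_lit 0, nat_lit 0, nat_lit 0, nat_lit 0], nat_lit 17), ([nat_lit 0], nat_lit 22)], [([nat_lit 0, nat_lit 0, nat_lit 0, nat_lit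 0, nat_lit 0, nat_lit 0, nat_lit 0, nat_lit 0, nat_lit 0, nat_lit 0], nat_lit 49), ([nat_lit 0, nat_lit 0, nat_lit 0, nat_lit 0, nat_lit 0, nat_lit 0, nat_lit 0, nat_lit 0, nat_lit 0, nat_lit 0, nat_lit 0], nat_lit 32), ([nat_lit 0, nat_lit 0, nat_lit 0, nat_lit 0, nat_lit 0], nat_lit 26)], [([nat_lit 0, nat_lit 0, nat_lit 0, nat_lit 0, nat_lit 0, nat_lit 0, nat_lit 0, nat_lit 0], nat_lit 10), ([nat_lit 0, nat_lit 0, nat_lit 0, nat_lit 0, nat_lit 0, nat_lit 0, nat_lit 0, nat_lit 0, nat_lit 0, nat_lit 0, nat_lit 0], nat_lit 30), ([nat_lit 0, nat_lit 0, nat_lit 0], nat_lit 34)]],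
  [[nat_lit 31]], [[nat_lit 52]], [rhoB0, rhoB1, rhoB2, rhoB3, rhoB4]⟩

noncomputable def rhB (r : List ℕ) (i : ℕ) : Bool := force (LB0.pts i) (fun δ => cand e.T iv LB0 (emptyB e.T iv LBs)
  (tr e.T r) (genP (tr e.T r) [] LB0.xs δ) δ) false

noncomputable def rB1x0 : RP := ⟨[nat_lit 22, nat_lit 9, nat_lit 20, nat_lit 18, nat_lit 20, nat_lit 20, nat_lit 29, nat_lit 25, nat_lit 25, nat_lit 28, nat_lit 27, nat_lit 27, nat_lit 29, nat_lit 29], [nat_lit 16, nat_lit 7, nat_lit 0, nat_lit 19, nat_lit 18, nat_lit 25, nat_lit 20, nat_lit 22, nat_lit 22, nat_lit 29, nat_lit 25, nat_lit 25, nat_lit 29, nat_lit 29], [⟨nat_lit 0, nat_lit 0, [nat_lit 12, nat_lit 0, nat_lit 20, nat_lit 18, nat_lit 20, nat_lit 20, nat_lit 23, nat_lit 22, nat_lit 25, nat_lit 25, nat_lit 29, nat_lit 28], []⟩, ⟨nat_lit 0, nat_lit 0, [nat_lit 10, nat_lit 4, nat_lit 24, nat_lit 17, nat_lit 21, nat_lit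 20, nat_lit 26, nat_lit 22, nat_lit 29], []⟩, ⟨nat_lit 2, nat_lit 2, [nat_lit 0, nat_lit 1, nat_lit 20, nat_lit 18, nat_lit 29, nat_lit 20, nat_lit 27, nat_lit 22, nat_lit 22, nat_lit 29, nat_lit 25, nat_lit 25, nat_lit 27], [nat_lit 14, nat_lit 3, nat_lit 0, nat_lit 18, nat_lit 19, nat_lit 25, nat_lit 20, nat_lit 24, nat_lit 25, nat_lit 27]⟩, ⟨nat_lit 0, nat_lit 0, [nat_lit 6, nat_lit 3, nat_lit 1, nat_lit 22, nat_lit 19, nat_lit 21, nat_lit 22, nat_lit 29, nat_lit 29], []⟩, ⟨nat_lit 0, nat_lit 0, [nat_lit 10, nat_lit 4, nat_lit 25, nat_lit 18, nat_lit 29, nat_lit 20, nat_lit 23, nat_lit 25, nat_lit 22, nat_lit 27, nat_lit 26, nat_lit 27, nat_lit 29, nat_lit 29], []⟩, ⟨nat_lit 2, nat_lit 2, [nat_lit 21, nat_lit 13, nat_lit 0, nat_lit 18, nat_lit 19, nat_lit 28, nat_lit 20, nat_lit 22, nat_lit 22, nat_lit 29, nat_lit 25, nat_lit 27], [nat_lit 14, nat_lit 3, nat_lit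 0, nat_lit 18, nat_lit 19, nat_lit 25, nat_lit 20, nat_lit 24, nat_lit 25, nat_lit 27]⟩, ⟨nat_lit 0, nat_lit 0, [nat_lit 25, nat_lit 17, nat_lit 0, nat_lit 20, nat_lit 17, nat_lit 28, nat_lit 20, nat_lit 22, nat_lit 22, nat_lit 27, nat_lit 26, nat_lit 28], []⟩, ⟨nat_lit 0, nat_lit 0, [nat_lit 12, nat_lit 0, nat_lit 20, nat_lit 17, nat_lit 20, nat_lit 21, nat_lit 22, nat_lit 24, nat_lit 29, nat_lit 25, nat_lit 28, nat_lit 27, nat_lit 27, nat_lit 29, nat_lit 29], []⟩, ⟨nat_lit 0, nat_lit 0, [nat_lit 17, nat_lit 10, nat_lit 0, nat_lit 19, nat_lit 29, nat_lit 20, nat_lit 25, nat_lit 22, nat_lit 25, nat_lit 25, nat_lit 29, nat_lit 29], []⟩, ⟨nat_lit 0, nat_lit 0, [nat_lit 10, nat_lit 4, nat_lit 19, nat_lit 21, nat_lit 23, nat_lit 20, nat_lit 26, nat_lit 28], []⟩, ⟨nat_lit 2, nat_lit 2, [nat_lit 29, nat_lit 13, nat_lit 0, nat_lit 17, nat_lit 18, nat_lit 28, nat_lit 20,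 nat_lit 22, nat_lit 22, nat_lit 27, nat_lit 27, nat_lit 29], [nat_lit 14, nat_lit 3, nat_lit 0, nat_lit 18, nat_lit 19, nat_lit 25, nat_lit 20, nat_lit 24, nat_lit 25, nat_lit 27]⟩, ⟨nat_lit 0, nat_lit 0, [nat_lit 22, nat_lit 21, nat_lit 0, nat_lit 27, nat_lit 17, nat_lit 26, nat_lit 21, nat_lit 20, nat_lit 29, nat_lit 27, nat_lit 29], []⟩, ⟨nat_lit 0, nat_lit 0, [nat_lit 12, nat_lit 0, nat_lit 24, nat_lit 19, nat_lit 26, nat_lit 20, nat_lit 27, nat_lit 24, nat_lit 26, nat_lit 29, nat_lit 27, nat_lit 29, nat_lit 29], []⟩, ⟨nat_lit 0, nat_lit 0, [nat_lit 4, nat_lit 11, nat_lit 9, nat_lit 20, nat_lit 18, nat_lit 23, nat_lit 25, nat_lit 22, nat_lit 25, nat_lit 26, nat_lit 27, nat_lit 29], []⟩, ⟨nat_lit 0, nat_lit 0, [nat_lit 13, nat_lit 25, nat_lit 18, nat_lit 29, nat_lit 20, nat_lit 23, nat_lit 22, nat_lit 25, nat_lit 28, nat_lit 27, nat_lit 27, nat_lit 29], []⟩,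 ⟨nat_lit 0, nat_lit 0, [nat_lit 13, nat_lit 24, nat_lit 17, nat_lit 17, nat_lit 26, nat_lit 20, nat_lit 22, nat_lit 25], []⟩, ⟨nat_lit 0, nat_lit 0, [nat_lit 12, nat_lit 0, nat_lit 17, nat_lit 22, nat_lit 22, nat_lit 20, nat_lit 26, nat_lit 24, nat_lit 27, nat_lit 27], []⟩, ⟨nat_lit 0, nat_lit 0, [nat_lit 25, nat_lit 17, nat_lit 0, nat_lit 18, nat_lit 19, nat_lit 25, nat_lit 20, nat_lit 23, nat_lit 25, nat_lit 22, nat_lit 27, nat_lit 27], []⟩, ⟨nat_lit 0, nat_lit 0, [nat_lit 22, nat_lit 21, nat_lit 0, nat_lit 22, nat_lit 19, nat_lit 26, nat_lit 21, nat_lit 23, nat_lit 25, nat_lit 22, nat_lit 29, nat_lit 25, nat_lit 29, nat_lit 28], []⟩, ⟨nat_lit 0, nat_lit 0, [nat_lit 13, nat_lit 18, nat_lit 18, nat_lit 21, nat_lit 27, nat_lit 24, nat_lit 25, nat_lit 25, nat_lit 27, nat_lit 29], []⟩, ⟨nat_lit 0, nat_lit 0, [nat_lit 6, nat_lit 3, nat_lit 1, nat_lit 18, nat_lit 19,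 nat_lit 20, nat_lit 23, nat_lit 25, nat_lit 22, nat_lit 29, nat_lit 25, nat_lit 25, nat_lit 28, nat_lit 29], []⟩, ⟨nat_lit 0, nat_lit 0, [nat_lit 4, nat_lit 11, nat_lit 9, nat_lit 27, nat_lit 17, nat_lit 29, nat_lit 20, nat_lit 23, nat_lit 22, nat_lit 25, nat_lit 26, nat_lit 29, nat_lit 27, nat_lit 29, nat_lit 29], []⟩, ⟨nat_lit 0, nat_lit 0, [nat_lit 17, nat_lit 10, nat_lit 0, nat_lit 26, nat_lit 21, nat_lit 23, nat_lit 25, nat_lit 22, nat_lit 25, nat_lit 26, nat_lit 27, nat_lit 27, nat_lit 29, nat_lit 29], []⟩, ⟨nat_lit 0, nat_lit 0, [nat_lit 6, nat_lit 3, nat_lit 1, nat_lit 25, nat_lit 18, nat_lit 26, nat_lit 20, nat_lit 28, nat_lit 22, nat_lit 29, nat_lit 25, nat_lit 29, nat_lit 27, nat_lit 29, nat_lit 29], []⟩, ⟨nat_lit 0, nat_lit 0, [nat_lit 13, nat_lit 19, nat_lit 22, nat_lit 25, nat_lit 27, nat_lit 27, nat_lit 29, nat_lit 29], []⟩, ⟨nat_lit 0, nat_lit 0,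 [nat_lit 6, nat_lit 3, nat_lit 1, nat_lit 24, nat_lit 17, nat_lit 26, nat_lit 21, nat_lit 24, nat_lit 29, nat_lit 25, nat_lit 28, nat_lit 27, nat_lit 27, nat_lit 29], []⟩, ⟨nat_lit 0, nat_lit 0, [nat_lit 4, nat_lit 11, nat_lit 9, nat_lit 21, nat_lit 17, nat_lit 28, nat_lit 20, nat_lit 24, nat_lit 29, nat_lit 25, nat_lit 25, nat_lit 28, nat_lit 29], []⟩, ⟨nat_lit 2, nat_lit 2, [nat_lit 23, nat_lit 15, nat_lit 18, nat_lit 21, nat_lit 23, nat_lit 20, nat_lit 27, nat_lit 24, nat_lit 28, nat_lit 27, nat_lit 27, nat_lit 29, nat_lit 29], [nat_lit 14, nat_lit 3, nat_lit 0, nat_lit 18, nat_lit 19, nat_lit 25, nat_lit 20, nat_lit 24, nat_lit 25, nat_lit 27]⟩, ⟨nat_lit 0, nat_lit 0, [nat_lit 3, nat_lit 13, nat_lit 0, nat_lit 21, nat_lit 23, nat_lit 20, nat_lit 28, nat_lit 22, nat_lit 27, nat_lit 26, nat_lit 28, nat_lit 29], []⟩, ⟨nat_lit 0, nat_lit 0, [nat_lit 22, nat_lit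 21, nat_lit 0, nat_lit 17, nat_lit 17, nat_lit 26, nat_lit 21, nat_lit 20, nat_lit 28, nat_lit 22, nat_lit 25, nat_lit 28, nat_lit 27, nat_lit 27, nat_lit 29], []⟩, ⟨nat_lit 0, nat_lit 0, [nat_lit 12, nat_lit 0, nat_lit 17, nat_lit 18, nat_lit 23, nat_lit 20, nat_lit 23, nat_lit 25, nat_lit 22, nat_lit 25, nat_lit 29, nat_lit 28], []⟩, ⟨nat_lit 0, nat_lit 0, [nat_lit 25, nat_lit 17, nat_lit 0, nat_lit 17, nat_lit 21, nat_lit 20, nat_lit 24, nat_lit 26, nat_lit 29, nat_lit 27, nat_lit 29, nat_lit 29], []⟩, ⟨nat_lit 0, nat_lit 0, [nat_lit 3, nat_lit 13, nat_lit 0, nat_lit 25, nat_lit 18, nat_lit 23, nat_lit 20, nat_lit 28, nat_lit 22, nat_lit 29, nat_lit 25, nat_lit 29, nat_lit 28], []⟩, ⟨nat_lit 0, nat_lit 0, [nat_lit 22, nat_lit 21, nat_lit 0, nat_lit 17, nat_lit 18, nat_lit 21, nat_lit 23, nat_lit 20, nat_lit 24, nat_lit 22, nat_lit 27, nat_lit 26, nat_lit 27],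 []⟩, ⟨nat_lit 0, nat_lit 0, [nat_lit 4, nat_lit 11, nat_lit 9, nat_lit 25, nat_lit 18, nat_lit 24, nat_lit 22, nat_lit 29, nat_lit 27], []⟩, ⟨nat_lit 0, nat_lit 0, [nat_lit 10, nat_lit 4, nat_lit 19, nat_lit 18, nat_lit 26, nat_lit 20, nat_lit 27, nat_lit 24, nat_lit 25, nat_lit 27, nat_lit 27, nat_lit 29], []⟩, ⟨nat_lit 0, nat_lit 0, [nat_lit 25, nat_lit 17, nat_lit 0, nat_lit 21, nat_lit 17, nat_lit 23, nat_lit 25, nat_lit 22, nat_lit 26, nat_lit 29, nat_lit 28], []⟩, ⟨nat_lit 2, nat_lit 2, [nat_lit 3, nat_lit 12, nat_lit 0, nat_lit 20, nat_lit 17, nat_lit 28, nat_lit 27, nat_lit 27, nat_lit 29], [nat_lit 14, nat_lit 3, nat_lit 0, nat_lit 18, nat_lit 19, nat_lit 25, nat_lit 20, nat_lit 24, nat_lit 25, nat_lit 27]⟩, ⟨nat_lit 0, nat_lit 0, [nat_lit 3, nat_lit 13, nat_lit 0, nat_lit 18, nat_lit 22, nat_lit 20, nat_lit 22, nat_lit 24, nat_lit 25, nat_lit 26, nat_lit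 27, nat_lit 29], []⟩, ⟨nat_lit 0, nat_lit 0, [nat_lit 13, nat_lit 22, nat_lit 19, nat_lit 23, nat_lit 20, nat_lit 26, nat_lit 24, nat_lit 29, nat_lit 28], []⟩, ⟨nat_lit 0, nat_lit 0, [nat_lit 4, nat_lit 11, nat_lit 9, nat_lit 24, nat_lit 17, nat_lit 17, nat_lit 22, nat_lit 20, nat_lit 26, nat_lit 24, nat_lit 29, nat_lit 25, nat_lit 28, nat_lit 27, nat_lit 27, nat_lit 29, nat_lit 29], []⟩, ⟨nat_lit 0, nat_lit 0, [nat_lit 17, nat_lit 10, nat_lit 0, nat_lit 24, nat_lit 19, nat_lit 20, nat_lit 21, nat_lit 24, nat_lit 22, nat_lit 29, nat_lit 25, nat_lit 27, nat_lit 29, nat_lit 29], []⟩, ⟨nat_lit 0, nat_lit 0, [nat_lit 17, nat_lit 10, nat_lit 0, nat_lit 24, nat_lit 17, nat_lit 17, nat_lit 25, nat_lit 20, nat_lit 26, nat_lit 22, nat_lit 22, nat_lit 25, nat_lit 25, nat_lit 29, nat_lit 27, nat_lit 29], []⟩, ⟨nat_lit 0, nat_lit 0, [nat_lit 3, nat_lit 13, nat_lit 0, nat_lit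 19, nat_lit 26, nat_lit 21, nat_lit 28, nat_lit 22, nat_lit 29, nat_lit 25, nat_lit 25, nat_lit 28, nat_lit 27, nat_lit 27], []⟩, ⟨nat_lit 2, nat_lit 2, [nat_lit 22, nat_lit 29, nat_lit 0, nat_lit 25, nat_lit 18, nat_lit 21, nat_lit 20, nat_lit 27, nat_lit 24, nat_lit 29, nat_lit 25, nat_lit 25, nat_lit 28, nat_lit 29, nat_lit 29], [nat_lit 14, nat_lit 3, nat_lit 0, nat_lit 18, nat_lit 19, nat_lit 25, nat_lit 20, nat_lit 24, nat_lit 25, nat_lit 27]⟩, ⟨nat_lit 0, nat_lit 0, [nat_lit 22, nat_lit 21, nat_lit 0, nat_lit 18, nat_lit 19, nat_lit 21, nat_lit 23, nat_lit 20, nat_lit 22, nat_lit 22, nat_lit 25, nat_lit 29, nat_lit 29], []⟩, ⟨nat_lit 0, nat_lit 0, [nat_lit 17, nat_lit 10, nat_lit 0, nat_lit 17, nat_lit 28, nat_lit 20, nat_lit 27, nat_lit 24, nat_lit 25, nat_lit 25, nat_lit 28, nat_lit 29], []⟩, ⟨nat_lit 0, nat_lit 0, [nat_lit 22, nat_lit 21, nat_lit 0, nat_lit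 17, nat_lit 26, nat_lit 21, nat_lit 27, nat_lit 22, nat_lit 22, nat_lit 26, nat_lit 29], []⟩, ⟨nat_lit 0, nat_lit 0, [nat_lit 13, nat_lit 22, nat_lit 22, nat_lit 20, nat_lit 26, nat_lit 22, nat_lit 26, nat_lit 29, nat_lit 28, nat_lit 29, nat_lit 29], []⟩, ⟨nat_lit 0, nat_lit 0, [nat_lit 12, nat_lit 0, nat_lit 21, nat_lit 17, nat_lit 20, nat_lit 24, nat_lit 25, nat_lit 28, nat_lit 27, nat_lit 27, nat_lit 29], []⟩, ⟨nat_lit 0, nat_lit 0, [nat_lit 10, nat_lit 4, nat_lit 20, nat_lit 17, nat_lit 20, nat_lit 21, nat_lit 26, nat_lit 24, nat_lit 25, nat_lit 26, nat_lit 28, nat_lit 29, nat_lit 29], []⟩, ⟨nat_lit 0, nat_lit 0, [nat_lit 25, nat_lit 17, nat_lit 0, nat_lit 24, nat_lit 17, nat_lit 26, nat_lit 20, nat_lit 28, nat_lit 22, nat_lit 27, nat_lit 26, nat_lit 27, nat_lit 27], []⟩, ⟨nat_lit 0, nat_lit 0, [nat_lit 3, nat_lit 13, nat_lit 0, nat_lit 19, nat_lit 18, nat_lit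 26, nat_lit 20, nat_lit 23, nat_lit 22, nat_lit 27], []⟩, ⟨nat_lit 0, nat_lit 0, [nat_lit 6, nat_lit 3, nat_lit 1, nat_lit 19, nat_lit 23, nat_lit 20, nat_lit 22, nat_lit 24, nat_lit 25, nat_lit 26, nat_lit 29], []⟩]⟩

noncomputable def cB1 : CC := ⟨[[nat_lit 24, nat_lit 19, nat_lit 20, nat_lit 21, nat_lit 22, nat_lit 24, nat_lit 25, nat_lit 25, nat_lit 28], [nat_lit 22, nat_lit 9, nat_lit 18, nat_lit 26, nat_lit 20, nat_lit 22, nat_lit 24, nat_lit 26, nat_lit 27, nat_lit 29]], [(nat_lit 14316723603, []), (nat_lit 14606703657, [nat_lit 0]), (nat_lit 14729298948, [nat_lit 0, nat_lit 0]), (nat_lit 79242633294, [nat_lit 0, nat_lit 1]), (nat_lit 79392907509, [nat_lit 1]), (nat_lit 79407004137, [nat_lit 0, nat_lit 0, nat_lit 1]), (nat_lit 234799707084, [nat_lit 1, nat_lit 1]), (nat_lit 234962074653, [nat_lit 0, nat_lit 1, nat_lit 1]), (nat_lit 235002142590, [nat_lit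 0, nat_lit 0, nat_lit 1, nat_lit 1])],
  [⟨nat_lit 1, nat_lit 99, [], []⟩, ⟨nat_lit 1, nat_lit 0, [], []⟩, ⟨nat_lit 1, nat_lit 1, [], []⟩, ⟨nat_lit 2, nat_lit 0, [], []⟩, ⟨nat_lit 1, nat_lit 2, [], []⟩, ⟨nat_lit 1, nat_lit 3, [], []⟩, ⟨nat_lit 2, nat_lit 0, [nat_lit 20, nat_lit 12, nat_lit 0, nat_lit 21, nat_lit 17, nat_lit 26, nat_lit 21, nat_lit 26, nat_lit 24, nat_lit 25, nat_lit 26, nat_lit 28], []⟩, ⟨nat_lit 1, nat_lit 3, [nat_lit 20, nat_lit 13, nat_lit 5, nat_lit 18, nat_lit 18, nat_lit 20, nat_lit 24, nat_lit 22, nat_lit 29, nat_lit 25, nat_lit 25, nat_lit 27, nat_lit 27, nat_lit 29], []⟩, ⟨nat_lit 1, nat_lit 2, [nat_lit 6, nat_lit 25, nat_lit 3, nat_lit 24, nat_lit 17, nat_lit 25, nat_lit 20, nat_lit 26, nat_lit 22, nat_lit 25, nat_lit 26], []⟩],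
  [rB1x0]⟩

noncomputable def cB6 : CC := ⟨[[nat_lit 21, nat_lit 6, nat_lit 2, nat_lit 19, nat_lit 26, nat_lit 20, nat_lit 23, nat_lit 25, nat_lit 22, nat_lit 25, nat_lit 29, nat_lit 27], [nat_lit 22, nat_lit 2, nat_lit 1, nat_lit 25, nat_lit 18, nat_lit 28, nat_lit 20, nat_lit 22, nat_lit 22, nat_lit 27, nat_lit 29]], [(nat_lit 2145214890, [nat_lit 1, nat_lit 1, nat_lit 0]), (nat_lit 4841368623, [nat_lit 0, nat_lit 0, nat_lit 1]), (nat_lit 14316723603, []), (nat_lit 49021131159, [nat_lit 0, nat_lit 0, nat_lit 0]), (nat_lit 66360601944, [nat_lit 0, nat_lit 0, nat_lit 0, nat_lit 1, nat_lit 1]), (nat_lit 150627312108, [nat_lit 1]), (nat_lit 166626822726, [nat_lit 1, nat_lit 1]), (nat_lit 174638915451, [nat_lit 0, nat_lit 0, nat_lit 0, nat_lit 1]), (nat_lit 184030142751, [nat_lit 0, nat_lit 1, nat_lit 0, nat_lit 0]), (nat_lit 187490956653, [nat_lit 0, nat_lit 1, nat_lit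 1]), (nat_lit 210726235629, [nat_lit 0]), (nat_lit 224173359774, [nat_lit 0, nat_lit 1, nat_lit 0]), (nat_lit 253901619972, [nat_lit 0, nat_lit 0]), (nat_lit 256905175527, [nat_lit 1, nat_lit 0, nat_lit 0]), (nat_lit 313067294631, [nat_lit 0, nat_lit 1]), (nat_lit 317526035463, [nat_lit 0, nat_lit 0, nat_lit 1, nat_lit 1]), (nat_lit 317993853177, [nat_lit 1, nat_lit 0, nat_lit 1, nat_lit 1]), (nat_lit 318823331463, [nat_lit 1, nat_lit 0]), (nat_lit 332061977520, [nat_lit 0, nat_lit 0, nat_lit 0, nat_lit 0, nat_lit 1]), (nat_lit 405275763438, [nat_lit 1, nat_lit 0, nat_lit 1]), (nat_lit 412760105667, [nat_lit 0, nat_lit 0, nat_lit 0, nat_lit 0]), (nat_lit 422990776845, [nat_lit 0, nat_lit 0, nat_lit 0, nat_lit 0, nat_lit 0]), (nat_lit 434280753270, [nat_lit 0, nat_lit 1, nat_lit 0, nat_lit 1, nat_lit 1]), (nat_lit 435067189011, [nat_lit 0, nat_lit 0, nat_lit 1, nat_lit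 1, nat_lit 0]), (nat_lit 436001179887, [nat_lit 0, nat_lit 1, nat_lit 0, nat_lit 1]), (nat_lit 436798018566, [nat_lit 0, nat_lit 1, nat_lit 1, nat_lit 0]), (nat_lit 437998754466, [nat_lit 0, nat_lit 0, nat_lit 0, nat_lit 0, nat_lit 0, nat_lit 0])],
  [⟨nat_lit 0, nat_lit 0, [], []⟩, ⟨nat_lit 0, nat_lit 0, [], []⟩, ⟨nat_lit 1, nat_lit 99, [], []⟩, ⟨nat_lit 1, nat_lit 4, [], []⟩, ⟨nat_lit 1, nat_lit 1, [nat_lit 29, nat_lit 12, nat_lit 24, nat_lit 19, nat_lit 22, nat_lit 22, nat_lit 20, nat_lit 26, nat_lit 24, nat_lit 27, nat_lit 26, nat_lit 28, nat_lit 27, nat_lit 27], []⟩, ⟨nat_lit 1, nat_lit 0, [nat_lit 13, nat_lit 5, nat_lit 24, nat_lit 17, nat_lit 17, nat_lit 21, nat_lit 25, nat_lit 22, nat_lit 26, nat_lit 27, nat_lit 27, nat_lit 29, nat_lit 29], []⟩, ⟨nat_lit 1, nat_lit 1, [nat_lit 20, nat_lit 0, nat_lit 18, nat_lit 18, nat_lit 26, nat_lit 22, nat_lit 29, nat_lit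 25, nat_lit 28, nat_lit 27, nat_lit 27], []⟩, ⟨nat_lit 1, nat_lit 0, [nat_lit 26, nat_lit 26, nat_lit 3, nat_lit 19, nat_lit 18, nat_lit 28, nat_lit 20, nat_lit 22, nat_lit 24, nat_lit 27, nat_lit 26, nat_lit 29, nat_lit 27], []⟩, ⟨nat_lit 1, nat_lit 0, [nat_lit 16, nat_lit 9, nat_lit 0, nat_lit 17, nat_lit 17, nat_lit 21, nat_lit 27, nat_lit 22, nat_lit 22, nat_lit 25, nat_lit 26, nat_lit 28, nat_lit 29, nat_lit 29], []⟩, ⟨nat_lit 0, nat_lit 0, [], []⟩, ⟨nat_lit 0, nat_lit 0, [], []⟩, ⟨nat_lit 0, nat_lit 0, [], []⟩, ⟨nat_lit 0, nat_lit 0, [], []⟩, ⟨nat_lit 0, nat_lit 0, [], []⟩, ⟨nat_lit 0, nat_lit 0, [], []⟩, ⟨nat_lit 0, nat_lit 0, [], []⟩, ⟨nat_lit 0, nat_lit 0, [], []⟩, ⟨nat_lit 0, nat_lit 0, [], []⟩, ⟨nat_lit 0, nat_lit 0, [], []⟩, ⟨nat_lit 0, nat_lit 0, [], []⟩, ⟨nat_lit 0, nat_lit 0, [], []⟩, ⟨nat_lit 0, nat_lit 0, [], []⟩, ⟨nat_lit 0, nat_lit 0, [], []⟩,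 ⟨nat_lit 1, nat_lit 1, [nat_lit 15, nat_lit 12, nat_lit 7, nat_lit 24, nat_lit 17, nat_lit 17, nat_lit 20, nat_lit 26, nat_lit 22, nat_lit 22, nat_lit 29, nat_lit 25, nat_lit 29, nat_lit 27, nat_lit 29], []⟩, ⟨nat_lit 0, nat_lit 0, [], []⟩, ⟨nat_lit 0, nat_lit 0, [], []⟩, ⟨nat_lit 1, nat_lit 4, [nat_lit 20, nat_lit 12, nat_lit 0, nat_lit 18, nat_lit 19, nat_lit 26, nat_lit 24, nat_lit 27, nat_lit 26, nat_lit 27, nat_lit 27, nat_lit 29], []⟩],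
  []⟩

noncomputable def rB7x0 : RP := ⟨[nat_lit 11, nat_lit 13, nat_lit 22, nat_lit 19, nat_lit 20, nat_lit 21, nat_lit 28, nat_lit 22, nat_lit 27, nat_lit 29], [nat_lit 2, nat_lit 0, nat_lit 20, nat_lit 18, nat_lit 21, nat_lit 20, nat_lit 22, nat_lit 25, nat_lit 26, nat_lit 28, nat_lit 27, nat_lit 27], [⟨nat_lit 0, nat_lit 0, [nat_lit 19, nat_lit 20, nat_lit 0, nat_lit 24, nat_lit 19, nat_lit 29, nat_lit 20, nat_lit 24, nat_lit 24, nat_lit 26, nat_lit 29, nat_lit 27], []⟩, ⟨nat_lit 0, nat_lit 0, [nat_lit 11, nat_lit 14, nat_lit 18, nat_lit 18, nat_lit 21, nat_lit 20, nat_lit 25, nat_lit 22, nat_lit 25, nat_lit 26, nat_lit 27, nat_lit 27, nat_lit 29, nat_lit 29], []⟩, ⟨nat_lit 0, nat_lit 0, [nat_lit 10, nat_lit 14, nat_lit 0, nat_lit 24, nat_lit 17, nat_lit 17, nat_lit 28, nat_lit 20, nat_lit 22, nat_lit 22, nat_lit 29, nat_lit 28, nat_lit 29], []⟩, ⟨nat_lit 0,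 nat_lit 0, [nat_lit 24, nat_lit 10, nat_lit 0, nat_lit 20, nat_lit 17, nat_lit 23, nat_lit 20, nat_lit 26, nat_lit 22, nat_lit 22, nat_lit 28, nat_lit 27, nat_lit 27, nat_lit 29, nat_lit 29], []⟩, ⟨nat_lit 0, nat_lit 0, [nat_lit 19, nat_lit 12, nat_lit 0, nat_lit 21, nat_lit 17, nat_lit 26, nat_lit 21, nat_lit 24, nat_lit 22, nat_lit 25, nat_lit 28, nat_lit 27, nat_lit 27, nat_lit 29], []⟩, ⟨nat_lit 0, nat_lit 0, [nat_lit 12, nat_lit 2, nat_lit 19, nat_lit 28, nat_lit 20, nat_lit 23, nat_lit 25, nat_lit 22, nat_lit 26, nat_lit 29, nat_lit 27], []⟩, ⟨nat_lit 0, nat_lit 0, [nat_lit 11, nat_lit 2, nat_lit 17, nat_lit 21, nat_lit 20, nat_lit 22, nat_lit 29, nat_lit 25, nat_lit 25], []⟩, ⟨nat_lit 0, nat_lit 0, [nat_lit 5, nat_lit 11, nat_lit 17, nat_lit 18, nat_lit 22, nat_lit 22, nat_lit 20, nat_lit 23, nat_lit 25, nat_lit 22, nat_lit 27, nat_lit 26, nat_lit 27, nat_lit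 29], []⟩, ⟨nat_lit 0, nat_lit 0, [nat_lit 15, nat_lit 4, nat_lit 0, nat_lit 19, nat_lit 18, nat_lit 20, nat_lit 21, nat_lit 23, nat_lit 25, nat_lit 22, nat_lit 25, nat_lit 29, nat_lit 28], []⟩, ⟨nat_lit 0, nat_lit 0, [nat_lit 29, nat_lit 4, nat_lit 17, nat_lit 18, nat_lit 26, nat_lit 20, nat_lit 26, nat_lit 22, nat_lit 22, nat_lit 26, nat_lit 27, nat_lit 27], []⟩, ⟨nat_lit 0, nat_lit 0, [nat_lit 25, nat_lit 9, nat_lit 3, nat_lit 19, nat_lit 18, nat_lit 25, nat_lit 20, nat_lit 22, nat_lit 25, nat_lit 27, nat_lit 27, nat_lit 29, nat_lit 29], []⟩, ⟨nat_lit 0, nat_lit 0, [nat_lit 19, nat_lit 10, nat_lit 0, nat_lit 24, nat_lit 17, nat_lit 21, nat_lit 20, nat_lit 22, nat_lit 24, nat_lit 29, nat_lit 25, nat_lit 25, nat_lit 28, nat_lit 27, nat_lit 27], []⟩, ⟨nat_lit 0, nat_lit 0, [nat_lit 20, nat_lit 9, nat_lit 1, nat_lit 17, nat_lit 18, nat_lit 20, nat_lit 21, nat_lit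 27, nat_lit 22, nat_lit 22, nat_lit 29, nat_lit 25], []⟩, ⟨nat_lit 0, nat_lit 0, [nat_lit 3, nat_lit 17, nat_lit 0, nat_lit 17, nat_lit 17, nat_lit 29, nat_lit 20, nat_lit 25, nat_lit 22, nat_lit 26, nat_lit 27], []⟩, ⟨nat_lit 0, nat_lit 0, [nat_lit 5, nat_lit 29, nat_lit 1, nat_lit 17, nat_lit 17, nat_lit 26, nat_lit 21, nat_lit 24, nat_lit 29, nat_lit 25, nat_lit 25, nat_lit 29, nat_lit 28, nat_lit 29], []⟩, ⟨nat_lit 0, nat_lit 0, [nat_lit 27, nat_lit 5, nat_lit 18, nat_lit 19, nat_lit 25, nat_lit 20, nat_lit 26, nat_lit 22, nat_lit 25, nat_lit 26, nat_lit 28], []⟩, ⟨nat_lit 0, nat_lit 0, [nat_lit 20, nat_lit 9, nat_lit 24, nat_lit 19, nat_lit 28, nat_lit 20, nat_lit 26, nat_lit 22, nat_lit 29, nat_lit 25, nat_lit 27, nat_lit 27, nat_lit 29], []⟩, ⟨nat_lit 0, nat_lit 0, [nat_lit 4, nat_lit 16, nat_lit 1, nat_lit 24, nat_lit 19, nat_lit 26, nat_lit 21, nat_lit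 22, nat_lit 22, nat_lit 25, nat_lit 25, nat_lit 28, nat_lit 27, nat_lit 27, nat_lit 29, nat_lit 29], []⟩, ⟨nat_lit 0, nat_lit 0, [nat_lit 5, nat_lit 13, nat_lit 0, nat_lit 18, nat_lit 21, nat_lit 23, nat_lit 20, nat_lit 25, nat_lit 22, nat_lit 26, nat_lit 29, nat_lit 27, nat_lit 29, nat_lit 29], []⟩, ⟨nat_lit 0, nat_lit 0, [nat_lit 29, nat_lit 9, nat_lit 0, nat_lit 18, nat_lit 19, nat_lit 26, nat_lit 21, nat_lit 20, nat_lit 22, nat_lit 27, nat_lit 26, nat_lit 28, nat_lit 29, nat_lit 29], []⟩, ⟨nat_lit 0, nat_lit 0, [nat_lit 27, nat_lit 21, nat_lit 0, nat_lit 22, nat_lit 19, nat_lit 20, nat_lit 20, nat_lit 24, nat_lit 29, nat_lit 25, nat_lit 25, nat_lit 29], []⟩, ⟨nat_lit 0, nat_lit 0, [nat_lit 29, nat_lit 6, nat_lit 2, nat_lit 24, nat_lit 17, nat_lit 29, nat_lit 20, nat_lit 23, nat_lit 22, nat_lit 29, nat_lit 27, nat_lit 29], []⟩, ⟨nat_lit 0, nat_lit 0, [nat_lit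 0, nat_lit 27, nat_lit 0, nat_lit 19, nat_lit 18, nat_lit 21, nat_lit 20, nat_lit 22, nat_lit 22, nat_lit 25, nat_lit 26], []⟩, ⟨nat_lit 0, nat_lit 0, [nat_lit 2, nat_lit 15, nat_lit 0, nat_lit 18, nat_lit 20, nat_lit 20, nat_lit 26, nat_lit 22, nat_lit 22, nat_lit 25, nat_lit 25, nat_lit 28, nat_lit 29, nat_lit 29], []⟩, ⟨nat_lit 0, nat_lit 0, [nat_lit 16, nat_lit 4, nat_lit 1, nat_lit 20, nat_lit 18, nat_lit 21, nat_lit 20, nat_lit 24, nat_lit 25, nat_lit 25, nat_lit 27], []⟩, ⟨nat_lit 0, nat_lit 0, [nat_lit 19, nat_lit 6, nat_lit 0, nat_lit 24, nat_lit 19, nat_lit 29, nat_lit 20, nat_lit 24, nat_lit 29, nat_lit 25, nat_lit 29, nat_lit 28, nat_lit 29, nat_lit 29], []⟩, ⟨nat_lit 0, nat_lit 0, [nat_lit 16, nat_lit 10, nat_lit 0, nat_lit 17, nat_lit 21, nat_lit 23, nat_lit 20, nat_lit 26, nat_lit 27, nat_lit 29], []⟩, ⟨nat_lit 0, nat_lit 0, [nat_lit 3, nat_lit 26,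 nat_lit 0, nat_lit 22, nat_lit 19, nat_lit 22, nat_lit 20, nat_lit 26, nat_lit 22, nat_lit 25, nat_lit 28, nat_lit 27, nat_lit 27, nat_lit 29], []⟩, ⟨nat_lit 0, nat_lit 0, [nat_lit 21, nat_lit 29, nat_lit 0, nat_lit 21, nat_lit 17, nat_lit 22, nat_lit 20, nat_lit 25, nat_lit 22, nat_lit 27, nat_lit 26], []⟩, ⟨nat_lit 0, nat_lit 0, [nat_lit 4, nat_lit 13, nat_lit 2, nat_lit 19, nat_lit 18, nat_lit 20, nat_lit 21, nat_lit 27, nat_lit 24, nat_lit 26, nat_lit 27, nat_lit 27], []⟩, ⟨nat_lit 0, nat_lit 0, [nat_lit 16, nat_lit 1, nat_lit 0, nat_lit 17, nat_lit 18, nat_lit 25, nat_lit 25, nat_lit 27, nat_lit 27, nat_lit 29, nat_lit 29], []⟩, ⟨nat_lit 0, nat_lit 0, [nat_lit 3, nat_lit 12, nat_lit 0, nat_lit 18, nat_lit 20, nat_lit 26, nat_lit 24, nat_lit 29, nat_lit 25, nat_lit 28, nat_lit 27, nat_lit 27, nat_lit 29, nat_lit 29], []⟩, ⟨nat_lit 0, nat_lit 0, [nat_lit 12,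 nat_lit 10, nat_lit 17, nat_lit 18, nat_lit 25, nat_lit 20, nat_lit 27, nat_lit 22, nat_lit 22, nat_lit 26, nat_lit 28, nat_lit 29], []⟩, ⟨nat_lit 0, nat_lit 0, [nat_lit 15, nat_lit 1, nat_lit 24, nat_lit 17, nat_lit 17, nat_lit 23, nat_lit 20, nat_lit 23, nat_lit 25, nat_lit 22, nat_lit 27, nat_lit 26, nat_lit 29, nat_lit 27, nat_lit 29, nat_lit 29], []⟩, ⟨nat_lit 0, nat_lit 0, [nat_lit 22, nat_lit 0, nat_lit 1, nat_lit 17, nat_lit 17, nat_lit 22, nat_lit 22, nat_lit 20, nat_lit 22, nat_lit 27, nat_lit 29], []⟩, ⟨nat_lit 0, nat_lit 0, [nat_lit 28, nat_lit 6, nat_lit 2, nat_lit 24, nat_lit 17, nat_lit 17, nat_lit 28, nat_lit 20, nat_lit 22, nat_lit 22, nat_lit 27, nat_lit 27, nat_lit 29, nat_lit 29], []⟩, ⟨nat_lit 0, nat_lit 0, [nat_lit 19, nat_lit 25, nat_lit 0, nat_lit 25, nat_lit 18, nat_lit 22, nat_lit 22, nat_lit 20, nat_lit 23, nat_lit 22, nat_lit 29, nat_lit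 25, nat_lit 27, nat_lit 29], []⟩, ⟨nat_lit 0, nat_lit 0, [nat_lit 10, nat_lit 2, nat_lit 1, nat_lit 17, nat_lit 17, nat_lit 28, nat_lit 20, nat_lit 23, nat_lit 22, nat_lit 29, nat_lit 25, nat_lit 25, nat_lit 27, nat_lit 29, nat_lit 29], []⟩, ⟨nat_lit 0, nat_lit 0, [nat_lit 3, nat_lit 4, nat_lit 0, nat_lit 19, nat_lit 18, nat_lit 20, nat_lit 20, nat_lit 26, nat_lit 22, nat_lit 22, nat_lit 27, nat_lit 29, nat_lit 29], []⟩, ⟨nat_lit 0, nat_lit 0, [nat_lit 11, nat_lit 11, nat_lit 24, nat_lit 17, nat_lit 20, nat_lit 21, nat_lit 28, nat_lit 22, nat_lit 27, nat_lit 27], []⟩, ⟨nat_lit 0, nat_lit 0, [nat_lit 20, nat_lit 9, nat_lit 0, nat_lit 25, nat_lit 18, nat_lit 28, nat_lit 20, nat_lit 28, nat_lit 22, nat_lit 29, nat_lit 25, nat_lit 25, nat_lit 28, nat_lit 27, nat_lit 27], []⟩, ⟨nat_lit 0, nat_lit 0, [nat_lit 16, nat_lit 27, nat_lit 0, nat_lit 17, nat_lit 17, nat_lit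 26, nat_lit 20, nat_lit 27, nat_lit 26, nat_lit 28, nat_lit 29, nat_lit 29], []⟩, ⟨nat_lit 0, nat_lit 0, [nat_lit 21, nat_lit 16, nat_lit 1, nat_lit 25, nat_lit 18, nat_lit 25, nat_lit 20, nat_lit 27, nat_lit 24, nat_lit 25, nat_lit 26, nat_lit 29, nat_lit 27], []⟩, ⟨nat_lit 0, nat_lit 0, [nat_lit 24, nat_lit 4, nat_lit 0, nat_lit 20, nat_lit 18, nat_lit 20, nat_lit 20, nat_lit 26, nat_lit 24, nat_lit 25, nat_lit 29], []⟩, ⟨nat_lit 0, nat_lit 0, [nat_lit 15, nat_lit 25, nat_lit 1, nat_lit 18, nat_lit 18, nat_lit 20, nat_lit 20, nat_lit 25, nat_lit 22, nat_lit 29, nat_lit 25, nat_lit 25, nat_lit 29, nat_lit 29], []⟩, ⟨nat_lit 0, nat_lit 0, [nat_lit 27, nat_lit 6, nat_lit 0, nat_lit 22, nat_lit 22, nat_lit 20, nat_lit 22, nat_lit 22, nat_lit 29], []⟩, ⟨nat_lit 0, nat_lit 0, [nat_lit 23, nat_lit 11, nat_lit 17, nat_lit 21, nat_lit 23, nat_lit 20, nat_lit 26, nat_lit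 22, nat_lit 29, nat_lit 25, nat_lit 27, nat_lit 29, nat_lit 29], []⟩, ⟨nat_lit 0, nat_lit 0, [nat_lit 23, nat_lit 9, nat_lit 0, nat_lit 20, nat_lit 17, nat_lit 29, nat_lit 20, nat_lit 27, nat_lit 22, nat_lit 22, nat_lit 29, nat_lit 25, nat_lit 25, nat_lit 27, nat_lit 29, nat_lit 29], []⟩, ⟨nat_lit 0, nat_lit 0, [nat_lit 26, nat_lit 11, nat_lit 0, nat_lit 19, nat_lit 23, nat_lit 20, nat_lit 28, nat_lit 22, nat_lit 26, nat_lit 27], []⟩, ⟨nat_lit 0, nat_lit 0, [nat_lit 12, nat_lit 26, nat_lit 1, nat_lit 24, nat_lit 17, nat_lit 17, nat_lit 25, nat_lit 20, nat_lit 26, nat_lit 22, nat_lit 22, nat_lit 29, nat_lit 25, nat_lit 25, nat_lit 27, nat_lit 29, nat_lit 29], []⟩, ⟨nat_lit 0, nat_lit 0, [nat_lit 4, nat_lit 11, nat_lit 6, nat_lit 18, nat_lit 18, nat_lit 28, nat_lit 20, nat_lit 27, nat_lit 22, nat_lit 22, nat_lit 27, nat_lit 26, nat_lit 28, nat_lit 27, nat_lit 27],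 []⟩, ⟨nat_lit 0, nat_lit 0, [nat_lit 21, nat_lit 9, nat_lit 0, nat_lit 19, nat_lit 21, nat_lit 23, nat_lit 20, nat_lit 23, nat_lit 25, nat_lit 22, nat_lit 25, nat_lit 26, nat_lit 28, nat_lit 27, nat_lit 27, nat_lit 29], []⟩, ⟨nat_lit 0, nat_lit 0, [nat_lit 6, nat_lit 10, nat_lit 0, nat_lit 18, nat_lit 26, nat_lit 21, nat_lit 25, nat_lit 22, nat_lit 27, nat_lit 26, nat_lit 28], []⟩, ⟨nat_lit 0, nat_lit 0, [nat_lit 18, nat_lit 17, nat_lit 0, nat_lit 19, nat_lit 20, nat_lit 22, nat_lit 27, nat_lit 29, nat_lit 29], []⟩]⟩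

noncomputable def rB7x1 : RP := ⟨[nat_lit 15, nat_lit 3, nat_lit 0, nat_lit 20, nat_lit 20, nat_lit 23, nat_lit 25, nat_lit 22, nat_lit 27, nat_lit 26, nat_lit 29, nat_lit 27, nat_lit 29, nat_lit 29], [nat_lit 22, nat_lit 20, nat_lit 0, nat_lit 17, nat_lit 17, nat_lit 25, nat_lit 20, nat_lit 26, nat_lit 28, nat_lit 29], [⟨nat_lit 0, nat_lit 0, [nat_lit 6, nat_lit 19, nat_lit 26, nat_lit 21, nat_lit 24, nat_lit 22, nat_lit 27], []⟩, ⟨nat_lit 0, nat_lit 0, [nat_lit 26, nat_lit 10, nat_lit 0, nat_lit 21, nat_lit 17, nat_lit 20, nat_lit 20, nat_lit 27, nat_lit 26, nat_lit 29, nat_lit 27, nat_lit 29], []⟩, ⟨nat_lit 0, nat_lit 0, [nat_lit 1, nat_lit 0, nat_lit 27, nat_lit 17, nat_lit 21, nat_lit 23, nat_lit 20, nat_lit 23, nat_lit 22, nat_lit 29, nat_lit 25, nat_lit 29, nat_lit 28, nat_lit 29, nat_lit 29], []⟩, ⟨nat_lit 0, nat_lit 0, [nat_lit 29, nat_lit 26, nat_lit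 0, nat_lit 25, nat_lit 18, nat_lit 26, nat_lit 21, nat_lit 20, nat_lit 24, nat_lit 22, nat_lit 25, nat_lit 25, nat_lit 29, nat_lit 27, nat_lit 29, nat_lit 29], []⟩, ⟨nat_lit 0, nat_lit 0, [nat_lit 20, nat_lit 7, nat_lit 24, nat_lit 17, nat_lit 17, nat_lit 23, nat_lit 20, nat_lit 26, nat_lit 27, nat_lit 29], []⟩, ⟨nat_lit 0, nat_lit 0, [nat_lit 29, nat_lit 1, nat_lit 22, nat_lit 19, nat_lit 28, nat_lit 20, nat_lit 24, nat_lit 26, nat_lit 28, nat_lit 27, nat_lit 27, nat_lit 29, nat_lit 29], []⟩, ⟨nat_lit 0, nat_lit 0, [nat_lit 15, nat_lit 10, nat_lit 1, nat_lit 18, nat_lit 26, nat_lit 21, nat_lit 22, nat_lit 22, nat_lit 29, nat_lit 25, nat_lit 29, nat_lit 28], []⟩, ⟨nat_lit 0, nat_lit 0, [nat_lit 9, nat_lit 5, nat_lit 20, nat_lit 18, nat_lit 26, nat_lit 21, nat_lit 26, nat_lit 22, nat_lit 22, nat_lit 25, nat_lit 26, nat_lit 29, nat_lit 27, nat_lit 29, nat_lit 29],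 []⟩, ⟨nat_lit 0, nat_lit 0, [nat_lit 26, nat_lit 15, nat_lit 0, nat_lit 20, nat_lit 17, nat_lit 20, nat_lit 20, nat_lit 25, nat_lit 22, nat_lit 26, nat_lit 29, nat_lit 27, nat_lit 29, nat_lit 29], []⟩, ⟨nat_lit 0, nat_lit 0, [nat_lit 14, nat_lit 20, nat_lit 0, nat_lit 22, nat_lit 19, nat_lit 25, nat_lit 20, nat_lit 27, nat_lit 22, nat_lit 22, nat_lit 25, nat_lit 25, nat_lit 29, nat_lit 28, nat_lit 29], []⟩, ⟨nat_lit 0, nat_lit 0, [nat_lit 15, nat_lit 2, nat_lit 20, nat_lit 17, nat_lit 21, nat_lit 23, nat_lit 20, nat_lit 23, nat_lit 22, nat_lit 27, nat_lit 26, nat_lit 28, nat_lit 29], []⟩, ⟨nat_lit 0, nat_lit 0, [nat_lit 23, nat_lit 6, nat_lit 0, nat_lit 17, nat_lit 28, nat_lit 20, nat_lit 27, nat_lit 22, nat_lit 22, nat_lit 25, nat_lit 25, nat_lit 29, nat_lit 28, nat_lit 29, nat_lit 29], []⟩, ⟨nat_lit 0, nat_lit 0, [nat_lit 4, nat_lit 16, nat_lit 19, nat_lit 21,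 nat_lit 23, nat_lit 20, nat_lit 24, nat_lit 28], []⟩, ⟨nat_lit 0, nat_lit 0, [nat_lit 24, nat_lit 6, nat_lit 24, nat_lit 19, nat_lit 20, nat_lit 20, nat_lit 24, nat_lit 24, nat_lit 27, nat_lit 26, nat_lit 27, nat_lit 27], []⟩, ⟨nat_lit 0, nat_lit 0, [nat_lit 15, nat_lit 11, nat_lit 18, nat_lit 18, nat_lit 21, nat_lit 25, nat_lit 22, nat_lit 25, nat_lit 26, nat_lit 29, nat_lit 28, nat_lit 29, nat_lit 29], []⟩, ⟨nat_lit 0, nat_lit 0, [nat_lit 3, nat_lit 17, nat_lit 17, nat_lit 20, nat_lit 21, nat_lit 26, nat_lit 24, nat_lit 25, nat_lit 29, nat_lit 27, nat_lit 29, nat_lit 29], []⟩, ⟨nat_lit 0, nat_lit 0, [nat_lit 7, nat_lit 25, nat_lit 0, nat_lit 25, nat_lit 18, nat_lit 20, nat_lit 24, nat_lit 24, nat_lit 26, nat_lit 28, nat_lit 27, nat_lit 27], []⟩, ⟨nat_lit 0, nat_lit 0, [nat_lit 11, nat_lit 11, nat_lit 2, nat_lit 24, nat_lit 17, nat_lit 20, nat_lit 21, nat_lit 24,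 nat_lit 25, nat_lit 29, nat_lit 28, nat_lit 29], []⟩, ⟨nat_lit 0, nat_lit 0, [nat_lit 6, nat_lit 21, nat_lit 4, nat_lit 20, nat_lit 18, nat_lit 20, nat_lit 21, nat_lit 23, nat_lit 25, nat_lit 22, nat_lit 27, nat_lit 26, nat_lit 27, nat_lit 27, nat_lit 29, nat_lit 29], []⟩, ⟨nat_lit 0, nat_lit 0, [nat_lit 17, nat_lit 3, nat_lit 20, nat_lit 17, nat_lit 24, nat_lit 22, nat_lit 29, nat_lit 25, nat_lit 29, nat_lit 27, nat_lit 29, nat_lit 29], []⟩, ⟨nat_lit 0, nat_lit 0, [nat_lit 7, nat_lit 27, nat_lit 0, nat_lit 19, nat_lit 26, nat_lit 21, nat_lit 24, nat_lit 29, nat_lit 29], []⟩, ⟨nat_lit 0, nat_lit 0, [nat_lit 18, nat_lit 3, nat_lit 21, nat_lit 17, nat_lit 21, nat_lit 20, nat_lit 24, nat_lit 24, nat_lit 28], []⟩, ⟨nat_lit 0, nat_lit 0, [nat_lit 13, nat_lit 1, nat_lit 2, nat_lit 25, nat_lit 18, nat_lit 22, nat_lit 20, nat_lit 23, nat_lit 25, nat_lit 22, nat_lit 25,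 nat_lit 25, nat_lit 29, nat_lit 27], []⟩, ⟨nat_lit 0, nat_lit 0, [nat_lit 17, nat_lit 23, nat_lit 0, nat_lit 20, nat_lit 17, nat_lit 23, nat_lit 20, nat_lit 26, nat_lit 22, nat_lit 22, nat_lit 26, nat_lit 29, nat_lit 28, nat_lit 29, nat_lit 29], []⟩, ⟨nat_lit 0, nat_lit 0, [nat_lit 16, nat_lit 12, nat_lit 0, nat_lit 25, nat_lit 18, nat_lit 25, nat_lit 20, nat_lit 26, nat_lit 22, nat_lit 22, nat_lit 28, nat_lit 29, nat_lit 29], []⟩, ⟨nat_lit 0, nat_lit 0, [nat_lit 27, nat_lit 11, nat_lit 18, nat_lit 26, nat_lit 21, nat_lit 22, nat_lit 22, nat_lit 25, nat_lit 28, nat_lit 29, nat_lit 29], []⟩, ⟨nat_lit 0, nat_lit 0, [nat_lit 26, nat_lit 9, nat_lit 0, nat_lit 20, nat_lit 18, nat_lit 21, nat_lit 23, nat_lit 20, nat_lit 27, nat_lit 24, nat_lit 27, nat_lit 27], []⟩, ⟨nat_lit 0, nat_lit 0, [nat_lit 16, nat_lit 24, nat_lit 17, nat_lit 17, nat_lit 21, nat_lit 23, nat_lit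 20, nat_lit 22, nat_lit 29, nat_lit 25, nat_lit 25, nat_lit 28, nat_lit 29, nat_lit 29], []⟩, ⟨nat_lit 0, nat_lit 0, [nat_lit 4, nat_lit 9, nat_lit 24, nat_lit 19, nat_lit 25, nat_lit 20, nat_lit 22, nat_lit 22, nat_lit 29, nat_lit 25, nat_lit 25, nat_lit 29, nat_lit 29], []⟩, ⟨nat_lit 0, nat_lit 0, [nat_lit 10, nat_lit 14, nat_lit 1, nat_lit 27, nat_lit 17, nat_lit 26, nat_lit 20, nat_lit 25, nat_lit 22, nat_lit 29, nat_lit 25, nat_lit 25, nat_lit 29, nat_lit 27, nat_lit 29], []⟩, ⟨nat_lit 0, nat_lit 0, [nat_lit 11, nat_lit 13, nat_lit 17, nat_lit 17, nat_lit 21, nat_lit 28, nat_lit 22, nat_lit 25, nat_lit 25, nat_lit 28, nat_lit 27, nat_lit 27, nat_lit 29, nat_lit 29], []⟩, ⟨nat_lit 0, nat_lit 0, [nat_lit 18, nat_lit 11, nat_lit 1, nat_lit 24, nat_lit 19, nat_lit 21, nat_lit 23, nat_lit 20, nat_lit 26, nat_lit 24, nat_lit 29, nat_lit 25, nat_lit 25, nat_lit 29,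 nat_lit 27, nat_lit 29, nat_lit 29], []⟩, ⟨nat_lit 0, nat_lit 0, [nat_lit 25, nat_lit 1, nat_lit 24, nat_lit 17, nat_lit 17, nat_lit 20, nat_lit 24, nat_lit 22, nat_lit 28, nat_lit 27, nat_lit 27], []⟩, ⟨nat_lit 0, nat_lit 0, [nat_lit 0, nat_lit 20, nat_lit 0, nat_lit 17, nat_lit 21, nat_lit 27, nat_lit 22, nat_lit 22, nat_lit 27, nat_lit 26, nat_lit 28, nat_lit 29], []⟩, ⟨nat_lit 0, nat_lit 0, [nat_lit 8, nat_lit 25, nat_lit 3, nat_lit 24, nat_lit 17, nat_lit 25, nat_lit 20, nat_lit 27, nat_lit 22, nat_lit 22, nat_lit 25, nat_lit 27, nat_lit 29, nat_lit 29], []⟩, ⟨nat_lit 0, nat_lit 0, [nat_lit 21, nat_lit 2, nat_lit 1, nat_lit 18, nat_lit 18, nat_lit 29, nat_lit 20, nat_lit 27, nat_lit 22, nat_lit 22, nat_lit 26, nat_lit 29, nat_lit 27, nat_lit 29, nat_lit 29], []⟩, ⟨nat_lit 0, nat_lit 0, [nat_lit 26, nat_lit 9, nat_lit 18, nat_lit 18, nat_lit 23, nat_lit 20,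 nat_lit 24, nat_lit 25, nat_lit 25, nat_lit 27], []⟩, ⟨nat_lit 0, nat_lit 0, [nat_lit 1, nat_lit 12, nat_lit 4, nat_lit 24, nat_lit 17, nat_lit 20, nat_lit 20, nat_lit 22, nat_lit 24, nat_lit 27, nat_lit 26, nat_lit 27, nat_lit 27], []⟩, ⟨nat_lit 0, nat_lit 0, [nat_lit 2, nat_lit 1, nat_lit 21, nat_lit 17, nat_lit 28, nat_lit 20, nat_lit 22, nat_lit 24, nat_lit 25, nat_lit 28, nat_lit 29], []⟩, ⟨nat_lit 0, nat_lit 0, [nat_lit 22, nat_lit 5, nat_lit 1, nat_lit 24, nat_lit 19, nat_lit 29, nat_lit 20, nat_lit 27, nat_lit 22, nat_lit 22, nat_lit 25, nat_lit 26, nat_lit 29, nat_lit 29], []⟩, ⟨nat_lit 0, nat_lit 0, [nat_lit 4, nat_lit 25, nat_lit 1, nat_lit 20, nat_lit 17, nat_lit 29, nat_lit 20, nat_lit 26, nat_lit 22, nat_lit 25, nat_lit 26, nat_lit 28, nat_lit 29], []⟩, ⟨nat_lit 0, nat_lit 0, [nat_lit 3, nat_lit 23, nat_lit 0, nat_lit 18, nat_lit 19, nat_lit 21, nat_lit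 23, nat_lit 20, nat_lit 24, nat_lit 27, nat_lit 26, nat_lit 29, nat_lit 29], []⟩, ⟨nat_lit 0, nat_lit 0, [nat_lit 24, nat_lit 21, nat_lit 1, nat_lit 17, nat_lit 17, nat_lit 28, nat_lit 20, nat_lit 25, nat_lit 22, nat_lit 25, nat_lit 26, nat_lit 28, nat_lit 27, nat_lit 27, nat_lit 29, nat_lit 29], []⟩, ⟨nat_lit 0, nat_lit 0, [nat_lit 5, nat_lit 14, nat_lit 0, nat_lit 19, nat_lit 29, nat_lit 20, nat_lit 23, nat_lit 22, nat_lit 25, nat_lit 26, nat_lit 27, nat_lit 27], []⟩, ⟨nat_lit 0, nat_lit 0, [nat_lit 25, nat_lit 17, nat_lit 0, nat_lit 19, nat_lit 18, nat_lit 21, nat_lit 23, nat_lit 20, nat_lit 23, nat_lit 22, nat_lit 27, nat_lit 26, nat_lit 27, nat_lit 27, nat_lit 29], []⟩, ⟨nat_lit 0, nat_lit 0, [nat_lit 25, nat_lit 12, nat_lit 18, nat_lit 19, nat_lit 26, nat_lit 20, nat_lit 24, nat_lit 22, nat_lit 26, nat_lit 27], []⟩, ⟨nat_lit 0, nat_lit 0, [nat_lit 9, nat_lit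 15, nat_lit 3, nat_lit 18, nat_lit 18, nat_lit 21, nat_lit 20, nat_lit 29, nat_lit 25, nat_lit 28, nat_lit 27, nat_lit 27, nat_lit 29], []⟩, ⟨nat_lit 0, nat_lit 0, [nat_lit 14, nat_lit 6, nat_lit 0, nat_lit 24, nat_lit 17, nat_lit 26, nat_lit 21, nat_lit 20, nat_lit 22, nat_lit 22, nat_lit 29, nat_lit 25, nat_lit 25, nat_lit 27, nat_lit 27], []⟩, ⟨nat_lit 0, nat_lit 0, [nat_lit 25, nat_lit 5, nat_lit 25, nat_lit 18, nat_lit 26, nat_lit 21, nat_lit 26, nat_lit 22, nat_lit 22, nat_lit 26, nat_lit 27, nat_lit 27, nat_lit 29], []⟩, ⟨nat_lit 0, nat_lit 0, [nat_lit 23, nat_lit 4, nat_lit 0, nat_lit 21, nat_lit 17, nat_lit 20, nat_lit 20, nat_lit 25, nat_lit 22, nat_lit 25, nat_lit 27, nat_lit 27], []⟩, ⟨nat_lit 0, nat_lit 0, [nat_lit 29, nat_lit 0, nat_lit 18, nat_lit 26, nat_lit 21, nat_lit 20, nat_lit 22, nat_lit 24, nat_lit 25, nat_lit 26, nat_lit 29, nat_lit 27],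 []⟩, ⟨nat_lit 0, nat_lit 0, [nat_lit 13, nat_lit 16, nat_lit 27, nat_lit 17, nat_lit 28, nat_lit 20, nat_lit 23, nat_lit 22, nat_lit 25, nat_lit 25], []⟩, ⟨nat_lit 0, nat_lit 0, [nat_lit 2, nat_lit 14, nat_lit 17, nat_lit 18, nat_lit 23, nat_lit 20, nat_lit 22, nat_lit 22, nat_lit 25, nat_lit 26, nat_lit 27, nat_lit 27], []⟩, ⟨nat_lit 0, nat_lit 0, [nat_lit 0, nat_lit 19, nat_lit 5, nat_lit 22, nat_lit 19, nat_lit 20, nat_lit 20, nat_lit 22, nat_lit 22, nat_lit 26, nat_lit 27, nat_lit 29, nat_lit 29], []⟩]⟩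

noncomputable def cB7 : CC := ⟨[[nat_lit 5, nat_lit 11, nat_lit 17, nat_lit 18, nat_lit 22, nat_lit 22, nat_lit 20, nat_lit 22, nat_lit 24, nat_lit 27, nat_lit 27, nat_lit 29, nat_lit 29], [nat_lit 16, nat_lit 21, nat_lit 17, nat_lit 21, nat_lit 23, nat_lit 20, nat_lit 27, nat_lit 24, nat_lit 25, nat_lit 25, nat_lit 27, nat_lit 27, nat_lit 29, nat_lit 29]], [(nat_lit 14316723603, []), (nat_lit 22835389790, [nat_lit 0, nat_lit 1, nat_lit 1]), (nat_lit 51140422114, [nat_lit 0, nat_lit 0]), (nat_lit 85519751373, [nat_lit 0, nat_lit 0, nat_lit 1]), (nat_lit 164190125449, [nat_lit 0]), (nat_lit 200410248899, [nat_lit 1, nat_lit 1]), (nat_lit 223856530155, [nat_lit 0, nat_lit 0, nat_lit 1, nat_lit 1]), (nat_lit 348402558546, [nat_lit 0, nat_lit 1]), (nat_lit 351854156244, [nat_lit 1])],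
  [⟨nat_lit 1, nat_lit 99, [], []⟩, ⟨nat_lit 2, nat_lit 0, [], []⟩, ⟨nat_lit 2, nat_lit 1, [], []⟩, ⟨nat_lit 1, nat_lit 2, [nat_lit 22, nat_lit 29, nat_lit 0, nat_lit 20, nat_lit 17, nat_lit 21, nat_lit 23, nat_lit 20, nat_lit 24, nat_lit 24, nat_lit 29, nat_lit 25, nat_lit 25, nat_lit 27, nat_lit 27, nat_lit 29, nat_lit 29], []⟩, ⟨nat_lit 1, nat_lit 2, [nat_lit 1, nat_lit 12, nat_lit 0, nat_lit 27, nat_lit 17, nat_lit 23, nat_lit 20, nat_lit 24, nat_lit 24, nat_lit 28, nat_lit 27, nat_lit 27, nat_lit 29, nat_lit 29], []⟩, ⟨nat_lit 1, nat_lit 0, [nat_lit 3, nat_lit 12, nat_lit 20, nat_lit 17, nat_lit 29, nat_lit 20, nat_lit 22, nat_lit 29, nat_lit 25, nat_lit 28, nat_lit 27, nat_lit 27, nat_lit 29, nat_lit 29], []⟩, ⟨nat_lit 1, nat_lit 3, [nat_lit 21, nat_lit 9, nat_lit 24, nat_lit 17, nat_lit 25, nat_lit 20, nat_lit 23, nat_lit 22, nat_lit 25, nat_lit 25, nat_lit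 29], []⟩, ⟨nat_lit 1, nat_lit 3, [nat_lit 28, nat_lit 15, nat_lit 0, nat_lit 27, nat_lit 17, nat_lit 29, nat_lit 20, nat_lit 26, nat_lit 22, nat_lit 22, nat_lit 25, nat_lit 26, nat_lit 27, nat_lit 29, nat_lit 29], []⟩, ⟨nat_lit 1, nat_lit 1, [nat_lit 3, nat_lit 10, nat_lit 0, nat_lit 27, nat_lit 22, nat_lit 22, nat_lit 26, nat_lit 29], []⟩],
  [rB7x0, rB7x1]⟩

noncomputable def rB8x0 : RP := ⟨[nat_lit 17, nat_lit 12, nat_lit 22, nat_lit 19, nat_lit 25, nat_lit 22, nat_lit 25, nat_lit 26, nat_lit 27, nat_lit 27, nat_lit 29], [nat_lit 23, nat_lit 12, nat_lit 2, nat_lit 27, nat_lit 17, nat_lit 26, nat_lit 21, nat_lit 20, nat_lit 26, nat_lit 24, nat_lit 25, nat_lit 28, nat_lit 29, nat_lit 29], [⟨nat_lit 0, nat_lit 0, [nat_lit 20, nat_lit 4, nat_lit 0, nat_lit 24, nat_lit 19, nat_lit 20, nat_lit 20, nat_lit 23, nat_lit 22, nat_lit 27, nat_lit 26, nat_lit 28], []⟩, ⟨nat_lit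 0, nat_lit 0, [nat_lit 27, nat_lit 22, nat_lit 0, nat_lit 24, nat_lit 17, nat_lit 29, nat_lit 20, nat_lit 28, nat_lit 22, nat_lit 25, nat_lit 25, nat_lit 27, nat_lit 29, nat_lit 29], []⟩, ⟨nat_lit 0, nat_lit 0, [nat_lit 4, nat_lit 16, nat_lit 17, nat_lit 21, nat_lit 20, nat_lit 26, nat_lit 24, nat_lit 29, nat_lit 25, nat_lit 29, nat_lit 27], []⟩, ⟨nat_lit 0, nat_lit 0, [nat_lit 21, nat_lit 12, nat_lit 1, nat_lit 25, nat_lit 18, nat_lit 20, nat_lit 21, nat_lit 28, nat_lit 22, nat_lit 25, nat_lit 27, nat_lit 29], []⟩, ⟨nat_lit 0, nat_lit 0, [nat_lit 1, nat_lit 13, nat_lit 18, nat_lit 18, nat_lit 22, nat_lit 20, nat_lit 26, nat_lit 22, nat_lit 25, nat_lit 27, nat_lit 29, nat_lit 29], []⟩, ⟨nat_lit 0, nat_lit 0, [nat_lit 10, nat_lit 3, nat_lit 22, nat_lit 19, nat_lit 21, nat_lit 20, nat_lit 24, nat_lit 24, nat_lit 25, nat_lit 29, nat_lit 29], []⟩, ⟨nat_lit 0, nat_lit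 0, [nat_lit 24, nat_lit 15, nat_lit 0, nat_lit 22, nat_lit 20, nat_lit 24, nat_lit 24, nat_lit 28, nat_lit 29], []⟩, ⟨nat_lit 0, nat_lit 0, [nat_lit 3, nat_lit 1, nat_lit 0, nat_lit 20, nat_lit 18, nat_lit 26, nat_lit 21, nat_lit 26, nat_lit 22, nat_lit 22, nat_lit 25, nat_lit 25, nat_lit 29, nat_lit 28, nat_lit 29, nat_lit 29], []⟩, ⟨nat_lit 0, nat_lit 0, [nat_lit 24, nat_lit 11, nat_lit 3, nat_lit 19, nat_lit 21, nat_lit 20, nat_lit 22, nat_lit 22, nat_lit 27, nat_lit 29], []⟩, ⟨nat_lit 0, nat_lit 0, [nat_lit 8, nat_lit 4, nat_lit 0, nat_lit 19, nat_lit 20, nat_lit 26, nat_lit 22, nat_lit 29, nat_lit 25, nat_lit 25, nat_lit 28, nat_lit 29, nat_lit 29], []⟩, ⟨nat_lit 0, nat_lit 0, [nat_lit 9, nat_lit 19, nat_lit 1, nat_lit 24, nat_lit 17, nat_lit 17, nat_lit 23, nat_lit 20, nat_lit 22, nat_lit 25, nat_lit 26, nat_lit 28, nat_lit 27, nat_lit 27], []⟩, ⟨nat_lit 0,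 nat_lit 0, [nat_lit 19, nat_lit 5, nat_lit 27, nat_lit 17, nat_lit 26, nat_lit 21, nat_lit 20, nat_lit 26, nat_lit 22, nat_lit 22, nat_lit 27, nat_lit 26, nat_lit 28, nat_lit 29], []⟩, ⟨nat_lit 0, nat_lit 0, [nat_lit 0, nat_lit 1, nat_lit 17, nat_lit 18, nat_lit 21, nat_lit 22, nat_lit 22, nat_lit 25, nat_lit 26, nat_lit 27], []⟩, ⟨nat_lit 0, nat_lit 0, [nat_lit 29, nat_lit 6, nat_lit 3, nat_lit 24, nat_lit 19, nat_lit 25, nat_lit 20, nat_lit 24, nat_lit 29, nat_lit 25, nat_lit 28, nat_lit 29], []⟩, ⟨nat_lit 0, nat_lit 0, [nat_lit 20, nat_lit 16, nat_lit 1, nat_lit 18, nat_lit 19, nat_lit 20, nat_lit 26, nat_lit 22, nat_lit 27, nat_lit 26, nat_lit 29, nat_lit 28], []⟩, ⟨nat_lit 0, nat_lit 0, [nat_lit 9, nat_lit 7, nat_lit 24, nat_lit 17, nat_lit 17, nat_lit 28, nat_lit 20, nat_lit 23, nat_lit 22, nat_lit 26, nat_lit 29, nat_lit 28, nat_lit 29], []⟩, ⟨nat_lit 0,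 nat_lit 0, [nat_lit 29, nat_lit 7, nat_lit 18, nat_lit 19, nat_lit 22, nat_lit 20, nat_lit 26, nat_lit 29, nat_lit 27, nat_lit 29], []⟩, ⟨nat_lit 0, nat_lit 0, [nat_lit 17, nat_lit 1, nat_lit 0, nat_lit 20, nat_lit 18, nat_lit 23, nat_lit 20, nat_lit 23, nat_lit 22, nat_lit 27, nat_lit 29, nat_lit 29], []⟩, ⟨nat_lit 0, nat_lit 0, [nat_lit 24, nat_lit 6, nat_lit 0, nat_lit 17, nat_lit 18, nat_lit 28, nat_lit 20, nat_lit 27, nat_lit 22, nat_lit 22, nat_lit 26, nat_lit 29, nat_lit 28], []⟩, ⟨nat_lit 0, nat_lit 0, [nat_lit 25, nat_lit 20, nat_lit 0, nat_lit 26, nat_lit 21, nat_lit 26, nat_lit 22, nat_lit 25, nat_lit 25, nat_lit 27, nat_lit 27, nat_lit 29], []⟩, ⟨nat_lit 0, nat_lit 0, [nat_lit 21, nat_lit 11, nat_lit 0, nat_lit 24, nat_lit 19, nat_lit 21, nat_lit 20, nat_lit 22, nat_lit 29, nat_lit 28, nat_lit 29], []⟩, ⟨nat_lit 0, nat_lit 0, [nat_lit 14, nat_lit 6,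 nat_lit 2, nat_lit 20, nat_lit 18, nat_lit 21, nat_lit 24, nat_lit 22, nat_lit 25, nat_lit 25, nat_lit 28, nat_lit 27, nat_lit 27], []⟩, ⟨nat_lit 0, nat_lit 0, [nat_lit 12, nat_lit 10, nat_lit 18, nat_lit 26, nat_lit 21, nat_lit 26, nat_lit 22, nat_lit 25, nat_lit 27, nat_lit 27], []⟩, ⟨nat_lit 0, nat_lit 0, [nat_lit 5, nat_lit 24, nat_lit 0, nat_lit 18, nat_lit 28, nat_lit 20, nat_lit 23, nat_lit 22, nat_lit 29, nat_lit 28], []⟩, ⟨nat_lit 0, nat_lit 0, [nat_lit 17, nat_lit 10, nat_lit 0, nat_lit 24, nat_lit 17, nat_lit 22, nat_lit 20, nat_lit 22, nat_lit 22, nat_lit 27, nat_lit 26], []⟩, ⟨nat_lit 0, nat_lit 0, [nat_lit 18, nat_lit 14, nat_lit 24, nat_lit 19, nat_lit 20, nat_lit 22, nat_lit 29, nat_lit 25, nat_lit 28], []⟩, ⟨nat_lit 0, nat_lit 0, [nat_lit 11, nat_lit 11, nat_lit 20, nat_lit 17, nat_lit 28, nat_lit 20, nat_lit 27, nat_lit 24, nat_lit 25, nat_lit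 27, nat_lit 27], []⟩, ⟨nat_lit 0, nat_lit 0, [nat_lit 23, nat_lit 7, nat_lit 20, nat_lit 17, nat_lit 26, nat_lit 21, nat_lit 24, nat_lit 24, nat_lit 29, nat_lit 25, nat_lit 25], []⟩, ⟨nat_lit 0, nat_lit 0, [nat_lit 14, nat_lit 12, nat_lit 20, nat_lit 17, nat_lit 21, nat_lit 23, nat_lit 20, nat_lit 22, nat_lit 24, nat_lit 29, nat_lit 25, nat_lit 28, nat_lit 27, nat_lit 27], []⟩, ⟨nat_lit 0, nat_lit 0, [nat_lit 11, nat_lit 16, nat_lit 18, nat_lit 19, nat_lit 28, nat_lit 20, nat_lit 23, nat_lit 22, nat_lit 25, nat_lit 29, nat_lit 28], []⟩, ⟨nat_lit 0, nat_lit 0, [nat_lit 20, nat_lit 15, nat_lit 0, nat_lit 19, nat_lit 18, nat_lit 28, nat_lit 20, nat_lit 28, nat_lit 22, nat_lit 29, nat_lit 25, nat_lit 29, nat_lit 27, nat_lit 29, nat_lit 29], []⟩, ⟨nat_lit 0, nat_lit 0, [nat_lit 21, nat_lit 9, nat_lit 21, nat_lit 17, nat_lit 26, nat_lit 21, nat_lit 20, nat_lit 26, nat_lit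 24, nat_lit 26, nat_lit 27, nat_lit 29], []⟩, ⟨nat_lit 0, nat_lit 0, [nat_lit 12, nat_lit 25, nat_lit 0, nat_lit 17, nat_lit 22, nat_lit 22, nat_lit 20, nat_lit 22, nat_lit 24, nat_lit 29, nat_lit 25, nat_lit 27, nat_lit 29, nat_lit 29], []⟩, ⟨nat_lit 0, nat_lit 0, [nat_lit 12, nat_lit 21, nat_lit 0, nat_lit 20, nat_lit 18, nat_lit 22, nat_lit 25, nat_lit 26, nat_lit 27, nat_lit 27, nat_lit 29, nat_lit 29], []⟩, ⟨nat_lit 0, nat_lit 0, [nat_lit 11, nat_lit 0, nat_lit 18, nat_lit 19, nat_lit 22, nat_lit 22, nat_lit 20, nat_lit 24, nat_lit 24, nat_lit 29, nat_lit 25, nat_lit 28, nat_lit 27, nat_lit 27, nat_lit 29], []⟩, ⟨nat_lit 0, nat_lit 0, [nat_lit 22, nat_lit 0, nat_lit 1, nat_lit 22, nat_lit 19, nat_lit 20, nat_lit 21, nat_lit 23, nat_lit 22, nat_lit 26, nat_lit 29, nat_lit 27], []⟩, ⟨nat_lit 0, nat_lit 0, [nat_lit 10, nat_lit 13, nat_lit 3, nat_lit 24, nat_lit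 19, nat_lit 29, nat_lit 20, nat_lit 22, nat_lit 24, nat_lit 25, nat_lit 25, nat_lit 29, nat_lit 27, nat_lit 29, nat_lit 29], []⟩, ⟨nat_lit 0, nat_lit 0, [nat_lit 27, nat_lit 11, nat_lit 0, nat_lit 21, nat_lit 17, nat_lit 26, nat_lit 20, nat_lit 22, nat_lit 27, nat_lit 26, nat_lit 28, nat_lit 29], []⟩, ⟨nat_lit 0, nat_lit 0, [nat_lit 1, nat_lit 20, nat_lit 0, nat_lit 21, nat_lit 17, nat_lit 20, nat_lit 20, nat_lit 24, nat_lit 24, nat_lit 27, nat_lit 26], []⟩, ⟨nat_lit 0, nat_lit 0, [nat_lit 23, nat_lit 6, nat_lit 18, nat_lit 18, nat_lit 28, nat_lit 20, nat_lit 24, nat_lit 22, nat_lit 29], []⟩, ⟨nat_lit 0, nat_lit 0, [nat_lit 25, nat_lit 16, nat_lit 2, nat_lit 27, nat_lit 17, nat_lit 20, nat_lit 21, nat_lit 25, nat_lit 22, nat_lit 29, nat_lit 25, nat_lit 25, nat_lit 27, nat_lit 27], []⟩, ⟨nat_lit 0, nat_lit 0, [nat_lit 17, nat_lit 4, nat_lit 25, nat_lit 18, nat_lit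 23, nat_lit 20, nat_lit 25, nat_lit 26, nat_lit 27, nat_lit 27, nat_lit 29, nat_lit 29], []⟩, ⟨nat_lit 0, nat_lit 0, [nat_lit 20, nat_lit 2, nat_lit 24, nat_lit 17, nat_lit 17, nat_lit 26, nat_lit 21, nat_lit 20, nat_lit 27, nat_lit 26, nat_lit 27], []⟩, ⟨nat_lit 0, nat_lit 0, [nat_lit 19, nat_lit 29, nat_lit 0, nat_lit 19, nat_lit 18, nat_lit 23, nat_lit 20, nat_lit 26, nat_lit 24, nat_lit 29, nat_lit 25, nat_lit 25, nat_lit 27, nat_lit 29], []⟩, ⟨nat_lit 0, nat_lit 0, [nat_lit 10, nat_lit 15, nat_lit 25, nat_lit 18, nat_lit 23, nat_lit 20, nat_lit 28, nat_lit 22, nat_lit 26, nat_lit 27], []⟩, ⟨nat_lit 0, nat_lit 0, [nat_lit 5, nat_lit 20, nat_lit 2, nat_lit 21, nat_lit 17, nat_lit 20, nat_lit 26, nat_lit 22, nat_lit 22, nat_lit 25, nat_lit 25, nat_lit 27, nat_lit 27, nat_lit 29], []⟩, ⟨nat_lit 0, nat_lit 0, [nat_lit 22, nat_lit 9, nat_lit 0, nat_lit 18, nat_lit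 19, nat_lit 26, nat_lit 20, nat_lit 24, nat_lit 29, nat_lit 25, nat_lit 27, nat_lit 27, nat_lit 29], []⟩, ⟨nat_lit 0, nat_lit 0, [nat_lit 12, nat_lit 14, nat_lit 1, nat_lit 27, nat_lit 17, nat_lit 20, nat_lit 20, nat_lit 28, nat_lit 22, nat_lit 25, nat_lit 26, nat_lit 29, nat_lit 28, nat_lit 29, nat_lit 29], []⟩, ⟨nat_lit 0, nat_lit 0, [nat_lit 0, nat_lit 28, nat_lit 0, nat_lit 19, nat_lit 18, nat_lit 20, nat_lit 20, nat_lit 27, nat_lit 24, nat_lit 26, nat_lit 28, nat_lit 27, nat_lit 27, nat_lit 29], []⟩, ⟨nat_lit 0, nat_lit 0, [nat_lit 21, nat_lit 7, nat_lit 18, nat_lit 23, nat_lit 20, nat_lit 27, nat_lit 22, nat_lit 22, nat_lit 25, nat_lit 25, nat_lit 29, nat_lit 28], []⟩, ⟨nat_lit 0, nat_lit 0, [nat_lit 4, nat_lit 12, nat_lit 18, nat_lit 19, nat_lit 20, nat_lit 24, nat_lit 24, nat_lit 25, nat_lit 26, nat_lit 27, nat_lit 27, nat_lit 29], []⟩, ⟨nat_lit 0, nat_lit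 0, [nat_lit 0, nat_lit 15, nat_lit 0, nat_lit 18, nat_lit 18, nat_lit 26, nat_lit 21, nat_lit 20, nat_lit 22, nat_lit 24, nat_lit 29], []⟩, ⟨nat_lit 0, nat_lit 0, [nat_lit 17, nat_lit 15, nat_lit 27, nat_lit 17, nat_lit 26, nat_lit 21, nat_lit 23, nat_lit 22, nat_lit 25, nat_lit 27, nat_lit 29, nat_lit 29], []⟩, ⟨nat_lit 0, nat_lit 0, [nat_lit 9, nat_lit 4, nat_lit 17, nat_lit 17, nat_lit 20, nat_lit 26, nat_lit 28, nat_lit 27, nat_lit 27, nat_lit 29], []⟩]⟩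

noncomputable def rB8x1 : RP := ⟨[nat_lit 14, nat_lit 29, nat_lit 4, nat_lit 27, nat_lit 17, nat_lit 26, nat_lit 21, nat_lit 20, nat_lit 26, nat_lit 22, nat_lit 22, nat_lit 27, nat_lit 26, nat_lit 29], [nat_lit 20, nat_lit 0, nat_lit 18, nat_lit 19, nat_lit 25, nat_lit 20, nat_lit 26, nat_lit 22, nat_lit 22, nat_lit 25, nat_lit 25, nat_lit 29, nat_lit 28, nat_lit 29], [⟨nat_lit 0, nat_lit 0, [nat_lit 23, nat_lit 0, nat_lit 1, nat_lit 24, nat_lit 17, nat_lit 17, nat_lit 21, nat_lit 24, nat_lit 22, nat_lit 26, nat_lit 28], []⟩, ⟨nat_lit 0, nat_lit 0, [nat_lit 21, nat_lit 9, nat_lit 20, nat_lit 18, nat_lit 20, nat_lit 21, nat_lit 24, nat_lit 24, nat_lit 27, nat_lit 27], []⟩, ⟨nat_lit 0, nat_lit 0, [nat_lit 0, nat_lit 20, nat_lit 18, nat_lit 25, nat_lit 22, nat_lit 26, nat_lit 29, nat_lit 27], []⟩, ⟨nat_lit 0, nat_lit 0, [nat_lit 6, nat_lit 20, nat_lit 17, nat_lit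 20, nat_lit 21, nat_lit 27, nat_lit 22, nat_lit 22, nat_lit 27, nat_lit 27, nat_lit 29, nat_lit 29], []⟩, ⟨nat_lit 0, nat_lit 0, [nat_lit 27, nat_lit 10, nat_lit 1, nat_lit 20, nat_lit 17, nat_lit 26, nat_lit 20, nat_lit 22, nat_lit 26, nat_lit 29, nat_lit 28, nat_lit 29], []⟩, ⟨nat_lit 0, nat_lit 0, [nat_lit 12, nat_lit 14, nat_lit 1, nat_lit 21, nat_lit 17, nat_lit 21, nat_lit 23, nat_lit 20, nat_lit 23, nat_lit 22, nat_lit 25, nat_lit 26, nat_lit 29, nat_lit 28, nat_lit 29, nat_lit 29], []⟩, ⟨nat_lit 0, nat_lit 0, [nat_lit 4, nat_lit 16, nat_lit 1, nat_lit 24, nat_lit 17, nat_lit 26, nat_lit 20, nat_lit 25, nat_lit 22, nat_lit 29, nat_lit 25, nat_lit 27, nat_lit 27, nat_lit 29, nat_lit 29], []⟩, ⟨nat_lit 0, nat_lit 0, [nat_lit 12, nat_lit 20, nat_lit 0, nat_lit 19, nat_lit 26, nat_lit 21, nat_lit 25, nat_lit 22, nat_lit 25, nat_lit 26, nat_lit 27, nat_lit 27],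 []⟩, ⟨nat_lit 0, nat_lit 0, [nat_lit 16, nat_lit 25, nat_lit 0, nat_lit 22, nat_lit 19, nat_lit 20, nat_lit 20, nat_lit 25, nat_lit 22, nat_lit 29, nat_lit 25, nat_lit 25, nat_lit 28, nat_lit 29, nat_lit 29], []⟩, ⟨nat_lit 0, nat_lit 0, [nat_lit 5, nat_lit 14, nat_lit 0, nat_lit 17, nat_lit 17, nat_lit 20, nat_lit 21, nat_lit 22, nat_lit 24, nat_lit 29, nat_lit 25, nat_lit 25], []⟩, ⟨nat_lit 0, nat_lit 0, [nat_lit 0, nat_lit 12, nat_lit 20, nat_lit 18, nat_lit 29, nat_lit 20, nat_lit 27, nat_lit 22, nat_lit 22, nat_lit 27, nat_lit 26, nat_lit 27, nat_lit 27, nat_lit 29], []⟩, ⟨nat_lit 0, nat_lit 0, [nat_lit 22, nat_lit 0, nat_lit 1, nat_lit 20, nat_lit 18, nat_lit 26, nat_lit 21, nat_lit 20, nat_lit 26, nat_lit 24, nat_lit 29, nat_lit 25, nat_lit 27], []⟩, ⟨nat_lit 0, nat_lit 0, [nat_lit 3, nat_lit 12, nat_lit 0, nat_lit 17, nat_lit 28, nat_lit 20, nat_lit 22, nat_lit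 24, nat_lit 28, nat_lit 29], []⟩, ⟨nat_lit 0, nat_lit 0, [nat_lit 9, nat_lit 3, nat_lit 1, nat_lit 21, nat_lit 17, nat_lit 26, nat_lit 21, nat_lit 22, nat_lit 24, nat_lit 27, nat_lit 27, nat_lit 29, nat_lit 29], []⟩, ⟨nat_lit 0, nat_lit 0, [nat_lit 3, nat_lit 27, nat_lit 0, nat_lit 21, nat_lit 17, nat_lit 26, nat_lit 21, nat_lit 20, nat_lit 27, nat_lit 22, nat_lit 22, nat_lit 26, nat_lit 27, nat_lit 27], []⟩, ⟨nat_lit 0, nat_lit 0, [nat_lit 16, nat_lit 10, nat_lit 20, nat_lit 18, nat_lit 29, nat_lit 20, nat_lit 24, nat_lit 28, nat_lit 27, nat_lit 27, nat_lit 29], []⟩, ⟨nat_lit 0, nat_lit 0, [nat_lit 22, nat_lit 12, nat_lit 18, nat_lit 19, nat_lit 26, nat_lit 21, nat_lit 27, nat_lit 22, nat_lit 22, nat_lit 29, nat_lit 25, nat_lit 27, nat_lit 29, nat_lit 29], []⟩, ⟨nat_lit 0, nat_lit 0, [nat_lit 16, nat_lit 12, nat_lit 0, nat_lit 21, nat_lit 17, nat_lit 21, nat_lit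 23, nat_lit 22, nat_lit 29, nat_lit 25, nat_lit 29, nat_lit 27], []⟩, ⟨nat_lit 0, nat_lit 0, [nat_lit 13, nat_lit 16, nat_lit 24, nat_lit 17, nat_lit 20, nat_lit 28, nat_lit 22, nat_lit 25, nat_lit 27, nat_lit 29, nat_lit 29], []⟩, ⟨nat_lit 0, nat_lit 0, [nat_lit 0, nat_lit 20, nat_lit 0, nat_lit 20, nat_lit 17, nat_lit 26, nat_lit 21, nat_lit 22, nat_lit 25, nat_lit 25, nat_lit 27, nat_lit 29, nat_lit 29], []⟩, ⟨nat_lit 0, nat_lit 0, [nat_lit 17, nat_lit 6, nat_lit 0, nat_lit 21, nat_lit 23, nat_lit 20, nat_lit 27, nat_lit 22, nat_lit 22, nat_lit 25, nat_lit 29, nat_lit 28, nat_lit 29, nat_lit 29], []⟩, ⟨nat_lit 0, nat_lit 0, [nat_lit 21, nat_lit 17, nat_lit 0, nat_lit 19, nat_lit 28, nat_lit 20, nat_lit 26, nat_lit 22, nat_lit 29, nat_lit 25, nat_lit 29, nat_lit 28], []⟩, ⟨nat_lit 0, nat_lit 0, [nat_lit 21, nat_lit 7, nat_lit 18, nat_lit 20, nat_lit 22, nat_lit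 22, nat_lit 26, nat_lit 28, nat_lit 29], []⟩, ⟨nat_lit 0, nat_lit 0, [nat_lit 19, nat_lit 29, nat_lit 0, nat_lit 24, nat_lit 19, nat_lit 21, nat_lit 20, nat_lit 27, nat_lit 22, nat_lit 22, nat_lit 29, nat_lit 25, nat_lit 25, nat_lit 29, nat_lit 27, nat_lit 29, nat_lit 29], []⟩, ⟨nat_lit 0, nat_lit 0, [nat_lit 9, nat_lit 14, nat_lit 24, nat_lit 19, nat_lit 22, nat_lit 20, nat_lit 22, nat_lit 24, nat_lit 29, nat_lit 27, nat_lit 29, nat_lit 29], []⟩, ⟨nat_lit 0, nat_lit 0, [nat_lit 5, nat_lit 9, nat_lit 3, nat_lit 17, nat_lit 18, nat_lit 29, nat_lit 20, nat_lit 29, nat_lit 25, nat_lit 25, nat_lit 27, nat_lit 27, nat_lit 29], []⟩, ⟨nat_lit 0, nat_lit 0, [nat_lit 6, nat_lit 1, nat_lit 0, nat_lit 24, nat_lit 17, nat_lit 17, nat_lit 28, nat_lit 20, nat_lit 22, nat_lit 24, nat_lit 25, nat_lit 26, nat_lit 27, nat_lit 27, nat_lit 29], []⟩, ⟨nat_lit 0, nat_lit 0, [nat_lit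 4, nat_lit 0, nat_lit 24, nat_lit 17, nat_lit 29, nat_lit 20, nat_lit 26, nat_lit 22, nat_lit 22, nat_lit 28, nat_lit 29, nat_lit 29], []⟩, ⟨nat_lit 0, nat_lit 0, [nat_lit 9, nat_lit 16, nat_lit 4, nat_lit 17, nat_lit 21, nat_lit 23, nat_lit 20, nat_lit 27, nat_lit 24, nat_lit 29, nat_lit 25, nat_lit 27, nat_lit 29, nat_lit 29], []⟩, ⟨nat_lit 0, nat_lit 0, [nat_lit 19, nat_lit 14, nat_lit 1, nat_lit 17, nat_lit 18, nat_lit 22, nat_lit 20, nat_lit 25, nat_lit 22, nat_lit 28, nat_lit 27, nat_lit 27, nat_lit 29, nat_lit 29], []⟩, ⟨nat_lit 0, nat_lit 0, [nat_lit 29, nat_lit 5, nat_lit 23, nat_lit 20, nat_lit 22, nat_lit 24, nat_lit 25, nat_lit 28], []⟩, ⟨nat_lit 0, nat_lit 0, [nat_lit 19, nat_lit 9, nat_lit 27, nat_lit 17, nat_lit 20, nat_lit 21, nat_lit 27, nat_lit 22, nat_lit 22, nat_lit 25, nat_lit 25, nat_lit 28, nat_lit 27, nat_lit 27, nat_lit 29], []⟩, ⟨nat_lit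 0, nat_lit 0, [nat_lit 27, nat_lit 16, nat_lit 0, nat_lit 18, nat_lit 18, nat_lit 21, nat_lit 23, nat_lit 20, nat_lit 26, nat_lit 29, nat_lit 27], []⟩, ⟨nat_lit 0, nat_lit 0, [nat_lit 10, nat_lit 10, nat_lit 0, nat_lit 18, nat_lit 29, nat_lit 20, nat_lit 25, nat_lit 22, nat_lit 29, nat_lit 25, nat_lit 25, nat_lit 27, nat_lit 27], []⟩, ⟨nat_lit 0, nat_lit 0, [nat_lit 12, nat_lit 25, nat_lit 0, nat_lit 20, nat_lit 17, nat_lit 21, nat_lit 24, nat_lit 22, nat_lit 25, nat_lit 26, nat_lit 29, nat_lit 28], []⟩, ⟨nat_lit 0, nat_lit 0, [nat_lit 14, nat_lit 4, nat_lit 1, nat_lit 18, nat_lit 26, nat_lit 21, nat_lit 24, nat_lit 27, nat_lit 27], []⟩, ⟨nat_lit 0, nat_lit 0, [nat_lit 26, nat_lit 10, nat_lit 24, nat_lit 17, nat_lit 21, nat_lit 23, nat_lit 20, nat_lit 26, nat_lit 24, nat_lit 25, nat_lit 25, nat_lit 27, nat_lit 27, nat_lit 29, nat_lit 29], []⟩, ⟨nat_lit 0, nat_lit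 0, [nat_lit 7, nat_lit 15, nat_lit 2, nat_lit 24, nat_lit 19, nat_lit 20, nat_lit 21, nat_lit 28, nat_lit 22, nat_lit 29, nat_lit 25, nat_lit 29, nat_lit 29], []⟩, ⟨nat_lit 0, nat_lit 0, [nat_lit 12, nat_lit 4, nat_lit 24, nat_lit 19, nat_lit 22, nat_lit 22, nat_lit 20, nat_lit 23, nat_lit 22, nat_lit 27, nat_lit 26, nat_lit 29, nat_lit 28, nat_lit 29], []⟩, ⟨nat_lit 0, nat_lit 0, [nat_lit 23, nat_lit 6, nat_lit 24, nat_lit 17, nat_lit 20, nat_lit 21, nat_lit 24, nat_lit 29, nat_lit 25, nat_lit 27, nat_lit 27, nat_lit 29], []⟩, ⟨nat_lit 0, nat_lit 0, [nat_lit 24, nat_lit 6, nat_lit 19, nat_lit 20, nat_lit 21, nat_lit 27, nat_lit 22, nat_lit 22, nat_lit 25, nat_lit 26, nat_lit 29, nat_lit 27, nat_lit 29], []⟩, ⟨nat_lit 0, nat_lit 0, [nat_lit 22, nat_lit 29, nat_lit 0, nat_lit 27, nat_lit 17, nat_lit 22, nat_lit 28], []⟩, ⟨nat_lit 0, nat_lit 0, [nat_lit 29, nat_lit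 9, nat_lit 0, nat_lit 18, nat_lit 19, nat_lit 20, nat_lit 20, nat_lit 28, nat_lit 22, nat_lit 26, nat_lit 28, nat_lit 27, nat_lit 27, nat_lit 29, nat_lit 29], []⟩, ⟨nat_lit 0, nat_lit 0, [nat_lit 11, nat_lit 27, nat_lit 3, nat_lit 17, nat_lit 17, nat_lit 21, nat_lit 23, nat_lit 20, nat_lit 27, nat_lit 26, nat_lit 29], []⟩, ⟨nat_lit 0, nat_lit 0, [nat_lit 13, nat_lit 20, nat_lit 0, nat_lit 22, nat_lit 19, nat_lit 22, nat_lit 22, nat_lit 20, nat_lit 27, nat_lit 22, nat_lit 22, nat_lit 27, nat_lit 26, nat_lit 29, nat_lit 29], []⟩, ⟨nat_lit 0, nat_lit 0, [nat_lit 3, nat_lit 0, nat_lit 18, nat_lit 22, nat_lit 20, nat_lit 24, nat_lit 22, nat_lit 25, nat_lit 26, nat_lit 28, nat_lit 29, nat_lit 29], []⟩, ⟨nat_lit 0, nat_lit 0, [nat_lit 23, nat_lit 21, nat_lit 0, nat_lit 20, nat_lit 18, nat_lit 25, nat_lit 20, nat_lit 24, nat_lit 26, nat_lit 29, nat_lit 28, nat_lit 29],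 []⟩, ⟨nat_lit 0, nat_lit 0, [nat_lit 21, nat_lit 13, nat_lit 1, nat_lit 18, nat_lit 19, nat_lit 26, nat_lit 21, nat_lit 20, nat_lit 26, nat_lit 22, nat_lit 25, nat_lit 26, nat_lit 27], []⟩, ⟨nat_lit 0, nat_lit 0, [nat_lit 19, nat_lit 2, nat_lit 3, nat_lit 21, nat_lit 17, nat_lit 21, nat_lit 20, nat_lit 27, nat_lit 22, nat_lit 22, nat_lit 27, nat_lit 26, nat_lit 29, nat_lit 27], []⟩, ⟨nat_lit 0, nat_lit 0, [nat_lit 20, nat_lit 2, nat_lit 25, nat_lit 18, nat_lit 21, nat_lit 23, nat_lit 22, nat_lit 26, nat_lit 29, nat_lit 28], []⟩, ⟨nat_lit 0, nat_lit 0, [nat_lit 26, nat_lit 15, nat_lit 19, nat_lit 18, nat_lit 26, nat_lit 21, nat_lit 20, nat_lit 23, nat_lit 25, nat_lit 22, nat_lit 29, nat_lit 25, nat_lit 25, nat_lit 28, nat_lit 29], []⟩, ⟨nat_lit 0, nat_lit 0, [nat_lit 18, nat_lit 9, nat_lit 18, nat_lit 28, nat_lit 20, nat_lit 23, nat_lit 22, nat_lit 29, nat_lit 25,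 nat_lit 29, nat_lit 28, nat_lit 29], []⟩, ⟨nat_lit 0, nat_lit 0, [nat_lit 29, nat_lit 6, nat_lit 3, nat_lit 24, nat_lit 17, nat_lit 23, nat_lit 20, nat_lit 26, nat_lit 22, nat_lit 26, nat_lit 28, nat_lit 29, nat_lit 29], []⟩, ⟨nat_lit 0, nat_lit 0, [nat_lit 11, nat_lit 13, nat_lit 2, nat_lit 17, nat_lit 17, nat_lit 20, nat_lit 21, nat_lit 23, nat_lit 25, nat_lit 22, nat_lit 25, nat_lit 26, nat_lit 29, nat_lit 28], []⟩]⟩

noncomputable def rB8x2 : RP := ⟨[nat_lit 12, nat_lit 20, nat_lit 17, nat_lit 20, nat_lit 21, nat_lit 24, nat_lit 22, nat_lit 27, nat_lit 27, nat_lit 29], [nat_lit 24, nat_lit 6, nat_lit 17, nat_lit 20, nat_lit 21, nat_lit 26, nat_lit 22, nat_lit 26, nat_lit 29, nat_lit 29], [⟨nat_lit 0, nat_lit 0, [nat_lit 27, nat_lit 10, nat_lit 0, nat_lit 21, nat_lit 17, nat_lit 20, nat_lit 21, nat_lit 22, nat_lit 25, nat_lit 26, nat_lit 27, nat_lit 27, nat_lit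 29, nat_lit 29], []⟩, ⟨nat_lit 0, nat_lit 0, [nat_lit 9, nat_lit 3, nat_lit 21, nat_lit 17, nat_lit 25, nat_lit 20, nat_lit 22, nat_lit 29, nat_lit 25, nat_lit 25, nat_lit 29], []⟩, ⟨nat_lit 0, nat_lit 0, [nat_lit 8, nat_lit 12, nat_lit 21, nat_lit 17, nat_lit 26, nat_lit 21, nat_lit 20, nat_lit 26, nat_lit 22, nat_lit 28, nat_lit 29], []⟩, ⟨nat_lit 0, nat_lit 0, [nat_lit 22, nat_lit 2, nat_lit 0, nat_lit 20, nat_lit 17, nat_lit 20, nat_lit 21, nat_lit 26, nat_lit 22, nat_lit 22, nat_lit 25, nat_lit 29, nat_lit 27], []⟩, ⟨nat_lit 0, nat_lit 0, [nat_lit 9, nat_lit 12, nat_lit 18, nat_lit 18, nat_lit 26, nat_lit 21, nat_lit 20, nat_lit 23, nat_lit 22, nat_lit 28, nat_lit 27, nat_lit 27, nat_lit 29], []⟩, ⟨nat_lit 0, nat_lit 0, [nat_lit 25, nat_lit 9, nat_lit 3, nat_lit 17, nat_lit 23, nat_lit 20, nat_lit 26, nat_lit 24, nat_lit 28], []⟩, ⟨nat_lit 0, nat_lit 0, [nat_lit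 3, nat_lit 4, nat_lit 1, nat_lit 21, nat_lit 17, nat_lit 25, nat_lit 20, nat_lit 26, nat_lit 24, nat_lit 29, nat_lit 25, nat_lit 29, nat_lit 29], []⟩, ⟨nat_lit 0, nat_lit 0, [nat_lit 1, nat_lit 27, nat_lit 0, nat_lit 20, nat_lit 17, nat_lit 23, nat_lit 20, nat_lit 26, nat_lit 24, nat_lit 25, nat_lit 27, nat_lit 29, nat_lit 29], []⟩, ⟨nat_lit 0, nat_lit 0, [nat_lit 9, nat_lit 6, nat_lit 22, nat_lit 19, nat_lit 25, nat_lit 20, nat_lit 27, nat_lit 22, nat_lit 22, nat_lit 26, nat_lit 27, nat_lit 27], []⟩, ⟨nat_lit 0, nat_lit 0, [nat_lit 23, nat_lit 5, nat_lit 0, nat_lit 20, nat_lit 18, nat_lit 21, nat_lit 23, nat_lit 20, nat_lit 25, nat_lit 22, nat_lit 28, nat_lit 29, nat_lit 29], []⟩, ⟨nat_lit 0, nat_lit 0, [nat_lit 29, nat_lit 15, nat_lit 6, nat_lit 17, nat_lit 17, nat_lit 28, nat_lit 20, nat_lit 22, nat_lit 26, nat_lit 29, nat_lit 29], []⟩, ⟨nat_lit 0, nat_lit 0,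 [nat_lit 8, nat_lit 12, nat_lit 21, nat_lit 17, nat_lit 21, nat_lit 23, nat_lit 20, nat_lit 26, nat_lit 22, nat_lit 29, nat_lit 25, nat_lit 28], []⟩, ⟨nat_lit 0, nat_lit 0, [nat_lit 29, nat_lit 15, nat_lit 6, nat_lit 17, nat_lit 17, nat_lit 23, nat_lit 20, nat_lit 25, nat_lit 25, nat_lit 28, nat_lit 27, nat_lit 27, nat_lit 29], []⟩, ⟨nat_lit 0, nat_lit 0, [nat_lit 22, nat_lit 22, nat_lit 0, nat_lit 23, nat_lit 20, nat_lit 26, nat_lit 22, nat_lit 27, nat_lit 26, nat_lit 28, nat_lit 27, nat_lit 27, nat_lit 29], []⟩, ⟨nat_lit 0, nat_lit 0, [nat_lit 28, nat_lit 15, nat_lit 0, nat_lit 18, nat_lit 18, nat_lit 27, nat_lit 24, nat_lit 26, nat_lit 28, nat_lit 27, nat_lit 27, nat_lit 29, nat_lit 29], []⟩, ⟨nat_lit 0, nat_lit 0, [nat_lit 24, nat_lit 11, nat_lit 3, nat_lit 24, nat_lit 17, nat_lit 21, nat_lit 29, nat_lit 25, nat_lit 25, nat_lit 29, nat_lit 28, nat_lit 29, nat_lit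 29], []⟩, ⟨nat_lit 0, nat_lit 0, [nat_lit 4, nat_lit 12, nat_lit 20, nat_lit 17, nat_lit 24, nat_lit 24, nat_lit 26, nat_lit 27, nat_lit 27, nat_lit 29, nat_lit 29], []⟩, ⟨nat_lit 0, nat_lit 0, [nat_lit 13, nat_lit 3, nat_lit 1, nat_lit 24, nat_lit 17, nat_lit 17, nat_lit 29, nat_lit 20, nat_lit 24, nat_lit 24, nat_lit 29, nat_lit 28, nat_lit 29, nat_lit 29], []⟩, ⟨nat_lit 0, nat_lit 0, [nat_lit 18, nat_lit 15, nat_lit 0, nat_lit 19, nat_lit 20, nat_lit 20, nat_lit 28, nat_lit 22, nat_lit 29, nat_lit 25, nat_lit 25, nat_lit 27, nat_lit 27, nat_lit 29, nat_lit 29], []⟩, ⟨nat_lit 0, nat_lit 0, [nat_lit 15, nat_lit 15, nat_lit 1, nat_lit 24, nat_lit 19, nat_lit 26, nat_lit 22, nat_lit 29, nat_lit 25, nat_lit 25, nat_lit 29, nat_lit 28], []⟩, ⟨nat_lit 0, nat_lit 0, [nat_lit 21, nat_lit 2, nat_lit 1, nat_lit 24, nat_lit 19, nat_lit 28, nat_lit 20, nat_lit 24, nat_lit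 27, nat_lit 27], []⟩, ⟨nat_lit 0, nat_lit 0, [nat_lit 12, nat_lit 13, nat_lit 18, nat_lit 19, nat_lit 22, nat_lit 22, nat_lit 20, nat_lit 26, nat_lit 22, nat_lit 29, nat_lit 25, nat_lit 29, nat_lit 27], []⟩, ⟨nat_lit 0, nat_lit 0, [nat_lit 15, nat_lit 15, nat_lit 1, nat_lit 24, nat_lit 19, nat_lit 20, nat_lit 21, nat_lit 22, nat_lit 22, nat_lit 25, nat_lit 26, nat_lit 27, nat_lit 27, nat_lit 29, nat_lit 29], []⟩, ⟨nat_lit 0, nat_lit 0, [nat_lit 8, nat_lit 4, nat_lit 22, nat_lit 19, nat_lit 20, nat_lit 21, nat_lit 28, nat_lit 22, nat_lit 25, nat_lit 29], []⟩, ⟨nat_lit 0, nat_lit 0, [nat_lit 9, nat_lit 6, nat_lit 22, nat_lit 19, nat_lit 22, nat_lit 22, nat_lit 20, nat_lit 22, nat_lit 24, nat_lit 29, nat_lit 25, nat_lit 29], []⟩, ⟨nat_lit 0, nat_lit 0, [nat_lit 28, nat_lit 6, nat_lit 2, nat_lit 21, nat_lit 17, nat_lit 21, nat_lit 22, nat_lit 27, nat_lit 26, nat_lit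 28, nat_lit 27, nat_lit 27, nat_lit 29, nat_lit 29], []⟩, ⟨nat_lit 0, nat_lit 0, [nat_lit 26, nat_lit 10, nat_lit 0, nat_lit 21, nat_lit 17, nat_lit 21, nat_lit 20, nat_lit 23, nat_lit 25, nat_lit 22, nat_lit 29, nat_lit 25, nat_lit 29, nat_lit 28, nat_lit 29], []⟩, ⟨nat_lit 0, nat_lit 0, [nat_lit 25, nat_lit 9, nat_lit 0, nat_lit 18, nat_lit 28, nat_lit 20, nat_lit 27, nat_lit 22, nat_lit 22, nat_lit 27, nat_lit 26, nat_lit 29], []⟩, ⟨nat_lit 0, nat_lit 0, [nat_lit 4, nat_lit 12, nat_lit 20, nat_lit 17, nat_lit 28, nat_lit 20, nat_lit 29, nat_lit 25, nat_lit 28, nat_lit 27, nat_lit 27, nat_lit 29, nat_lit 29], []⟩, ⟨nat_lit 0, nat_lit 0, [nat_lit 19, nat_lit 13, nat_lit 0, nat_lit 24, nat_lit 17, nat_lit 21, nat_lit 23, nat_lit 20, nat_lit 24, nat_lit 24, nat_lit 29, nat_lit 27], []⟩, ⟨nat_lit 0, nat_lit 0, [nat_lit 21, nat_lit 2, nat_lit 1, nat_lit 24, nat_lit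 19, nat_lit 20, nat_lit 20, nat_lit 22, nat_lit 27, nat_lit 26, nat_lit 29, nat_lit 28], []⟩, ⟨nat_lit 0, nat_lit 0, [nat_lit 12, nat_lit 13, nat_lit 18, nat_lit 19, nat_lit 21, nat_lit 23, nat_lit 20, nat_lit 27, nat_lit 24, nat_lit 25, nat_lit 29, nat_lit 28, nat_lit 29, nat_lit 29], []⟩, ⟨nat_lit 0, nat_lit 0, [nat_lit 8, nat_lit 4, nat_lit 22, nat_lit 19, nat_lit 26, nat_lit 21, nat_lit 20, nat_lit 23, nat_lit 22, nat_lit 29, nat_lit 25, nat_lit 29, nat_lit 28, nat_lit 29], []⟩, ⟨nat_lit 0, nat_lit 0, [nat_lit 13, nat_lit 3, nat_lit 1, nat_lit 24, nat_lit 17, nat_lit 17, nat_lit 26, nat_lit 21, nat_lit 29, nat_lit 25, nat_lit 29, nat_lit 28, nat_lit 29, nat_lit 29], []⟩, ⟨nat_lit 0, nat_lit 0, [nat_lit 3, nat_lit 4, nat_lit 1, nat_lit 21, nat_lit 17, nat_lit 26, nat_lit 20, nat_lit 22, nat_lit 27, nat_lit 26, nat_lit 27], []⟩, ⟨nat_lit 0, nat_lit 0, [nat_lit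 28, nat_lit 15, nat_lit 0, nat_lit 18, nat_lit 18, nat_lit 28, nat_lit 20, nat_lit 23, nat_lit 25, nat_lit 22, nat_lit 25, nat_lit 26, nat_lit 29, nat_lit 27, nat_lit 29], []⟩, ⟨nat_lit 0, nat_lit 0, [nat_lit 19, nat_lit 13, nat_lit 0, nat_lit 24, nat_lit 17, nat_lit 26, nat_lit 20, nat_lit 23, nat_lit 22, nat_lit 29, nat_lit 25, nat_lit 29, nat_lit 27], []⟩, ⟨nat_lit 0, nat_lit 0, [nat_lit 24, nat_lit 11, nat_lit 3, nat_lit 24, nat_lit 17, nat_lit 26, nat_lit 20, nat_lit 27, nat_lit 24, nat_lit 29, nat_lit 25, nat_lit 29, nat_lit 29], []⟩, ⟨nat_lit 0, nat_lit 0, [nat_lit 28, nat_lit 6, nat_lit 2, nat_lit 21, nat_lit 17, nat_lit 25, nat_lit 20, nat_lit 26, nat_lit 24, nat_lit 29, nat_lit 25, nat_lit 28, nat_lit 29, nat_lit 29], []⟩, ⟨nat_lit 0, nat_lit 0, [nat_lit 25, nat_lit 9, nat_lit 0, nat_lit 18, nat_lit 26, nat_lit 21, nat_lit 22, nat_lit 22, nat_lit 29, nat_lit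 25, nat_lit 25, nat_lit 27, nat_lit 29, nat_lit 29], []⟩, ⟨nat_lit 0, nat_lit 0, [nat_lit 18, nat_lit 15, nat_lit 0, nat_lit 19, nat_lit 26, nat_lit 21, nat_lit 20, nat_lit 24, nat_lit 25, nat_lit 28], []⟩, ⟨nat_lit 0, nat_lit 0, [nat_lit 9, nat_lit 3, nat_lit 21, nat_lit 17, nat_lit 26, nat_lit 21, nat_lit 20, nat_lit 22, nat_lit 24, nat_lit 29, nat_lit 28], []⟩, ⟨nat_lit 0, nat_lit 0, [nat_lit 6, nat_lit 1, nat_lit 0, nat_lit 17, nat_lit 18, nat_lit 26, nat_lit 21, nat_lit 26, nat_lit 22, nat_lit 22, nat_lit 27, nat_lit 26, nat_lit 27, nat_lit 27, nat_lit 29], []⟩, ⟨nat_lit 0, nat_lit 0, [nat_lit 22, nat_lit 2, nat_lit 0, nat_lit 20, nat_lit 17, nat_lit 28, nat_lit 20, nat_lit 22, nat_lit 24, nat_lit 29, nat_lit 25, nat_lit 28], []⟩, ⟨nat_lit 0, nat_lit 0, [nat_lit 27, nat_lit 10, nat_lit 0, nat_lit 21, nat_lit 17, nat_lit 22, nat_lit 20, nat_lit 25, nat_lit 22,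 nat_lit 25, nat_lit 26, nat_lit 27, nat_lit 27, nat_lit 29], []⟩, ⟨nat_lit 0, nat_lit 0, [nat_lit 25, nat_lit 9, nat_lit 3, nat_lit 17, nat_lit 21, nat_lit 29, nat_lit 25, nat_lit 29], []⟩, ⟨nat_lit 0, nat_lit 0, [nat_lit 9, nat_lit 12, nat_lit 18, nat_lit 18, nat_lit 20, nat_lit 20, nat_lit 27, nat_lit 22, nat_lit 22, nat_lit 25, nat_lit 25, nat_lit 29, nat_lit 28, nat_lit 29], []⟩, ⟨nat_lit 0, nat_lit 0, [nat_lit 26, nat_lit 10, nat_lit 0, nat_lit 21, nat_lit 17, nat_lit 20, nat_lit 20, nat_lit 26, nat_lit 22, nat_lit 25, nat_lit 29, nat_lit 29], []⟩, ⟨nat_lit 0, nat_lit 0, [nat_lit 23, nat_lit 5, nat_lit 0, nat_lit 20, nat_lit 18, nat_lit 22, nat_lit 20, nat_lit 22, nat_lit 22, nat_lit 25, nat_lit 25, nat_lit 29], []⟩, ⟨nat_lit 0, nat_lit 0, [nat_lit 15, nat_lit 12, nat_lit 18, nat_lit 21, nat_lit 20, nat_lit 23, nat_lit 25, nat_lit 22, nat_lit 27, nat_lit 26,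 nat_lit 29, nat_lit 27, nat_lit 29, nat_lit 29], []⟩, ⟨nat_lit 0, nat_lit 0, [nat_lit 6, nat_lit 1, nat_lit 0, nat_lit 17, nat_lit 18, nat_lit 25, nat_lit 20, nat_lit 22, nat_lit 22, nat_lit 29, nat_lit 25, nat_lit 25], []⟩, ⟨nat_lit 0, nat_lit 0, [nat_lit 22, nat_lit 22, nat_lit 0, nat_lit 27, nat_lit 24, nat_lit 26, nat_lit 27, nat_lit 27, nat_lit 29], []⟩, ⟨nat_lit 0, nat_lit 0, [nat_lit 1, nat_lit 27, nat_lit 0, nat_lit 20, nat_lit 17, nat_lit 26, nat_lit 21, nat_lit 20, nat_lit 27, nat_lit 22, nat_lit 22, nat_lit 27, nat_lit 26, nat_lit 29], []⟩, ⟨nat_lit 0, nat_lit 0, [nat_lit 15, nat_lit 12, nat_lit 18, nat_lit 26, nat_lit 20, nat_lit 22, nat_lit 25, nat_lit 26, nat_lit 29, nat_lit 27, nat_lit 29, nat_lit 29], []⟩]⟩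

noncomputable def rB8x3 : RP := ⟨[nat_lit 6, nat_lit 1, nat_lit 0, nat_lit 24, nat_lit 19, nat_lit 23, nat_lit 20, nat_lit 22, nat_lit 22], [nat_lit 7, nat_lit 3, nat_lit 0, nat_lit 20, nat_lit 18, nat_lit 21, nat_lit 22, nat_lit 27, nat_lit 27, nat_lit 29], [⟨nat_lit 0, nat_lit 0, [nat_lit 16, nat_lit 1, nat_lit 24, nat_lit 17, nat_lit 20, nat_lit 21, nat_lit 26, nat_lit 22, nat_lit 25, nat_lit 26, nat_lit 28, nat_lit 27, nat_lit 27, nat_lit 29, nat_lit 29], []⟩, ⟨nat_lit 0, nat_lit 0, [nat_lit 8, nat_lit 4, nat_lit 19, nat_lit 18, nat_lit 25, nat_lit 20, nat_lit 22, nat_lit 27, nat_lit 26, nat_lit 27, nat_lit 29, nat_lit 29], []⟩, ⟨nat_lit 0, nat_lit 0, [nat_lit 10, nat_lit 3, nat_lit 21, nat_lit 17, nat_lit 21, nat_lit 22, nat_lit 27, nat_lit 26, nat_lit 27], []⟩, ⟨nat_lit 0, nat_lit 0, [nat_lit 4, nat_lit 17, nat_lit 0, nat_lit 22, nat_lit 19, nat_lit 21, nat_lit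 20, nat_lit 23, nat_lit 25, nat_lit 22, nat_lit 29, nat_lit 25, nat_lit 25, nat_lit 29, nat_lit 27, nat_lit 29], []⟩, ⟨nat_lit 0, nat_lit 0, [nat_lit 6, nat_lit 11, nat_lit 3, nat_lit 24, nat_lit 19, nat_lit 28, nat_lit 20, nat_lit 22, nat_lit 29, nat_lit 25, nat_lit 25, nat_lit 29, nat_lit 28], []⟩, ⟨nat_lit 0, nat_lit 0, [nat_lit 2, nat_lit 10, nat_lit 0, nat_lit 18, nat_lit 20, nat_lit 27, nat_lit 24, nat_lit 25, nat_lit 26, nat_lit 27, nat_lit 27, nat_lit 29], []⟩, ⟨nat_lit 0, nat_lit 0, [nat_lit 25, nat_lit 20, nat_lit 0, nat_lit 17, nat_lit 17, nat_lit 29, nat_lit 20, nat_lit 27, nat_lit 22, nat_lit 22, nat_lit 25, nat_lit 29, nat_lit 28, nat_lit 29], []⟩, ⟨nat_lit 0, nat_lit 0, [nat_lit 18, nat_lit 11, nat_lit 27, nat_lit 17, nat_lit 28, nat_lit 20, nat_lit 24, nat_lit 22, nat_lit 27, nat_lit 27], []⟩, ⟨nat_lit 0, nat_lit 0, [nat_lit 20, nat_lit 9, nat_lit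 0, nat_lit 18, nat_lit 26, nat_lit 21, nat_lit 28, nat_lit 22, nat_lit 25, nat_lit 26, nat_lit 29, nat_lit 27], []⟩, ⟨nat_lit 0, nat_lit 0, [nat_lit 19, nat_lit 24, nat_lit 0, nat_lit 27, nat_lit 17, nat_lit 26, nat_lit 20, nat_lit 26, nat_lit 22, nat_lit 25, nat_lit 26, nat_lit 29, nat_lit 28, nat_lit 29, nat_lit 29], []⟩, ⟨nat_lit 0, nat_lit 0, [nat_lit 25, nat_lit 12, nat_lit 19, nat_lit 26, nat_lit 21, nat_lit 20, nat_lit 24, nat_lit 22, nat_lit 26, nat_lit 27, nat_lit 29, nat_lit 29], []⟩, ⟨nat_lit 0, nat_lit 0, [nat_lit 21, nat_lit 2, nat_lit 0, nat_lit 19, nat_lit 21, nat_lit 23, nat_lit 20, nat_lit 25, nat_lit 22, nat_lit 25, nat_lit 27, nat_lit 29, nat_lit 29], []⟩, ⟨nat_lit 0, nat_lit 0, [nat_lit 0, nat_lit 12, nat_lit 0, nat_lit 24, nat_lit 17, nat_lit 17, nat_lit 21, nat_lit 20, nat_lit 26, nat_lit 22, nat_lit 22, nat_lit 25, nat_lit 27, nat_lit 27,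 nat_lit 29, nat_lit 29], []⟩, ⟨nat_lit 0, nat_lit 0, [nat_lit 27, nat_lit 0, nat_lit 17, nat_lit 18, nat_lit 25, nat_lit 20, nat_lit 26, nat_lit 22, nat_lit 25, nat_lit 26, nat_lit 27, nat_lit 27, nat_lit 29, nat_lit 29], []⟩, ⟨nat_lit 0, nat_lit 0, [nat_lit 26, nat_lit 5, nat_lit 3, nat_lit 22, nat_lit 19, nat_lit 25, nat_lit 20, nat_lit 22, nat_lit 22, nat_lit 25, nat_lit 25, nat_lit 29, nat_lit 27, nat_lit 29, nat_lit 29], []⟩, ⟨nat_lit 0, nat_lit 0, [nat_lit 26, nat_lit 13, nat_lit 25, nat_lit 18, nat_lit 26, nat_lit 21, nat_lit 20, nat_lit 26, nat_lit 22, nat_lit 22, nat_lit 25, nat_lit 26, nat_lit 29, nat_lit 27, nat_lit 29], []⟩, ⟨nat_lit 0, nat_lit 0, [nat_lit 3, nat_lit 26, nat_lit 0, nat_lit 18, nat_lit 28, nat_lit 20, nat_lit 23, nat_lit 22, nat_lit 29, nat_lit 25, nat_lit 27, nat_lit 27, nat_lit 29, nat_lit 29], []⟩, ⟨nat_lit 0, nat_lit 0, [nat_lit 9,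 nat_lit 26, nat_lit 3, nat_lit 18, nat_lit 22, nat_lit 20, nat_lit 24, nat_lit 24, nat_lit 27, nat_lit 26, nat_lit 27, nat_lit 27, nat_lit 29, nat_lit 29], []⟩, ⟨nat_lit 0, nat_lit 0, [nat_lit 20, nat_lit 13, nat_lit 20, nat_lit 18, nat_lit 23, nat_lit 20, nat_lit 27, nat_lit 24, nat_lit 29, nat_lit 28], []⟩, ⟨nat_lit 0, nat_lit 0, [nat_lit 13, nat_lit 20, nat_lit 0, nat_lit 18, nat_lit 19, nat_lit 22, nat_lit 20, nat_lit 24, nat_lit 25, nat_lit 25, nat_lit 28, nat_lit 27, nat_lit 27, nat_lit 29], []⟩, ⟨nat_lit 0, nat_lit 0, [nat_lit 14, nat_lit 29, nat_lit 4, nat_lit 22, nat_lit 19, nat_lit 26, nat_lit 21, nat_lit 27, nat_lit 22, nat_lit 22, nat_lit 26, nat_lit 27], []⟩, ⟨nat_lit 0, nat_lit 0, [nat_lit 15, nat_lit 11, nat_lit 21, nat_lit 17, nat_lit 21, nat_lit 23, nat_lit 20, nat_lit 22, nat_lit 22, nat_lit 25], []⟩, ⟨nat_lit 0, nat_lit 0, [nat_lit 23, nat_lit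 12, nat_lit 2, nat_lit 25, nat_lit 18, nat_lit 23, nat_lit 20, nat_lit 23, nat_lit 25, nat_lit 22, nat_lit 29, nat_lit 25, nat_lit 25, nat_lit 29, nat_lit 28, nat_lit 29], []⟩, ⟨nat_lit 0, nat_lit 0, [nat_lit 4, nat_lit 3, nat_lit 0, nat_lit 20, nat_lit 18, nat_lit 26, nat_lit 21, nat_lit 20, nat_lit 26, nat_lit 22, nat_lit 22, nat_lit 25, nat_lit 25, nat_lit 27, nat_lit 27, nat_lit 29, nat_lit 29], []⟩, ⟨nat_lit 0, nat_lit 0, [nat_lit 12, nat_lit 14, nat_lit 21, nat_lit 17, nat_lit 26, nat_lit 20, nat_lit 22, nat_lit 24, nat_lit 27, nat_lit 26, nat_lit 27, nat_lit 27], []⟩, ⟨nat_lit 0, nat_lit 0, [nat_lit 17, nat_lit 3, nat_lit 1, nat_lit 19, nat_lit 18, nat_lit 20, nat_lit 24, nat_lit 24, nat_lit 25, nat_lit 26, nat_lit 29, nat_lit 29], []⟩, ⟨nat_lit 0, nat_lit 0, [nat_lit 23, nat_lit 20, nat_lit 0, nat_lit 24, nat_lit 19, nat_lit 21, nat_lit 23, nat_lit 20, nat_lit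 29, nat_lit 25, nat_lit 28], []⟩, ⟨nat_lit 0, nat_lit 0, [nat_lit 6, nat_lit 19, nat_lit 18, nat_lit 20, nat_lit 23, nat_lit 22, nat_lit 28, nat_lit 29, nat_lit 29], []⟩, ⟨nat_lit 0, nat_lit 0, [nat_lit 26, nat_lit 14, nat_lit 18, nat_lit 18, nat_lit 23, nat_lit 20, nat_lit 24, nat_lit 25, nat_lit 26, nat_lit 27, nat_lit 27], []⟩, ⟨nat_lit 0, nat_lit 0, [nat_lit 14, nat_lit 14, nat_lit 27, nat_lit 17, nat_lit 26, nat_lit 21, nat_lit 22, nat_lit 22, nat_lit 25, nat_lit 26, nat_lit 29], []⟩, ⟨nat_lit 0, nat_lit 0, [nat_lit 24, nat_lit 21, nat_lit 1, nat_lit 24, nat_lit 19, nat_lit 26, nat_lit 21, nat_lit 20, nat_lit 25, nat_lit 26, nat_lit 29, nat_lit 27, nat_lit 29, nat_lit 29], []⟩, ⟨nat_lit 0, nat_lit 0, [nat_lit 23, nat_lit 4, nat_lit 24, nat_lit 19, nat_lit 29, nat_lit 20, nat_lit 28, nat_lit 29, nat_lit 29], []⟩, ⟨nat_lit 0, nat_lit 0, [nat_lit 12, nat_lit 5,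 nat_lit 24, nat_lit 19, nat_lit 28, nat_lit 20, nat_lit 23, nat_lit 22, nat_lit 27, nat_lit 26, nat_lit 28], []⟩, ⟨nat_lit 0, nat_lit 0, [nat_lit 29, nat_lit 15, nat_lit 6, nat_lit 20, nat_lit 18, nat_lit 21, nat_lit 23, nat_lit 20, nat_lit 22, nat_lit 22], []⟩, ⟨nat_lit 0, nat_lit 0, [nat_lit 21, nat_lit 6, nat_lit 21, nat_lit 17, nat_lit 22, nat_lit 20, nat_lit 23, nat_lit 25, nat_lit 22, nat_lit 29, nat_lit 25, nat_lit 25, nat_lit 27, nat_lit 27, nat_lit 29], []⟩, ⟨nat_lit 0, nat_lit 0, [nat_lit 29, nat_lit 1, nat_lit 0, nat_lit 17, nat_lit 17, nat_lit 22, nat_lit 20, nat_lit 26, nat_lit 28, nat_lit 27, nat_lit 27], []⟩, ⟨nat_lit 0, nat_lit 0, [nat_lit 13, nat_lit 29, nat_lit 1, nat_lit 21, nat_lit 17, nat_lit 21, nat_lit 24, nat_lit 24, nat_lit 29, nat_lit 25, nat_lit 25, nat_lit 27, nat_lit 27, nat_lit 29, nat_lit 29], []⟩, ⟨nat_lit 0, nat_lit 0, [nat_lit 22,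 nat_lit 12, nat_lit 19, nat_lit 18, nat_lit 20, nat_lit 23, nat_lit 22, nat_lit 25, nat_lit 28, nat_lit 29, nat_lit 29], []⟩, ⟨nat_lit 0, nat_lit 0, [nat_lit 26, nat_lit 1, nat_lit 2, nat_lit 24, nat_lit 17, nat_lit 26, nat_lit 21, nat_lit 20, nat_lit 25, nat_lit 27, nat_lit 29], []⟩, ⟨nat_lit 0, nat_lit 0, [nat_lit 24, nat_lit 11, nat_lit 4, nat_lit 24, nat_lit 19, nat_lit 20, nat_lit 27, nat_lit 22, nat_lit 22, nat_lit 29, nat_lit 25, nat_lit 25, nat_lit 28, nat_lit 27, nat_lit 27, nat_lit 29], []⟩, ⟨nat_lit 0, nat_lit 0, [nat_lit 26, nat_lit 13, nat_lit 3, nat_lit 27, nat_lit 17, nat_lit 20, nat_lit 23, nat_lit 25, nat_lit 22, nat_lit 29, nat_lit 25, nat_lit 25, nat_lit 28, nat_lit 27, nat_lit 27], []⟩, ⟨nat_lit 0, nat_lit 0, [nat_lit 29, nat_lit 5, nat_lit 25, nat_lit 18, nat_lit 21, nat_lit 23, nat_lit 20, nat_lit 26, nat_lit 24, nat_lit 26, nat_lit 27], []⟩,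 ⟨nat_lit 0, nat_lit 0, [nat_lit 22, nat_lit 12, nat_lit 6, nat_lit 19, nat_lit 18, nat_lit 20, nat_lit 21, nat_lit 27, nat_lit 22, nat_lit 22, nat_lit 25, nat_lit 25, nat_lit 28, nat_lit 27, nat_lit 27, nat_lit 29], []⟩, ⟨nat_lit 0, nat_lit 0, [nat_lit 9, nat_lit 12, nat_lit 17, nat_lit 18, nat_lit 29, nat_lit 20, nat_lit 22, nat_lit 22, nat_lit 25, nat_lit 28, nat_lit 27, nat_lit 27, nat_lit 29, nat_lit 29], []⟩, ⟨nat_lit 0, nat_lit 0, [nat_lit 18, nat_lit 11, nat_lit 0, nat_lit 24, nat_lit 17, nat_lit 20, nat_lit 21, nat_lit 23, nat_lit 25, nat_lit 22, nat_lit 29, nat_lit 25, nat_lit 25, nat_lit 28, nat_lit 27, nat_lit 27, nat_lit 29], []⟩, ⟨nat_lit 0, nat_lit 0, [nat_lit 1, nat_lit 20, nat_lit 0, nat_lit 21, nat_lit 17, nat_lit 26, nat_lit 21, nat_lit 23, nat_lit 25, nat_lit 22, nat_lit 27, nat_lit 26, nat_lit 28, nat_lit 29], []⟩, ⟨nat_lit 0, nat_lit 0, [nat_lit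 21, nat_lit 1, nat_lit 29, nat_lit 20, nat_lit 27, nat_lit 22, nat_lit 22, nat_lit 29, nat_lit 25, nat_lit 28, nat_lit 29, nat_lit 29], []⟩, ⟨nat_lit 0, nat_lit 0, [nat_lit 15, nat_lit 17, nat_lit 3, nat_lit 24, nat_lit 17, nat_lit 17, nat_lit 21, nat_lit 20, nat_lit 27, nat_lit 24, nat_lit 26, nat_lit 28], []⟩, ⟨nat_lit 0, nat_lit 0, [nat_lit 12, nat_lit 4, nat_lit 18, nat_lit 19, nat_lit 21, nat_lit 23, nat_lit 20, nat_lit 29, nat_lit 25, nat_lit 25, nat_lit 29, nat_lit 28], []⟩, ⟨nat_lit 0, nat_lit 0, [nat_lit 3, nat_lit 16, nat_lit 18, nat_lit 19, nat_lit 20, nat_lit 21, nat_lit 27, nat_lit 26, nat_lit 28, nat_lit 29], []⟩, ⟨nat_lit 0, nat_lit 0, [nat_lit 0, nat_lit 12, nat_lit 18, nat_lit 19, nat_lit 26, nat_lit 20, nat_lit 26, nat_lit 22, nat_lit 22, nat_lit 26, nat_lit 27], []⟩, ⟨nat_lit 0, nat_lit 0, [nat_lit 1, nat_lit 29, nat_lit 1, nat_lit 22, nat_lit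 19, nat_lit 20, nat_lit 21, nat_lit 22, nat_lit 22, nat_lit 28], []⟩, ⟨nat_lit 0, nat_lit 0, [nat_lit 25, nat_lit 24, nat_lit 0, nat_lit 24, nat_lit 17, nat_lit 17, nat_lit 20, nat_lit 20, nat_lit 23, nat_lit 25, nat_lit 22, nat_lit 27, nat_lit 27, nat_lit 29], []⟩, ⟨nat_lit 0, nat_lit 0, [nat_lit 20, nat_lit 3, nat_lit 1, nat_lit 18, nat_lit 18, nat_lit 20, nat_lit 20, nat_lit 22, nat_lit 22, nat_lit 25, nat_lit 28, nat_lit 29], []⟩]⟩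

noncomputable def rB8x4 : RP := ⟨[nat_lit 26, nat_lit 23, nat_lit 0, nat_lit 22, nat_lit 19, nat_lit 22, nat_lit 22, nat_lit 20, nat_lit 25, nat_lit 22, nat_lit 26, nat_lit 27], [nat_lit 15, nat_lit 14, nat_lit 2, nat_lit 25, nat_lit 18, nat_lit 26, nat_lit 20, nat_lit 24, nat_lit 25, nat_lit 27, nat_lit 27, nat_lit 29], [⟨nat_lit 0, nat_lit 0, [nat_lit 22, nat_lit 20, nat_lit 0, nat_lit 26, nat_lit 20, nat_lit 27, nat_lit 24, nat_lit 25, nat_lit 26, nat_lit 28], []⟩, ⟨nat_lit 0, nat_lit 0, [nat_lit 4, nat_lit 25, nat_lit 1, nat_lit 17, nat_lit 18, nat_lit 26, nat_lit 21, nat_lit 25, nat_lit 22, nat_lit 27, nat_lit 26, nat_lit 28, nat_lit 29, nat_lit 29], []⟩, ⟨nat_lit 0, nat_lit 0, [nat_lit 15, nat_lit 10, nat_lit 0, nat_lit 20, nat_lit 18, nat_lit 20, nat_lit 26, nat_lit 22, nat_lit 22, nat_lit 25, nat_lit 26, nat_lit 28, nat_lit 29], []⟩, ⟨nat_lit 0, nat_lit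 0, [nat_lit 15, nat_lit 5, nat_lit 18, nat_lit 19, nat_lit 26, nat_lit 20, nat_lit 26, nat_lit 24, nat_lit 26, nat_lit 28], []⟩, ⟨nat_lit 0, nat_lit 0, [nat_lit 14, nat_lit 12, nat_lit 21, nat_lit 17, nat_lit 21, nat_lit 23, nat_lit 20, nat_lit 29, nat_lit 25, nat_lit 29, nat_lit 27], []⟩, ⟨nat_lit 0, nat_lit 0, [nat_lit 29, nat_lit 11, nat_lit 20, nat_lit 21, nat_lit 24, nat_lit 27, nat_lit 26, nat_lit 29, nat_lit 28], []⟩, ⟨nat_lit 0, nat_lit 0, [nat_lit 28, nat_lit 28, nat_lit 0, nat_lit 17, nat_lit 17, nat_lit 29, nat_lit 20, nat_lit 24, nat_lit 22, nat_lit 27, nat_lit 26, nat_lit 29, nat_lit 28, nat_lit 29], []⟩, ⟨nat_lit 0, nat_lit 0, [nat_lit 13, nat_lit 3, nat_lit 1, nat_lit 18, nat_lit 19, nat_lit 26, nat_lit 20, nat_lit 29, nat_lit 25, nat_lit 29, nat_lit 28, nat_lit 29, nat_lit 29], []⟩, ⟨nat_lit 0, nat_lit 0, [nat_lit 0, nat_lit 15, nat_lit 0, nat_lit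 18, nat_lit 19, nat_lit 25, nat_lit 20, nat_lit 22, nat_lit 22, nat_lit 29, nat_lit 27, nat_lit 29, nat_lit 29], []⟩, ⟨nat_lit 0, nat_lit 0, [nat_lit 22, nat_lit 11, nat_lit 20, nat_lit 18, nat_lit 28, nat_lit 20, nat_lit 27, nat_lit 22, nat_lit 22, nat_lit 27, nat_lit 26, nat_lit 28, nat_lit 27, nat_lit 27, nat_lit 29], []⟩, ⟨nat_lit 0, nat_lit 0, [nat_lit 3, nat_lit 10, nat_lit 0, nat_lit 18, nat_lit 29, nat_lit 20, nat_lit 26, nat_lit 24, nat_lit 25, nat_lit 26, nat_lit 29, nat_lit 27, nat_lit 29], []⟩, ⟨nat_lit 0, nat_lit 0, [nat_lit 15, nat_lit 10, nat_lit 0, nat_lit 21, nat_lit 17, nat_lit 21, nat_lit 20, nat_lit 23, nat_lit 22, nat_lit 25, nat_lit 29, nat_lit 27, nat_lit 29], []⟩, ⟨nat_lit 0, nat_lit 0, [nat_lit 3, nat_lit 10, nat_lit 0, nat_lit 20, nat_lit 18, nat_lit 22, nat_lit 22, nat_lit 20, nat_lit 27, nat_lit 22, nat_lit 22, nat_lit 29, nat_lit 25,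 nat_lit 25, nat_lit 28, nat_lit 27, nat_lit 27, nat_lit 29, nat_lit 29], []⟩, ⟨nat_lit 0, nat_lit 0, [nat_lit 26, nat_lit 17, nat_lit 0, nat_lit 24, nat_lit 19, nat_lit 26, nat_lit 21, nat_lit 24, nat_lit 22, nat_lit 25, nat_lit 25, nat_lit 27, nat_lit 27, nat_lit 29], []⟩, ⟨nat_lit 0, nat_lit 0, [nat_lit 27, nat_lit 22, nat_lit 0, nat_lit 17, nat_lit 18, nat_lit 22, nat_lit 22, nat_lit 20, nat_lit 27, nat_lit 24, nat_lit 27, nat_lit 26, nat_lit 29, nat_lit 28, nat_lit 29, nat_lit 29], []⟩, ⟨nat_lit 0, nat_lit 0, [nat_lit 19, nat_lit 6, nat_lit 0, nat_lit 21, nat_lit 17, nat_lit 29, nat_lit 20, nat_lit 27, nat_lit 22, nat_lit 22, nat_lit 26, nat_lit 28, nat_lit 29, nat_lit 29], []⟩, ⟨nat_lit 0, nat_lit 0, [nat_lit 5, nat_lit 23, nat_lit 0, nat_lit 21, nat_lit 17, nat_lit 26, nat_lit 21, nat_lit 20, nat_lit 29, nat_lit 25, nat_lit 28, nat_lit 29], []⟩, ⟨nat_lit 0,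 nat_lit 0, [nat_lit 10, nat_lit 14, nat_lit 0, nat_lit 18, nat_lit 19, nat_lit 20, nat_lit 20, nat_lit 23, nat_lit 22, nat_lit 25, nat_lit 28], []⟩, ⟨nat_lit 0, nat_lit 0, [nat_lit 22, nat_lit 22, nat_lit 0, nat_lit 20, nat_lit 20, nat_lit 24, nat_lit 24, nat_lit 25, nat_lit 26, nat_lit 27, nat_lit 29], []⟩, ⟨nat_lit 0, nat_lit 0, [nat_lit 22, nat_lit 14, nat_lit 21, nat_lit 17, nat_lit 29, nat_lit 20, nat_lit 24, nat_lit 24, nat_lit 26, nat_lit 29], []⟩, ⟨nat_lit 0, nat_lit 0, [nat_lit 7, nat_lit 27, nat_lit 0, nat_lit 17, nat_lit 18, nat_lit 22, nat_lit 22, nat_lit 20, nat_lit 27, nat_lit 24, nat_lit 27, nat_lit 26, nat_lit 29, nat_lit 28, nat_lit 29, nat_lit 29], []⟩, ⟨nat_lit 0, nat_lit 0, [nat_lit 20, nat_lit 2, nat_lit 0, nat_lit 18, nat_lit 28, nat_lit 22, nat_lit 25, nat_lit 28, nat_lit 29], []⟩, ⟨nat_lit 0, nat_lit 0, [nat_lit 22, nat_lit 14, nat_lit 17,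 nat_lit 18, nat_lit 20, nat_lit 21, nat_lit 27, nat_lit 22, nat_lit 22, nat_lit 26, nat_lit 28, nat_lit 27, nat_lit 27, nat_lit 29, nat_lit 29], []⟩, ⟨nat_lit 0, nat_lit 0, [nat_lit 16, nat_lit 7, nat_lit 1, nat_lit 27, nat_lit 17, nat_lit 22, nat_lit 20, nat_lit 22, nat_lit 22, nat_lit 29, nat_lit 27, nat_lit 29], []⟩, ⟨nat_lit 0, nat_lit 0, [nat_lit 0, nat_lit 15, nat_lit 0, nat_lit 18, nat_lit 18, nat_lit 29, nat_lit 20, nat_lit 27, nat_lit 24, nat_lit 27, nat_lit 26, nat_lit 27, nat_lit 27], []⟩, ⟨nat_lit 0, nat_lit 0, [nat_lit 13, nat_lit 11, nat_lit 3, nat_lit 18, nat_lit 22, nat_lit 22, nat_lit 20, nat_lit 26, nat_lit 22, nat_lit 25, nat_lit 28, nat_lit 27, nat_lit 27, nat_lit 29, nat_lit 29], []⟩, ⟨nat_lit 0, nat_lit 0, [nat_lit 25, nat_lit 9, nat_lit 0, nat_lit 18, nat_lit 19, nat_lit 26, nat_lit 21, nat_lit 20, nat_lit 25, nat_lit 22, nat_lit 27, nat_lit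 29], []⟩, ⟨nat_lit 0, nat_lit 0, [nat_lit 7, nat_lit 24, nat_lit 0, nat_lit 19, nat_lit 26, nat_lit 20, nat_lit 22, nat_lit 22, nat_lit 29, nat_lit 25, nat_lit 29, nat_lit 28], []⟩, ⟨nat_lit 0, nat_lit 0, [nat_lit 5, nat_lit 23, nat_lit 0, nat_lit 22, nat_lit 19, nat_lit 28, nat_lit 20, nat_lit 22, nat_lit 24, nat_lit 26, nat_lit 27, nat_lit 29, nat_lit 29], []⟩, ⟨nat_lit 0, nat_lit 0, [nat_lit 10, nat_lit 2, nat_lit 18, nat_lit 19, nat_lit 20, nat_lit 20, nat_lit 27, nat_lit 22, nat_lit 22, nat_lit 26, nat_lit 29, nat_lit 28, nat_lit 29, nat_lit 29], []⟩, ⟨nat_lit 0, nat_lit 0, [nat_lit 7, nat_lit 27, nat_lit 0, nat_lit 26, nat_lit 21, nat_lit 20, nat_lit 25, nat_lit 26, nat_lit 27, nat_lit 27, nat_lit 29], []⟩, ⟨nat_lit 0, nat_lit 0, [nat_lit 20, nat_lit 2, nat_lit 0, nat_lit 20, nat_lit 18, nat_lit 26, nat_lit 22, nat_lit 25, nat_lit 25, nat_lit 28], []⟩, ⟨nat_lit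 0, nat_lit 0, [nat_lit 16, nat_lit 7, nat_lit 1, nat_lit 17, nat_lit 29, nat_lit 20, nat_lit 25, nat_lit 22, nat_lit 29, nat_lit 25, nat_lit 25, nat_lit 28], []⟩, ⟨nat_lit 0, nat_lit 0, [nat_lit 10, nat_lit 14, nat_lit 0, nat_lit 21, nat_lit 17, nat_lit 20, nat_lit 20, nat_lit 23, nat_lit 25, nat_lit 22, nat_lit 27, nat_lit 26, nat_lit 29, nat_lit 29], []⟩, ⟨nat_lit 0, nat_lit 0, [nat_lit 28, nat_lit 28, nat_lit 0, nat_lit 19, nat_lit 20, nat_lit 21, nat_lit 26, nat_lit 22, nat_lit 22, nat_lit 29, nat_lit 25, nat_lit 27, nat_lit 27], []⟩, ⟨nat_lit 0, nat_lit 0, [nat_lit 27, nat_lit 22, nat_lit 0, nat_lit 26, nat_lit 21, nat_lit 20, nat_lit 25, nat_lit 26, nat_lit 27, nat_lit 27, nat_lit 29], []⟩, ⟨nat_lit 0, nat_lit 0, [nat_lit 10, nat_lit 2, nat_lit 22, nat_lit 19, nat_lit 22, nat_lit 20, nat_lit 25, nat_lit 22, nat_lit 25], []⟩, ⟨nat_lit 0, nat_lit 0, [nat_lit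 19, nat_lit 6, nat_lit 0, nat_lit 25, nat_lit 18, nat_lit 21, nat_lit 23, nat_lit 20, nat_lit 23, nat_lit 25, nat_lit 22, nat_lit 26, nat_lit 27], []⟩, ⟨nat_lit 0, nat_lit 0, [nat_lit 13, nat_lit 11, nat_lit 3, nat_lit 20, nat_lit 18, nat_lit 26, nat_lit 21, nat_lit 22, nat_lit 25, nat_lit 26, nat_lit 27, nat_lit 29], []⟩, ⟨nat_lit 0, nat_lit 0, [nat_lit 7, nat_lit 24, nat_lit 0, nat_lit 21, nat_lit 17, nat_lit 21, nat_lit 23, nat_lit 20, nat_lit 26, nat_lit 22, nat_lit 22, nat_lit 25, nat_lit 26, nat_lit 28, nat_lit 29], []⟩, ⟨nat_lit 0, nat_lit 0, [nat_lit 22, nat_lit 22, nat_lit 0, nat_lit 22, nat_lit 19, nat_lit 26, nat_lit 24, nat_lit 27, nat_lit 26], []⟩, ⟨nat_lit 0, nat_lit 0, [nat_lit 4, nat_lit 25, nat_lit 1, nat_lit 27, nat_lit 17, nat_lit 20, nat_lit 28, nat_lit 22, nat_lit 25, nat_lit 26, nat_lit 28], []⟩, ⟨nat_lit 0, nat_lit 0, [nat_lit 20, nat_lit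 27, nat_lit 0, nat_lit 27, nat_lit 17, nat_lit 26, nat_lit 20, nat_lit 24, nat_lit 27, nat_lit 26, nat_lit 27], []⟩, ⟨nat_lit 0, nat_lit 0, [nat_lit 15, nat_lit 5, nat_lit 18, nat_lit 20, nat_lit 20, nat_lit 22, nat_lit 22, nat_lit 27, nat_lit 29], []⟩, ⟨nat_lit 0, nat_lit 0, [nat_lit 22, nat_lit 20, nat_lit 0, nat_lit 20, nat_lit 17, nat_lit 20, nat_lit 21, nat_lit 26, nat_lit 24, nat_lit 25, nat_lit 25, nat_lit 29], []⟩, ⟨nat_lit 0, nat_lit 0, [nat_lit 29, nat_lit 11, nat_lit 17, nat_lit 17, nat_lit 21, nat_lit 24, nat_lit 22, nat_lit 25, nat_lit 25, nat_lit 27, nat_lit 27], []⟩, ⟨nat_lit 0, nat_lit 0, [nat_lit 14, nat_lit 12, nat_lit 27, nat_lit 17, nat_lit 24, nat_lit 27, nat_lit 26, nat_lit 29, nat_lit 28], []⟩, ⟨nat_lit 0, nat_lit 0, [nat_lit 25, nat_lit 9, nat_lit 0, nat_lit 17, nat_lit 20, nat_lit 20, nat_lit 22, nat_lit 24, nat_lit 25, nat_lit 25, nat_lit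 29, nat_lit 27, nat_lit 29, nat_lit 29], []⟩, ⟨nat_lit 0, nat_lit 0, [nat_lit 22, nat_lit 11, nat_lit 18, nat_lit 19, nat_lit 22, nat_lit 22, nat_lit 20, nat_lit 22, nat_lit 24, nat_lit 29, nat_lit 25, nat_lit 25, nat_lit 29, nat_lit 27, nat_lit 29, nat_lit 29], []⟩, ⟨nat_lit 0, nat_lit 0, [nat_lit 21, nat_lit 1, nat_lit 0, nat_lit 20, nat_lit 18, nat_lit 22, nat_lit 20, nat_lit 29, nat_lit 25, nat_lit 27, nat_lit 27], []⟩, ⟨nat_lit 0, nat_lit 0, [nat_lit 20, nat_lit 27, nat_lit 0, nat_lit 20, nat_lit 18, nat_lit 22, nat_lit 20, nat_lit 24, nat_lit 24, nat_lit 27, nat_lit 26, nat_lit 29, nat_lit 28, nat_lit 29], []⟩, ⟨nat_lit 0, nat_lit 0, [nat_lit 26, nat_lit 17, nat_lit 0, nat_lit 27, nat_lit 17, nat_lit 20, nat_lit 27, nat_lit 24, nat_lit 26, nat_lit 28], []⟩, ⟨nat_lit 0, nat_lit 0, [nat_lit 13, nat_lit 3, nat_lit 1, nat_lit 17, nat_lit 29, nat_lit 20, nat_lit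 26, nat_lit 22, nat_lit 26, nat_lit 29, nat_lit 27, nat_lit 29], []⟩, ⟨nat_lit 0, nat_lit 0, [nat_lit 21, nat_lit 1, nat_lit 0, nat_lit 22, nat_lit 19, nat_lit 21, nat_lit 23, nat_lit 20, nat_lit 27, nat_lit 24, nat_lit 25, nat_lit 25, nat_lit 29], []⟩]⟩

noncomputable def cB8 : CC := ⟨[[nat_lit 12, nat_lit 0, nat_lit 19, nat_lit 25, nat_lit 20, nat_lit 26, nat_lit 22, nat_lit 27, nat_lit 26, nat_lit 27], [nat_lit 4, nat_lit 14, nat_lit 0, nat_lit 20, nat_lit 18, nat_lit 21, nat_lit 23, nat_lit 20, nat_lit 24, nat_lit 27, nat_lit 26, nat_lit 29, nat_lit 27, nat_lit 29, nat_lit 29], [nat_lit 3, nat_lit 10, nat_lit 0, nat_lit 21, nat_lit 17, nat_lit 20, nat_lit 20, nat_lit 23, nat_lit 22, nat_lit 26, nat_lit 29, nat_lit 28, nat_lit 29, nat_lit 29]], [(nat_lit 14316723603, []), (nat_lit 19594544040, [nat_lit 0, nat_lit 0, nat_lit 1, nat_lit 1, nat_lit 2, nat_lit 2]),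 (nat_lit 22722700695, [nat_lit 1, nat_lit 0, nat_lit 2, nat_lit 2, nat_lit 0, nat_lit 2]), (nat_lit 26946497756, [nat_lit 0, nat_lit 1, nat_lit 0, nat_lit 1, nat_lit 2]), (nat_lit 28200906265, [nat_lit 1, nat_lit 0, nat_lit 2, nat_lit 1, nat_lit 2]), (nat_lit 28654240016, [nat_lit 0, nat_lit 0, nat_lit 2, nat_lit 0, nat_lit 2, nat_lit 2]), (nat_lit 29698614855, [nat_lit 0, nat_lit 0, nat_lit 1, nat_lit 1, nat_lit 0, nat_lit 2, nat_lit 1, nat_lit 2]), (nat_lit 30247968114, [nat_lit 0, nat_lit 0, nat_lit 1, nat_lit 0, nat_lit 1, nat_lit 2, nat_lit 1]), (nat_lit 34844295372, [nat_lit 0, nat_lit 1, nat_lit 1, nat_lit 2, nat_lit 0]), (nat_lit 35525117727, [nat_lit 0, nat_lit 1, nat_lit 0, nat_lit 1]), (nat_lit 40301334389, [nat_lit 2, nat_lit 0, nat_lit 0, nat_lit 1]), (nat_lit 41872256545, [nat_lit 0, nat_lit 1, nat_lit 2, nat_lit 2, nat_lit 0]), (nat_lit 45626521019,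 [nat_lit 0, nat_lit 1, nat_lit 1, nat_lit 2, nat_lit 0, nat_lit 2]), (nat_lit 47259153292, [nat_lit 0, nat_lit 0, nat_lit 1, nat_lit 1]), (nat_lit 48408829052, [nat_lit 2, nat_lit 0, nat_lit 2, nat_lit 2]), (nat_lit 48946116538, [nat_lit 0, nat_lit 1, nat_lit 2, nat_lit 0, nat_lit 0]), (nat_lit 50282358358, [nat_lit 0, nat_lit 1, nat_lit 2, nat_lit 1]), (nat_lit 50832382418, [nat_lit 1, nat_lit 1, nat_lit 0]), (nat_lit 51185111969, [nat_lit 0, nat_lit 2, nat_lit 0, nat_lit 2]), (nat_lit 51727076894, [nat_lit 0, nat_lit 0, nat_lit 1, nat_lit 1, nat_lit 0, nat_lit 1, nat_lit 2, nat_lit 2]), (nat_lit 52276430153, [nat_lit 0, nat_lit 0, nat_lit 1, nat_lit 0, nat_lit 1, nat_lit 1, nat_lit 2]), (nat_lit 58522657243, [nat_lit 1, nat_lit 0, nat_lit 2, nat_lit 2, nat_lit 1]), (nat_lit 59907693296, [nat_lit 0, nat_lit 0, nat_lit 1, nat_lit 2, nat_lit 1, nat_lit 2, nat_lit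 2]), (nat_lit 63192404553, [nat_lit 0, nat_lit 0, nat_lit 1, nat_lit 0, nat_lit 2, nat_lit 2, nat_lit 1]), (nat_lit 68868374451, [nat_lit 0, nat_lit 1, nat_lit 2, nat_lit 0, nat_lit 2]), (nat_lit 72642236710, [nat_lit 0, nat_lit 2, nat_lit 2, nat_lit 0, nat_lit 2]), (nat_lit 79214198671, [nat_lit 1, nat_lit 1, nat_lit 0, nat_lit 1, nat_lit 2, nat_lit 2]), (nat_lit 79764222703, [nat_lit 1, nat_lit 0, nat_lit 1, nat_lit 1, nat_lit 2]), (nat_lit 80808605560, [nat_lit 0, nat_lit 0, nat_lit 1, nat_lit 2, nat_lit 2, nat_lit 0, nat_lit 2]), (nat_lit 81357958819, [nat_lit 2, nat_lit 2, nat_lit 1]), (nat_lit 82009263074, [nat_lit 0, nat_lit 1, nat_lit 1, nat_lit 0, nat_lit 1, nat_lit 2]), (nat_lit 84720629451, [nat_lit 1, nat_lit 2, nat_lit 1, nat_lit 2]), (nat_lit 85855406650, [nat_lit 0, nat_lit 1, nat_lit 0, nat_lit 1, nat_lit 1]), (nat_lit 86416923633, [nat_lit 1, nat_lit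 0, nat_lit 0, nat_lit 2]), (nat_lit 91376531050, [nat_lit 0, nat_lit 0, nat_lit 1, nat_lit 0, nat_lit 0, nat_lit 1]), (nat_lit 93132583361, [nat_lit 0, nat_lit 2, nat_lit 1, nat_lit 1]), (nat_lit 94894732484, [nat_lit 0, nat_lit 0, nat_lit 1, nat_lit 0, nat_lit 2, nat_lit 0]), (nat_lit 97250299861, [nat_lit 0, nat_lit 1, nat_lit 1, nat_lit 0, nat_lit 2, nat_lit 2]), (nat_lit 97815080624, [nat_lit 0, nat_lit 1, nat_lit 0, nat_lit 2, nat_lit 1]), (nat_lit 100253554750, [nat_lit 0, nat_lit 2]), (nat_lit 100548426165, [nat_lit 2, nat_lit 1, nat_lit 1]), (nat_lit 101097779424, [nat_lit 0, nat_lit 1, nat_lit 0, nat_lit 0, nat_lit 1]), (nat_lit 105046700034, [nat_lit 0, nat_lit 0, nat_lit 1, nat_lit 1, nat_lit 0, nat_lit 2]), (nat_lit 112189473697, [nat_lit 0, nat_lit 0, nat_lit 1, nat_lit 2]), (nat_lit 112815964577, [nat_lit 0, nat_lit 1, nat_lit 1, nat_lit 0, nat_lit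 1, nat_lit 1]), (nat_lit 115907508847, [nat_lit 0, nat_lit 1, nat_lit 0, nat_lit 1, nat_lit 2, nat_lit 2]), (nat_lit 117141192183, [nat_lit 0, nat_lit 1, nat_lit 1, nat_lit 0, nat_lit 2, nat_lit 2, nat_lit 1]), (nat_lit 117640238464, [nat_lit 0, nat_lit 1, nat_lit 0, nat_lit 2, nat_lit 1, nat_lit 1]), (nat_lit 121534676761, [nat_lit 0, nat_lit 1, nat_lit 1, nat_lit 0, nat_lit 1, nat_lit 2, nat_lit 2]), (nat_lit 124810519168, [nat_lit 0]), (nat_lit 127267782804, [nat_lit 0, nat_lit 1, nat_lit 0, nat_lit 2, nat_lit 2, nat_lit 1, nat_lit 2]), (nat_lit 131814606079, [nat_lit 0, nat_lit 1, nat_lit 0, nat_lit 2, nat_lit 1, nat_lit 2]), (nat_lit 133420410537, [nat_lit 1, nat_lit 1, nat_lit 0, nat_lit 1, nat_lit 1]), (nat_lit 137537531826, [nat_lit 0, nat_lit 0, nat_lit 2, nat_lit 1]), (nat_lit 138506881155, [nat_lit 0, nat_lit 0, nat_lit 1, nat_lit 0, nat_lit 1, nat_lit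 2, nat_lit 1, nat_lit 2]), (nat_lit 139056234414, [nat_lit 0, nat_lit 1, nat_lit 0, nat_lit 0, nat_lit 1, nat_lit 1]), (nat_lit 140205308610, [nat_lit 1, nat_lit 0, nat_lit 0, nat_lit 1, nat_lit 0]), (nat_lit 143510758343, [nat_lit 0, nat_lit 1, nat_lit 0]), (nat_lit 144032610487, [nat_lit 0, nat_lit 0, nat_lit 2, nat_lit 1, nat_lit 2]), (nat_lit 153480185598, [nat_lit 1]), (nat_lit 154225555224, [nat_lit 1, nat_lit 2, nat_lit 0, nat_lit 2, nat_lit 2]), (nat_lit 154646793057, [nat_lit 0, nat_lit 1, nat_lit 2, nat_lit 2]), (nat_lit 155919234258, [nat_lit 0, nat_lit 1, nat_lit 0, nat_lit 0, nat_lit 1, nat_lit 0]), (nat_lit 157743026371, [nat_lit 0, nat_lit 2, nat_lit 0, nat_lit 2, nat_lit 2]), (nat_lit 158619710528, [nat_lit 0, nat_lit 2, nat_lit 1, nat_lit 2]), (nat_lit 165121509431, [nat_lit 0, nat_lit 0, nat_lit 1, nat_lit 0, nat_lit 0, nat_lit 1, nat_lit 1]),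 (nat_lit 166306744117, [nat_lit 1, nat_lit 0, nat_lit 1, nat_lit 2, nat_lit 1, nat_lit 2]), (nat_lit 168468606405, [nat_lit 0, nat_lit 0, nat_lit 1, nat_lit 2, nat_lit 1, nat_lit 2]), (nat_lit 169399350254, [nat_lit 0, nat_lit 1, nat_lit 0, nat_lit 2, nat_lit 2]), (nat_lit 169871565892, [nat_lit 1, nat_lit 0, nat_lit 0]), (nat_lit 171468076695, [nat_lit 2]), (nat_lit 174301281349, [nat_lit 0, nat_lit 0, nat_lit 2, nat_lit 2]), (nat_lit 175970138573, [nat_lit 0, nat_lit 0, nat_lit 1, nat_lit 0, nat_lit 2, nat_lit 1]), (nat_lit 177918024516, [nat_lit 1, nat_lit 2, nat_lit 2, nat_lit 0]), (nat_lit 182611489875, [nat_lit 0, nat_lit 0, nat_lit 1, nat_lit 1, nat_lit 2, nat_lit 0]), (nat_lit 184255379006, [nat_lit 0, nat_lit 1, nat_lit 1, nat_lit 0, nat_lit 1]), (nat_lit 186387053047, [nat_lit 0, nat_lit 2, nat_lit 1, nat_lit 1, nat_lit 0, nat_lit 1]), (nat_lit 190618210636,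 [nat_lit 0, nat_lit 0, nat_lit 1, nat_lit 1, nat_lit 2]), (nat_lit 191144758051, [nat_lit 0, nat_lit 1, nat_lit 1, nat_lit 2, nat_lit 0, nat_lit 2, nat_lit 2]), (nat_lit 194789680743, [nat_lit 1, nat_lit 1, nat_lit 0, nat_lit 2, nat_lit 1]), (nat_lit 196113084661, [nat_lit 1, nat_lit 0, nat_lit 0, nat_lit 1]), (nat_lit 197482115419, [nat_lit 2, nat_lit 1, nat_lit 1, nat_lit 0, nat_lit 1]), (nat_lit 198085800297, [nat_lit 2, nat_lit 2, nat_lit 0]), (nat_lit 198723169203, [nat_lit 0, nat_lit 0, nat_lit 1, nat_lit 0, nat_lit 0, nat_lit 2]), (nat_lit 200642887551, [nat_lit 0, nat_lit 1, nat_lit 0, nat_lit 1, nat_lit 1, nat_lit 2]), (nat_lit 202691398781, [nat_lit 1, nat_lit 1, nat_lit 0, nat_lit 2]), (nat_lit 205412005274, [nat_lit 0, nat_lit 1, nat_lit 2, nat_lit 1, nat_lit 2]), (nat_lit 207131011544, [nat_lit 0, nat_lit 0, nat_lit 1, nat_lit 0, nat_lit 1, nat_lit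 2]), (nat_lit 207763532050, [nat_lit 1, nat_lit 1, nat_lit 0, nat_lit 2, nat_lit 1, nat_lit 2]), (nat_lit 208270627421, [nat_lit 1, nat_lit 0, nat_lit 1, nat_lit 2, nat_lit 1]), (nat_lit 209121418395, [nat_lit 0, nat_lit 1, nat_lit 1, nat_lit 0, nat_lit 2]), (nat_lit 210624335438, [nat_lit 0, nat_lit 1, nat_lit 0, nat_lit 1, nat_lit 2, nat_lit 1, nat_lit 2]), (nat_lit 212834751288, [nat_lit 0, nat_lit 0, nat_lit 1, nat_lit 2, nat_lit 2, nat_lit 1]), (nat_lit 214064926902, [nat_lit 0, nat_lit 2, nat_lit 1, nat_lit 1, nat_lit 0]), (nat_lit 221932687834, [nat_lit 0, nat_lit 0, nat_lit 1, nat_lit 2, nat_lit 1]), (nat_lit 223030052917, [nat_lit 0, nat_lit 1, nat_lit 1, nat_lit 0]), (nat_lit 226146411265, [nat_lit 1, nat_lit 2, nat_lit 0, nat_lit 2]), (nat_lit 226758145298, [nat_lit 0, nat_lit 1, nat_lit 2]), (nat_lit 229209257019, [nat_lit 0, nat_lit 0]), (nat_lit 232997714596,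 [nat_lit 0, nat_lit 0, nat_lit 1, nat_lit 0, nat_lit 2, nat_lit 2, nat_lit 1, nat_lit 2]), (nat_lit 235716919079, [nat_lit 0, nat_lit 0, nat_lit 1, nat_lit 0, nat_lit 1, nat_lit 2, nat_lit 2, nat_lit 1]), (nat_lit 237049781907, [nat_lit 0, nat_lit 0, nat_lit 1, nat_lit 2, nat_lit 0, nat_lit 0]), (nat_lit 237385682482, [nat_lit 0, nat_lit 0, nat_lit 1, nat_lit 0, nat_lit 2, nat_lit 1, nat_lit 2]), (nat_lit 239686482894, [nat_lit 0, nat_lit 0, nat_lit 1, nat_lit 2, nat_lit 2]), (nat_lit 241568140600, [nat_lit 2, nat_lit 0]), (nat_lit 243078435916, [nat_lit 0, nat_lit 1, nat_lit 0, nat_lit 0, nat_lit 1, nat_lit 0, nat_lit 1]), (nat_lit 244006760965, [nat_lit 2, nat_lit 2, nat_lit 1, nat_lit 2]), (nat_lit 245222179851, [nat_lit 0, nat_lit 1, nat_lit 0, nat_lit 2, nat_lit 0, nat_lit 2]), (nat_lit 246320886369, [nat_lit 0, nat_lit 0, nat_lit 1, nat_lit 2, nat_lit 0]),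 (nat_lit 248032676663, [nat_lit 0, nat_lit 0, nat_lit 1, nat_lit 0, nat_lit 1, nat_lit 1, nat_lit 0]), (nat_lit 249684906864, [nat_lit 1, nat_lit 0]), (nat_lit 250241492382, [nat_lit 0, nat_lit 0, nat_lit 1, nat_lit 0, nat_lit 0, nat_lit 1, nat_lit 1, nat_lit 0]), (nat_lit 253804162265, [nat_lit 0, nat_lit 0, nat_lit 1, nat_lit 2, nat_lit 2, nat_lit 0]), (nat_lit 256345417289, [nat_lit 1, nat_lit 0, nat_lit 0, nat_lit 1, nat_lit 1]), (nat_lit 259402738396, [nat_lit 2, nat_lit 2, nat_lit 0, nat_lit 2]), (nat_lit 262230674332, [nat_lit 0, nat_lit 1]), (nat_lit 265572664152, [nat_lit 0, nat_lit 0, nat_lit 1, nat_lit 0, nat_lit 0, nat_lit 1, nat_lit 0]), (nat_lit 268362086332, [nat_lit 0, nat_lit 0, nat_lit 1, nat_lit 1, nat_lit 0, nat_lit 2, nat_lit 2, nat_lit 1]), (nat_lit 270023661958, [nat_lit 1, nat_lit 1, nat_lit 2, nat_lit 0, nat_lit 2, nat_lit 2]), (nat_lit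 270377062310, [nat_lit 0, nat_lit 1, nat_lit 1, nat_lit 0, nat_lit 2, nat_lit 1]), (nat_lit 270986784170, [nat_lit 0, nat_lit 0, nat_lit 1, nat_lit 0, nat_lit 0, nat_lit 1, nat_lit 0, nat_lit 1]), (nat_lit 273712244334, [nat_lit 0, nat_lit 0, nat_lit 2, nat_lit 0, nat_lit 0, nat_lit 1, nat_lit 0]), (nat_lit 274304371934, [nat_lit 1, nat_lit 2, nat_lit 1, nat_lit 2, nat_lit 2]), (nat_lit 275403078452, [nat_lit 0, nat_lit 0, nat_lit 1, nat_lit 1, nat_lit 0, nat_lit 2, nat_lit 2]), (nat_lit 276686911093, [nat_lit 0, nat_lit 0, nat_lit 2, nat_lit 0, nat_lit 0, nat_lit 1]), (nat_lit 277847998385, [nat_lit 0, nat_lit 0, nat_lit 1, nat_lit 0, nat_lit 2, nat_lit 2, nat_lit 0, nat_lit 2]), (nat_lit 279665179799, [nat_lit 0, nat_lit 2, nat_lit 0, nat_lit 0]), (nat_lit 281291775333, [nat_lit 0, nat_lit 0, nat_lit 1, nat_lit 1, nat_lit 0, nat_lit 1]), (nat_lit 283538214424,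 [nat_lit 0, nat_lit 0, nat_lit 2, nat_lit 1, nat_lit 1, nat_lit 0]), (nat_lit 285340549308, [nat_lit 0, nat_lit 0, nat_lit 1, nat_lit 0, nat_lit 1]), (nat_lit 285889902567, [nat_lit 1, nat_lit 1, nat_lit 2, nat_lit 2]), (nat_lit 286284980719, [nat_lit 1, nat_lit 2, nat_lit 2, nat_lit 1]), (nat_lit 286983921479, [nat_lit 0, nat_lit 1, nat_lit 2, nat_lit 0]), (nat_lit 288696220512, [nat_lit 0, nat_lit 1, nat_lit 0, nat_lit 1, nat_lit 1, nat_lit 2, nat_lit 2]), (nat_lit 289306612829, [nat_lit 0, nat_lit 2, nat_lit 0]), (nat_lit 293449899188, [nat_lit 1, nat_lit 0, nat_lit 1, nat_lit 1, nat_lit 0]), (nat_lit 294059621048, [nat_lit 0, nat_lit 2, nat_lit 2, nat_lit 0]), (nat_lit 294545242193, [nat_lit 1, nat_lit 1, nat_lit 2, nat_lit 0, nat_lit 2]), (nat_lit 299351412563, [nat_lit 1, nat_lit 1, nat_lit 2, nat_lit 0]), (nat_lit 301139499901, [nat_lit 2, nat_lit 0, nat_lit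 0, nat_lit 1, nat_lit 0]), (nat_lit 304066709081, [nat_lit 0, nat_lit 2, nat_lit 2]), (nat_lit 305420458214, [nat_lit 1, nat_lit 0, nat_lit 1]), (nat_lit 306531748285, [nat_lit 0, nat_lit 1, nat_lit 0, nat_lit 2, nat_lit 2, nat_lit 1]), (nat_lit 307058295700, [nat_lit 0, nat_lit 0, nat_lit 2, nat_lit 1, nat_lit 1]), (nat_lit 308743924695, [nat_lit 0, nat_lit 1, nat_lit 1, nat_lit 0, nat_lit 2, nat_lit 0]), (nat_lit 309325733577, [nat_lit 1, nat_lit 2]), (nat_lit 309860070977, [nat_lit 1, nat_lit 1]), (nat_lit 310958777495, [nat_lit 0, nat_lit 0, nat_lit 1, nat_lit 1, nat_lit 2, nat_lit 0, nat_lit 2]), (nat_lit 311597495976, [nat_lit 0, nat_lit 1, nat_lit 0, nat_lit 1, nat_lit 1, nat_lit 0]), (nat_lit 313966470426, [nat_lit 0, nat_lit 0, nat_lit 2]), (nat_lit 314494359586, [nat_lit 2, nat_lit 0, nat_lit 2]), (nat_lit 315001454648, [nat_lit 2, nat_lit 0, nat_lit 0]),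 (nat_lit 316979787050, [nat_lit 0, nat_lit 1, nat_lit 0, nat_lit 2, nat_lit 2, nat_lit 0, nat_lit 2]), (nat_lit 318082930098, [nat_lit 1, nat_lit 2, nat_lit 2, nat_lit 1, nat_lit 2]), (nat_lit 318739088343, [nat_lit 0, nat_lit 0, nat_lit 2, nat_lit 2, nat_lit 0]), (nat_lit 319181636616, [nat_lit 0, nat_lit 0, nat_lit 1, nat_lit 1, nat_lit 2, nat_lit 2, nat_lit 0]), (nat_lit 320825259863, [nat_lit 0, nat_lit 2, nat_lit 0, nat_lit 0, nat_lit 1]), (nat_lit 321565521538, [nat_lit 0, nat_lit 0, nat_lit 1, nat_lit 0, nat_lit 2, nat_lit 0, nat_lit 2]), (nat_lit 324133195828, [nat_lit 1, nat_lit 1, nat_lit 0, nat_lit 2, nat_lit 0]), (nat_lit 326536014443, [nat_lit 0, nat_lit 1, nat_lit 0, nat_lit 2]), (nat_lit 327979492036, [nat_lit 0, nat_lit 0, nat_lit 1, nat_lit 1, nat_lit 0, nat_lit 1, nat_lit 2]), (nat_lit 328620578257, [nat_lit 1, nat_lit 0, nat_lit 2, nat_lit 1,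 nat_lit 1]), (nat_lit 329677697660, [nat_lit 1, nat_lit 1, nat_lit 0, nat_lit 2, nat_lit 2, nat_lit 1]), (nat_lit 330893795289, [nat_lit 0, nat_lit 1, nat_lit 0, nat_lit 2, nat_lit 0]), (nat_lit 335184129028, [nat_lit 0, nat_lit 1, nat_lit 1, nat_lit 0, nat_lit 2, nat_lit 1, nat_lit 2]), (nat_lit 336331801030, [nat_lit 0, nat_lit 1, nat_lit 0, nat_lit 1, nat_lit 2, nat_lit 1]), (nat_lit 338406576437, [nat_lit 0, nat_lit 1, nat_lit 0, nat_lit 0]), (nat_lit 339523220787, [nat_lit 0, nat_lit 0, nat_lit 2, nat_lit 0]), (nat_lit 340072574046, [nat_lit 0, nat_lit 0, nat_lit 1, nat_lit 0, nat_lit 1, nat_lit 1, nat_lit 2, nat_lit 2]), (nat_lit 342291451325, [nat_lit 1, nat_lit 0, nat_lit 0, nat_lit 1, nat_lit 1, nat_lit 0]), (nat_lit 343751758811, [nat_lit 1, nat_lit 2, nat_lit 2, nat_lit 0, nat_lit 2]), (nat_lit 344301782838, [nat_lit 0, nat_lit 2, nat_lit 2, nat_lit 1]),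 (nat_lit 345058921246, [nat_lit 1, nat_lit 2, nat_lit 1]), (nat_lit 345608274505, [nat_lit 0, nat_lit 0, nat_lit 1, nat_lit 1, nat_lit 0]), (nat_lit 346261015140, [nat_lit 0, nat_lit 1, nat_lit 2, nat_lit 2, nat_lit 0, nat_lit 2]), (nat_lit 350067583727, [nat_lit 1, nat_lit 0, nat_lit 2, nat_lit 0]), (nat_lit 350589435871, [nat_lit 0, nat_lit 1, nat_lit 2, nat_lit 0, nat_lit 2, nat_lit 2]), (nat_lit 351857347372, [nat_lit 1, nat_lit 1, nat_lit 0, nat_lit 1]), (nat_lit 352450970750, [nat_lit 1, nat_lit 0, nat_lit 1, nat_lit 1, nat_lit 2, nat_lit 2]), (nat_lit 353137054239, [nat_lit 0, nat_lit 1, nat_lit 1, nat_lit 2, nat_lit 2]), (nat_lit 353877412765, [nat_lit 0, nat_lit 1, nat_lit 0, nat_lit 2, nat_lit 2, nat_lit 0]), (nat_lit 355778357168, [nat_lit 0, nat_lit 1, nat_lit 0, nat_lit 1, nat_lit 2, nat_lit 2, nat_lit 1]), (nat_lit 356020760592, [nat_lit 0, nat_lit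 0, nat_lit 1, nat_lit 1, nat_lit 0, nat_lit 1, nat_lit 1]), (nat_lit 357059664560, [nat_lit 0, nat_lit 1, nat_lit 2, nat_lit 2, nat_lit 1]), (nat_lit 358292522991, [nat_lit 0, nat_lit 0, nat_lit 2, nat_lit 1, nat_lit 1, nat_lit 0, nat_lit 1]), (nat_lit 359498551667, [nat_lit 0, nat_lit 0, nat_lit 2, nat_lit 1, nat_lit 2, nat_lit 2]), (nat_lit 360940687576, [nat_lit 0, nat_lit 0, nat_lit 1, nat_lit 0, nat_lit 1, nat_lit 1]), (nat_lit 362141866908, [nat_lit 1, nat_lit 2, nat_lit 0]), (nat_lit 362682492386, [nat_lit 2, nat_lit 1, nat_lit 2, nat_lit 2]), (nat_lit 364536742448, [nat_lit 0, nat_lit 0, nat_lit 2, nat_lit 0, nat_lit 0]), (nat_lit 368893732729, [nat_lit 0, nat_lit 0, nat_lit 1, nat_lit 0, nat_lit 2, nat_lit 1, nat_lit 1]), (nat_lit 369359255071, [nat_lit 0, nat_lit 2, nat_lit 0, nat_lit 0, nat_lit 1, nat_lit 0]), (nat_lit 369992439247, [nat_lit 0, nat_lit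 0, nat_lit 2, nat_lit 2, nat_lit 0, nat_lit 2]), (nat_lit 371105332415, [nat_lit 1, nat_lit 0, nat_lit 1, nat_lit 2, nat_lit 2]), (nat_lit 372096046399, [nat_lit 0, nat_lit 1, nat_lit 1, nat_lit 2]), (nat_lit 373015831754, [nat_lit 0, nat_lit 0, nat_lit 1, nat_lit 0, nat_lit 2, nat_lit 2]), (nat_lit 373780394717, [nat_lit 0, nat_lit 0, nat_lit 2, nat_lit 2, nat_lit 1, nat_lit 2]), (nat_lit 374331089660, [nat_lit 1, nat_lit 0, nat_lit 2, nat_lit 2, nat_lit 0]), (nat_lit 375763163991, [nat_lit 0, nat_lit 0, nat_lit 1, nat_lit 1, nat_lit 0, nat_lit 2, nat_lit 1]), (nat_lit 376312517250, [nat_lit 2, nat_lit 2]), (nat_lit 379737423321, [nat_lit 0, nat_lit 0, nat_lit 1]), (nat_lit 380372633825, [nat_lit 1, nat_lit 0, nat_lit 2, nat_lit 0, nat_lit 2]), (nat_lit 384501167708, [nat_lit 1, nat_lit 0, nat_lit 2, nat_lit 2, nat_lit 1, nat_lit 2]), (nat_lit 387487912618, [nat_lit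 0, nat_lit 2, nat_lit 1, nat_lit 2, nat_lit 2]), (nat_lit 387989627865, [nat_lit 1, nat_lit 0, nat_lit 1, nat_lit 2]), (nat_lit 388543676337, [nat_lit 0, nat_lit 1, nat_lit 1]), (nat_lit 391231415777, [nat_lit 0, nat_lit 1, nat_lit 2, nat_lit 1, nat_lit 2, nat_lit 2]), (nat_lit 391806942894, [nat_lit 0, nat_lit 0, nat_lit 1, nat_lit 0, nat_lit 0, nat_lit 2, nat_lit 2]), (nat_lit 392384453937, [nat_lit 1, nat_lit 1, nat_lit 0, nat_lit 2, nat_lit 2]), (nat_lit 395685268704, [nat_lit 1, nat_lit 0, nat_lit 2, nat_lit 1]), (nat_lit 396099296152, [nat_lit 0, nat_lit 0, nat_lit 2, nat_lit 0, nat_lit 2]), (nat_lit 396672901758, [nat_lit 0, nat_lit 0, nat_lit 1, nat_lit 2, nat_lit 0, nat_lit 2]), (nat_lit 397191807635, [nat_lit 0, nat_lit 0, nat_lit 1, nat_lit 0, nat_lit 1, nat_lit 2, nat_lit 2]), (nat_lit 399104822888, [nat_lit 1, nat_lit 1, nat_lit 0, nat_lit 1, nat_lit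 2]), (nat_lit 399426788331, [nat_lit 0, nat_lit 1, nat_lit 0, nat_lit 0, nat_lit 2]), (nat_lit 400247799609, [nat_lit 1, nat_lit 0, nat_lit 1, nat_lit 1]), (nat_lit 402785280293, [nat_lit 0, nat_lit 0, nat_lit 1, nat_lit 0, nat_lit 2]), (nat_lit 403255492628, [nat_lit 0, nat_lit 0, nat_lit 1, nat_lit 2, nat_lit 2, nat_lit 1, nat_lit 2]), (nat_lit 404352186689, [nat_lit 0, nat_lit 1, nat_lit 1, nat_lit 2, nat_lit 2, nat_lit 0]), (nat_lit 406655733012, [nat_lit 1, nat_lit 0, nat_lit 0, nat_lit 2, nat_lit 2]), (nat_lit 408594074027, [nat_lit 1, nat_lit 0, nat_lit 2, nat_lit 2]), (nat_lit 408901958067, [nat_lit 0, nat_lit 0, nat_lit 1, nat_lit 2, nat_lit 0, nat_lit 2, nat_lit 2]), (nat_lit 409451311326, [nat_lit 1, nat_lit 2, nat_lit 2]), (nat_lit 413852173816, [nat_lit 0, nat_lit 0, nat_lit 1, nat_lit 0, nat_lit 2, nat_lit 2, nat_lit 0]), (nat_lit 414853605914, [nat_lit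 0, nat_lit 0, nat_lit 1, nat_lit 1, nat_lit 0, nat_lit 2, nat_lit 0]), (nat_lit 416415305157, [nat_lit 1, nat_lit 0, nat_lit 0, nat_lit 1, nat_lit 0, nat_lit 1]), (nat_lit 416964092474, [nat_lit 2, nat_lit 1]), (nat_lit 419835447620, [nat_lit 0, nat_lit 0, nat_lit 2, nat_lit 2, nat_lit 1]), (nat_lit 420357299764, [nat_lit 1, nat_lit 2, nat_lit 0, nat_lit 0]), (nat_lit 420993766183, [nat_lit 1, nat_lit 0, nat_lit 2]), (nat_lit 422499625209, [nat_lit 0, nat_lit 0, nat_lit 1, nat_lit 0]), (nat_lit 423454271391, [nat_lit 2, nat_lit 1, nat_lit 1, nat_lit 0]), (nat_lit 423697589700, [nat_lit 0, nat_lit 1, nat_lit 2, nat_lit 2, nat_lit 1, nat_lit 2]), (nat_lit 426956823689, [nat_lit 0, nat_lit 1, nat_lit 0, nat_lit 0, nat_lit 2, nat_lit 2]), (nat_lit 428897601919, [nat_lit 0, nat_lit 1, nat_lit 0, nat_lit 0, nat_lit 1, nat_lit 1, nat_lit 0]), (nat_lit 429865510150, [nat_lit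 1, nat_lit 0, nat_lit 1, nat_lit 2, nat_lit 2, nat_lit 1]), (nat_lit 432459084060, [nat_lit 0, nat_lit 2, nat_lit 2, nat_lit 1, nat_lit 2]), (nat_lit 438746122498, [nat_lit 0, nat_lit 0, nat_lit 1, nat_lit 0, nat_lit 0]), (nat_lit 438942655319, [nat_lit 1, nat_lit 1, nat_lit 2]), (nat_lit 439492008578, [nat_lit 0, nat_lit 0, nat_lit 1, nat_lit 1, nat_lit 2, nat_lit 0, nat_lit 2, nat_lit 2]), (nat_lit 441726989274, [nat_lit 2, nat_lit 1, nat_lit 2]), (nat_lit 446551768167, [nat_lit 0, nat_lit 2, nat_lit 1]), (nat_lit 447324475050, [nat_lit 1, nat_lit 1, nat_lit 2, nat_lit 2, nat_lit 0])],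
  [⟨nat_lit 1, nat_lit 99, [], []⟩, ⟨nat_lit 1, nat_lit 2, [nat_lit 12, nat_lit 10, nat_lit 21, nat_lit 17, nat_lit 29, nat_lit 20, nat_lit 26, nat_lit 22, nat_lit 22, nat_lit 25, nat_lit 29, nat_lit 28, nat_lit 29], []⟩, ⟨nat_lit 0, nat_lit 0, [], []⟩, ⟨nat_lit 1, nat_lit 4, [nat_lit 22, nat_lit 5, nat_lit 2, nat_lit 25, nat_lit 18, nat_lit 29, nat_lit 20, nat_lit 24, nat_lit 24, nat_lit 25, nat_lit 25, nat_lit 29, nat_lit 27, nat_lit 29, nat_lit 29], []⟩, ⟨nat_lit 0, nat_lit 0, [], []⟩, ⟨nat_lit 1, nat_lit 4, [nat_lit 1, nat_lit 11, nat_lit 17, nat_lit 21, nat_lit 23, nat_lit 20, nat_lit 27, nat_lit 22, nat_lit 22, nat_lit 25, nat_lit 25, nat_lit 27, nat_lit 27, nat_lit 29, nat_lit 29], []⟩, ⟨nat_lit 1, nat_lit 1, [nat_lit 29, nat_lit 6, nat_lit 27, nat_lit 17, nat_lit 21, nat_lit 23, nat_lit 20, nat_lit 26, nat_lit 22, nat_lit 22, nat_lit 27, nat_lit 26, nat_lit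 29, nat_lit 28], []⟩, ⟨nat_lit 1, nat_lit 0, [nat_lit 9, nat_lit 1, nat_lit 29, nat_lit 20, nat_lit 28, nat_lit 22, nat_lit 26, nat_lit 27, nat_lit 29], []⟩, ⟨nat_lit 1, nat_lit 4, [nat_lit 6, nat_lit 21, nat_lit 0, nat_lit 17, nat_lit 22, nat_lit 20, nat_lit 24, nat_lit 22, nat_lit 25, nat_lit 26, nat_lit 27, nat_lit 27, nat_lit 29], []⟩, ⟨nat_lit 2, nat_lit 0, [], []⟩, ⟨nat_lit 0, nat_lit 0, [], []⟩, ⟨nat_lit 0, nat_lit 0, [], []⟩, ⟨nat_lit 1, nat_lit 2, [nat_lit 21, nat_lit 2, nat_lit 0, nat_lit 24, nat_lit 19, nat_lit 26, nat_lit 21, nat_lit 20, nat_lit 29, nat_lit 25, nat_lit 27, nat_lit 27, nat_lit 29, nat_lit 29], []⟩, ⟨nat_lit 2, nat_lit 0, [nat_lit 16, nat_lit 26, nat_lit 0, nat_lit 27, nat_lit 17, nat_lit 22, nat_lit 22, nat_lit 20, nat_lit 22, nat_lit 25, nat_lit 25, nat_lit 29, nat_lit 29], []⟩, ⟨nat_lit 2, nat_lit 0, [nat_lit 5, nat_lit 17, nat_lit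 0, nat_lit 21, nat_lit 23, nat_lit 20, nat_lit 23, nat_lit 25, nat_lit 22, nat_lit 27, nat_lit 26, nat_lit 28, nat_lit 29, nat_lit 29], []⟩, ⟨nat_lit 1, nat_lit 3, [nat_lit 8, nat_lit 4, nat_lit 18, nat_lit 18, nat_lit 21, nat_lit 20, nat_lit 22, nat_lit 22, nat_lit 29, nat_lit 25, nat_lit 25, nat_lit 29, nat_lit 27], []⟩, ⟨nat_lit 0, nat_lit 0, [], []⟩, ⟨nat_lit 0, nat_lit 0, [], []⟩, ⟨nat_lit 1, nat_lit 4, [nat_lit 12, nat_lit 15, nat_lit 0, nat_lit 25, nat_lit 18, nat_lit 23, nat_lit 22, nat_lit 25, nat_lit 27, nat_lit 27, nat_lit 29, nat_lit 29], []⟩, ⟨nat_lit 1, nat_lit 1, [nat_lit 12, nat_lit 13, nat_lit 26, nat_lit 21, nat_lit 20, nat_lit 28, nat_lit 22, nat_lit 25, nat_lit 27, nat_lit 29, nat_lit 29], []⟩, ⟨nat_lit 1, nat_lit 0, [nat_lit 9, nat_lit 6, nat_lit 21, nat_lit 17, nat_lit 21, nat_lit 20, nat_lit 23, nat_lit 22, nat_lit 29, nat_lit 25, nat_lit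 28, nat_lit 27, nat_lit 27, nat_lit 29, nat_lit 29], []⟩, ⟨nat_lit 0, nat_lit 0, [], []⟩, ⟨nat_lit 2, nat_lit 0, [nat_lit 21, nat_lit 25, nat_lit 0, nat_lit 17, nat_lit 17, nat_lit 26, nat_lit 21, nat_lit 23, nat_lit 25, nat_lit 22, nat_lit 27, nat_lit 26, nat_lit 29, nat_lit 28], []⟩, ⟨nat_lit 1, nat_lit 3, [nat_lit 21, nat_lit 20, nat_lit 0, nat_lit 24, nat_lit 17, nat_lit 17, nat_lit 22, nat_lit 20, nat_lit 27, nat_lit 22, nat_lit 22, nat_lit 28, nat_lit 29], []⟩, ⟨nat_lit 0, nat_lit 0, [], []⟩, ⟨nat_lit 1, nat_lit 2, [nat_lit 26, nat_lit 9, nat_lit 0, nat_lit 24, nat_lit 19, nat_lit 25, nat_lit 20, nat_lit 26, nat_lit 22, nat_lit 22, nat_lit 27, nat_lit 26, nat_lit 28, nat_lit 27, nat_lit 27, nat_lit 29, nat_lit 29], []⟩, ⟨nat_lit 1, nat_lit 2, [nat_lit 15, nat_lit 12, nat_lit 27, nat_lit 17, nat_lit 20, nat_lit 21, nat_lit 24, nat_lit 28, nat_lit 27, nat_lit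 27], []⟩, ⟨nat_lit 1, nat_lit 4, [nat_lit 16, nat_lit 7, nat_lit 0, nat_lit 20, nat_lit 17, nat_lit 20, nat_lit 27, nat_lit 22, nat_lit 22, nat_lit 27, nat_lit 27], []⟩, ⟨nat_lit 2, nat_lit 1, [], []⟩, ⟨nat_lit 1, nat_lit 2, [nat_lit 14, nat_lit 3, nat_lit 0, nat_lit 17, nat_lit 17, nat_lit 22, nat_lit 20, nat_lit 24, nat_lit 25, nat_lit 28, nat_lit 27, nat_lit 27], []⟩, ⟨nat_lit 2, nat_lit 2, [], []⟩, ⟨nat_lit 1, nat_lit 3, [nat_lit 6, nat_lit 20, nat_lit 0, nat_lit 18, nat_lit 19, nat_lit 21, nat_lit 20, nat_lit 24, nat_lit 24, nat_lit 25, nat_lit 25, nat_lit 28, nat_lit 27, nat_lit 27, nat_lit 29, nat_lit 29], []⟩, ⟨nat_lit 1, nat_lit 2, [nat_lit 4, nat_lit 16, nat_lit 0, nat_lit 17, nat_lit 17, nat_lit 26, nat_lit 21, nat_lit 20, nat_lit 24, nat_lit 22, nat_lit 25, nat_lit 25, nat_lit 29, nat_lit 28, nat_lit 29, nat_lit 29], []⟩, ⟨nat_lit 0, nat_lit 0, [], []⟩,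 ⟨nat_lit 0, nat_lit 0, [], []⟩, ⟨nat_lit 0, nat_lit 0, [], []⟩, ⟨nat_lit 2, nat_lit 2, [nat_lit 13, nat_lit 16, nat_lit 20, nat_lit 17, nat_lit 26, nat_lit 20, nat_lit 26, nat_lit 24, nat_lit 27, nat_lit 26, nat_lit 27, nat_lit 27], []⟩, ⟨nat_lit 1, nat_lit 2, [nat_lit 18, nat_lit 11, nat_lit 19, nat_lit 18, nat_lit 22, nat_lit 28], []⟩, ⟨nat_lit 1, nat_lit 4, [nat_lit 24, nat_lit 10, nat_lit 0, nat_lit 24, nat_lit 17, nat_lit 21, nat_lit 22, nat_lit 24, nat_lit 29, nat_lit 25, nat_lit 25, nat_lit 27, nat_lit 27], []⟩, ⟨nat_lit 1, nat_lit 4, [nat_lit 12, nat_lit 2, nat_lit 22, nat_lit 19, nat_lit 20, nat_lit 21, nat_lit 22, nat_lit 28], []⟩, ⟨nat_lit 2, nat_lit 3, [], []⟩, ⟨nat_lit 1, nat_lit 2, [nat_lit 10, nat_lit 12, nat_lit 24, nat_lit 17, nat_lit 26, nat_lit 21, nat_lit 22, nat_lit 24, nat_lit 27, nat_lit 26, nat_lit 29, nat_lit 29], []⟩, ⟨nat_lit 2, nat_lit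 3, [nat_lit 0, nat_lit 27, nat_lit 0, nat_lit 17, nat_lit 20, nat_lit 22, nat_lit 22, nat_lit 27, nat_lit 26, nat_lit 28, nat_lit 27, nat_lit 27, nat_lit 29], []⟩, ⟨nat_lit 0, nat_lit 0, [], []⟩, ⟨nat_lit 0, nat_lit 0, [], []⟩, ⟨nat_lit 1, nat_lit 2, [nat_lit 18, nat_lit 3, nat_lit 27, nat_lit 17, nat_lit 23, nat_lit 20, nat_lit 27, nat_lit 26, nat_lit 29, nat_lit 28, nat_lit 29, nat_lit 29], []⟩, ⟨nat_lit 1, nat_lit 4, [nat_lit 29, nat_lit 13, nat_lit 0, nat_lit 22, nat_lit 19, nat_lit 23, nat_lit 20, nat_lit 26, nat_lit 22, nat_lit 26, nat_lit 29, nat_lit 27, nat_lit 29, nat_lit 29], []⟩, ⟨nat_lit 2, nat_lit 2, [nat_lit 9, nat_lit 7, nat_lit 3, nat_lit 25, nat_lit 20, nat_lit 24, nat_lit 22, nat_lit 27, nat_lit 26, nat_lit 29, nat_lit 29], []⟩, ⟨nat_lit 1, nat_lit 4, [nat_lit 20, nat_lit 10, nat_lit 24, nat_lit 17, nat_lit 26, nat_lit 21, nat_lit 20, nat_lit 26,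 nat_lit 22, nat_lit 22, nat_lit 26, nat_lit 27, nat_lit 29, nat_lit 29], []⟩, ⟨nat_lit 2, nat_lit 0, [nat_lit 26, nat_lit 11, nat_lit 0, nat_lit 18, nat_lit 19, nat_lit 23, nat_lit 20, nat_lit 27, nat_lit 24, nat_lit 29, nat_lit 28], []⟩, ⟨nat_lit 2, nat_lit 0, [nat_lit 7, nat_lit 20, nat_lit 18, nat_lit 21, nat_lit 23, nat_lit 20, nat_lit 24, nat_lit 27, nat_lit 26, nat_lit 29, nat_lit 27, nat_lit 29, nat_lit 29], []⟩, ⟨nat_lit 1, nat_lit 2, [nat_lit 22, nat_lit 2, nat_lit 0, nat_lit 18, nat_lit 26, nat_lit 20, nat_lit 22, nat_lit 24, nat_lit 29, nat_lit 25, nat_lit 25, nat_lit 28, nat_lit 27, nat_lit 27], []⟩, ⟨nat_lit 1, nat_lit 2, [nat_lit 12, nat_lit 23, nat_lit 0, nat_lit 20, nat_lit 17, nat_lit 28, nat_lit 20, nat_lit 23, nat_lit 25, nat_lit 22], []⟩, ⟨nat_lit 0, nat_lit 0, [], []⟩, ⟨nat_lit 2, nat_lit 4, [], []⟩, ⟨nat_lit 1, nat_lit 3, [nat_lit 6, nat_lit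 4, nat_lit 18, nat_lit 18, nat_lit 20, nat_lit 20, nat_lit 24, nat_lit 24, nat_lit 28, nat_lit 29, nat_lit 29], []⟩, ⟨nat_lit 1, nat_lit 2, [nat_lit 12, nat_lit 21, nat_lit 0, nat_lit 17, nat_lit 17, nat_lit 21, nat_lit 23, nat_lit 25, nat_lit 22, nat_lit 26, nat_lit 27], []⟩, ⟨nat_lit 0, nat_lit 0, [], []⟩, ⟨nat_lit 0, nat_lit 0, [], []⟩, ⟨nat_lit 2, nat_lit 1, [nat_lit 21, nat_lit 28, nat_lit 3, nat_lit 18, nat_lit 20, nat_lit 20, nat_lit 24, nat_lit 29, nat_lit 25, nat_lit 25, nat_lit 29, nat_lit 28, nat_lit 29], []⟩, ⟨nat_lit 1, nat_lit 2, [nat_lit 29, nat_lit 4, nat_lit 1, nat_lit 24, nat_lit 17, nat_lit 17, nat_lit 25, nat_lit 20, nat_lit 29, nat_lit 25, nat_lit 25, nat_lit 29, nat_lit 29], []⟩, ⟨nat_lit 1, nat_lit 4, [nat_lit 29, nat_lit 9, nat_lit 1, nat_lit 18, nat_lit 20, nat_lit 21, nat_lit 26, nat_lit 24, nat_lit 26, nat_lit 29], []⟩, ⟨nat_lit 0, nat_lit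 0, [], []⟩, ⟨nat_lit 1, nat_lit 2, [nat_lit 3, nat_lit 27, nat_lit 0, nat_lit 25, nat_lit 18, nat_lit 20, nat_lit 21, nat_lit 25, nat_lit 22, nat_lit 25, nat_lit 25, nat_lit 29], []⟩, ⟨nat_lit 1, nat_lit 4, [nat_lit 3, nat_lit 27, nat_lit 0, nat_lit 21, nat_lit 17, nat_lit 20, nat_lit 20, nat_lit 26, nat_lit 22, nat_lit 25, nat_lit 26, nat_lit 29, nat_lit 27, nat_lit 29, nat_lit 29], []⟩, ⟨nat_lit 2, nat_lit 0, [nat_lit 28, nat_lit 13, nat_lit 0, nat_lit 20, nat_lit 18, nat_lit 21, nat_lit 26, nat_lit 24, nat_lit 25, nat_lit 25, nat_lit 27, nat_lit 27, nat_lit 29], []⟩, ⟨nat_lit 1, nat_lit 2, [nat_lit 27, nat_lit 1, nat_lit 2, nat_lit 21, nat_lit 17, nat_lit 23, nat_lit 20, nat_lit 24, nat_lit 24, nat_lit 27, nat_lit 27, nat_lit 29], []⟩, ⟨nat_lit 1, nat_lit 2, [nat_lit 13, nat_lit 2, nat_lit 18, nat_lit 18, nat_lit 23, nat_lit 20, nat_lit 22, nat_lit 24, nat_lit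 29, nat_lit 25, nat_lit 25, nat_lit 27, nat_lit 27], []⟩, ⟨nat_lit 0, nat_lit 0, [], []⟩, ⟨nat_lit 0, nat_lit 0, [], []⟩, ⟨nat_lit 1, nat_lit 2, [nat_lit 27, nat_lit 5, nat_lit 2, nat_lit 19, nat_lit 24, nat_lit 24, nat_lit 25, nat_lit 29, nat_lit 27, nat_lit 29, nat_lit 29], []⟩, ⟨nat_lit 1, nat_lit 4, [nat_lit 14, nat_lit 5, nat_lit 0, nat_lit 18, nat_lit 19, nat_lit 21, nat_lit 20, nat_lit 25, nat_lit 22, nat_lit 27, nat_lit 26, nat_lit 27, nat_lit 29], []⟩, ⟨nat_lit 2, nat_lit 3, [nat_lit 21, nat_lit 28, nat_lit 3, nat_lit 18, nat_lit 20, nat_lit 20, nat_lit 24, nat_lit 29, nat_lit 25, nat_lit 25, nat_lit 29, nat_lit 28, nat_lit 29], []⟩, ⟨nat_lit 1, nat_lit 4, [nat_lit 19, nat_lit 7, nat_lit 1, nat_lit 19, nat_lit 18, nat_lit 20, nat_lit 26, nat_lit 22, nat_lit 22, nat_lit 28, nat_lit 27, nat_lit 27, nat_lit 29, nat_lit 29], []⟩, ⟨nat_lit 2, nat_lit 3, [nat_lit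 21, nat_lit 11, nat_lit 19, nat_lit 18, nat_lit 22, nat_lit 22, nat_lit 20, nat_lit 24, nat_lit 27, nat_lit 26, nat_lit 28, nat_lit 27, nat_lit 27, nat_lit 29, nat_lit 29], []⟩, ⟨nat_lit 1, nat_lit 2, [nat_lit 12, nat_lit 26, nat_lit 1, nat_lit 19, nat_lit 21, nat_lit 23, nat_lit 20, nat_lit 24, nat_lit 22, nat_lit 25, nat_lit 26, nat_lit 28, nat_lit 27, nat_lit 27], []⟩, ⟨nat_lit 2, nat_lit 2, [nat_lit 7, nat_lit 20, nat_lit 18, nat_lit 21, nat_lit 23, nat_lit 20, nat_lit 24, nat_lit 27, nat_lit 26, nat_lit 29, nat_lit 27, nat_lit 29, nat_lit 29], []⟩, ⟨nat_lit 1, nat_lit 4, [nat_lit 21, nat_lit 16, nat_lit 1, nat_lit 19, nat_lit 20, nat_lit 22, nat_lit 22, nat_lit 25, nat_lit 25, nat_lit 27, nat_lit 29], []⟩, ⟨nat_lit 2, nat_lit 0, [nat_lit 28, nat_lit 10, nat_lit 1, nat_lit 21, nat_lit 17, nat_lit 21, nat_lit 24, nat_lit 24, nat_lit 29, nat_lit 27, nat_lit 29,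 nat_lit 29], []⟩, ⟨nat_lit 1, nat_lit 4, [nat_lit 22, nat_lit 5, nat_lit 1, nat_lit 22, nat_lit 19, nat_lit 20, nat_lit 27, nat_lit 24, nat_lit 29, nat_lit 25, nat_lit 25, nat_lit 29, nat_lit 27], []⟩, ⟨nat_lit 2, nat_lit 0, [nat_lit 10, nat_lit 2, nat_lit 17, nat_lit 18, nat_lit 20, nat_lit 25, nat_lit 22, nat_lit 28], []⟩, ⟨nat_lit 1, nat_lit 4, [nat_lit 8, nat_lit 25, nat_lit 0, nat_lit 18, nat_lit 19, nat_lit 25, nat_lit 20, nat_lit 22, nat_lit 24, nat_lit 25, nat_lit 26, nat_lit 27, nat_lit 27, nat_lit 29, nat_lit 29], []⟩, ⟨nat_lit 1, nat_lit 2, [nat_lit 1, nat_lit 21, nat_lit 0, nat_lit 25, nat_lit 18, nat_lit 22, nat_lit 22, nat_lit 20, nat_lit 26, nat_lit 24, nat_lit 29, nat_lit 25, nat_lit 25, nat_lit 27, nat_lit 29], []⟩, ⟨nat_lit 2, nat_lit 2, [nat_lit 20, nat_lit 13, nat_lit 5, nat_lit 20, nat_lit 18, nat_lit 26, nat_lit 21, nat_lit 20, nat_lit 24,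 nat_lit 24, nat_lit 27, nat_lit 26], []⟩, ⟨nat_lit 2, nat_lit 2, [nat_lit 4, nat_lit 11, nat_lit 0, nat_lit 18, nat_lit 18, nat_lit 29, nat_lit 20, nat_lit 22, nat_lit 24, nat_lit 25, nat_lit 25, nat_lit 29, nat_lit 28, nat_lit 29, nat_lit 29], []⟩, ⟨nat_lit 0, nat_lit 0, [], []⟩, ⟨nat_lit 0, nat_lit 0, [], []⟩, ⟨nat_lit 2, nat_lit 3, [nat_lit 29, nat_lit 13, nat_lit 20, nat_lit 17, nat_lit 20, nat_lit 26, nat_lit 24, nat_lit 29, nat_lit 25, nat_lit 25, nat_lit 28, nat_lit 29, nat_lit 29], []⟩, ⟨nat_lit 1, nat_lit 2, [nat_lit 24, nat_lit 22, nat_lit 0, nat_lit 17, nat_lit 17, nat_lit 20, nat_lit 26, nat_lit 22, nat_lit 27, nat_lit 26, nat_lit 27, nat_lit 27, nat_lit 29, nat_lit 29], []⟩, ⟨nat_lit 1, nat_lit 4, [nat_lit 26, nat_lit 15, nat_lit 0, nat_lit 19, nat_lit 22, nat_lit 22, nat_lit 29, nat_lit 25, nat_lit 27, nat_lit 29], []⟩, ⟨nat_lit 1, nat_lit 4, [nat_lit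 23, nat_lit 17, nat_lit 0, nat_lit 24, nat_lit 17, nat_lit 25, nat_lit 20, nat_lit 27, nat_lit 24, nat_lit 25, nat_lit 26, nat_lit 27, nat_lit 27, nat_lit 29, nat_lit 29], []⟩, ⟨nat_lit 1, nat_lit 4, [nat_lit 26, nat_lit 9, nat_lit 1, nat_lit 20, nat_lit 17, nat_lit 25, nat_lit 20, nat_lit 27, nat_lit 22, nat_lit 22, nat_lit 29, nat_lit 25, nat_lit 28, nat_lit 29, nat_lit 29], []⟩, ⟨nat_lit 1, nat_lit 2, [nat_lit 12, nat_lit 19, nat_lit 0, nat_lit 25, nat_lit 18, nat_lit 21, nat_lit 28, nat_lit 22, nat_lit 26, nat_lit 28, nat_lit 27, nat_lit 27], []⟩, ⟨nat_lit 1, nat_lit 4, [nat_lit 29, nat_lit 4, nat_lit 17, nat_lit 28, nat_lit 20, nat_lit 26, nat_lit 24, nat_lit 28, nat_lit 29, nat_lit 29], []⟩, ⟨nat_lit 1, nat_lit 4, [nat_lit 27, nat_lit 0, nat_lit 18, nat_lit 20, nat_lit 29, nat_lit 25, nat_lit 25, nat_lit 28, nat_lit 29], []⟩, ⟨nat_lit 2, nat_lit 0, [nat_lit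 7, nat_lit 27, nat_lit 0, nat_lit 19, nat_lit 18, nat_lit 21, nat_lit 20, nat_lit 27, nat_lit 24, nat_lit 25, nat_lit 26, nat_lit 28, nat_lit 29], []⟩, ⟨nat_lit 1, nat_lit 4, [nat_lit 20, nat_lit 3, nat_lit 1, nat_lit 17, nat_lit 20, nat_lit 21, nat_lit 23, nat_lit 25, nat_lit 22, nat_lit 25, nat_lit 25, nat_lit 27, nat_lit 27], []⟩, ⟨nat_lit 2, nat_lit 2, [nat_lit 0, nat_lit 27, nat_lit 0, nat_lit 17, nat_lit 20, nat_lit 22, nat_lit 22, nat_lit 27, nat_lit 26, nat_lit 28, nat_lit 27, nat_lit 27, nat_lit 29], []⟩, ⟨nat_lit 1, nat_lit 2, [nat_lit 18, nat_lit 21, nat_lit 3, nat_lit 17, nat_lit 18, nat_lit 26, nat_lit 21, nat_lit 22, nat_lit 24, nat_lit 26, nat_lit 29], []⟩, ⟨nat_lit 1, nat_lit 2, [nat_lit 27, nat_lit 2, nat_lit 1, nat_lit 18, nat_lit 18, nat_lit 26, nat_lit 21, nat_lit 28, nat_lit 22, nat_lit 25, nat_lit 29, nat_lit 27, nat_lit 29, nat_lit 29], []⟩,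 ⟨nat_lit 2, nat_lit 4, [nat_lit 22, nat_lit 22, nat_lit 0, nat_lit 19, nat_lit 18, nat_lit 21, nat_lit 24, nat_lit 24, nat_lit 29, nat_lit 25, nat_lit 25, nat_lit 29], []⟩, ⟨nat_lit 2, nat_lit 2, [nat_lit 29, nat_lit 13, nat_lit 24, nat_lit 17, nat_lit 29, nat_lit 20, nat_lit 28, nat_lit 22, nat_lit 29, nat_lit 25, nat_lit 25, nat_lit 28, nat_lit 27, nat_lit 27, nat_lit 29], []⟩, ⟨nat_lit 1, nat_lit 3, [nat_lit 4, nat_lit 1, nat_lit 24, nat_lit 17, nat_lit 17, nat_lit 27, nat_lit 24, nat_lit 29, nat_lit 25, nat_lit 25, nat_lit 27, nat_lit 27, nat_lit 29, nat_lit 29], []⟩, ⟨nat_lit 0, nat_lit 0, [], []⟩, ⟨nat_lit 1, nat_lit 4, [nat_lit 26, nat_lit 9, nat_lit 24, nat_lit 19, nat_lit 29, nat_lit 20, nat_lit 24, nat_lit 24, nat_lit 29, nat_lit 25, nat_lit 28, nat_lit 27, nat_lit 27, nat_lit 29, nat_lit 29], []⟩, ⟨nat_lit 2, nat_lit 0, [nat_lit 18, nat_lit 13, nat_lit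 25, nat_lit 18, nat_lit 25, nat_lit 20, nat_lit 24, nat_lit 24, nat_lit 29, nat_lit 28, nat_lit 29], []⟩, ⟨nat_lit 2, nat_lit 1, [nat_lit 10, nat_lit 29, nat_lit 4, nat_lit 20, nat_lit 18, nat_lit 20, nat_lit 26, nat_lit 22, nat_lit 25, nat_lit 27, nat_lit 29], []⟩, ⟨nat_lit 1, nat_lit 2, [nat_lit 6, nat_lit 0, nat_lit 21, nat_lit 17, nat_lit 21, nat_lit 23, nat_lit 20, nat_lit 25, nat_lit 22, nat_lit 27, nat_lit 26, nat_lit 27, nat_lit 29, nat_lit 29], []⟩, ⟨nat_lit 1, nat_lit 3, [nat_lit 3, nat_lit 10, nat_lit 0, nat_lit 19, nat_lit 23, nat_lit 22, nat_lit 29, nat_lit 25], []⟩, ⟨nat_lit 2, nat_lit 0, [nat_lit 0, nat_lit 12, nat_lit 0, nat_lit 25, nat_lit 18, nat_lit 20, nat_lit 21, nat_lit 23, nat_lit 25, nat_lit 22, nat_lit 28, nat_lit 29, nat_lit 29], []⟩, ⟨nat_lit 1, nat_lit 2, [nat_lit 14, nat_lit 29, nat_lit 4, nat_lit 18, nat_lit 18, nat_lit 28, nat_lit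 20, nat_lit 25, nat_lit 22, nat_lit 26, nat_lit 29, nat_lit 28, nat_lit 29], []⟩, ⟨nat_lit 1, nat_lit 2, [nat_lit 26, nat_lit 4, nat_lit 24, nat_lit 19, nat_lit 24, nat_lit 24, nat_lit 25, nat_lit 26, nat_lit 29, nat_lit 27, nat_lit 29], []⟩, ⟨nat_lit 1, nat_lit 2, [nat_lit 20, nat_lit 1, nat_lit 0, nat_lit 24, nat_lit 17, nat_lit 17, nat_lit 21, nat_lit 22, nat_lit 22, nat_lit 25, nat_lit 25, nat_lit 28, nat_lit 27, nat_lit 27, nat_lit 29, nat_lit 29], []⟩, ⟨nat_lit 1, nat_lit 2, [nat_lit 18, nat_lit 20, nat_lit 3, nat_lit 20, nat_lit 18, nat_lit 20, nat_lit 20, nat_lit 25, nat_lit 22, nat_lit 25, nat_lit 27, nat_lit 27, nat_lit 29, nat_lit 29], []⟩, ⟨nat_lit 2, nat_lit 0, [nat_lit 2, nat_lit 14, nat_lit 17, nat_lit 17, nat_lit 21, nat_lit 23, nat_lit 20, nat_lit 26, nat_lit 22, nat_lit 22, nat_lit 27, nat_lit 27], []⟩, ⟨nat_lit 1, nat_lit 2, [nat_lit 11, nat_lit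 16, nat_lit 0, nat_lit 24, nat_lit 19, nat_lit 29, nat_lit 20, nat_lit 28, nat_lit 22, nat_lit 25, nat_lit 25, nat_lit 27, nat_lit 29, nat_lit 29], []⟩, ⟨nat_lit 2, nat_lit 0, [nat_lit 6], []⟩, ⟨nat_lit 1, nat_lit 1, [nat_lit 16, nat_lit 4, nat_lit 0, nat_lit 25, nat_lit 18, nat_lit 29, nat_lit 20, nat_lit 22, nat_lit 22, nat_lit 29, nat_lit 25, nat_lit 29, nat_lit 28], []⟩, ⟨nat_lit 0, nat_lit 0, [], []⟩, ⟨nat_lit 2, nat_lit 2, [nat_lit 6], []⟩, ⟨nat_lit 1, nat_lit 2, [nat_lit 28, nat_lit 14, nat_lit 0, nat_lit 22, nat_lit 19, nat_lit 26, nat_lit 21, nat_lit 22, nat_lit 24, nat_lit 25, nat_lit 29], []⟩, ⟨nat_lit 0, nat_lit 0, [], []⟩, ⟨nat_lit 1, nat_lit 2, [nat_lit 20, nat_lit 7, nat_lit 24, nat_lit 17, nat_lit 28, nat_lit 20, nat_lit 25, nat_lit 25, nat_lit 27, nat_lit 27, nat_lit 29], []⟩, ⟨nat_lit 1, nat_lit 3, [nat_lit 25, nat_lit 12, nat_lit 2, nat_lit 17,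 nat_lit 17, nat_lit 29, nat_lit 20, nat_lit 22, nat_lit 22, nat_lit 25, nat_lit 26, nat_lit 27, nat_lit 27, nat_lit 29], []⟩, ⟨nat_lit 2, nat_lit 2, [nat_lit 11, nat_lit 9, nat_lit 17, nat_lit 18, nat_lit 26, nat_lit 21, nat_lit 20, nat_lit 27, nat_lit 24, nat_lit 25, nat_lit 25, nat_lit 27, nat_lit 27], []⟩, ⟨nat_lit 1, nat_lit 2, [nat_lit 22, nat_lit 5, nat_lit 0, nat_lit 19, nat_lit 18, nat_lit 27, nat_lit 22, nat_lit 22, nat_lit 27, nat_lit 26, nat_lit 29, nat_lit 29], []⟩, ⟨nat_lit 1, nat_lit 2, [nat_lit 22, nat_lit 1, nat_lit 0, nat_lit 19, nat_lit 22, nat_lit 22, nat_lit 20, nat_lit 26, nat_lit 29, nat_lit 28, nat_lit 29, nat_lit 29], []⟩, ⟨nat_lit 1, nat_lit 3, [nat_lit 22, nat_lit 29, nat_lit 0, nat_lit 24, nat_lit 17, nat_lit 23, nat_lit 20, nat_lit 27, nat_lit 22, nat_lit 22, nat_lit 28], []⟩, ⟨nat_lit 2, nat_lit 3, [nat_lit 22, nat_lit 22, nat_lit 0,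 nat_lit 19, nat_lit 18, nat_lit 21, nat_lit 24, nat_lit 24, nat_lit 29, nat_lit 25, nat_lit 25, nat_lit 29], []⟩, ⟨nat_lit 1, nat_lit 2, [nat_lit 14, nat_lit 3, nat_lit 0, nat_lit 17, nat_lit 17, nat_lit 22, nat_lit 24, nat_lit 27, nat_lit 26, nat_lit 27, nat_lit 27, nat_lit 29, nat_lit 29], []⟩, ⟨nat_lit 1, nat_lit 3, [nat_lit 21, nat_lit 6, nat_lit 0, nat_lit 21, nat_lit 17, nat_lit 21, nat_lit 20, nat_lit 24, nat_lit 25, nat_lit 25, nat_lit 29, nat_lit 29], []⟩, ⟨nat_lit 1, nat_lit 3, [nat_lit 26, nat_lit 11, nat_lit 0, nat_lit 17, nat_lit 17, nat_lit 23, nat_lit 20, nat_lit 25, nat_lit 22, nat_lit 27, nat_lit 27, nat_lit 29, nat_lit 29], []⟩, ⟨nat_lit 0, nat_lit 0, [], []⟩, ⟨nat_lit 1, nat_lit 4, [nat_lit 0, nat_lit 21, nat_lit 0, nat_lit 22, nat_lit 19, nat_lit 25, nat_lit 20, nat_lit 24, nat_lit 26, nat_lit 29, nat_lit 27], []⟩, ⟨nat_lit 2, nat_lit 2, [nat_lit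 3, nat_lit 10, nat_lit 0, nat_lit 25, nat_lit 18, nat_lit 21, nat_lit 29, nat_lit 25, nat_lit 25, nat_lit 29, nat_lit 27], []⟩, ⟨nat_lit 1, nat_lit 2, [nat_lit 7, nat_lit 1, nat_lit 24, nat_lit 17, nat_lit 17, nat_lit 29, nat_lit 20, nat_lit 22, nat_lit 24, nat_lit 26, nat_lit 29, nat_lit 27, nat_lit 29], []⟩, ⟨nat_lit 1, nat_lit 4, [nat_lit 27, nat_lit 5, nat_lit 0, nat_lit 18, nat_lit 20, nat_lit 22, nat_lit 26, nat_lit 27, nat_lit 27, nat_lit 29, nat_lit 29], []⟩, ⟨nat_lit 0, nat_lit 0, [], []⟩, ⟨nat_lit 0, nat_lit 0, [], []⟩, ⟨nat_lit 1, nat_lit 3, [nat_lit 24, nat_lit 22, nat_lit 0, nat_lit 20, nat_lit 17, nat_lit 20, nat_lit 20, nat_lit 28, nat_lit 22, nat_lit 27, nat_lit 27, nat_lit 29], []⟩, ⟨nat_lit 1, nat_lit 2, [nat_lit 26, nat_lit 11, nat_lit 2, nat_lit 21, nat_lit 17, nat_lit 22, nat_lit 20, nat_lit 27, nat_lit 22, nat_lit 22, nat_lit 25, nat_lit 29,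 nat_lit 27], []⟩, ⟨nat_lit 0, nat_lit 0, [], []⟩, ⟨nat_lit 1, nat_lit 2, [nat_lit 19, nat_lit 11, nat_lit 17, nat_lit 20, nat_lit 26, nat_lit 24, nat_lit 25, nat_lit 26, nat_lit 29, nat_lit 29], []⟩, ⟨nat_lit 1, nat_lit 4, [nat_lit 10, nat_lit 12, nat_lit 24, nat_lit 17, nat_lit 26, nat_lit 21, nat_lit 23, nat_lit 25, nat_lit 22, nat_lit 29, nat_lit 25, nat_lit 25, nat_lit 27, nat_lit 27], []⟩, ⟨nat_lit 2, nat_lit 3, [nat_lit 10, nat_lit 29, nat_lit 4, nat_lit 20, nat_lit 18, nat_lit 20, nat_lit 26, nat_lit 22, nat_lit 25, nat_lit 27, nat_lit 29], []⟩, ⟨nat_lit 1, nat_lit 3, [nat_lit 21, nat_lit 13, nat_lit 1, nat_lit 18, nat_lit 18, nat_lit 21, nat_lit 23, nat_lit 20, nat_lit 24, nat_lit 26, nat_lit 27, nat_lit 27], []⟩, ⟨nat_lit 1, nat_lit 2, [nat_lit 26, nat_lit 4, nat_lit 20, nat_lit 17, nat_lit 22, nat_lit 22, nat_lit 20, nat_lit 28, nat_lit 22, nat_lit 26,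 nat_lit 29, nat_lit 28, nat_lit 29, nat_lit 29], []⟩, ⟨nat_lit 1, nat_lit 3, [nat_lit 18, nat_lit 16, nat_lit 3, nat_lit 18, nat_lit 25, nat_lit 20, nat_lit 22, nat_lit 24, nat_lit 27, nat_lit 29, nat_lit 29], []⟩, ⟨nat_lit 1, nat_lit 3, [nat_lit 26, nat_lit 15, nat_lit 21, nat_lit 17, nat_lit 20, nat_lit 27, nat_lit 24, nat_lit 29, nat_lit 25, nat_lit 28, nat_lit 29], []⟩, ⟨nat_lit 2, nat_lit 2, [nat_lit 22, nat_lit 22, nat_lit 0, nat_lit 19, nat_lit 18, nat_lit 21, nat_lit 24, nat_lit 24, nat_lit 29, nat_lit 25, nat_lit 25, nat_lit 29], []⟩, ⟨nat_lit 1, nat_lit 2, [nat_lit 9, nat_lit 16, nat_lit 0, nat_lit 21, nat_lit 17, nat_lit 20, nat_lit 20, nat_lit 25, nat_lit 22, nat_lit 29, nat_lit 25, nat_lit 25, nat_lit 28, nat_lit 29], []⟩, ⟨nat_lit 2, nat_lit 2, [nat_lit 26, nat_lit 23, nat_lit 0, nat_lit 17, nat_lit 22, nat_lit 22, nat_lit 20, nat_lit 24, nat_lit 22,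 nat_lit 25, nat_lit 25, nat_lit 28, nat_lit 29], []⟩, ⟨nat_lit 2, nat_lit 1, [nat_lit 22, nat_lit 22, nat_lit 0, nat_lit 19, nat_lit 18, nat_lit 21, nat_lit 24, nat_lit 24, nat_lit 29, nat_lit 25, nat_lit 25, nat_lit 29], []⟩, ⟨nat_lit 1, nat_lit 2, [nat_lit 26, nat_lit 26, nat_lit 3, nat_lit 25, nat_lit 18, nat_lit 26, nat_lit 21, nat_lit 20, nat_lit 24, nat_lit 22, nat_lit 25, nat_lit 27, nat_lit 27], []⟩, ⟨nat_lit 2, nat_lit 4, [nat_lit 20, nat_lit 13, nat_lit 5, nat_lit 20, nat_lit 18, nat_lit 26, nat_lit 21, nat_lit 20, nat_lit 24, nat_lit 24, nat_lit 27, nat_lit 26], []⟩, ⟨nat_lit 1, nat_lit 3, [nat_lit 14, nat_lit 15, nat_lit 6, nat_lit 18, nat_lit 19, nat_lit 21, nat_lit 20, nat_lit 24, nat_lit 24, nat_lit 25, nat_lit 25, nat_lit 27, nat_lit 27, nat_lit 29], []⟩, ⟨nat_lit 1, nat_lit 3, [nat_lit 10, nat_lit 14, nat_lit 0, nat_lit 22, nat_lit 19, nat_lit 20,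 nat_lit 28, nat_lit 22, nat_lit 25, nat_lit 25, nat_lit 28], []⟩, ⟨nat_lit 1, nat_lit 4, [nat_lit 3, nat_lit 2, nat_lit 24, nat_lit 17, nat_lit 17, nat_lit 28, nat_lit 20, nat_lit 23, nat_lit 25, nat_lit 22, nat_lit 26, nat_lit 29, nat_lit 28, nat_lit 29], []⟩, ⟨nat_lit 1, nat_lit 4, [nat_lit 4, nat_lit 0, nat_lit 1, nat_lit 19, nat_lit 28, nat_lit 20, nat_lit 23, nat_lit 25, nat_lit 22, nat_lit 25, nat_lit 27, nat_lit 27, nat_lit 29], []⟩, ⟨nat_lit 0, nat_lit 0, [], []⟩, ⟨nat_lit 1, nat_lit 2, [nat_lit 16, nat_lit 7, nat_lit 18, nat_lit 19, nat_lit 21, nat_lit 23, nat_lit 20, nat_lit 24, nat_lit 22, nat_lit 29, nat_lit 25], []⟩, ⟨nat_lit 1, nat_lit 4, [nat_lit 14, nat_lit 7, nat_lit 17, nat_lit 18, nat_lit 20, nat_lit 24, nat_lit 24, nat_lit 27], []⟩, ⟨nat_lit 1, nat_lit 2, [nat_lit 26, nat_lit 3, nat_lit 0, nat_lit 23, nat_lit 20, nat_lit 22, nat_lit 22, nat_lit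 26, nat_lit 29, nat_lit 28, nat_lit 29], []⟩, ⟨nat_lit 1, nat_lit 3, [nat_lit 29, nat_lit 0, nat_lit 18, nat_lit 21, nat_lit 23, nat_lit 25, nat_lit 22, nat_lit 29, nat_lit 25, nat_lit 25, nat_lit 27, nat_lit 27, nat_lit 29], []⟩, ⟨nat_lit 1, nat_lit 4, [nat_lit 10, nat_lit 2, nat_lit 0, nat_lit 24, nat_lit 17, nat_lit 20, nat_lit 21, nat_lit 26, nat_lit 27, nat_lit 29], []⟩, ⟨nat_lit 2, nat_lit 2, [nat_lit 9, nat_lit 3, nat_lit 20, nat_lit 18, nat_lit 21, nat_lit 20, nat_lit 23, nat_lit 22, nat_lit 25, nat_lit 29, nat_lit 29], []⟩, ⟨nat_lit 2, nat_lit 1, [nat_lit 21, nat_lit 11, nat_lit 19, nat_lit 18, nat_lit 22, nat_lit 22, nat_lit 20, nat_lit 24, nat_lit 27, nat_lit 26, nat_lit 28, nat_lit 27, nat_lit 27, nat_lit 29, nat_lit 29], []⟩, ⟨nat_lit 1, nat_lit 2, [nat_lit 26, nat_lit 17, nat_lit 0, nat_lit 17, nat_lit 21, nat_lit 23, nat_lit 20, nat_lit 26, nat_lit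 22, nat_lit 25, nat_lit 25], []⟩, ⟨nat_lit 2, nat_lit 4, [nat_lit 4, nat_lit 11, nat_lit 0, nat_lit 18, nat_lit 18, nat_lit 29, nat_lit 20, nat_lit 22, nat_lit 24, nat_lit 25, nat_lit 25, nat_lit 29, nat_lit 28, nat_lit 29, nat_lit 29], []⟩, ⟨nat_lit 1, nat_lit 3, [nat_lit 12, nat_lit 16, nat_lit 22, nat_lit 19, nat_lit 26, nat_lit 20, nat_lit 22, nat_lit 24, nat_lit 27, nat_lit 27, nat_lit 29, nat_lit 29], []⟩, ⟨nat_lit 1, nat_lit 2, [nat_lit 14, nat_lit 7, nat_lit 17, nat_lit 17, nat_lit 21, nat_lit 20, nat_lit 27, nat_lit 24, nat_lit 29, nat_lit 25, nat_lit 29, nat_lit 28], []⟩, ⟨nat_lit 1, nat_lit 4, [nat_lit 14, nat_lit 0, nat_lit 17, nat_lit 17, nat_lit 23, nat_lit 25, nat_lit 22, nat_lit 29, nat_lit 27, nat_lit 29], []⟩, ⟨nat_lit 2, nat_lit 3, [nat_lit 26, nat_lit 23, nat_lit 0, nat_lit 22, nat_lit 19, nat_lit 22, nat_lit 22, nat_lit 20, nat_lit 25, nat_lit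 22, nat_lit 26, nat_lit 27], []⟩, ⟨nat_lit 1, nat_lit 2, [nat_lit 19, nat_lit 2, nat_lit 3, nat_lit 22, nat_lit 19, nat_lit 23, nat_lit 20, nat_lit 22, nat_lit 27, nat_lit 29, nat_lit 29], []⟩, ⟨nat_lit 0, nat_lit 0, [], []⟩, ⟨nat_lit 0, nat_lit 0, [], []⟩, ⟨nat_lit 0, nat_lit 0, [], []⟩, ⟨nat_lit 2, nat_lit 0, [nat_lit 27, nat_lit 2, nat_lit 0, nat_lit 18, nat_lit 19, nat_lit 21, nat_lit 20, nat_lit 24, nat_lit 25, nat_lit 28, nat_lit 29, nat_lit 29], []⟩, ⟨nat_lit 1, nat_lit 2, [nat_lit 23, nat_lit 4, nat_lit 0, nat_lit 22, nat_lit 19, nat_lit 26, nat_lit 21, nat_lit 20, nat_lit 22, nat_lit 22, nat_lit 25, nat_lit 25, nat_lit 27, nat_lit 29], []⟩, ⟨nat_lit 0, nat_lit 0, [], []⟩, ⟨nat_lit 1, nat_lit 2, [nat_lit 20, nat_lit 2, nat_lit 27, nat_lit 17, nat_lit 22, nat_lit 20, nat_lit 23, nat_lit 22, nat_lit 25, nat_lit 25, nat_lit 27, nat_lit 27], []⟩, ⟨nat_lit 1,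 nat_lit 4, [nat_lit 23, nat_lit 7, nat_lit 19, nat_lit 18, nat_lit 21, nat_lit 23, nat_lit 20, nat_lit 23, nat_lit 25, nat_lit 22, nat_lit 25, nat_lit 26, nat_lit 29, nat_lit 28, nat_lit 29], []⟩, ⟨nat_lit 2, nat_lit 1, [nat_lit 0, nat_lit 27, nat_lit 0, nat_lit 17, nat_lit 20, nat_lit 22, nat_lit 22, nat_lit 27, nat_lit 26, nat_lit 28, nat_lit 27, nat_lit 27, nat_lit 29], []⟩, ⟨nat_lit 0, nat_lit 0, [], []⟩, ⟨nat_lit 1, nat_lit 2, [nat_lit 29, nat_lit 26, nat_lit 0, nat_lit 25, nat_lit 18, nat_lit 26, nat_lit 21, nat_lit 20, nat_lit 28, nat_lit 22, nat_lit 25, nat_lit 26, nat_lit 28, nat_lit 29, nat_lit 29], []⟩, ⟨nat_lit 0, nat_lit 0, [], []⟩, ⟨nat_lit 1, nat_lit 3, [nat_lit 0, nat_lit 24, nat_lit 0, nat_lit 18, nat_lit 18, nat_lit 23, nat_lit 25, nat_lit 22, nat_lit 29, nat_lit 28, nat_lit 29], []⟩, ⟨nat_lit 2, nat_lit 2, [nat_lit 28, nat_lit 13, nat_lit 0, nat_lit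 20, nat_lit 18, nat_lit 21, nat_lit 26, nat_lit 24, nat_lit 25, nat_lit 25, nat_lit 27, nat_lit 27, nat_lit 29], []⟩, ⟨nat_lit 2, nat_lit 1, [nat_lit 29, nat_lit 13, nat_lit 20, nat_lit 17, nat_lit 20, nat_lit 26, nat_lit 24, nat_lit 29, nat_lit 25, nat_lit 25, nat_lit 28, nat_lit 29, nat_lit 29], []⟩, ⟨nat_lit 1, nat_lit 4, [nat_lit 16, nat_lit 14, nat_lit 0, nat_lit 22, nat_lit 19, nat_lit 26, nat_lit 22, nat_lit 22, nat_lit 29, nat_lit 25, nat_lit 25, nat_lit 27, nat_lit 27, nat_lit 29, nat_lit 29], []⟩, ⟨nat_lit 1, nat_lit 0, [nat_lit 6, nat_lit 2, nat_lit 18, nat_lit 18, nat_lit 22, nat_lit 22, nat_lit 20, nat_lit 23, nat_lit 22, nat_lit 25, nat_lit 25, nat_lit 28], []⟩, ⟨nat_lit 2, nat_lit 2, [nat_lit 27, nat_lit 2, nat_lit 0, nat_lit 18, nat_lit 19, nat_lit 21, nat_lit 20, nat_lit 24, nat_lit 25, nat_lit 28, nat_lit 29, nat_lit 29], []⟩, ⟨nat_lit 1, nat_lit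 4, [nat_lit 23, nat_lit 13, nat_lit 0, nat_lit 27, nat_lit 17, nat_lit 26, nat_lit 20, nat_lit 25, nat_lit 22, nat_lit 25, nat_lit 25, nat_lit 27, nat_lit 27, nat_lit 29, nat_lit 29], []⟩, ⟨nat_lit 0, nat_lit 0, [], []⟩, ⟨nat_lit 0, nat_lit 0, [], []⟩, ⟨nat_lit 1, nat_lit 2, [nat_lit 21, nat_lit 29, nat_lit 0, nat_lit 21, nat_lit 17, nat_lit 26, nat_lit 21, nat_lit 20, nat_lit 27, nat_lit 24, nat_lit 25, nat_lit 26, nat_lit 29, nat_lit 29], []⟩, ⟨nat_lit 0, nat_lit 0, [], []⟩, ⟨nat_lit 0, nat_lit 0, [], []⟩, ⟨nat_lit 1, nat_lit 2, [nat_lit 22, nat_lit 17, nat_lit 0, nat_lit 17, nat_lit 17, nat_lit 26, nat_lit 20, nat_lit 25, nat_lit 22, nat_lit 28, nat_lit 27, nat_lit 27, nat_lit 29], []⟩, ⟨nat_lit 2, nat_lit 4, [nat_lit 21, nat_lit 28, nat_lit 3, nat_lit 18, nat_lit 20, nat_lit 20, nat_lit 24, nat_lit 29, nat_lit 25, nat_lit 25, nat_lit 29, nat_lit 28, nat_lit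 29], []⟩, ⟨nat_lit 0, nat_lit 0, [], []⟩, ⟨nat_lit 0, nat_lit 0, [], []⟩, ⟨nat_lit 0, nat_lit 0, [], []⟩, ⟨nat_lit 1, nat_lit 2, [nat_lit 6, nat_lit 21, nat_lit 17, nat_lit 22, nat_lit 20, nat_lit 25, nat_lit 22, nat_lit 25, nat_lit 28, nat_lit 27, nat_lit 27, nat_lit 29], []⟩, ⟨nat_lit 0, nat_lit 0, [], []⟩, ⟨nat_lit 0, nat_lit 0, [], []⟩, ⟨nat_lit 0, nat_lit 0, [], []⟩, ⟨nat_lit 1, nat_lit 4, [nat_lit 11, nat_lit 11, nat_lit 17, nat_lit 18, nat_lit 20, nat_lit 21, nat_lit 23, nat_lit 22, nat_lit 27, nat_lit 29], []⟩, ⟨nat_lit 0, nat_lit 0, [], []⟩, ⟨nat_lit 0, nat_lit 0, [], []⟩, ⟨nat_lit 2, nat_lit 4, [nat_lit 0, nat_lit 27, nat_lit 0, nat_lit 17, nat_lit 20, nat_lit 22, nat_lit 22, nat_lit 27, nat_lit 26, nat_lit 28, nat_lit 27, nat_lit 27, nat_lit 29], []⟩, ⟨nat_lit 1, nat_lit 2, [nat_lit 12, nat_lit 14, nat_lit 1, nat_lit 24, nat_lit 17, nat_lit 23, nat_lit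 20, nat_lit 24, nat_lit 25, nat_lit 25, nat_lit 27, nat_lit 27, nat_lit 29], []⟩, ⟨nat_lit 1, nat_lit 3, [nat_lit 3, nat_lit 26, nat_lit 0, nat_lit 22, nat_lit 19, nat_lit 22, nat_lit 20, nat_lit 24, nat_lit 27, nat_lit 26], []⟩, ⟨nat_lit 1, nat_lit 4, [nat_lit 13, nat_lit 13, nat_lit 2, nat_lit 18, nat_lit 19, nat_lit 22, nat_lit 22, nat_lit 20, nat_lit 26, nat_lit 24, nat_lit 29, nat_lit 25, nat_lit 29], []⟩, ⟨nat_lit 1, nat_lit 3, [nat_lit 16, nat_lit 5, nat_lit 18, nat_lit 18, nat_lit 22, nat_lit 22, nat_lit 20, nat_lit 25, nat_lit 22, nat_lit 29, nat_lit 25, nat_lit 25, nat_lit 29, nat_lit 28], []⟩, ⟨nat_lit 2, nat_lit 0, [nat_lit 13, nat_lit 1, nat_lit 24, nat_lit 17, nat_lit 23, nat_lit 20, nat_lit 26, nat_lit 22, nat_lit 25, nat_lit 29], []⟩, ⟨nat_lit 1, nat_lit 3, [nat_lit 17, nat_lit 23, nat_lit 0, nat_lit 20, nat_lit 17, nat_lit 22, nat_lit 20, nat_lit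 26, nat_lit 22, nat_lit 22, nat_lit 27, nat_lit 26, nat_lit 28, nat_lit 29], []⟩, ⟨nat_lit 2, nat_lit 0, [nat_lit 23, nat_lit 5, nat_lit 0, nat_lit 20, nat_lit 18, nat_lit 28, nat_lit 20, nat_lit 27, nat_lit 24, nat_lit 25, nat_lit 25, nat_lit 29], []⟩, ⟨nat_lit 1, nat_lit 2, [nat_lit 21, nat_lit 6, nat_lit 2, nat_lit 22, nat_lit 19, nat_lit 26, nat_lit 21, nat_lit 28, nat_lit 22, nat_lit 27, nat_lit 26, nat_lit 27, nat_lit 27, nat_lit 29], []⟩, ⟨nat_lit 0, nat_lit 0, [], []⟩, ⟨nat_lit 1, nat_lit 4, [nat_lit 25, nat_lit 16, nat_lit 18, nat_lit 19, nat_lit 21, nat_lit 23, nat_lit 20, nat_lit 22, nat_lit 25, nat_lit 26, nat_lit 28, nat_lit 27, nat_lit 27], []⟩, ⟨nat_lit 2, nat_lit 1, [nat_lit 26, nat_lit 23, nat_lit 0, nat_lit 22, nat_lit 19, nat_lit 22, nat_lit 22, nat_lit 20, nat_lit 25, nat_lit 22, nat_lit 26, nat_lit 27], []⟩, ⟨nat_lit 1, nat_lit 2, [nat_lit 14,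 nat_lit 4, nat_lit 24, nat_lit 17, nat_lit 17, nat_lit 25, nat_lit 20, nat_lit 27, nat_lit 24, nat_lit 26, nat_lit 27, nat_lit 27], []⟩, ⟨nat_lit 1, nat_lit 4, [nat_lit 21, nat_lit 7, nat_lit 27, nat_lit 17, nat_lit 21, nat_lit 23, nat_lit 20, nat_lit 26, nat_lit 22, nat_lit 25, nat_lit 25, nat_lit 28, nat_lit 27, nat_lit 27], []⟩, ⟨nat_lit 0, nat_lit 0, [], []⟩, ⟨nat_lit 1, nat_lit 3, [nat_lit 17, nat_lit 9, nat_lit 24, nat_lit 19, nat_lit 21, nat_lit 20, nat_lit 26, nat_lit 24, nat_lit 29, nat_lit 25, nat_lit 25, nat_lit 29, nat_lit 29], []⟩, ⟨nat_lit 1, nat_lit 3, [nat_lit 29, nat_lit 9, nat_lit 1, nat_lit 17, nat_lit 18, nat_lit 23, nat_lit 20, nat_lit 24, nat_lit 29, nat_lit 25, nat_lit 25, nat_lit 28, nat_lit 27, nat_lit 27, nat_lit 29, nat_lit 29], []⟩, ⟨nat_lit 0, nat_lit 0, [], []⟩, ⟨nat_lit 0, nat_lit 0, [], []⟩, ⟨nat_lit 2, nat_lit 2, [nat_lit 21, nat_lit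 28, nat_lit 3, nat_lit 18, nat_lit 20, nat_lit 20, nat_lit 24, nat_lit 29, nat_lit 25, nat_lit 25, nat_lit 29, nat_lit 28, nat_lit 29], []⟩, ⟨nat_lit 2, nat_lit 1, [nat_lit 26, nat_lit 10, nat_lit 0, nat_lit 21, nat_lit 17, nat_lit 23, nat_lit 20, nat_lit 26, nat_lit 22, nat_lit 25, nat_lit 25, nat_lit 29, nat_lit 29], []⟩, ⟨nat_lit 0, nat_lit 0, [], []⟩, ⟨nat_lit 0, nat_lit 0, [], []⟩, ⟨nat_lit 1, nat_lit 2, [nat_lit 2, nat_lit 3, nat_lit 0, nat_lit 27, nat_lit 17, nat_lit 21, nat_lit 23, nat_lit 25, nat_lit 22, nat_lit 29, nat_lit 29], []⟩, ⟨nat_lit 2, nat_lit 0, [nat_lit 21, nat_lit 28, nat_lit 3, nat_lit 18, nat_lit 20, nat_lit 20, nat_lit 24, nat_lit 29, nat_lit 25, nat_lit 25, nat_lit 29, nat_lit 28, nat_lit 29], []⟩, ⟨nat_lit 1, nat_lit 2, [nat_lit 16, nat_lit 9, nat_lit 24, nat_lit 17, nat_lit 17, nat_lit 21, nat_lit 29, nat_lit 25, nat_lit 28, nat_lit 29],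 []⟩, ⟨nat_lit 1, nat_lit 2, [nat_lit 20, nat_lit 9, nat_lit 0, nat_lit 18, nat_lit 23, nat_lit 20, nat_lit 22, nat_lit 24, nat_lit 29, nat_lit 25, nat_lit 28, nat_lit 27, nat_lit 27, nat_lit 29, nat_lit 29], []⟩, ⟨nat_lit 1, nat_lit 2, [nat_lit 10, nat_lit 0, nat_lit 22, nat_lit 19, nat_lit 21, nat_lit 20, nat_lit 24, nat_lit 22, nat_lit 25, nat_lit 26, nat_lit 27, nat_lit 27, nat_lit 29, nat_lit 29], []⟩, ⟨nat_lit 2, nat_lit 3, [nat_lit 26, nat_lit 10, nat_lit 0, nat_lit 21, nat_lit 17, nat_lit 23, nat_lit 20, nat_lit 26, nat_lit 22, nat_lit 25, nat_lit 25, nat_lit 29, nat_lit 29], []⟩, ⟨nat_lit 1, nat_lit 2, [nat_lit 29, nat_lit 14, nat_lit 24, nat_lit 17, nat_lit 17, nat_lit 20, nat_lit 21, nat_lit 28, nat_lit 22, nat_lit 26, nat_lit 28], []⟩, ⟨nat_lit 1, nat_lit 2, [nat_lit 4, nat_lit 12, nat_lit 22, nat_lit 19, nat_lit 28, nat_lit 20, nat_lit 26, nat_lit 22,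 nat_lit 29, nat_lit 25, nat_lit 25, nat_lit 28, nat_lit 29], []⟩, ⟨nat_lit 2, nat_lit 2, [nat_lit 7, nat_lit 1, nat_lit 18, nat_lit 19, nat_lit 22, nat_lit 22, nat_lit 20, nat_lit 23, nat_lit 25, nat_lit 22], []⟩, ⟨nat_lit 0, nat_lit 0, [], []⟩],
  [rB8x0, rB8x1, rB8x2, rB8x3, rB8x4]⟩

noncomputable def rB9x0 : RP := ⟨[nat_lit 10, nat_lit 6, nat_lit 0, nat_lit 24, nat_lit 17, nat_lit 17, nat_lit 23, nat_lit 20, nat_lit 26, nat_lit 22, nat_lit 29, nat_lit 25, nat_lit 25, nat_lit 27, nat_lit 29], [nat_lit 22, nat_lit 12, nat_lit 0, nat_lit 25, nat_lit 18, nat_lit 22, nat_lit 22, nat_lit 20, nat_lit 25, nat_lit 22, nat_lit 25, nat_lit 27, nat_lit 27, nat_lit 29], [⟨nat_lit 0, nat_lit 0, [nat_lit 14, nat_lit 9, nat_lit 0, nat_lit 20, nat_lit 17, nat_lit 26, nat_lit 21, nat_lit 20, nat_lit 27, nat_lit 22, nat_lit 22, nat_lit 26, nat_lit 27, nat_lit 29], []⟩, ⟨nat_lit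 0, nat_lit 0, [nat_lit 24, nat_lit 13, nat_lit 18, nat_lit 19, nat_lit 28, nat_lit 20, nat_lit 25, nat_lit 22, nat_lit 26, nat_lit 29, nat_lit 27, nat_lit 29], []⟩, ⟨nat_lit 0, nat_lit 0, [nat_lit 9, nat_lit 7, nat_lit 22, nat_lit 19, nat_lit 28, nat_lit 20, nat_lit 24, nat_lit 25, nat_lit 25, nat_lit 29, nat_lit 28], []⟩, ⟨nat_lit 0, nat_lit 0, [nat_lit 14, nat_lit 9, nat_lit 0, nat_lit 22, nat_lit 19, nat_lit 23, nat_lit 20, nat_lit 26, nat_lit 24, nat_lit 26, nat_lit 27], []⟩, ⟨nat_lit 0, nat_lit 0, [nat_lit 25, nat_lit 17, nat_lit 0, nat_lit 19, nat_lit 18, nat_lit 21, nat_lit 20, nat_lit 22, nat_lit 25, nat_lit 26, nat_lit 29, nat_lit 28, nat_lit 29], []⟩, ⟨nat_lit 0, nat_lit 0, [nat_lit 9, nat_lit 2, nat_lit 0, nat_lit 17, nat_lit 23, nat_lit 20, nat_lit 28, nat_lit 22, nat_lit 27, nat_lit 26, nat_lit 29, nat_lit 29], []⟩, ⟨nat_lit 0, nat_lit 0, [nat_lit 9,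 nat_lit 4, nat_lit 17, nat_lit 18, nat_lit 20, nat_lit 24, nat_lit 29, nat_lit 25, nat_lit 25, nat_lit 28, nat_lit 29], []⟩, ⟨nat_lit 0, nat_lit 0, [nat_lit 25, nat_lit 12, nat_lit 27, nat_lit 17, nat_lit 20, nat_lit 20, nat_lit 22, nat_lit 24, nat_lit 29, nat_lit 25, nat_lit 27, nat_lit 27, nat_lit 29, nat_lit 29], []⟩, ⟨nat_lit 0, nat_lit 0, [nat_lit 21, nat_lit 29, nat_lit 0, nat_lit 25, nat_lit 18, nat_lit 26, nat_lit 21, nat_lit 20, nat_lit 23, nat_lit 25, nat_lit 22, nat_lit 29, nat_lit 27], []⟩, ⟨nat_lit 0, nat_lit 0, [nat_lit 3, nat_lit 29, nat_lit 1, nat_lit 17, nat_lit 18, nat_lit 23, nat_lit 20, nat_lit 22, nat_lit 24, nat_lit 29, nat_lit 25, nat_lit 25, nat_lit 29, nat_lit 28, nat_lit 29], []⟩, ⟨nat_lit 0, nat_lit 0, [nat_lit 22, nat_lit 28, nat_lit 0, nat_lit 24, nat_lit 17, nat_lit 26, nat_lit 21, nat_lit 24, nat_lit 22, nat_lit 25, nat_lit 25, nat_lit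 29, nat_lit 27, nat_lit 29, nat_lit 29], []⟩, ⟨nat_lit 0, nat_lit 0, [nat_lit 8, nat_lit 28, nat_lit 0, nat_lit 19, nat_lit 20, nat_lit 26, nat_lit 22, nat_lit 22, nat_lit 25, nat_lit 25, nat_lit 29, nat_lit 28], []⟩, ⟨nat_lit 0, nat_lit 0, [nat_lit 3, nat_lit 10, nat_lit 24, nat_lit 17, nat_lit 17, nat_lit 23, nat_lit 20, nat_lit 27, nat_lit 24, nat_lit 25, nat_lit 26, nat_lit 29, nat_lit 28, nat_lit 29, nat_lit 29], []⟩, ⟨nat_lit 0, nat_lit 0, [nat_lit 14, nat_lit 12, nat_lit 24, nat_lit 17, nat_lit 22, nat_lit 25, nat_lit 25, nat_lit 27], []⟩, ⟨nat_lit 0, nat_lit 0, [nat_lit 26, nat_lit 13, nat_lit 3, nat_lit 18, nat_lit 19, nat_lit 21, nat_lit 20, nat_lit 25, nat_lit 25, nat_lit 27, nat_lit 29, nat_lit 29], []⟩, ⟨nat_lit 0, nat_lit 0, [nat_lit 24, nat_lit 13, nat_lit 21, nat_lit 17, nat_lit 23, nat_lit 20, nat_lit 23, nat_lit 22, nat_lit 29, nat_lit 25, nat_lit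 25, nat_lit 29], []⟩, ⟨nat_lit 0, nat_lit 0, [nat_lit 28, nat_lit 6, nat_lit 3, nat_lit 17, nat_lit 28, nat_lit 20, nat_lit 26, nat_lit 22, nat_lit 22, nat_lit 25, nat_lit 26, nat_lit 29], []⟩, ⟨nat_lit 0, nat_lit 0, [nat_lit 1, nat_lit 11, nat_lit 0, nat_lit 27, nat_lit 17, nat_lit 26, nat_lit 20, nat_lit 29, nat_lit 27], []⟩, ⟨nat_lit 0, nat_lit 0, [nat_lit 20, nat_lit 23, nat_lit 3, nat_lit 18, nat_lit 25, nat_lit 20, nat_lit 28, nat_lit 22, nat_lit 29, nat_lit 25, nat_lit 27], []⟩, ⟨nat_lit 0, nat_lit 0, [nat_lit 25, nat_lit 17, nat_lit 0, nat_lit 22, nat_lit 19, nat_lit 27, nat_lit 24, nat_lit 26, nat_lit 27, nat_lit 29, nat_lit 29], []⟩, ⟨nat_lit 0, nat_lit 0, [nat_lit 13, nat_lit 16, nat_lit 0, nat_lit 18, nat_lit 19, nat_lit 28, nat_lit 20, nat_lit 22, nat_lit 24, nat_lit 25, nat_lit 26, nat_lit 28, nat_lit 29, nat_lit 29], []⟩, ⟨nat_lit 0, nat_lit 0, [nat_lit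 11, nat_lit 5, nat_lit 0, nat_lit 21, nat_lit 20, nat_lit 23, nat_lit 22, nat_lit 29, nat_lit 25, nat_lit 25, nat_lit 27, nat_lit 29, nat_lit 29], []⟩, ⟨nat_lit 0, nat_lit 0, [nat_lit 3, nat_lit 29, nat_lit 1, nat_lit 17, nat_lit 17, nat_lit 23, nat_lit 20, nat_lit 24, nat_lit 27, nat_lit 29], []⟩, ⟨nat_lit 0, nat_lit 0, [nat_lit 25, nat_lit 12, nat_lit 18, nat_lit 21, nat_lit 23, nat_lit 20, nat_lit 26, nat_lit 22, nat_lit 29, nat_lit 27, nat_lit 29], []⟩, ⟨nat_lit 0, nat_lit 0, [nat_lit 13, nat_lit 15, nat_lit 22, nat_lit 19, nat_lit 25, nat_lit 22, nat_lit 25, nat_lit 26, nat_lit 28, nat_lit 29, nat_lit 29], []⟩, ⟨nat_lit 0, nat_lit 0, [nat_lit 28, nat_lit 6, nat_lit 3, nat_lit 20, nat_lit 24, nat_lit 27, nat_lit 26, nat_lit 29], []⟩, ⟨nat_lit 0, nat_lit 0, [nat_lit 1, nat_lit 11, nat_lit 0, nat_lit 24, nat_lit 17, nat_lit 17, nat_lit 29, nat_lit 20, nat_lit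 24, nat_lit 22, nat_lit 27, nat_lit 26, nat_lit 28, nat_lit 27, nat_lit 27], []⟩, ⟨nat_lit 0, nat_lit 0, [nat_lit 21, nat_lit 29, nat_lit 0, nat_lit 19, nat_lit 18, nat_lit 23, nat_lit 22, nat_lit 29, nat_lit 25, nat_lit 28], []⟩, ⟨nat_lit 0, nat_lit 0, [nat_lit 22, nat_lit 28, nat_lit 0, nat_lit 19, nat_lit 26, nat_lit 21, nat_lit 20, nat_lit 25, nat_lit 22, nat_lit 25, nat_lit 26, nat_lit 27, nat_lit 29, nat_lit 29], []⟩, ⟨nat_lit 0, nat_lit 0, [nat_lit 14, nat_lit 12, nat_lit 24, nat_lit 17, nat_lit 17, nat_lit 20, nat_lit 20, nat_lit 22, nat_lit 29, nat_lit 25, nat_lit 27, nat_lit 27], []⟩, ⟨nat_lit 0, nat_lit 0, [nat_lit 17, nat_lit 0, nat_lit 19, nat_lit 18, nat_lit 29, nat_lit 20, nat_lit 24, nat_lit 29, nat_lit 25, nat_lit 25, nat_lit 27, nat_lit 27], []⟩, ⟨nat_lit 0, nat_lit 0, [nat_lit 20, nat_lit 23, nat_lit 3, nat_lit 25, nat_lit 18, nat_lit 25, nat_lit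 20, nat_lit 28, nat_lit 22, nat_lit 27, nat_lit 26, nat_lit 28, nat_lit 27, nat_lit 27], []⟩, ⟨nat_lit 0, nat_lit 0, [nat_lit 20, nat_lit 22, nat_lit 0, nat_lit 24, nat_lit 19, nat_lit 21, nat_lit 20, nat_lit 22, nat_lit 24, nat_lit 25, nat_lit 25, nat_lit 28, nat_lit 27, nat_lit 27, nat_lit 29], []⟩, ⟨nat_lit 0, nat_lit 0, [nat_lit 13, nat_lit 15, nat_lit 5, nat_lit 18, nat_lit 19, nat_lit 21, nat_lit 23, nat_lit 20, nat_lit 27, nat_lit 24, nat_lit 27, nat_lit 26, nat_lit 27, nat_lit 29], []⟩, ⟨nat_lit 0, nat_lit 0, [nat_lit 13, nat_lit 15, nat_lit 5, nat_lit 21, nat_lit 17, nat_lit 26, nat_lit 21, nat_lit 20, nat_lit 24, nat_lit 24, nat_lit 29, nat_lit 25, nat_lit 25, nat_lit 27, nat_lit 27, nat_lit 29], []⟩, ⟨nat_lit 0, nat_lit 0, [nat_lit 13, nat_lit 11, nat_lit 0, nat_lit 17, nat_lit 18, nat_lit 20, nat_lit 20, nat_lit 28, nat_lit 22, nat_lit 29, nat_lit 25,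 nat_lit 28, nat_lit 27, nat_lit 27], []⟩, ⟨nat_lit 0, nat_lit 0, [nat_lit 9, nat_lit 7, nat_lit 19, nat_lit 22, nat_lit 22, nat_lit 20, nat_lit 24, nat_lit 22, nat_lit 29, nat_lit 25, nat_lit 25, nat_lit 29], []⟩, ⟨nat_lit 0, nat_lit 0, [nat_lit 13, nat_lit 11, nat_lit 0, nat_lit 24, nat_lit 19, nat_lit 22, nat_lit 22, nat_lit 20, nat_lit 26, nat_lit 22, nat_lit 29, nat_lit 25, nat_lit 28, nat_lit 29, nat_lit 29], []⟩, ⟨nat_lit 0, nat_lit 0, [nat_lit 3, nat_lit 10, nat_lit 27, nat_lit 17, nat_lit 22, nat_lit 20, nat_lit 22, nat_lit 24, nat_lit 27, nat_lit 26, nat_lit 27, nat_lit 27, nat_lit 29], []⟩, ⟨nat_lit 0, nat_lit 0, [nat_lit 14, nat_lit 10, nat_lit 19, nat_lit 18, nat_lit 26, nat_lit 21, nat_lit 27, nat_lit 24, nat_lit 29, nat_lit 25, nat_lit 25, nat_lit 28], []⟩, ⟨nat_lit 0, nat_lit 0, [nat_lit 9, nat_lit 2, nat_lit 0, nat_lit 27, nat_lit 17, nat_lit 20,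 nat_lit 20, nat_lit 27, nat_lit 22, nat_lit 22, nat_lit 27, nat_lit 26, nat_lit 29, nat_lit 29], []⟩, ⟨nat_lit 0, nat_lit 0, [nat_lit 26, nat_lit 13, nat_lit 3, nat_lit 17, nat_lit 17, nat_lit 21, nat_lit 20, nat_lit 27, nat_lit 22, nat_lit 22, nat_lit 25, nat_lit 25, nat_lit 28, nat_lit 29], []⟩, ⟨nat_lit 0, nat_lit 0, [nat_lit 14, nat_lit 10, nat_lit 28, nat_lit 20, nat_lit 26, nat_lit 22, nat_lit 22, nat_lit 25, nat_lit 26, nat_lit 27, nat_lit 29], []⟩, ⟨nat_lit 0, nat_lit 0, [nat_lit 17, nat_lit 0, nat_lit 20, nat_lit 17, nat_lit 20, nat_lit 21, nat_lit 24, nat_lit 22, nat_lit 27, nat_lit 26, nat_lit 29], []⟩, ⟨nat_lit 0, nat_lit 0, [nat_lit 13, nat_lit 16, nat_lit 0, nat_lit 25, nat_lit 18, nat_lit 21, nat_lit 23, nat_lit 22, nat_lit 25, nat_lit 29, nat_lit 28, nat_lit 29], []⟩, ⟨nat_lit 0, nat_lit 0, [nat_lit 11, nat_lit 5, nat_lit 0, nat_lit 20, nat_lit 18,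 nat_lit 20, nat_lit 21, nat_lit 22, nat_lit 25, nat_lit 25, nat_lit 29], []⟩, ⟨nat_lit 0, nat_lit 0, [nat_lit 15, nat_lit 10, nat_lit 1, nat_lit 17, nat_lit 17, nat_lit 20, nat_lit 20, nat_lit 23, nat_lit 22, nat_lit 27, nat_lit 26, nat_lit 29, nat_lit 28, nat_lit 29], []⟩, ⟨nat_lit 0, nat_lit 0, [nat_lit 9, nat_lit 4, nat_lit 18, nat_lit 19, nat_lit 20, nat_lit 20, nat_lit 28, nat_lit 22, nat_lit 25, nat_lit 27, nat_lit 27], []⟩, ⟨nat_lit 0, nat_lit 0, [nat_lit 15, nat_lit 10, nat_lit 1, nat_lit 25, nat_lit 18, nat_lit 26, nat_lit 20, nat_lit 22, nat_lit 22, nat_lit 25, nat_lit 26, nat_lit 27, nat_lit 29], []⟩, ⟨nat_lit 0, nat_lit 0, [nat_lit 20, nat_lit 22, nat_lit 0, nat_lit 20, nat_lit 18, nat_lit 21, nat_lit 23, nat_lit 20, nat_lit 27, nat_lit 22, nat_lit 22, nat_lit 25, nat_lit 27, nat_lit 29, nat_lit 29], []⟩, ⟨nat_lit 0, nat_lit 0, [nat_lit 13, nat_lit 15,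 nat_lit 17, nat_lit 20, nat_lit 23, nat_lit 22, nat_lit 25, nat_lit 28, nat_lit 29], []⟩, ⟨nat_lit 0, nat_lit 0, [nat_lit 8, nat_lit 28, nat_lit 0, nat_lit 19, nat_lit 18, nat_lit 29, nat_lit 20, nat_lit 22, nat_lit 22, nat_lit 29, nat_lit 25, nat_lit 25, nat_lit 28, nat_lit 27, nat_lit 27], []⟩, ⟨nat_lit 0, nat_lit 0, [nat_lit 19, nat_lit 24, nat_lit 0, nat_lit 17, nat_lit 17, nat_lit 22, nat_lit 22, nat_lit 20, nat_lit 25, nat_lit 22, nat_lit 26, nat_lit 27, nat_lit 29], []⟩, ⟨nat_lit 0, nat_lit 0, [nat_lit 19, nat_lit 24, nat_lit 0, nat_lit 18, nat_lit 19, nat_lit 22, nat_lit 20, nat_lit 27, nat_lit 22, nat_lit 22, nat_lit 29, nat_lit 25, nat_lit 25, nat_lit 29, nat_lit 28], []⟩]⟩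

noncomputable def rB9x1 : RP := ⟨[nat_lit 5, nat_lit 18, nat_lit 3, nat_lit 24, nat_lit 17, nat_lit 17, nat_lit 20, nat_lit 20, nat_lit 22, nat_lit 28, nat_lit 29], [nat_lit 25, nat_lit 16, nat_lit 2, nat_lit 18, nat_lit 19, nat_lit 28, nat_lit 20, nat_lit 28, nat_lit 27, nat_lit 27, nat_lit 29, nat_lit 29], [⟨nat_lit 0, nat_lit 0, [nat_lit 8, nat_lit 24, nat_lit 0, nat_lit 20, nat_lit 18, nat_lit 20, nat_lit 28, nat_lit 22, nat_lit 27, nat_lit 26, nat_lit 27], []⟩, ⟨nat_lit 0, nat_lit 0, [nat_lit 11, nat_lit 2, nat_lit 22, nat_lit 19, nat_lit 25, nat_lit 20, nat_lit 22, nat_lit 29, nat_lit 25, nat_lit 28], []⟩, ⟨nat_lit 0, nat_lit 0, [nat_lit 3, nat_lit 0, nat_lit 21, nat_lit 17, nat_lit 29, nat_lit 20, nat_lit 22, nat_lit 27, nat_lit 26, nat_lit 29, nat_lit 28], []⟩, ⟨nat_lit 0, nat_lit 0, [nat_lit 28, nat_lit 0, nat_lit 22, nat_lit 19, nat_lit 23, nat_lit 20,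 nat_lit 26, nat_lit 22, nat_lit 25, nat_lit 25], []⟩, ⟨nat_lit 0, nat_lit 0, [nat_lit 3, nat_lit 10, nat_lit 3, nat_lit 27, nat_lit 17, nat_lit 21, nat_lit 27, nat_lit 24, nat_lit 29, nat_lit 25, nat_lit 25, nat_lit 29], []⟩, ⟨nat_lit 0, nat_lit 0, [nat_lit 14, nat_lit 20, nat_lit 0, nat_lit 17, nat_lit 18, nat_lit 20, nat_lit 21, nat_lit 23, nat_lit 22, nat_lit 29, nat_lit 25, nat_lit 29, nat_lit 29], []⟩, ⟨nat_lit 0, nat_lit 0, [nat_lit 2, nat_lit 15, nat_lit 0, nat_lit 18, nat_lit 18, nat_lit 26, nat_lit 21, nat_lit 26, nat_lit 24, nat_lit 25, nat_lit 27, nat_lit 29, nat_lit 29], []⟩, ⟨nat_lit 0, nat_lit 0, [nat_lit 10, nat_lit 15, nat_lit 20, nat_lit 17, nat_lit 21, nat_lit 24, nat_lit 25, nat_lit 26, nat_lit 28, nat_lit 29, nat_lit 29], []⟩, ⟨nat_lit 0, nat_lit 0, [nat_lit 0, nat_lit 12, nat_lit 3, nat_lit 24, nat_lit 17, nat_lit 22, nat_lit 20, nat_lit 28,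 nat_lit 22, nat_lit 25, nat_lit 25, nat_lit 29, nat_lit 27], []⟩, ⟨nat_lit 0, nat_lit 0, [nat_lit 4, nat_lit 0, nat_lit 1, nat_lit 20, nat_lit 17, nat_lit 21, nat_lit 23, nat_lit 20, nat_lit 24, nat_lit 25, nat_lit 26, nat_lit 29, nat_lit 28], []⟩, ⟨nat_lit 0, nat_lit 0, [nat_lit 14, nat_lit 2, nat_lit 17, nat_lit 18, nat_lit 28, nat_lit 20, nat_lit 27, nat_lit 24, nat_lit 25, nat_lit 26, nat_lit 27, nat_lit 27], []⟩, ⟨nat_lit 0, nat_lit 0, [nat_lit 11, nat_lit 27, nat_lit 3, nat_lit 24, nat_lit 17, nat_lit 21, nat_lit 20, nat_lit 27, nat_lit 24, nat_lit 29, nat_lit 25, nat_lit 28, nat_lit 29, nat_lit 29], []⟩, ⟨nat_lit 0, nat_lit 0, [nat_lit 1, nat_lit 12, nat_lit 4, nat_lit 24, nat_lit 17, nat_lit 17, nat_lit 29, nat_lit 20, nat_lit 23, nat_lit 22, nat_lit 29, nat_lit 28, nat_lit 29, nat_lit 29], []⟩, ⟨nat_lit 0, nat_lit 0, [nat_lit 4, nat_lit 27, nat_lit 0, nat_lit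 19, nat_lit 18, nat_lit 20, nat_lit 20, nat_lit 26, nat_lit 24, nat_lit 25, nat_lit 29, nat_lit 28, nat_lit 29, nat_lit 29], []⟩, ⟨nat_lit 0, nat_lit 0, [nat_lit 19, nat_lit 5, nat_lit 17, nat_lit 18, nat_lit 26, nat_lit 21, nat_lit 27, nat_lit 24, nat_lit 26, nat_lit 28, nat_lit 27, nat_lit 27], []⟩, ⟨nat_lit 0, nat_lit 0, [nat_lit 18, nat_lit 14, nat_lit 27, nat_lit 22, nat_lit 22, nat_lit 26, nat_lit 28, nat_lit 29], []⟩, ⟨nat_lit 0, nat_lit 0, [nat_lit 29, nat_lit 13, nat_lit 21, nat_lit 17, nat_lit 25, nat_lit 20, nat_lit 22, nat_lit 24, nat_lit 27, nat_lit 29], []⟩, ⟨nat_lit 0, nat_lit 0, [nat_lit 7, nat_lit 25, nat_lit 0, nat_lit 24, nat_lit 19, nat_lit 20, nat_lit 20, nat_lit 28, nat_lit 22, nat_lit 25, nat_lit 26, nat_lit 29, nat_lit 27], []⟩, ⟨nat_lit 0, nat_lit 0, [nat_lit 14, nat_lit 14, nat_lit 17, nat_lit 26, nat_lit 21, nat_lit 24, nat_lit 24, nat_lit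 29, nat_lit 25, nat_lit 27, nat_lit 27], []⟩, ⟨nat_lit 0, nat_lit 0, [nat_lit 21, nat_lit 15, nat_lit 25, nat_lit 18, nat_lit 20, nat_lit 21, nat_lit 25, nat_lit 25, nat_lit 29, nat_lit 27, nat_lit 29, nat_lit 29], []⟩, ⟨nat_lit 0, nat_lit 0, [nat_lit 6, nat_lit 24, nat_lit 0, nat_lit 20, nat_lit 18, nat_lit 20, nat_lit 21, nat_lit 25, nat_lit 22, nat_lit 25, nat_lit 27, nat_lit 27, nat_lit 29, nat_lit 29], []⟩, ⟨nat_lit 0, nat_lit 0, [nat_lit 16, nat_lit 9, nat_lit 29, nat_lit 20, nat_lit 22, nat_lit 29, nat_lit 25, nat_lit 25, nat_lit 28, nat_lit 27, nat_lit 27, nat_lit 29], []⟩, ⟨nat_lit 0, nat_lit 0, [nat_lit 0, nat_lit 12, nat_lit 17, nat_lit 18, nat_lit 20, nat_lit 20, nat_lit 24, nat_lit 26, nat_lit 29], []⟩, ⟨nat_lit 0, nat_lit 0, [nat_lit 19, nat_lit 13, nat_lit 17, nat_lit 21, nat_lit 20, nat_lit 29, nat_lit 28], []⟩, ⟨nat_lit 0, nat_lit 0, [nat_lit 15,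 nat_lit 15, nat_lit 2, nat_lit 17, nat_lit 18, nat_lit 26, nat_lit 22, nat_lit 29, nat_lit 25, nat_lit 29, nat_lit 27], []⟩, ⟨nat_lit 0, nat_lit 0, [nat_lit 22, nat_lit 21, nat_lit 0, nat_lit 18, nat_lit 18, nat_lit 20, nat_lit 24, nat_lit 29, nat_lit 25, nat_lit 25], []⟩, ⟨nat_lit 0, nat_lit 0, [nat_lit 23, nat_lit 24, nat_lit 0, nat_lit 27, nat_lit 17, nat_lit 25, nat_lit 20, nat_lit 23, nat_lit 22, nat_lit 29, nat_lit 28], []⟩, ⟨nat_lit 0, nat_lit 0, [nat_lit 24, nat_lit 5, nat_lit 27, nat_lit 17, nat_lit 25, nat_lit 20, nat_lit 25, nat_lit 22, nat_lit 25, nat_lit 25, nat_lit 29, nat_lit 29], []⟩, ⟨nat_lit 0, nat_lit 0, [nat_lit 18, nat_lit 15, nat_lit 0, nat_lit 17, nat_lit 23, nat_lit 20, nat_lit 26, nat_lit 24, nat_lit 25, nat_lit 25, nat_lit 28, nat_lit 27, nat_lit 27, nat_lit 29], []⟩, ⟨nat_lit 0, nat_lit 0, [nat_lit 21, nat_lit 1, nat_lit 0, nat_lit 25,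 nat_lit 20, nat_lit 25, nat_lit 25, nat_lit 29, nat_lit 27, nat_lit 29], []⟩, ⟨nat_lit 0, nat_lit 0, [nat_lit 5, nat_lit 1, nat_lit 17, nat_lit 22, nat_lit 20, nat_lit 23, nat_lit 22, nat_lit 28, nat_lit 27, nat_lit 27, nat_lit 29], []⟩, ⟨nat_lit 0, nat_lit 0, [nat_lit 20, nat_lit 12, nat_lit 0, nat_lit 24, nat_lit 17, nat_lit 17, nat_lit 20, nat_lit 21, nat_lit 27, nat_lit 22, nat_lit 22, nat_lit 27, nat_lit 26, nat_lit 27, nat_lit 29, nat_lit 29], []⟩, ⟨nat_lit 0, nat_lit 0, [nat_lit 13, nat_lit 10, nat_lit 4, nat_lit 25, nat_lit 18, nat_lit 28, nat_lit 20, nat_lit 26, nat_lit 22, nat_lit 29, nat_lit 25, nat_lit 29], []⟩, ⟨nat_lit 0, nat_lit 0, [nat_lit 15, nat_lit 12, nat_lit 24, nat_lit 17, nat_lit 29, nat_lit 25, nat_lit 29, nat_lit 27], []⟩, ⟨nat_lit 0, nat_lit 0, [nat_lit 13, nat_lit 21, nat_lit 0, nat_lit 18, nat_lit 19, nat_lit 22, nat_lit 22, nat_lit 20,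 nat_lit 27, nat_lit 26, nat_lit 29, nat_lit 27, nat_lit 29], []⟩, ⟨nat_lit 0, nat_lit 0, [nat_lit 14, nat_lit 29, nat_lit 4, nat_lit 27, nat_lit 17, nat_lit 22, nat_lit 22, nat_lit 20, nat_lit 24, nat_lit 22, nat_lit 29, nat_lit 25, nat_lit 29, nat_lit 29], []⟩, ⟨nat_lit 0, nat_lit 0, [nat_lit 10, nat_lit 3, nat_lit 20, nat_lit 18, nat_lit 23, nat_lit 20, nat_lit 22, nat_lit 24, nat_lit 27, nat_lit 26, nat_lit 29, nat_lit 28], []⟩, ⟨nat_lit 0, nat_lit 0, [nat_lit 13, nat_lit 2, nat_lit 24, nat_lit 17, nat_lit 23, nat_lit 20, nat_lit 26, nat_lit 22, nat_lit 25, nat_lit 26, nat_lit 28, nat_lit 27, nat_lit 27, nat_lit 29, nat_lit 29], []⟩, ⟨nat_lit 0, nat_lit 0, [nat_lit 22, nat_lit 3, nat_lit 2, nat_lit 25, nat_lit 18, nat_lit 28, nat_lit 20, nat_lit 26, nat_lit 22, nat_lit 22, nat_lit 25, nat_lit 29, nat_lit 27, nat_lit 29, nat_lit 29], []⟩, ⟨nat_lit 0, nat_lit 0,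 [nat_lit 11, nat_lit 7, nat_lit 1, nat_lit 20, nat_lit 17, nat_lit 20, nat_lit 20, nat_lit 27, nat_lit 24, nat_lit 25, nat_lit 27, nat_lit 27, nat_lit 29], []⟩, ⟨nat_lit 0, nat_lit 0, [nat_lit 9, nat_lit 14, nat_lit 20, nat_lit 22, nat_lit 24, nat_lit 25, nat_lit 28, nat_lit 29], []⟩, ⟨nat_lit 0, nat_lit 0, [nat_lit 24, nat_lit 21, nat_lit 1, nat_lit 19, nat_lit 23, nat_lit 20, nat_lit 25, nat_lit 25, nat_lit 27, nat_lit 27, nat_lit 29], []⟩, ⟨nat_lit 0, nat_lit 0, [nat_lit 20, nat_lit 15, nat_lit 0, nat_lit 17, nat_lit 18, nat_lit 23, nat_lit 20, nat_lit 23, nat_lit 22, nat_lit 25, nat_lit 28, nat_lit 27, nat_lit 27, nat_lit 29, nat_lit 29], []⟩, ⟨nat_lit 0, nat_lit 0, [nat_lit 7, nat_lit 3, nat_lit 18, nat_lit 20, nat_lit 20, nat_lit 22, nat_lit 22, nat_lit 29, nat_lit 25, nat_lit 25, nat_lit 27, nat_lit 27, nat_lit 29, nat_lit 29], []⟩, ⟨nat_lit 0, nat_lit 0,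 [nat_lit 6, nat_lit 28, nat_lit 0, nat_lit 22, nat_lit 19, nat_lit 22, nat_lit 22, nat_lit 20, nat_lit 24, nat_lit 29, nat_lit 25, nat_lit 25, nat_lit 27, nat_lit 29, nat_lit 29], []⟩, ⟨nat_lit 0, nat_lit 0, [nat_lit 27, nat_lit 11, nat_lit 2, nat_lit 24, nat_lit 17, nat_lit 20, nat_lit 20, nat_lit 23, nat_lit 22, nat_lit 25, nat_lit 25, nat_lit 28, nat_lit 27, nat_lit 27], []⟩, ⟨nat_lit 0, nat_lit 0, [nat_lit 21, nat_lit 6, nat_lit 3, nat_lit 20, nat_lit 18, nat_lit 26, nat_lit 21, nat_lit 27, nat_lit 26, nat_lit 27, nat_lit 29], []⟩, ⟨nat_lit 0, nat_lit 0, [nat_lit 5, nat_lit 3, nat_lit 24, nat_lit 17, nat_lit 17, nat_lit 21, nat_lit 20, nat_lit 26, nat_lit 22, nat_lit 22, nat_lit 25, nat_lit 26, nat_lit 29, nat_lit 27, nat_lit 29, nat_lit 29], []⟩, ⟨nat_lit 0, nat_lit 0, [nat_lit 19, nat_lit 11, nat_lit 20, nat_lit 20, nat_lit 23, nat_lit 22, nat_lit 25, nat_lit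 29, nat_lit 27, nat_lit 29], []⟩, ⟨nat_lit 0, nat_lit 0, [nat_lit 1, nat_lit 29, nat_lit 0, nat_lit 24, nat_lit 17, nat_lit 17, nat_lit 28, nat_lit 20, nat_lit 27, nat_lit 24, nat_lit 25], []⟩, ⟨nat_lit 0, nat_lit 0, [nat_lit 9, nat_lit 16, nat_lit 4, nat_lit 17, nat_lit 17, nat_lit 21, nat_lit 20, nat_lit 27, nat_lit 22, nat_lit 22, nat_lit 25, nat_lit 26, nat_lit 29, nat_lit 28, nat_lit 29, nat_lit 29], []⟩, ⟨nat_lit 0, nat_lit 0, [nat_lit 27, nat_lit 13, nat_lit 24, nat_lit 17, nat_lit 21, nat_lit 23, nat_lit 25, nat_lit 22, nat_lit 28], []⟩, ⟨nat_lit 0, nat_lit 0, [nat_lit 26, nat_lit 10, nat_lit 0, nat_lit 19, nat_lit 18, nat_lit 26, nat_lit 21, nat_lit 26, nat_lit 24, nat_lit 25, nat_lit 25, nat_lit 27, nat_lit 27], []⟩, ⟨nat_lit 0, nat_lit 0, [nat_lit 19, nat_lit 6, nat_lit 0, nat_lit 27, nat_lit 17, nat_lit 20, nat_lit 20, nat_lit 26, nat_lit 22, nat_lit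 22, nat_lit 29, nat_lit 25, nat_lit 29, nat_lit 29], []⟩]⟩

noncomputable def cB9 : CC := ⟨[[nat_lit 15, nat_lit 17, nat_lit 3, nat_lit 19, nat_lit 18, nat_lit 25, nat_lit 20, nat_lit 26, nat_lit 22, nat_lit 25, nat_lit 25, nat_lit 27, nat_lit 27, nat_lit 29, nat_lit 29], [nat_lit 22, nat_lit 22, nat_lit 0, nat_lit 24, nat_lit 17, nat_lit 17, nat_lit 21, nat_lit 20, nat_lit 26, nat_lit 22, nat_lit 22, nat_lit 27]], [(nat_lit 14316723603, []), (nat_lit 17572032200, [nat_lit 0, nat_lit 1, nat_lit 1, nat_lit 0, nat_lit 1]), (nat_lit 49565756427, [nat_lit 0, nat_lit 0]), (nat_lit 60065784787, [nat_lit 0, nat_lit 1, nat_lit 0]), (nat_lit 97204231261, [nat_lit 1, nat_lit 1, nat_lit 0, nat_lit 1]), (nat_lit 114944743588, [nat_lit 0, nat_lit 0, nat_lit 1, nat_lit 0, nat_lit 1, nat_lit 1]), (nat_lit 118457305708, [nat_lit 0, nat_lit 1]), (nat_lit 129869289897, [nat_lit 0,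 nat_lit 0, nat_lit 1, nat_lit 0]), (nat_lit 139056234414, [nat_lit 1]), (nat_lit 156687209813, [nat_lit 0, nat_lit 0, nat_lit 1, nat_lit 0, nat_lit 1]), (nat_lit 222884563241, [nat_lit 0, nat_lit 1, nat_lit 0, nat_lit 1]), (nat_lit 251431982649, [nat_lit 0, nat_lit 1, nat_lit 1]), (nat_lit 265831082445, [nat_lit 0, nat_lit 1, nat_lit 0, nat_lit 1, nat_lit 1]), (nat_lit 276060032713, [nat_lit 0, nat_lit 0, nat_lit 1]), (nat_lit 280747770984, [nat_lit 0, nat_lit 1, nat_lit 1, nat_lit 0]), (nat_lit 290996734416, [nat_lit 0, nat_lit 0, nat_lit 1, nat_lit 1]), (nat_lit 294588140594, [nat_lit 0, nat_lit 1, nat_lit 0, nat_lit 0]), (nat_lit 312804490141, [nat_lit 1, nat_lit 0]), (nat_lit 332673645230, [nat_lit 1, nat_lit 1, nat_lit 0]), (nat_lit 347927563678, [nat_lit 0, nat_lit 0, nat_lit 1, nat_lit 0, nat_lit 0]), (nat_lit 352787135670, [nat_lit 0, nat_lit 0, nat_lit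 1, nat_lit 1, nat_lit 0, nat_lit 1]), (nat_lit 371012338241, [nat_lit 0, nat_lit 0, nat_lit 1, nat_lit 1, nat_lit 0]), (nat_lit 378033947641, [nat_lit 1, nat_lit 0, nat_lit 1, nat_lit 1]), (nat_lit 409974411265, [nat_lit 1, nat_lit 0, nat_lit 1]), (nat_lit 416415305157, [nat_lit 1, nat_lit 1]), (nat_lit 428069005399, [nat_lit 0]), (nat_lit 447958078534, [nat_lit 1, nat_lit 0, nat_lit 0])],
  [⟨nat_lit 1, nat_lit 99, [], []⟩, ⟨nat_lit 2, nat_lit 0, [], []⟩, ⟨nat_lit 2, nat_lit 0, [nat_lit 16, nat_lit 12, nat_lit 18, nat_lit 20, nat_lit 26, nat_lit 22, nat_lit 26, nat_lit 27, nat_lit 27, nat_lit 29], []⟩, ⟨nat_lit 2, nat_lit 1, [], []⟩, ⟨nat_lit 1, nat_lit 2, [nat_lit 19, nat_lit 9, nat_lit 21, nat_lit 23, nat_lit 20, nat_lit 22, nat_lit 25, nat_lit 25, nat_lit 28, nat_lit 27, nat_lit 27], []⟩, ⟨nat_lit 1, nat_lit 4, [nat_lit 10, nat_lit 2, nat_lit 0, nat_lit 19,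 nat_lit 18, nat_lit 26, nat_lit 21, nat_lit 22, nat_lit 22, nat_lit 29, nat_lit 25, nat_lit 25, nat_lit 28, nat_lit 27, nat_lit 27, nat_lit 29, nat_lit 29], []⟩, ⟨nat_lit 1, nat_lit 2, [nat_lit 14, nat_lit 3, nat_lit 0, nat_lit 17, nat_lit 18, nat_lit 28, nat_lit 20, nat_lit 27, nat_lit 24, nat_lit 29, nat_lit 25, nat_lit 25, nat_lit 29, nat_lit 27, nat_lit 29], []⟩, ⟨nat_lit 1, nat_lit 3, [nat_lit 25, nat_lit 13, nat_lit 4, nat_lit 21, nat_lit 17, nat_lit 22, nat_lit 22, nat_lit 20, nat_lit 24, nat_lit 24, nat_lit 26, nat_lit 28, nat_lit 27, nat_lit 27], []⟩, ⟨nat_lit 1, nat_lit 3, [nat_lit 6, nat_lit 4, nat_lit 18, nat_lit 18, nat_lit 20, nat_lit 20, nat_lit 24, nat_lit 24, nat_lit 28, nat_lit 29, nat_lit 29], []⟩, ⟨nat_lit 1, nat_lit 3, [nat_lit 12, nat_lit 20, nat_lit 0, nat_lit 18, nat_lit 19, nat_lit 25, nat_lit 20, nat_lit 27, nat_lit 22, nat_lit 22, nat_lit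 25, nat_lit 29, nat_lit 27], []⟩, ⟨nat_lit 2, nat_lit 0, [nat_lit 0, nat_lit 27, nat_lit 0, nat_lit 24, nat_lit 19, nat_lit 26, nat_lit 21, nat_lit 20, nat_lit 27, nat_lit 24, nat_lit 27, nat_lit 26, nat_lit 27, nat_lit 29], []⟩, ⟨nat_lit 1, nat_lit 2, [nat_lit 14, nat_lit 3, nat_lit 0, nat_lit 21, nat_lit 17, nat_lit 20, nat_lit 21, nat_lit 26, nat_lit 22, nat_lit 26, nat_lit 27], []⟩, ⟨nat_lit 2, nat_lit 0, [nat_lit 22, nat_lit 22, nat_lit 0, nat_lit 24, nat_lit 17, nat_lit 17, nat_lit 21, nat_lit 20, nat_lit 26, nat_lit 22, nat_lit 22, nat_lit 27], []⟩, ⟨nat_lit 2, nat_lit 1, [nat_lit 22, nat_lit 22, nat_lit 0, nat_lit 24, nat_lit 17, nat_lit 17, nat_lit 21, nat_lit 20, nat_lit 26, nat_lit 22, nat_lit 22, nat_lit 27], []⟩, ⟨nat_lit 2, nat_lit 0, [nat_lit 0, nat_lit 10, nat_lit 24, nat_lit 17, nat_lit 25, nat_lit 22, nat_lit 27, nat_lit 26, nat_lit 29, nat_lit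 28, nat_lit 29], []⟩, ⟨nat_lit 2, nat_lit 0, [nat_lit 21, nat_lit 28, nat_lit 3, nat_lit 18, nat_lit 20, nat_lit 20, nat_lit 24, nat_lit 29, nat_lit 25, nat_lit 25, nat_lit 29, nat_lit 28, nat_lit 29], []⟩, ⟨nat_lit 1, nat_lit 3, [nat_lit 19, nat_lit 4, nat_lit 24, nat_lit 17, nat_lit 17, nat_lit 26, nat_lit 21, nat_lit 20, nat_lit 26, nat_lit 24, nat_lit 29, nat_lit 25, nat_lit 25, nat_lit 28, nat_lit 27, nat_lit 27], []⟩, ⟨nat_lit 1, nat_lit 2, [nat_lit 22, nat_lit 0, nat_lit 1, nat_lit 19, nat_lit 18, nat_lit 23, nat_lit 20, nat_lit 22, nat_lit 22, nat_lit 26, nat_lit 29, nat_lit 27, nat_lit 29, nat_lit 29], []⟩, ⟨nat_lit 1, nat_lit 2, [nat_lit 2, nat_lit 12, nat_lit 24, nat_lit 17, nat_lit 21, nat_lit 23, nat_lit 20, nat_lit 27, nat_lit 22, nat_lit 22, nat_lit 25, nat_lit 25, nat_lit 28, nat_lit 29, nat_lit 29], []⟩, ⟨nat_lit 1, nat_lit 2, [nat_lit 3, nat_lit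 10, nat_lit 3, nat_lit 20, nat_lit 18, nat_lit 26, nat_lit 20, nat_lit 22, nat_lit 22, nat_lit 25, nat_lit 28, nat_lit 27, nat_lit 27], []⟩, ⟨nat_lit 1, nat_lit 4, [nat_lit 27, nat_lit 6, nat_lit 27, nat_lit 17, nat_lit 20, nat_lit 26, nat_lit 22], []⟩, ⟨nat_lit 1, nat_lit 3, [nat_lit 14, nat_lit 26, nat_lit 0, nat_lit 21, nat_lit 23, nat_lit 20, nat_lit 27, nat_lit 26, nat_lit 27], []⟩, ⟨nat_lit 1, nat_lit 2, [nat_lit 26, nat_lit 1, nat_lit 2, nat_lit 18, nat_lit 20, nat_lit 20, nat_lit 24, nat_lit 24, nat_lit 29, nat_lit 28, nat_lit 29, nat_lit 29], []⟩, ⟨nat_lit 1, nat_lit 2, [nat_lit 19, nat_lit 16, nat_lit 2, nat_lit 24, nat_lit 17, nat_lit 22, nat_lit 22, nat_lit 20, nat_lit 27, nat_lit 24, nat_lit 29, nat_lit 25, nat_lit 27, nat_lit 29], []⟩, ⟨nat_lit 1, nat_lit 3, [nat_lit 17, nat_lit 9, nat_lit 24, nat_lit 19, nat_lit 21, nat_lit 20, nat_lit 26, nat_lit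 24, nat_lit 29, nat_lit 25, nat_lit 25, nat_lit 29, nat_lit 29], []⟩, ⟨nat_lit 1, nat_lit 2, [nat_lit 5, nat_lit 27, nat_lit 0, nat_lit 24, nat_lit 17, nat_lit 20, nat_lit 21, nat_lit 23, nat_lit 22, nat_lit 28, nat_lit 27, nat_lit 27, nat_lit 29, nat_lit 29], []⟩, ⟨nat_lit 2, nat_lit 1, [nat_lit 0, nat_lit 27, nat_lit 0, nat_lit 24, nat_lit 19, nat_lit 26, nat_lit 21, nat_lit 20, nat_lit 27, nat_lit 24, nat_lit 27, nat_lit 26, nat_lit 27, nat_lit 29], []⟩],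
  [rB9x0, rB9x1]⟩

noncomputable def cB10 : CC := ⟨[[nat_lit 24, nat_lit 6, nat_lit 0, nat_lit 25, nat_lit 18, nat_lit 28, nat_lit 20, nat_lit 26, nat_lit 22, nat_lit 27, nat_lit 26, nat_lit 27, nat_lit 27, nat_lit 29]], [(nat_lit 14316723603, []), (nat_lit 143271678219, [nat_lit 0]), (nat_lit 185481749823, [nat_lit 0, nat_lit 0])],
  [⟨nat_lit 1, nat_lit 99, [], []⟩, ⟨nat_lit 1, nat_lit 3, [nat_lit 25, nat_lit 13, nat_lit 4, nat_lit 27, nat_lit 17, nat_lit 21, nat_lit 23, nat_lit 20, nat_lit 28, nat_lit 22, nat_lit 26, nat_lit 29, nat_lit 28, nat_lit 29], []⟩, ⟨nat_lit 1, nat_lit 3, [nat_lit 7, nat_lit 1, nat_lit 24, nat_lit 17, nat_lit 28, nat_lit 20, nat_lit 26, nat_lit 22, nat_lit 22, nat_lit 25, nat_lit 29], []⟩],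
  []⟩

noncomputable def rB11x0 : RP := ⟨[nat_lit 14, nat_lit 16, nat_lit 22, nat_lit 19, nat_lit 20, nat_lit 26, nat_lit 22, nat_lit 27, nat_lit 26, nat_lit 28, nat_lit 27, nat_lit 27, nat_lit 29, nat_lit 29], [nat_lit 22, nat_lit 15, nat_lit 2, nat_lit 18, nat_lit 21, nat_lit 27, nat_lit 27, nat_lit 29, nat_lit 29], [⟨nat_lit 0, nat_lit 0, [nat_lit 13, nat_lit 24, nat_lit 5, nat_lit 18, nat_lit 18, nat_lit 23, nat_lit 20, nat_lit 23, nat_lit 25, nat_lit 22, nat_lit 25, nat_lit 26, nat_lit 29], []⟩, ⟨nat_lit 0, nat_lit 0, [nat_lit 29, nat_lit 13, nat_lit 22, nat_lit 19, nat_lit 26, nat_lit 21, nat_lit 20, nat_lit 22, nat_lit 29, nat_lit 25], []⟩, ⟨nat_lit 0, nat_lit 0, [nat_lit 18, nat_lit 10, nat_lit 19, nat_lit 18, nat_lit 20, nat_lit 20, nat_lit 24, nat_lit 25, nat_lit 25, nat_lit 29, nat_lit 28, nat_lit 29], []⟩, ⟨nat_lit 0, nat_lit 0, [nat_lit 13, nat_lit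 24, nat_lit 5, nat_lit 18, nat_lit 18, nat_lit 20, nat_lit 20, nat_lit 27, nat_lit 24, nat_lit 25, nat_lit 26, nat_lit 29, nat_lit 29], []⟩, ⟨nat_lit 0, nat_lit 0, [nat_lit 12, nat_lit 26, nat_lit 1, nat_lit 24, nat_lit 19, nat_lit 26, nat_lit 20, nat_lit 22, nat_lit 22, nat_lit 25, nat_lit 29, nat_lit 27, nat_lit 29, nat_lit 29], []⟩, ⟨nat_lit 0, nat_lit 0, [nat_lit 23, nat_lit 2, nat_lit 0, nat_lit 25, nat_lit 18, nat_lit 26, nat_lit 21, nat_lit 23, nat_lit 22, nat_lit 25, nat_lit 28, nat_lit 29, nat_lit 29], []⟩, ⟨nat_lit 0, nat_lit 0, [nat_lit 14, nat_lit 9, nat_lit 19, nat_lit 23, nat_lit 20, nat_lit 22, nat_lit 24, nat_lit 29, nat_lit 25, nat_lit 25, nat_lit 28], []⟩, ⟨nat_lit 0, nat_lit 0, [nat_lit 0, nat_lit 10, nat_lit 17, nat_lit 22, nat_lit 22, nat_lit 20, nat_lit 24, nat_lit 24, nat_lit 25, nat_lit 29, nat_lit 27], []⟩, ⟨nat_lit 0, nat_lit 0, [nat_lit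 28, nat_lit 11, nat_lit 0, nat_lit 18, nat_lit 20, nat_lit 20, nat_lit 24, nat_lit 22, nat_lit 27, nat_lit 26, nat_lit 29, nat_lit 29], []⟩, ⟨nat_lit 0, nat_lit 0, [nat_lit 22, nat_lit 9, nat_lit 17, nat_lit 21, nat_lit 23, nat_lit 25, nat_lit 22, nat_lit 29, nat_lit 25], []⟩, ⟨nat_lit 0, nat_lit 0, [nat_lit 9, nat_lit 16, nat_lit 4, nat_lit 19, nat_lit 18, nat_lit 20, nat_lit 21, nat_lit 24, nat_lit 22, nat_lit 28, nat_lit 29], []⟩, ⟨nat_lit 0, nat_lit 0, [nat_lit 2, nat_lit 10, nat_lit 0, nat_lit 18, nat_lit 29, nat_lit 20, nat_lit 22, nat_lit 22, nat_lit 29, nat_lit 25, nat_lit 29, nat_lit 27, nat_lit 29], []⟩, ⟨nat_lit 0, nat_lit 0, [nat_lit 10, nat_lit 1, nat_lit 19, nat_lit 18, nat_lit 23, nat_lit 20, nat_lit 22, nat_lit 22, nat_lit 25, nat_lit 28, nat_lit 27, nat_lit 27], []⟩, ⟨nat_lit 0, nat_lit 0, [nat_lit 10, nat_lit 2, nat_lit 1, nat_lit 27, nat_lit 17,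 nat_lit 22, nat_lit 20, nat_lit 22, nat_lit 24, nat_lit 25, nat_lit 25, nat_lit 27, nat_lit 27, nat_lit 29], []⟩, ⟨nat_lit 0, nat_lit 0, [nat_lit 28, nat_lit 1, nat_lit 0, nat_lit 24, nat_lit 19, nat_lit 20, nat_lit 21, nat_lit 26, nat_lit 22, nat_lit 22, nat_lit 26, nat_lit 27, nat_lit 29, nat_lit 29], []⟩, ⟨nat_lit 0, nat_lit 0, [nat_lit 29, nat_lit 13, nat_lit 22, nat_lit 19, nat_lit 21, nat_lit 23, nat_lit 22, nat_lit 29, nat_lit 25, nat_lit 27, nat_lit 27, nat_lit 29], []⟩, ⟨nat_lit 0, nat_lit 0, [nat_lit 22, nat_lit 2, nat_lit 1, nat_lit 17, nat_lit 26, nat_lit 21, nat_lit 23, nat_lit 22, nat_lit 26, nat_lit 28], []⟩, ⟨nat_lit 0, nat_lit 0, [nat_lit 15, nat_lit 1, nat_lit 27, nat_lit 17, nat_lit 24, nat_lit 22, nat_lit 29, nat_lit 25, nat_lit 28, nat_lit 27, nat_lit 27], []⟩, ⟨nat_lit 0, nat_lit 0, [nat_lit 13, nat_lit 9, nat_lit 25, nat_lit 18, nat_lit 23,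 nat_lit 20, nat_lit 26, nat_lit 22, nat_lit 27, nat_lit 26, nat_lit 29, nat_lit 28, nat_lit 29], []⟩, ⟨nat_lit 0, nat_lit 0, [nat_lit 12, nat_lit 26, nat_lit 1, nat_lit 24, nat_lit 19, nat_lit 29, nat_lit 20, nat_lit 27, nat_lit 22, nat_lit 22, nat_lit 29, nat_lit 25, nat_lit 25, nat_lit 28], []⟩, ⟨nat_lit 0, nat_lit 0, [nat_lit 1, nat_lit 29, nat_lit 1, nat_lit 22, nat_lit 19, nat_lit 26, nat_lit 21, nat_lit 22, nat_lit 25, nat_lit 26, nat_lit 28, nat_lit 27, nat_lit 27], []⟩, ⟨nat_lit 0, nat_lit 0, [nat_lit 22, nat_lit 9, nat_lit 0, nat_lit 25, nat_lit 18, nat_lit 22, nat_lit 20, nat_lit 22, nat_lit 22, nat_lit 25, nat_lit 28, nat_lit 27, nat_lit 27, nat_lit 29, nat_lit 29], []⟩, ⟨nat_lit 0, nat_lit 0, [nat_lit 22, nat_lit 9, nat_lit 17, nat_lit 26, nat_lit 20, nat_lit 23, nat_lit 25, nat_lit 22, nat_lit 29, nat_lit 25], []⟩, ⟨nat_lit 0, nat_lit 0, [nat_lit 0,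 nat_lit 10, nat_lit 17, nat_lit 28, nat_lit 20, nat_lit 27, nat_lit 24, nat_lit 27, nat_lit 26, nat_lit 27], []⟩, ⟨nat_lit 0, nat_lit 0, [nat_lit 2, nat_lit 15, nat_lit 0, nat_lit 19, nat_lit 18, nat_lit 26, nat_lit 20, nat_lit 25, nat_lit 22, nat_lit 25, nat_lit 26, nat_lit 29, nat_lit 29], []⟩, ⟨nat_lit 0, nat_lit 0, [nat_lit 22, nat_lit 2, nat_lit 1, nat_lit 17, nat_lit 20, nat_lit 27, nat_lit 22, nat_lit 22, nat_lit 29, nat_lit 28, nat_lit 29, nat_lit 29], []⟩, ⟨nat_lit 0, nat_lit 0, [nat_lit 15, nat_lit 1, nat_lit 27, nat_lit 17, nat_lit 21, nat_lit 27, nat_lit 22, nat_lit 22, nat_lit 27, nat_lit 26, nat_lit 27, nat_lit 27], []⟩, ⟨nat_lit 0, nat_lit 0, [nat_lit 28, nat_lit 11, nat_lit 0, nat_lit 18, nat_lit 29, nat_lit 20, nat_lit 25, nat_lit 26, nat_lit 28, nat_lit 27, nat_lit 27, nat_lit 29], []⟩, ⟨nat_lit 0, nat_lit 0, [nat_lit 9, nat_lit 16, nat_lit 4,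 nat_lit 19, nat_lit 18, nat_lit 20, nat_lit 24, nat_lit 24, nat_lit 28, nat_lit 29], []⟩, ⟨nat_lit 0, nat_lit 0, [nat_lit 10, nat_lit 2, nat_lit 1, nat_lit 27, nat_lit 17, nat_lit 20, nat_lit 21, nat_lit 25, nat_lit 22, nat_lit 25], []⟩, ⟨nat_lit 0, nat_lit 0, [nat_lit 21, nat_lit 17, nat_lit 0, nat_lit 20, nat_lit 18, nat_lit 22, nat_lit 22, nat_lit 20, nat_lit 22, nat_lit 24, nat_lit 25, nat_lit 26, nat_lit 27], []⟩, ⟨nat_lit 0, nat_lit 0, [nat_lit 13, nat_lit 9, nat_lit 25, nat_lit 18, nat_lit 28, nat_lit 20, nat_lit 26, nat_lit 24], []⟩, ⟨nat_lit 0, nat_lit 0, [nat_lit 2, nat_lit 13, nat_lit 3, nat_lit 19, nat_lit 18, nat_lit 21, nat_lit 23, nat_lit 20, nat_lit 22, nat_lit 24, nat_lit 25, nat_lit 26, nat_lit 29, nat_lit 28], []⟩, ⟨nat_lit 0, nat_lit 0, [nat_lit 2, nat_lit 25, nat_lit 12, nat_lit 22, nat_lit 19, nat_lit 20, nat_lit 26, nat_lit 22, nat_lit 26,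 nat_lit 28], []⟩, ⟨nat_lit 0, nat_lit 0, [nat_lit 2, nat_lit 25, nat_lit 12, nat_lit 22, nat_lit 19, nat_lit 26, nat_lit 21, nat_lit 24, nat_lit 24, nat_lit 25, nat_lit 25, nat_lit 29, nat_lit 27], []⟩, ⟨nat_lit 0, nat_lit 0, [nat_lit 25, nat_lit 12, nat_lit 2, nat_lit 18, nat_lit 19, nat_lit 25, nat_lit 20, nat_lit 27, nat_lit 26, nat_lit 29, nat_lit 27], []⟩, ⟨nat_lit 0, nat_lit 0, [nat_lit 18, nat_lit 10, nat_lit 19, nat_lit 18, nat_lit 26, nat_lit 20, nat_lit 27, nat_lit 24, nat_lit 29, nat_lit 25, nat_lit 29, nat_lit 28, nat_lit 29, nat_lit 29], []⟩, ⟨nat_lit 0, nat_lit 0, [nat_lit 25, nat_lit 12, nat_lit 2, nat_lit 18, nat_lit 19, nat_lit 20, nat_lit 25, nat_lit 22, nat_lit 26, nat_lit 29, nat_lit 28], []⟩, ⟨nat_lit 0, nat_lit 0, [nat_lit 10, nat_lit 1, nat_lit 19, nat_lit 18, nat_lit 21, nat_lit 20, nat_lit 24, nat_lit 22, nat_lit 27, nat_lit 26, nat_lit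 27, nat_lit 27, nat_lit 29, nat_lit 29], []⟩, ⟨nat_lit 0, nat_lit 0, [nat_lit 15, nat_lit 27, nat_lit 3, nat_lit 21, nat_lit 17, nat_lit 25, nat_lit 20, nat_lit 26, nat_lit 22, nat_lit 27, nat_lit 26, nat_lit 27, nat_lit 27, nat_lit 29], []⟩, ⟨nat_lit 0, nat_lit 0, [nat_lit 23, nat_lit 2, nat_lit 0, nat_lit 25, nat_lit 18, nat_lit 24, nat_lit 22, nat_lit 25, nat_lit 29, nat_lit 28, nat_lit 29, nat_lit 29], []⟩, ⟨nat_lit 0, nat_lit 0, [nat_lit 28, nat_lit 1, nat_lit 0, nat_lit 24, nat_lit 19, nat_lit 26, nat_lit 20, nat_lit 24, nat_lit 25, nat_lit 25, nat_lit 29, nat_lit 27], []⟩, ⟨nat_lit 0, nat_lit 0, [nat_lit 15, nat_lit 27, nat_lit 3, nat_lit 21, nat_lit 17, nat_lit 20, nat_lit 20, nat_lit 25, nat_lit 25, nat_lit 27, nat_lit 27, nat_lit 29, nat_lit 29], []⟩, ⟨nat_lit 0, nat_lit 0, [nat_lit 21, nat_lit 17, nat_lit 0, nat_lit 20, nat_lit 18, nat_lit 21, nat_lit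 23, nat_lit 22, nat_lit 25, nat_lit 29, nat_lit 27, nat_lit 29, nat_lit 29], []⟩, ⟨nat_lit 0, nat_lit 0, [nat_lit 1, nat_lit 29, nat_lit 1, nat_lit 22, nat_lit 19, nat_lit 23, nat_lit 20, nat_lit 22, nat_lit 22, nat_lit 25, nat_lit 25, nat_lit 27], []⟩, ⟨nat_lit 0, nat_lit 0, [nat_lit 22, nat_lit 9, nat_lit 0, nat_lit 25, nat_lit 18, nat_lit 27, nat_lit 24, nat_lit 27, nat_lit 26, nat_lit 29, nat_lit 28], []⟩, ⟨nat_lit 0, nat_lit 0, [nat_lit 3, nat_lit 2, nat_lit 19, nat_lit 18, nat_lit 23, nat_lit 20, nat_lit 23, nat_lit 22, nat_lit 26, nat_lit 27, nat_lit 27], []⟩, ⟨nat_lit 0, nat_lit 0, [nat_lit 14, nat_lit 9, nat_lit 19, nat_lit 20, nat_lit 28, nat_lit 22, nat_lit 29, nat_lit 25, nat_lit 28, nat_lit 29, nat_lit 29], []⟩, ⟨nat_lit 0, nat_lit 0, [nat_lit 3, nat_lit 2, nat_lit 19, nat_lit 18, nat_lit 26, nat_lit 21, nat_lit 25, nat_lit 22, nat_lit 27, nat_lit 29],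 []⟩, ⟨nat_lit 0, nat_lit 0, [nat_lit 2, nat_lit 13, nat_lit 3, nat_lit 19, nat_lit 18, nat_lit 25, nat_lit 20, nat_lit 27, nat_lit 24, nat_lit 29, nat_lit 25, nat_lit 29, nat_lit 28, nat_lit 29], []⟩, ⟨nat_lit 0, nat_lit 0, [nat_lit 2, nat_lit 15, nat_lit 0, nat_lit 19, nat_lit 18, nat_lit 22, nat_lit 22, nat_lit 20, nat_lit 27, nat_lit 24, nat_lit 29], []⟩, ⟨nat_lit 0, nat_lit 0, [nat_lit 2, nat_lit 10, nat_lit 0, nat_lit 18, nat_lit 21, nat_lit 25, nat_lit 22, nat_lit 28, nat_lit 27, nat_lit 27, nat_lit 29], []⟩, ⟨nat_lit 0, nat_lit 0, [nat_lit 22, nat_lit 2, nat_lit 0, nat_lit 19, nat_lit 18, nat_lit 25], []⟩, ⟨nat_lit 0, nat_lit 0, [nat_lit 22, nat_lit 2, nat_lit 0, nat_lit 19, nat_lit 18, nat_lit 26, nat_lit 21, nat_lit 20, nat_lit 26, nat_lit 22, nat_lit 29, nat_lit 25, nat_lit 25, nat_lit 27], []⟩]⟩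

noncomputable def rB11x1 : RP := ⟨[nat_lit 21, nat_lit 0, nat_lit 20, nat_lit 17, nat_lit 24, nat_lit 24, nat_lit 26, nat_lit 29, nat_lit 27, nat_lit 29], [nat_lit 0, nat_lit 19, nat_lit 5, nat_lit 19, nat_lit 18, nat_lit 23, nat_lit 20, nat_lit 22, nat_lit 24, nat_lit 29], [⟨nat_lit 0, nat_lit 0, [nat_lit 16, nat_lit 9, nat_lit 0, nat_lit 27, nat_lit 17, nat_lit 25, nat_lit 20, nat_lit 22, nat_lit 24, nat_lit 29, nat_lit 25, nat_lit 25, nat_lit 27, nat_lit 27, nat_lit 29, nat_lit 29], []⟩, ⟨nat_lit 0, nat_lit 0, [nat_lit 5, nat_lit 14, nat_lit 1, nat_lit 27, nat_lit 17, nat_lit 20, nat_lit 24, nat_lit 22, nat_lit 25, nat_lit 29, nat_lit 28, nat_lit 29], []⟩, ⟨nat_lit 0, nat_lit 0, [nat_lit 21, nat_lit 6, nat_lit 0, nat_lit 18, nat_lit 18, nat_lit 21, nat_lit 23, nat_lit 20, nat_lit 22, nat_lit 25, nat_lit 25, nat_lit 27, nat_lit 27, nat_lit 29, nat_lit 29], []⟩,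 ⟨nat_lit 0, nat_lit 0, [nat_lit 4, nat_lit 16, nat_lit 24, nat_lit 17, nat_lit 26, nat_lit 21, nat_lit 20, nat_lit 24, nat_lit 22, nat_lit 25, nat_lit 25, nat_lit 29, nat_lit 27, nat_lit 29], []⟩, ⟨nat_lit 0, nat_lit 0, [nat_lit 10, nat_lit 3, nat_lit 25, nat_lit 18, nat_lit 21, nat_lit 20, nat_lit 27, nat_lit 24, nat_lit 29, nat_lit 25, nat_lit 25], []⟩, ⟨nat_lit 0, nat_lit 0, [nat_lit 26, nat_lit 15, nat_lit 1, nat_lit 20, nat_lit 18, nat_lit 22, nat_lit 22, nat_lit 20, nat_lit 23, nat_lit 25, nat_lit 22, nat_lit 29, nat_lit 25, nat_lit 25, nat_lit 27, nat_lit 29, nat_lit 29], []⟩, ⟨nat_lit 0, nat_lit 0, [nat_lit 20, nat_lit 23, nat_lit 3, nat_lit 20, nat_lit 17, nat_lit 26, nat_lit 21, nat_lit 23, nat_lit 22, nat_lit 25, nat_lit 25, nat_lit 29, nat_lit 27, nat_lit 29, nat_lit 29], []⟩, ⟨nat_lit 0, nat_lit 0, [nat_lit 19, nat_lit 21, nat_lit 3, nat_lit 20, nat_lit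 17, nat_lit 26, nat_lit 21, nat_lit 20, nat_lit 23, nat_lit 22, nat_lit 29, nat_lit 25, nat_lit 27, nat_lit 29], []⟩, ⟨nat_lit 0, nat_lit 0, [nat_lit 16, nat_lit 25, nat_lit 9, nat_lit 17, nat_lit 17, nat_lit 26, nat_lit 21, nat_lit 28, nat_lit 22, nat_lit 27, nat_lit 26, nat_lit 27, nat_lit 27, nat_lit 29, nat_lit 29], []⟩, ⟨nat_lit 0, nat_lit 0, [nat_lit 25, nat_lit 16, nat_lit 2, nat_lit 27, nat_lit 17, nat_lit 20, nat_lit 21, nat_lit 28, nat_lit 22, nat_lit 29, nat_lit 25, nat_lit 29, nat_lit 27, nat_lit 29, nat_lit 29], []⟩, ⟨nat_lit 0, nat_lit 0, [nat_lit 26, nat_lit 1, nat_lit 24, nat_lit 17, nat_lit 22, nat_lit 22, nat_lit 20, nat_lit 24, nat_lit 29, nat_lit 25, nat_lit 28, nat_lit 29, nat_lit 29], []⟩, ⟨nat_lit 0, nat_lit 0, [nat_lit 24, nat_lit 4, nat_lit 27, nat_lit 17, nat_lit 26, nat_lit 21, nat_lit 20, nat_lit 27, nat_lit 24, nat_lit 25, nat_lit 27,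 nat_lit 27], []⟩, ⟨nat_lit 0, nat_lit 0, [nat_lit 21, nat_lit 9, nat_lit 22, nat_lit 19, nat_lit 25, nat_lit 20, nat_lit 26, nat_lit 24, nat_lit 25, nat_lit 25, nat_lit 29, nat_lit 29], []⟩, ⟨nat_lit 0, nat_lit 0, [nat_lit 21, nat_lit 29, nat_lit 0, nat_lit 20, nat_lit 17, nat_lit 20, nat_lit 20, nat_lit 25, nat_lit 22], []⟩, ⟨nat_lit 0, nat_lit 0, [nat_lit 0, nat_lit 12, nat_lit 3, nat_lit 25, nat_lit 18, nat_lit 20, nat_lit 26, nat_lit 22, nat_lit 22, nat_lit 29, nat_lit 25, nat_lit 25], []⟩, ⟨nat_lit 0, nat_lit 0, [nat_lit 9, nat_lit 15, nat_lit 2, nat_lit 17, nat_lit 21, nat_lit 22, nat_lit 27, nat_lit 26, nat_lit 28, nat_lit 27, nat_lit 27], []⟩, ⟨nat_lit 0, nat_lit 0, [nat_lit 23, nat_lit 7, nat_lit 18, nat_lit 23, nat_lit 20, nat_lit 25, nat_lit 26, nat_lit 27, nat_lit 27, nat_lit 29], []⟩, ⟨nat_lit 0, nat_lit 0, [nat_lit 26, nat_lit 11, nat_lit 19, nat_lit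 18, nat_lit 22, nat_lit 22, nat_lit 20, nat_lit 27], []⟩, ⟨nat_lit 0, nat_lit 0, [nat_lit 10, nat_lit 29, nat_lit 4, nat_lit 22, nat_lit 19, nat_lit 25, nat_lit 20, nat_lit 24, nat_lit 22, nat_lit 25, nat_lit 25, nat_lit 29, nat_lit 28, nat_lit 29, nat_lit 29], []⟩, ⟨nat_lit 0, nat_lit 0, [nat_lit 8, nat_lit 16, nat_lit 0, nat_lit 27, nat_lit 17, nat_lit 25, nat_lit 20, nat_lit 24, nat_lit 22, nat_lit 29, nat_lit 25, nat_lit 29, nat_lit 27], []⟩, ⟨nat_lit 0, nat_lit 0, [nat_lit 23, nat_lit 9, nat_lit 0, nat_lit 19, nat_lit 18, nat_lit 22, nat_lit 20, nat_lit 24, nat_lit 29, nat_lit 25, nat_lit 25, nat_lit 29, nat_lit 28], []⟩, ⟨nat_lit 0, nat_lit 0, [nat_lit 6, nat_lit 28, nat_lit 0, nat_lit 27, nat_lit 17, nat_lit 20, nat_lit 24, nat_lit 25, nat_lit 25, nat_lit 29, nat_lit 29], []⟩, ⟨nat_lit 0, nat_lit 0, [nat_lit 16, nat_lit 4, nat_lit 0, nat_lit 27, nat_lit 17,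 nat_lit 22, nat_lit 22, nat_lit 20, nat_lit 26, nat_lit 24, nat_lit 25, nat_lit 26, nat_lit 29, nat_lit 27, nat_lit 29], []⟩, ⟨nat_lit 0, nat_lit 0, [nat_lit 6, nat_lit 24, nat_lit 0, nat_lit 18, nat_lit 18, nat_lit 21, nat_lit 20, nat_lit 25, nat_lit 25, nat_lit 29, nat_lit 29], []⟩, ⟨nat_lit 0, nat_lit 0, [nat_lit 12, nat_lit 7, nat_lit 25, nat_lit 18, nat_lit 26, nat_lit 21, nat_lit 26, nat_lit 24, nat_lit 29, nat_lit 25, nat_lit 28, nat_lit 29, nat_lit 29], []⟩, ⟨nat_lit 0, nat_lit 0, [nat_lit 4, nat_lit 1, nat_lit 0, nat_lit 17, nat_lit 17, nat_lit 21, nat_lit 23, nat_lit 20, nat_lit 27, nat_lit 24, nat_lit 25, nat_lit 25, nat_lit 28, nat_lit 29], []⟩, ⟨nat_lit 0, nat_lit 0, [nat_lit 14, nat_lit 16, nat_lit 3, nat_lit 22, nat_lit 19, nat_lit 20, nat_lit 20, nat_lit 25, nat_lit 22, nat_lit 26, nat_lit 29, nat_lit 28, nat_lit 29], []⟩, ⟨nat_lit 0, nat_lit 0,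 [nat_lit 19, nat_lit 12, nat_lit 0, nat_lit 17, nat_lit 17, nat_lit 21, nat_lit 20, nat_lit 22, nat_lit 24, nat_lit 25, nat_lit 25, nat_lit 29, nat_lit 28, nat_lit 29, nat_lit 29], []⟩, ⟨nat_lit 0, nat_lit 0, [nat_lit 27, nat_lit 5, nat_lit 0, nat_lit 22, nat_lit 19, nat_lit 26, nat_lit 21, nat_lit 20, nat_lit 25, nat_lit 22, nat_lit 25, nat_lit 26, nat_lit 28, nat_lit 29, nat_lit 29], []⟩, ⟨nat_lit 0, nat_lit 0, [nat_lit 4, nat_lit 17, nat_lit 0, nat_lit 19, nat_lit 18, nat_lit 21, nat_lit 20, nat_lit 28, nat_lit 22, nat_lit 27, nat_lit 26, nat_lit 27, nat_lit 29], []⟩, ⟨nat_lit 0, nat_lit 0, [nat_lit 17, nat_lit 13, nat_lit 18, nat_lit 21, nat_lit 20, nat_lit 24, nat_lit 29, nat_lit 25, nat_lit 25, nat_lit 27, nat_lit 27, nat_lit 29], []⟩, ⟨nat_lit 0, nat_lit 0, [nat_lit 13, nat_lit 16, nat_lit 21, nat_lit 17, nat_lit 29, nat_lit 20, nat_lit 26, nat_lit 24, nat_lit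 29, nat_lit 25, nat_lit 27, nat_lit 29], []⟩, ⟨nat_lit 0, nat_lit 0, [nat_lit 27, nat_lit 2, nat_lit 0, nat_lit 19, nat_lit 18, nat_lit 26, nat_lit 22, nat_lit 27, nat_lit 26, nat_lit 27, nat_lit 27, nat_lit 29], []⟩, ⟨nat_lit 0, nat_lit 0, [nat_lit 17, nat_lit 1, nat_lit 0, nat_lit 22, nat_lit 19, nat_lit 25, nat_lit 20, nat_lit 22, nat_lit 25, nat_lit 25, nat_lit 28, nat_lit 29], []⟩, ⟨nat_lit 0, nat_lit 0, [nat_lit 2, nat_lit 25, nat_lit 1, nat_lit 27, nat_lit 17, nat_lit 20, nat_lit 28, nat_lit 22, nat_lit 29, nat_lit 25, nat_lit 27, nat_lit 27, nat_lit 29, nat_lit 29], []⟩, ⟨nat_lit 0, nat_lit 0, [nat_lit 27, nat_lit 5, nat_lit 2, nat_lit 25, nat_lit 18, nat_lit 28, nat_lit 20, nat_lit 23, nat_lit 22, nat_lit 29, nat_lit 25, nat_lit 25, nat_lit 29, nat_lit 28, nat_lit 29, nat_lit 29], []⟩, ⟨nat_lit 0, nat_lit 0, [nat_lit 13, nat_lit 19, nat_lit 26, nat_lit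 21, nat_lit 24, nat_lit 24, nat_lit 25, nat_lit 29, nat_lit 27, nat_lit 29, nat_lit 29], []⟩, ⟨nat_lit 0, nat_lit 0, [nat_lit 12, nat_lit 14, nat_lit 0, nat_lit 24, nat_lit 19, nat_lit 23, nat_lit 20, nat_lit 28, nat_lit 22, nat_lit 25, nat_lit 26, nat_lit 29, nat_lit 28], []⟩, ⟨nat_lit 0, nat_lit 0, [nat_lit 20, nat_lit 9, nat_lit 24, nat_lit 17, nat_lit 17, nat_lit 20, nat_lit 20, nat_lit 24, nat_lit 24, nat_lit 25, nat_lit 25, nat_lit 29, nat_lit 28, nat_lit 29, nat_lit 29], []⟩, ⟨nat_lit 0, nat_lit 0, [nat_lit 19, nat_lit 5, nat_lit 24, nat_lit 17, nat_lit 23, nat_lit 20, nat_lit 26, nat_lit 22, nat_lit 22, nat_lit 26, nat_lit 27, nat_lit 27, nat_lit 29, nat_lit 29], []⟩, ⟨nat_lit 0, nat_lit 0, [nat_lit 29, nat_lit 1, nat_lit 17, nat_lit 25, nat_lit 20, nat_lit 27, nat_lit 24, nat_lit 27, nat_lit 26, nat_lit 29, nat_lit 28], []⟩, ⟨nat_lit 0, nat_lit 0, [nat_lit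 14, nat_lit 5, nat_lit 27, nat_lit 17, nat_lit 22, nat_lit 22, nat_lit 20, nat_lit 27, nat_lit 22, nat_lit 22, nat_lit 27, nat_lit 26, nat_lit 28, nat_lit 27, nat_lit 27, nat_lit 29], []⟩, ⟨nat_lit 0, nat_lit 0, [nat_lit 27, nat_lit 16, nat_lit 0, nat_lit 21, nat_lit 17, nat_lit 20, nat_lit 21, nat_lit 27, nat_lit 22, nat_lit 22, nat_lit 29, nat_lit 25, nat_lit 28, nat_lit 27, nat_lit 27, nat_lit 29, nat_lit 29], []⟩, ⟨nat_lit 0, nat_lit 0, [nat_lit 19, nat_lit 14, nat_lit 0, nat_lit 24, nat_lit 19, nat_lit 22, nat_lit 22, nat_lit 20, nat_lit 22, nat_lit 24, nat_lit 27, nat_lit 26, nat_lit 28, nat_lit 29], []⟩, ⟨nat_lit 0, nat_lit 0, [nat_lit 10, nat_lit 12, nat_lit 0, nat_lit 17, nat_lit 17, nat_lit 29, nat_lit 20, nat_lit 26, nat_lit 24, nat_lit 25, nat_lit 25, nat_lit 27, nat_lit 29], []⟩, ⟨nat_lit 0, nat_lit 0, [nat_lit 12, nat_lit 14, nat_lit 18, nat_lit 26,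 nat_lit 24, nat_lit 29, nat_lit 27, nat_lit 29], []⟩, ⟨nat_lit 0, nat_lit 0, [nat_lit 3, nat_lit 29, nat_lit 1, nat_lit 22, nat_lit 19, nat_lit 22, nat_lit 22, nat_lit 20, nat_lit 24, nat_lit 29, nat_lit 25, nat_lit 25, nat_lit 27, nat_lit 29, nat_lit 29], []⟩, ⟨nat_lit 0, nat_lit 0, [nat_lit 16, nat_lit 9, nat_lit 20, nat_lit 18, nat_lit 26, nat_lit 20, nat_lit 22, nat_lit 24, nat_lit 25, nat_lit 26, nat_lit 29, nat_lit 28, nat_lit 29], []⟩, ⟨nat_lit 0, nat_lit 0, [nat_lit 29, nat_lit 3, nat_lit 24, nat_lit 17, nat_lit 17, nat_lit 21, nat_lit 20, nat_lit 26, nat_lit 22, nat_lit 29, nat_lit 25, nat_lit 29, nat_lit 27], []⟩, ⟨nat_lit 0, nat_lit 0, [nat_lit 4, nat_lit 11, nat_lit 21, nat_lit 17, nat_lit 28, nat_lit 20, nat_lit 27, nat_lit 22, nat_lit 22, nat_lit 29, nat_lit 25, nat_lit 25, nat_lit 28, nat_lit 27, nat_lit 27, nat_lit 29, nat_lit 29], []⟩, ⟨nat_lit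 0, nat_lit 0, [nat_lit 11, nat_lit 14, nat_lit 0, nat_lit 18, nat_lit 20, nat_lit 23, nat_lit 22, nat_lit 25, nat_lit 28, nat_lit 29], []⟩, ⟨nat_lit 0, nat_lit 0, [nat_lit 14, nat_lit 14, nat_lit 21, nat_lit 17, nat_lit 29, nat_lit 20, nat_lit 22, nat_lit 24, nat_lit 27, nat_lit 26, nat_lit 27, nat_lit 27, nat_lit 29], []⟩, ⟨nat_lit 0, nat_lit 0, [nat_lit 16, nat_lit 7, nat_lit 1, nat_lit 25, nat_lit 18, nat_lit 28, nat_lit 20, nat_lit 22, nat_lit 22, nat_lit 25, nat_lit 26, nat_lit 27, nat_lit 29], []⟩, ⟨nat_lit 0, nat_lit 0, [nat_lit 18, nat_lit 16, nat_lit 3, nat_lit 20, nat_lit 21, nat_lit 26, nat_lit 27, nat_lit 27, nat_lit 29, nat_lit 29], []⟩]⟩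

noncomputable def cB11 : CC := ⟨[[nat_lit 8, nat_lit 21, nat_lit 0, nat_lit 20, nat_lit 17, nat_lit 24, nat_lit 24, nat_lit 26, nat_lit 29, nat_lit 27, nat_lit 29], [nat_lit 6, nat_lit 21, nat_lit 0, nat_lit 20, nat_lit 17, nat_lit 24, nat_lit 24, nat_lit 26, nat_lit 29, nat_lit 27, nat_lit 29]], [(nat_lit 14316723603, []), (nat_lit 29698614855, [nat_lit 0, nat_lit 1, nat_lit 1]), (nat_lit 30247968114, [nat_lit 0, nat_lit 0, nat_lit 1]), (nat_lit 54455779601, [nat_lit 1, nat_lit 1]), (nat_lit 87416975141, [nat_lit 0, nat_lit 0]), (nat_lit 89065034918, [nat_lit 0, nat_lit 1]), (nat_lit 267536382127, [nat_lit 0, nat_lit 0, nat_lit 1, nat_lit 1]), (nat_lit 366969322006, [nat_lit 1]), (nat_lit 367518675265, [nat_lit 0])],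
  [⟨nat_lit 1, nat_lit 99, [], []⟩, ⟨nat_lit 1, nat_lit 1, [nat_lit 29, nat_lit 6, nat_lit 27, nat_lit 17, nat_lit 21, nat_lit 23, nat_lit 20, nat_lit 26, nat_lit 22, nat_lit 22, nat_lit 27, nat_lit 26, nat_lit 29, nat_lit 28], []⟩, ⟨nat_lit 1, nat_lit 0, [nat_lit 9, nat_lit 1, nat_lit 29, nat_lit 20, nat_lit 28, nat_lit 22, nat_lit 26, nat_lit 27, nat_lit 29], []⟩, ⟨nat_lit 2, nat_lit 0, [], []⟩, ⟨nat_lit 1, nat_lit 3, [nat_lit 29, nat_lit 26, nat_lit 0, nat_lit 21, nat_lit 17, nat_lit 26, nat_lit 21, nat_lit 26, nat_lit 22, nat_lit 25, nat_lit 27, nat_lit 29], []⟩, ⟨nat_lit 1, nat_lit 2, [nat_lit 27, nat_lit 16, nat_lit 3, nat_lit 19, nat_lit 18, nat_lit 26, nat_lit 21, nat_lit 20, nat_lit 27, nat_lit 24, nat_lit 25, nat_lit 26, nat_lit 29, nat_lit 29], []⟩, ⟨nat_lit 2, nat_lit 1, [], []⟩, ⟨nat_lit 1, nat_lit 2, [nat_lit 29, nat_lit 3, nat_lit 0, nat_lit 25, nat_lit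 18, nat_lit 26, nat_lit 21, nat_lit 25, nat_lit 22, nat_lit 25, nat_lit 26, nat_lit 27, nat_lit 29], []⟩, ⟨nat_lit 1, nat_lit 3, [nat_lit 26, nat_lit 13, nat_lit 3, nat_lit 20, nat_lit 21, nat_lit 26, nat_lit 22, nat_lit 22, nat_lit 29, nat_lit 25, nat_lit 25, nat_lit 27, nat_lit 27, nat_lit 29], []⟩],
  [rB11x0, rB11x1]⟩

noncomputable def rB12x0 : RP := ⟨[nat_lit 11, nat_lit 9, nat_lit 22, nat_lit 19, nat_lit 21, nat_lit 24, nat_lit 25, nat_lit 26, nat_lit 27, nat_lit 27, nat_lit 29, nat_lit 29], [nat_lit 13, nat_lit 16, nat_lit 21, nat_lit 17, nat_lit 29, nat_lit 20, nat_lit 22, nat_lit 22, nat_lit 25, nat_lit 25, nat_lit 29, nat_lit 27, nat_lit 29], [⟨nat_lit 0, nat_lit 0, [nat_lit 21, nat_lit 4, nat_lit 22, nat_lit 19, nat_lit 21, nat_lit 20, nat_lit 29, nat_lit 25, nat_lit 25, nat_lit 27, nat_lit 29, nat_lit 29], []⟩, ⟨nat_lit 0, nat_lit 0, [nat_lit 12, nat_lit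 4, nat_lit 21, nat_lit 17, nat_lit 20, nat_lit 23, nat_lit 25, nat_lit 22, nat_lit 28], []⟩, ⟨nat_lit 0, nat_lit 0, [nat_lit 13, nat_lit 29, nat_lit 1, nat_lit 17, nat_lit 17, nat_lit 23, nat_lit 20, nat_lit 22, nat_lit 25, nat_lit 25, nat_lit 29, nat_lit 27, nat_lit 29], []⟩, ⟨nat_lit 0, nat_lit 0, [nat_lit 2, nat_lit 3, nat_lit 0, nat_lit 23, nat_lit 20, nat_lit 26, nat_lit 22, nat_lit 22, nat_lit 27, nat_lit 26, nat_lit 28], []⟩, ⟨nat_lit 0, nat_lit 0, [nat_lit 12, nat_lit 1, nat_lit 0, nat_lit 22, nat_lit 19, nat_lit 20, nat_lit 21, nat_lit 22, nat_lit 22, nat_lit 25, nat_lit 26, nat_lit 28, nat_lit 29, nat_lit 29], []⟩, ⟨nat_lit 0, nat_lit 0, [nat_lit 25, nat_lit 7, nat_lit 17, nat_lit 18, nat_lit 28, nat_lit 20, nat_lit 27, nat_lit 22, nat_lit 22, nat_lit 26, nat_lit 28, nat_lit 27, nat_lit 27], []⟩, ⟨nat_lit 0, nat_lit 0, [nat_lit 4, nat_lit 27, nat_lit 0,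 nat_lit 24, nat_lit 17, nat_lit 26, nat_lit 24, nat_lit 26, nat_lit 29, nat_lit 28, nat_lit 29], []⟩, ⟨nat_lit 0, nat_lit 0, [nat_lit 21, nat_lit 1, nat_lit 0, nat_lit 18, nat_lit 19, nat_lit 28, nat_lit 20, nat_lit 26, nat_lit 24, nat_lit 25, nat_lit 26, nat_lit 29, nat_lit 28, nat_lit 29], []⟩, ⟨nat_lit 0, nat_lit 0, [nat_lit 19, nat_lit 3, nat_lit 20, nat_lit 18, nat_lit 22, nat_lit 22, nat_lit 20, nat_lit 24, nat_lit 22, nat_lit 29, nat_lit 25, nat_lit 25, nat_lit 27, nat_lit 29, nat_lit 29], []⟩, ⟨nat_lit 0, nat_lit 0, [nat_lit 13, nat_lit 9, nat_lit 17, nat_lit 17, nat_lit 22, nat_lit 22, nat_lit 20, nat_lit 24, nat_lit 22, nat_lit 27, nat_lit 26, nat_lit 29, nat_lit 28, nat_lit 29], []⟩, ⟨nat_lit 0, nat_lit 0, [nat_lit 8, nat_lit 22, nat_lit 0, nat_lit 21, nat_lit 20, nat_lit 27, nat_lit 24, nat_lit 29, nat_lit 25, nat_lit 25, nat_lit 28, nat_lit 27, nat_lit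 27], []⟩, ⟨nat_lit 0, nat_lit 0, [nat_lit 13, nat_lit 29, nat_lit 1, nat_lit 17, nat_lit 18, nat_lit 22, nat_lit 22, nat_lit 20, nat_lit 26, nat_lit 24, nat_lit 25, nat_lit 28, nat_lit 27, nat_lit 27, nat_lit 29, nat_lit 29], []⟩, ⟨nat_lit 0, nat_lit 0, [nat_lit 8, nat_lit 22, nat_lit 0, nat_lit 24, nat_lit 17, nat_lit 17, nat_lit 28, nat_lit 20, nat_lit 22, nat_lit 22, nat_lit 25, nat_lit 25, nat_lit 29, nat_lit 28], []⟩, ⟨nat_lit 0, nat_lit 0, [nat_lit 21, nat_lit 10, nat_lit 17, nat_lit 27, nat_lit 24, nat_lit 29, nat_lit 25, nat_lit 25, nat_lit 29, nat_lit 27], []⟩, ⟨nat_lit 0, nat_lit 0, [nat_lit 24, nat_lit 6, nat_lit 0, nat_lit 17, nat_lit 17, nat_lit 22, nat_lit 22, nat_lit 20, nat_lit 29, nat_lit 25, nat_lit 25, nat_lit 28, nat_lit 27, nat_lit 27, nat_lit 29, nat_lit 29], []⟩, ⟨nat_lit 0, nat_lit 0, [nat_lit 1, nat_lit 24, nat_lit 0, nat_lit 24, nat_lit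 17, nat_lit 26, nat_lit 20, nat_lit 22, nat_lit 24, nat_lit 25, nat_lit 25, nat_lit 27, nat_lit 29], []⟩, ⟨nat_lit 0, nat_lit 0, [nat_lit 27, nat_lit 29, nat_lit 0, nat_lit 24, nat_lit 17, nat_lit 22, nat_lit 22, nat_lit 20, nat_lit 22, nat_lit 22, nat_lit 25, nat_lit 25, nat_lit 29, nat_lit 28, nat_lit 29, nat_lit 29], []⟩, ⟨nat_lit 0, nat_lit 0, [nat_lit 26, nat_lit 12, nat_lit 0, nat_lit 24, nat_lit 19, nat_lit 25, nat_lit 20, nat_lit 24, nat_lit 29, nat_lit 25, nat_lit 25, nat_lit 29], []⟩, ⟨nat_lit 0, nat_lit 0, [nat_lit 1, nat_lit 11, nat_lit 1, nat_lit 21, nat_lit 17, nat_lit 22, nat_lit 20, nat_lit 24, nat_lit 24, nat_lit 27, nat_lit 26, nat_lit 29, nat_lit 29], []⟩, ⟨nat_lit 0, nat_lit 0, [nat_lit 10, nat_lit 29, nat_lit 4, nat_lit 24, nat_lit 17, nat_lit 22, nat_lit 22, nat_lit 20, nat_lit 22, nat_lit 24, nat_lit 26], []⟩, ⟨nat_lit 0, nat_lit 0, [nat_lit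 12, nat_lit 1, nat_lit 24, nat_lit 19, nat_lit 22, nat_lit 22, nat_lit 20, nat_lit 25, nat_lit 22, nat_lit 29, nat_lit 25, nat_lit 25, nat_lit 29, nat_lit 28, nat_lit 29, nat_lit 29], []⟩, ⟨nat_lit 0, nat_lit 0, [nat_lit 4, nat_lit 11, nat_lit 24, nat_lit 17, nat_lit 17, nat_lit 20, nat_lit 20, nat_lit 29, nat_lit 25, nat_lit 27, nat_lit 29, nat_lit 29], []⟩, ⟨nat_lit 0, nat_lit 0, [nat_lit 10, nat_lit 29, nat_lit 4, nat_lit 24, nat_lit 19, nat_lit 21, nat_lit 23, nat_lit 20, nat_lit 22, nat_lit 22, nat_lit 29, nat_lit 25, nat_lit 27, nat_lit 29, nat_lit 29], []⟩, ⟨nat_lit 0, nat_lit 0, [nat_lit 26, nat_lit 11, nat_lit 2, nat_lit 19, nat_lit 18, nat_lit 26, nat_lit 21, nat_lit 20, nat_lit 26, nat_lit 24, nat_lit 27, nat_lit 26, nat_lit 29], []⟩, ⟨nat_lit 0, nat_lit 0, [nat_lit 19, nat_lit 3, nat_lit 17, nat_lit 22, nat_lit 22, nat_lit 27], []⟩, ⟨nat_lit 0, nat_lit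 0, [nat_lit 20, nat_lit 22, nat_lit 0, nat_lit 17, nat_lit 28, nat_lit 20, nat_lit 23, nat_lit 22, nat_lit 29, nat_lit 25, nat_lit 29, nat_lit 29], []⟩, ⟨nat_lit 0, nat_lit 0, [nat_lit 19, nat_lit 6, nat_lit 0, nat_lit 25, nat_lit 18, nat_lit 23, nat_lit 20, nat_lit 26, nat_lit 22, nat_lit 22, nat_lit 29, nat_lit 28, nat_lit 29, nat_lit 29], []⟩, ⟨nat_lit 0, nat_lit 0, [nat_lit 10, nat_lit 16, nat_lit 1, nat_lit 18, nat_lit 22, nat_lit 22, nat_lit 20, nat_lit 22, nat_lit 22, nat_lit 26, nat_lit 29, nat_lit 28, nat_lit 29, nat_lit 29], []⟩, ⟨nat_lit 0, nat_lit 0, [nat_lit 27, nat_lit 29, nat_lit 0, nat_lit 18, nat_lit 29, nat_lit 20, nat_lit 23, nat_lit 22, nat_lit 25, nat_lit 27], []⟩, ⟨nat_lit 0, nat_lit 0, [nat_lit 8, nat_lit 21, nat_lit 1, nat_lit 24, nat_lit 17, nat_lit 20, nat_lit 21, nat_lit 23, nat_lit 25, nat_lit 22, nat_lit 27, nat_lit 26, nat_lit 28, nat_lit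 27, nat_lit 27], []⟩, ⟨nat_lit 0, nat_lit 0, [nat_lit 12, nat_lit 1, nat_lit 18, nat_lit 18, nat_lit 21, nat_lit 27, nat_lit 22, nat_lit 22, nat_lit 29, nat_lit 25, nat_lit 25, nat_lit 29], []⟩, ⟨nat_lit 0, nat_lit 0, [nat_lit 4, nat_lit 11, nat_lit 24, nat_lit 19, nat_lit 23, nat_lit 20, nat_lit 26, nat_lit 22, nat_lit 22, nat_lit 29, nat_lit 25, nat_lit 29, nat_lit 28, nat_lit 29, nat_lit 29], []⟩, ⟨nat_lit 0, nat_lit 0, [nat_lit 26, nat_lit 11, nat_lit 2, nat_lit 22, nat_lit 19, nat_lit 22, nat_lit 20, nat_lit 27, nat_lit 24, nat_lit 25, nat_lit 27, nat_lit 27, nat_lit 29], []⟩, ⟨nat_lit 0, nat_lit 0, [nat_lit 26, nat_lit 12, nat_lit 0, nat_lit 20, nat_lit 18, nat_lit 22, nat_lit 20, nat_lit 27, nat_lit 22, nat_lit 22, nat_lit 29, nat_lit 25, nat_lit 25], []⟩, ⟨nat_lit 0, nat_lit 0, [nat_lit 4, nat_lit 27, nat_lit 0, nat_lit 22, nat_lit 19, nat_lit 22, nat_lit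 25, nat_lit 26, nat_lit 29, nat_lit 29], []⟩, ⟨nat_lit 0, nat_lit 0, [nat_lit 24, nat_lit 6, nat_lit 0, nat_lit 27, nat_lit 17, nat_lit 26, nat_lit 20, nat_lit 24, nat_lit 22, nat_lit 25, nat_lit 25, nat_lit 29, nat_lit 28], []⟩, ⟨nat_lit 0, nat_lit 0, [nat_lit 8, nat_lit 21, nat_lit 1, nat_lit 18, nat_lit 21, nat_lit 20, nat_lit 24, nat_lit 24, nat_lit 28, nat_lit 27, nat_lit 27, nat_lit 29], []⟩, ⟨nat_lit 0, nat_lit 0, [nat_lit 1, nat_lit 24, nat_lit 0, nat_lit 22, nat_lit 20, nat_lit 24, nat_lit 22, nat_lit 29, nat_lit 25, nat_lit 25, nat_lit 28, nat_lit 29], []⟩, ⟨nat_lit 0, nat_lit 0, [nat_lit 20, nat_lit 22, nat_lit 0, nat_lit 25, nat_lit 20, nat_lit 29, nat_lit 25, nat_lit 27, nat_lit 27, nat_lit 29, nat_lit 29], []⟩, ⟨nat_lit 0, nat_lit 0, [nat_lit 10, nat_lit 16, nat_lit 1, nat_lit 20, nat_lit 18, nat_lit 25, nat_lit 20, nat_lit 26, nat_lit 22, nat_lit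 22, nat_lit 25, nat_lit 25, nat_lit 29], []⟩, ⟨nat_lit 0, nat_lit 0, [nat_lit 1, nat_lit 11, nat_lit 1, nat_lit 21, nat_lit 23, nat_lit 20, nat_lit 22, nat_lit 29, nat_lit 25, nat_lit 28, nat_lit 27, nat_lit 27, nat_lit 29], []⟩, ⟨nat_lit 0, nat_lit 0, [nat_lit 12, nat_lit 4, nat_lit 20, nat_lit 18, nat_lit 26, nat_lit 20, nat_lit 27, nat_lit 24, nat_lit 26, nat_lit 27], []⟩, ⟨nat_lit 0, nat_lit 0, [nat_lit 19, nat_lit 7, nat_lit 17, nat_lit 17, nat_lit 20, nat_lit 21, nat_lit 27, nat_lit 24, nat_lit 25, nat_lit 27, nat_lit 29, nat_lit 29], []⟩, ⟨nat_lit 0, nat_lit 0, [nat_lit 2, nat_lit 3, nat_lit 0, nat_lit 25, nat_lit 18, nat_lit 28, nat_lit 20, nat_lit 28, nat_lit 22, nat_lit 29, nat_lit 25, nat_lit 28, nat_lit 29, nat_lit 29], []⟩, ⟨nat_lit 0, nat_lit 0, [nat_lit 21, nat_lit 4, nat_lit 21, nat_lit 17, nat_lit 20, nat_lit 25, nat_lit 22, nat_lit 25], []⟩, ⟨nat_lit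 0, nat_lit 0, [nat_lit 25, nat_lit 7, nat_lit 18, nat_lit 19, nat_lit 26, nat_lit 21, nat_lit 26, nat_lit 22, nat_lit 22, nat_lit 29, nat_lit 25, nat_lit 27, nat_lit 29], []⟩, ⟨nat_lit 0, nat_lit 0, [nat_lit 12, nat_lit 1, nat_lit 0, nat_lit 17, nat_lit 17, nat_lit 26, nat_lit 21, nat_lit 24, nat_lit 24, nat_lit 25, nat_lit 26, nat_lit 27, nat_lit 27, nat_lit 29, nat_lit 29], []⟩, ⟨nat_lit 0, nat_lit 0, [nat_lit 19, nat_lit 6, nat_lit 0, nat_lit 18, nat_lit 19, nat_lit 23, nat_lit 20, nat_lit 26, nat_lit 24, nat_lit 26, nat_lit 29, nat_lit 27, nat_lit 29], []⟩, ⟨nat_lit 0, nat_lit 0, [nat_lit 13, nat_lit 9, nat_lit 22, nat_lit 19, nat_lit 23, nat_lit 20, nat_lit 26, nat_lit 22, nat_lit 22, nat_lit 29, nat_lit 25, nat_lit 25, nat_lit 29, nat_lit 27], []⟩, ⟨nat_lit 0, nat_lit 0, [nat_lit 20, nat_lit 16, nat_lit 1, nat_lit 18, nat_lit 19, nat_lit 21, nat_lit 23, nat_lit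 20, nat_lit 27, nat_lit 24, nat_lit 25, nat_lit 29], []⟩, ⟨nat_lit 0, nat_lit 0, [nat_lit 19, nat_lit 7, nat_lit 25, nat_lit 18, nat_lit 28, nat_lit 20, nat_lit 27, nat_lit 24, nat_lit 29, nat_lit 25, nat_lit 29, nat_lit 28, nat_lit 29], []⟩, ⟨nat_lit 0, nat_lit 0, [nat_lit 21, nat_lit 10, nat_lit 24, nat_lit 17, nat_lit 17, nat_lit 20, nat_lit 20, nat_lit 22, nat_lit 22, nat_lit 25, nat_lit 25, nat_lit 28, nat_lit 29, nat_lit 29], []⟩, ⟨nat_lit 0, nat_lit 0, [nat_lit 21, nat_lit 1, nat_lit 0, nat_lit 24, nat_lit 17, nat_lit 26, nat_lit 21, nat_lit 20, nat_lit 24, nat_lit 27, nat_lit 26, nat_lit 28, nat_lit 29, nat_lit 29], []⟩, ⟨nat_lit 0, nat_lit 0, [nat_lit 20, nat_lit 16, nat_lit 1, nat_lit 21, nat_lit 17, nat_lit 20, nat_lit 21, nat_lit 23, nat_lit 22], []⟩]⟩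

noncomputable def rB12x1 : RP := ⟨[nat_lit 5, nat_lit 14, nat_lit 1, nat_lit 21, nat_lit 17, nat_lit 21, nat_lit 20, nat_lit 25, nat_lit 22, nat_lit 25, nat_lit 26, nat_lit 27, nat_lit 27], [nat_lit 11, nat_lit 14, nat_lit 0, nat_lit 17, nat_lit 20, nat_lit 21, nat_lit 26, nat_lit 22, nat_lit 22], [⟨nat_lit 0, nat_lit 0, [nat_lit 20, nat_lit 13, nat_lit 5, nat_lit 22, nat_lit 19, nat_lit 23, nat_lit 20, nat_lit 23, nat_lit 22, nat_lit 25, nat_lit 26, nat_lit 28, nat_lit 29], []⟩, ⟨nat_lit 0, nat_lit 0, [nat_lit 20, nat_lit 11, nat_lit 22, nat_lit 19, nat_lit 20, nat_lit 21, nat_lit 28, nat_lit 22, nat_lit 26, nat_lit 28, nat_lit 29], []⟩, ⟨nat_lit 0, nat_lit 0, [nat_lit 13, nat_lit 2, nat_lit 21, nat_lit 17, nat_lit 23, nat_lit 20, nat_lit 27, nat_lit 24, nat_lit 29, nat_lit 25, nat_lit 25, nat_lit 27], []⟩, ⟨nat_lit 0, nat_lit 0, [nat_lit 9, nat_lit 7, nat_lit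 3, nat_lit 18, nat_lit 18, nat_lit 26, nat_lit 21, nat_lit 20, nat_lit 24, nat_lit 22, nat_lit 29, nat_lit 28, nat_lit 29, nat_lit 29], []⟩, ⟨nat_lit 2, nat_lit 2, [nat_lit 15, nat_lit 5, nat_lit 2, nat_lit 17, nat_lit 18, nat_lit 23, nat_lit 22, nat_lit 29, nat_lit 25, nat_lit 27, nat_lit 27, nat_lit 29, nat_lit 29], [nat_lit 4, nat_lit 1, nat_lit 0, nat_lit 20, nat_lit 17, nat_lit 20, nat_lit 29, nat_lit 29]⟩, ⟨nat_lit 0, nat_lit 0, [nat_lit 24, nat_lit 2, nat_lit 17, nat_lit 17, nat_lit 23, nat_lit 20, nat_lit 25, nat_lit 22, nat_lit 29, nat_lit 25, nat_lit 29, nat_lit 28, nat_lit 29], []⟩, ⟨nat_lit 0, nat_lit 0, [nat_lit 25, nat_lit 17, nat_lit 0, nat_lit 20, nat_lit 18, nat_lit 25, nat_lit 20, nat_lit 24, nat_lit 22, nat_lit 26, nat_lit 28, nat_lit 29], []⟩, ⟨nat_lit 0, nat_lit 0, [nat_lit 5, nat_lit 12, nat_lit 22, nat_lit 19, nat_lit 23, nat_lit 22, nat_lit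 25, nat_lit 26, nat_lit 27, nat_lit 29], []⟩, ⟨nat_lit 0, nat_lit 0, [nat_lit 23, nat_lit 2, nat_lit 0, nat_lit 17, nat_lit 18, nat_lit 26, nat_lit 21, nat_lit 20, nat_lit 26, nat_lit 24], []⟩, ⟨nat_lit 0, nat_lit 0, [nat_lit 12, nat_lit 13, nat_lit 22, nat_lit 19, nat_lit 21, nat_lit 27, nat_lit 24, nat_lit 29, nat_lit 25, nat_lit 28, nat_lit 29], []⟩, ⟨nat_lit 0, nat_lit 0, [nat_lit 22, nat_lit 19, nat_lit 0, nat_lit 24, nat_lit 17, nat_lit 26, nat_lit 20, nat_lit 25, nat_lit 22, nat_lit 26, nat_lit 27, nat_lit 27, nat_lit 29], []⟩, ⟨nat_lit 0, nat_lit 0, [nat_lit 26, nat_lit 1, nat_lit 2, nat_lit 24, nat_lit 17, nat_lit 20, nat_lit 20, nat_lit 22, nat_lit 29, nat_lit 25, nat_lit 28, nat_lit 27, nat_lit 27], []⟩, ⟨nat_lit 0, nat_lit 0, [nat_lit 14, nat_lit 1, nat_lit 17, nat_lit 17, nat_lit 26, nat_lit 20, nat_lit 26, nat_lit 22, nat_lit 25, nat_lit 25, nat_lit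 28, nat_lit 29], []⟩, ⟨nat_lit 0, nat_lit 0, [nat_lit 13, nat_lit 0, nat_lit 19, nat_lit 18, nat_lit 29, nat_lit 20, nat_lit 25, nat_lit 22, nat_lit 29, nat_lit 25, nat_lit 28], []⟩, ⟨nat_lit 0, nat_lit 0, [nat_lit 12, nat_lit 17, nat_lit 0, nat_lit 20, nat_lit 17, nat_lit 21, nat_lit 22, nat_lit 22, nat_lit 25, nat_lit 26, nat_lit 29, nat_lit 27], []⟩, ⟨nat_lit 0, nat_lit 0, [nat_lit 24, nat_lit 21, nat_lit 0, nat_lit 25, nat_lit 18, nat_lit 21, nat_lit 23, nat_lit 20, nat_lit 22, nat_lit 24, nat_lit 29, nat_lit 25, nat_lit 29, nat_lit 27, nat_lit 29], []⟩, ⟨nat_lit 0, nat_lit 0, [nat_lit 23, nat_lit 12, nat_lit 20, nat_lit 17, nat_lit 21, nat_lit 27, nat_lit 22, nat_lit 22, nat_lit 29, nat_lit 25, nat_lit 28, nat_lit 27, nat_lit 27, nat_lit 29, nat_lit 29], []⟩, ⟨nat_lit 0, nat_lit 0, [nat_lit 11, nat_lit 27, nat_lit 3, nat_lit 20, nat_lit 17, nat_lit 21, nat_lit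 22, nat_lit 25, nat_lit 27, nat_lit 29], []⟩, ⟨nat_lit 0, nat_lit 0, [nat_lit 20, nat_lit 2, nat_lit 1, nat_lit 18, nat_lit 18, nat_lit 20, nat_lit 26, nat_lit 22, nat_lit 22, nat_lit 29, nat_lit 25, nat_lit 25, nat_lit 27, nat_lit 27, nat_lit 29, nat_lit 29], []⟩, ⟨nat_lit 0, nat_lit 0, [nat_lit 29, nat_lit 12, nat_lit 1, nat_lit 20, nat_lit 17, nat_lit 26, nat_lit 21, nat_lit 20, nat_lit 25, nat_lit 22, nat_lit 29, nat_lit 25, nat_lit 25, nat_lit 28], []⟩, ⟨nat_lit 0, nat_lit 0, [nat_lit 10, nat_lit 12, nat_lit 0, nat_lit 19, nat_lit 21, nat_lit 23, nat_lit 20, nat_lit 24, nat_lit 22, nat_lit 29, nat_lit 25, nat_lit 25, nat_lit 29, nat_lit 28, nat_lit 29, nat_lit 29], []⟩, ⟨nat_lit 0, nat_lit 0, [nat_lit 25, nat_lit 11, nat_lit 19, nat_lit 21, nat_lit 23, nat_lit 20, nat_lit 28, nat_lit 22, nat_lit 25, nat_lit 26, nat_lit 27, nat_lit 29], []⟩, ⟨nat_lit 0, nat_lit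 0, [nat_lit 11, nat_lit 5, nat_lit 0, nat_lit 19, nat_lit 20, nat_lit 21, nat_lit 25, nat_lit 27, nat_lit 27, nat_lit 29, nat_lit 29], []⟩, ⟨nat_lit 0, nat_lit 0, [nat_lit 19, nat_lit 5, nat_lit 2, nat_lit 18, nat_lit 28, nat_lit 22, nat_lit 29, nat_lit 25], []⟩, ⟨nat_lit 0, nat_lit 0, [nat_lit 7, nat_lit 2, nat_lit 18, nat_lit 18, nat_lit 20, nat_lit 20, nat_lit 28, nat_lit 22, nat_lit 25, nat_lit 25, nat_lit 27, nat_lit 27, nat_lit 29], []⟩, ⟨nat_lit 0, nat_lit 0, [nat_lit 29, nat_lit 4, nat_lit 5, nat_lit 20, nat_lit 17, nat_lit 23, nat_lit 20, nat_lit 24, nat_lit 24, nat_lit 25, nat_lit 26, nat_lit 27, nat_lit 29], []⟩, ⟨nat_lit 0, nat_lit 0, [nat_lit 22, nat_lit 11, nat_lit 20, nat_lit 17, nat_lit 25, nat_lit 20, nat_lit 27, nat_lit 24, nat_lit 25, nat_lit 28], []⟩, ⟨nat_lit 0, nat_lit 0, [nat_lit 25, nat_lit 9, nat_lit 3, nat_lit 18, nat_lit 19, nat_lit 28,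 nat_lit 20, nat_lit 25, nat_lit 22, nat_lit 25, nat_lit 25, nat_lit 28, nat_lit 29], []⟩, ⟨nat_lit 0, nat_lit 0, [nat_lit 26, nat_lit 13, nat_lit 3, nat_lit 24, nat_lit 17, nat_lit 17, nat_lit 21, nat_lit 20, nat_lit 27, nat_lit 22, nat_lit 22, nat_lit 25, nat_lit 29, nat_lit 28, nat_lit 29], []⟩, ⟨nat_lit 0, nat_lit 0, [nat_lit 28, nat_lit 13, nat_lit 0, nat_lit 20, nat_lit 17, nat_lit 20, nat_lit 25, nat_lit 22, nat_lit 28], []⟩, ⟨nat_lit 2, nat_lit 2, [nat_lit 9, nat_lit 16, nat_lit 0, nat_lit 21, nat_lit 17, nat_lit 22, nat_lit 22, nat_lit 20, nat_lit 22, nat_lit 22, nat_lit 25, nat_lit 27, nat_lit 29, nat_lit 29], [nat_lit 4, nat_lit 1, nat_lit 0, nat_lit 20, nat_lit 17, nat_lit 20, nat_lit 29, nat_lit 29]⟩, ⟨nat_lit 0, nat_lit 0, [nat_lit 11, nat_lit 2, nat_lit 0, nat_lit 24, nat_lit 17, nat_lit 17, nat_lit 20, nat_lit 21, nat_lit 26, nat_lit 24, nat_lit 29,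 nat_lit 25, nat_lit 25, nat_lit 28, nat_lit 29], []⟩, ⟨nat_lit 0, nat_lit 0, [nat_lit 15, nat_lit 11, nat_lit 27, nat_lit 17, nat_lit 22, nat_lit 20, nat_lit 26, nat_lit 27], []⟩, ⟨nat_lit 0, nat_lit 0, [nat_lit 21, nat_lit 6, nat_lit 2, nat_lit 19, nat_lit 18, nat_lit 22, nat_lit 24, nat_lit 27, nat_lit 27, nat_lit 29, nat_lit 29], []⟩, ⟨nat_lit 0, nat_lit 0, [nat_lit 14, nat_lit 9, nat_lit 1, nat_lit 17, nat_lit 18, nat_lit 26, nat_lit 21, nat_lit 23, nat_lit 22, nat_lit 29, nat_lit 28, nat_lit 29], []⟩, ⟨nat_lit 0, nat_lit 0, [nat_lit 6, nat_lit 4, nat_lit 24, nat_lit 17, nat_lit 17, nat_lit 21, nat_lit 23, nat_lit 20, nat_lit 27, nat_lit 22, nat_lit 22, nat_lit 29, nat_lit 25, nat_lit 25, nat_lit 29, nat_lit 28], []⟩, ⟨nat_lit 2, nat_lit 2, [nat_lit 28, nat_lit 15, nat_lit 0, nat_lit 24, nat_lit 19, nat_lit 27, nat_lit 24, nat_lit 25, nat_lit 26, nat_lit 29,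 nat_lit 27], [nat_lit 4, nat_lit 1, nat_lit 0, nat_lit 20, nat_lit 17, nat_lit 20, nat_lit 29, nat_lit 29]⟩, ⟨nat_lit 0, nat_lit 0, [nat_lit 6, nat_lit 1, nat_lit 17, nat_lit 18, nat_lit 26, nat_lit 21, nat_lit 20, nat_lit 24, nat_lit 27, nat_lit 26, nat_lit 28, nat_lit 29, nat_lit 29], []⟩, ⟨nat_lit 0, nat_lit 0, [nat_lit 17, nat_lit 3, nat_lit 1, nat_lit 24, nat_lit 19, nat_lit 22, nat_lit 22, nat_lit 20, nat_lit 23, nat_lit 22, nat_lit 25, nat_lit 26, nat_lit 27, nat_lit 27], []⟩, ⟨nat_lit 0, nat_lit 0, [nat_lit 5, nat_lit 3, nat_lit 18, nat_lit 18, nat_lit 20, nat_lit 28, nat_lit 22, nat_lit 25, nat_lit 26, nat_lit 28, nat_lit 29], []⟩, ⟨nat_lit 0, nat_lit 0, [nat_lit 29, nat_lit 0, nat_lit 18, nat_lit 27, nat_lit 22, nat_lit 22, nat_lit 27, nat_lit 26, nat_lit 29, nat_lit 27], []⟩, ⟨nat_lit 0, nat_lit 0, [nat_lit 8, nat_lit 25, nat_lit 3, nat_lit 17, nat_lit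 18, nat_lit 20, nat_lit 20, nat_lit 23, nat_lit 22, nat_lit 25, nat_lit 26, nat_lit 28, nat_lit 27, nat_lit 27, nat_lit 29], []⟩, ⟨nat_lit 2, nat_lit 2, [nat_lit 1, nat_lit 11, nat_lit 17, nat_lit 17, nat_lit 26, nat_lit 20, nat_lit 22, nat_lit 26, nat_lit 27], [nat_lit 4, nat_lit 1, nat_lit 0, nat_lit 20, nat_lit 17, nat_lit 20, nat_lit 29, nat_lit 29]⟩, ⟨nat_lit 0, nat_lit 0, [nat_lit 10, nat_lit 2, nat_lit 1, nat_lit 18, nat_lit 26, nat_lit 21, nat_lit 26, nat_lit 22, nat_lit 29, nat_lit 25, nat_lit 25, nat_lit 29, nat_lit 29], []⟩, ⟨nat_lit 0, nat_lit 0, [nat_lit 9, nat_lit 6, nat_lit 27, nat_lit 17, nat_lit 23, nat_lit 20, nat_lit 23, nat_lit 22, nat_lit 27, nat_lit 26, nat_lit 28, nat_lit 29], []⟩, ⟨nat_lit 2, nat_lit 2, [nat_lit 10, nat_lit 2, nat_lit 0, nat_lit 24, nat_lit 17, nat_lit 28, nat_lit 20, nat_lit 24, nat_lit 22, nat_lit 29, nat_lit 25, nat_lit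 25, nat_lit 29, nat_lit 27], [nat_lit 4, nat_lit 1, nat_lit 0, nat_lit 20, nat_lit 17, nat_lit 20, nat_lit 29, nat_lit 29]⟩, ⟨nat_lit 0, nat_lit 0, [nat_lit 18, nat_lit 11, nat_lit 0, nat_lit 24, nat_lit 17, nat_lit 17, nat_lit 22, nat_lit 20, nat_lit 28, nat_lit 22, nat_lit 27, nat_lit 29], []⟩, ⟨nat_lit 0, nat_lit 0, [nat_lit 25, nat_lit 4, nat_lit 24, nat_lit 17, nat_lit 22, nat_lit 20, nat_lit 26, nat_lit 22, nat_lit 26, nat_lit 27, nat_lit 27, nat_lit 29], []⟩, ⟨nat_lit 0, nat_lit 0, [nat_lit 11, nat_lit 13, nat_lit 21, nat_lit 17, nat_lit 20, nat_lit 20, nat_lit 24, nat_lit 25, nat_lit 26, nat_lit 29, nat_lit 29], []⟩, ⟨nat_lit 0, nat_lit 0, [nat_lit 23, nat_lit 15, nat_lit 24, nat_lit 19, nat_lit 20, nat_lit 20, nat_lit 26, nat_lit 22, nat_lit 25, nat_lit 25, nat_lit 28, nat_lit 27, nat_lit 27, nat_lit 29], []⟩, ⟨nat_lit 0, nat_lit 0, [nat_lit 7, nat_lit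 15, nat_lit 2, nat_lit 18, nat_lit 19, nat_lit 22, nat_lit 22, nat_lit 20, nat_lit 27, nat_lit 24, nat_lit 27, nat_lit 27, nat_lit 29, nat_lit 29], []⟩, ⟨nat_lit 0, nat_lit 0, [nat_lit 25, nat_lit 6, nat_lit 4, nat_lit 17, nat_lit 17, nat_lit 21, nat_lit 22, nat_lit 26, nat_lit 28, nat_lit 27, nat_lit 27], []⟩, ⟨nat_lit 0, nat_lit 0, [nat_lit 19, nat_lit 1, nat_lit 19, nat_lit 18, nat_lit 22, nat_lit 22, nat_lit 20, nat_lit 25, nat_lit 29, nat_lit 29], []⟩, ⟨nat_lit 2, nat_lit 2, [nat_lit 10, nat_lit 17, nat_lit 29, nat_lit 20, nat_lit 23, nat_lit 25, nat_lit 22, nat_lit 25, nat_lit 26, nat_lit 27, nat_lit 27], [nat_lit 4, nat_lit 1, nat_lit 0, nat_lit 20, nat_lit 17, nat_lit 20, nat_lit 29, nat_lit 29]⟩]⟩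

noncomputable def cB12 : CC := ⟨[[nat_lit 25, nat_lit 5, nat_lit 0, nat_lit 20, nat_lit 17, nat_lit 22, nat_lit 22, nat_lit 20, nat_lit 22, nat_lit 22, nat_lit 29, nat_lit 25, nat_lit 29, nat_lit 28, nat_lit 29, nat_lit 29], [nat_lit 26, nat_lit 11, nat_lit 2, nat_lit 22, nat_lit 19, nat_lit 22, nat_lit 20, nat_lit 22, nat_lit 27, nat_lit 29, nat_lit 29]], [(nat_lit 14316723603, []), (nat_lit 29787155803, [nat_lit 0, nat_lit 0]), (nat_lit 92493918472, [nat_lit 0]), (nat_lit 180489606909, [nat_lit 0, nat_lit 1]), (nat_lit 209147041340, [nat_lit 0, nat_lit 0, nat_lit 1, nat_lit 1]), (nat_lit 340402383310, [nat_lit 0, nat_lit 0, nat_lit 1]), (nat_lit 349054529582, [nat_lit 1]), (nat_lit 365369290165, [nat_lit 0, nat_lit 1, nat_lit 1]), (nat_lit 397470570291, [nat_lit 1, nat_lit 1])],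
  [⟨nat_lit 1, nat_lit 99, [], []⟩, ⟨nat_lit 1, nat_lit 1, [nat_lit 16, nat_lit 4, nat_lit 18, nat_lit 18, nat_lit 26, nat_lit 21, nat_lit 20, nat_lit 26, nat_lit 22, nat_lit 22, nat_lit 25, nat_lit 26, nat_lit 29, nat_lit 28], []⟩, ⟨nat_lit 1, nat_lit 0, [nat_lit 5, nat_lit 13, nat_lit 1, nat_lit 25, nat_lit 18, nat_lit 23, nat_lit 20, nat_lit 26, nat_lit 24, nat_lit 28, nat_lit 27, nat_lit 27, nat_lit 29], []⟩, ⟨nat_lit 2, nat_lit 0, [], []⟩, ⟨nat_lit 1, nat_lit 2, [nat_lit 16, nat_lit 10, nat_lit 22, nat_lit 19, nat_lit 20, nat_lit 21, nat_lit 22, nat_lit 26, nat_lit 29, nat_lit 28, nat_lit 29], []⟩, ⟨nat_lit 1, nat_lit 3, [nat_lit 0, nat_lit 10, nat_lit 0, nat_lit 27, nat_lit 17, nat_lit 26, nat_lit 21, nat_lit 20, nat_lit 22, nat_lit 24, nat_lit 25, nat_lit 29, nat_lit 28], []⟩, ⟨nat_lit 1, nat_lit 2, [nat_lit 22, nat_lit 21, nat_lit 0, nat_lit 24, nat_lit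 19, nat_lit 26, nat_lit 20, nat_lit 24, nat_lit 24, nat_lit 27, nat_lit 26, nat_lit 28, nat_lit 27, nat_lit 27], []⟩, ⟨nat_lit 1, nat_lit 3, [nat_lit 4, nat_lit 14, nat_lit 24, nat_lit 17, nat_lit 22, nat_lit 20, nat_lit 26, nat_lit 24, nat_lit 25, nat_lit 26, nat_lit 28, nat_lit 29, nat_lit 29], []⟩, ⟨nat_lit 2, nat_lit 1, [], []⟩],
  [rB12x0, rB12x1]⟩

noncomputable def rB13x0 : RP := ⟨[nat_lit 12, nat_lit 25, nat_lit 1, nat_lit 24, nat_lit 19, nat_lit 22, nat_lit 22, nat_lit 20, nat_lit 25, nat_lit 22, nat_lit 25, nat_lit 26, nat_lit 27, nat_lit 29, nat_lit 29], [nat_lit 20, nat_lit 16, nat_lit 1, nat_lit 17, nat_lit 26, nat_lit 21, nat_lit 20, nat_lit 26, nat_lit 29, nat_lit 27, nat_lit 29, nat_lit 29], [⟨nat_lit 0, nat_lit 0, [nat_lit 23, nat_lit 1, nat_lit 0, nat_lit 20, nat_lit 18, nat_lit 20, nat_lit 20, nat_lit 22, nat_lit 25, nat_lit 29, nat_lit 27], []⟩,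 ⟨nat_lit 0, nat_lit 0, [nat_lit 11, nat_lit 14, nat_lit 17, nat_lit 18, nat_lit 21, nat_lit 20, nat_lit 26, nat_lit 24, nat_lit 25, nat_lit 25, nat_lit 28, nat_lit 27, nat_lit 27, nat_lit 29], []⟩, ⟨nat_lit 0, nat_lit 0, [nat_lit 3, nat_lit 17, nat_lit 0, nat_lit 19, nat_lit 21, nat_lit 20, nat_lit 24, nat_lit 22, nat_lit 25, nat_lit 27, nat_lit 27], []⟩, ⟨nat_lit 0, nat_lit 0, [nat_lit 4, nat_lit 0, nat_lit 1, nat_lit 17, nat_lit 17, nat_lit 29, nat_lit 20, nat_lit 28, nat_lit 22, nat_lit 29, nat_lit 28, nat_lit 29, nat_lit 29], []⟩, ⟨nat_lit 0, nat_lit 0, [nat_lit 22, nat_lit 11, nat_lit 17, nat_lit 17, nat_lit 20, nat_lit 29, nat_lit 25, nat_lit 25, nat_lit 28, nat_lit 29], []⟩, ⟨nat_lit 0, nat_lit 0, [nat_lit 2, nat_lit 10, nat_lit 0, nat_lit 22, nat_lit 19, nat_lit 20, nat_lit 21, nat_lit 23, nat_lit 25, nat_lit 22, nat_lit 25, nat_lit 26, nat_lit 29, nat_lit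 27, nat_lit 29, nat_lit 29], []⟩, ⟨nat_lit 0, nat_lit 0, [nat_lit 17, nat_lit 22, nat_lit 0, nat_lit 24, nat_lit 17, nat_lit 23, nat_lit 20, nat_lit 22, nat_lit 22, nat_lit 27, nat_lit 26, nat_lit 27, nat_lit 29], []⟩, ⟨nat_lit 0, nat_lit 0, [nat_lit 4, nat_lit 16, nat_lit 1, nat_lit 21, nat_lit 17, nat_lit 21, nat_lit 23, nat_lit 20, nat_lit 24, nat_lit 22, nat_lit 29, nat_lit 25, nat_lit 25, nat_lit 29, nat_lit 27, nat_lit 29, nat_lit 29], []⟩, ⟨nat_lit 0, nat_lit 0, [nat_lit 13, nat_lit 0, nat_lit 18, nat_lit 18, nat_lit 23, nat_lit 20, nat_lit 22, nat_lit 24, nat_lit 28, nat_lit 27, nat_lit 27, nat_lit 29, nat_lit 29], []⟩, ⟨nat_lit 0, nat_lit 0, [nat_lit 5, nat_lit 27, nat_lit 0, nat_lit 24, nat_lit 17, nat_lit 17, nat_lit 29, nat_lit 20, nat_lit 26, nat_lit 24, nat_lit 25, nat_lit 29, nat_lit 27], []⟩, ⟨nat_lit 0, nat_lit 0, [nat_lit 5, nat_lit 9, nat_lit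 3, nat_lit 24, nat_lit 19, nat_lit 21, nat_lit 23, nat_lit 20, nat_lit 27, nat_lit 22, nat_lit 22], []⟩, ⟨nat_lit 1, nat_lit 0, [nat_lit 6, nat_lit 1, nat_lit 17, nat_lit 18, nat_lit 26, nat_lit 20, nat_lit 25, nat_lit 25, nat_lit 29], [nat_lit 1]⟩, ⟨nat_lit 0, nat_lit 0, [nat_lit 19, nat_lit 0, nat_lit 20, nat_lit 18, nat_lit 22, nat_lit 20, nat_lit 27, nat_lit 22, nat_lit 22, nat_lit 29, nat_lit 25, nat_lit 25, nat_lit 27, nat_lit 29, nat_lit 29], []⟩, ⟨nat_lit 0, nat_lit 0, [nat_lit 21, nat_lit 16, nat_lit 1, nat_lit 17, nat_lit 29, nat_lit 20, nat_lit 25, nat_lit 22, nat_lit 25, nat_lit 29, nat_lit 28, nat_lit 29], []⟩, ⟨nat_lit 0, nat_lit 0, [nat_lit 5, nat_lit 27, nat_lit 0, nat_lit 22, nat_lit 19, nat_lit 21, nat_lit 28, nat_lit 22, nat_lit 26, nat_lit 27, nat_lit 27, nat_lit 29, nat_lit 29], []⟩, ⟨nat_lit 0, nat_lit 0, [nat_lit 13, nat_lit 0, nat_lit 24,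 nat_lit 17, nat_lit 26, nat_lit 20, nat_lit 23, nat_lit 22, nat_lit 27, nat_lit 26, nat_lit 29], []⟩, ⟨nat_lit 0, nat_lit 0, [nat_lit 15, nat_lit 12, nat_lit 0, nat_lit 27, nat_lit 17, nat_lit 25, nat_lit 20, nat_lit 27, nat_lit 24, nat_lit 29, nat_lit 25, nat_lit 25, nat_lit 29, nat_lit 28, nat_lit 29], []⟩, ⟨nat_lit 0, nat_lit 0, [nat_lit 16, nat_lit 17, nat_lit 0, nat_lit 19, nat_lit 25, nat_lit 20, nat_lit 24, nat_lit 22, nat_lit 25, nat_lit 26, nat_lit 29, nat_lit 28, nat_lit 29, nat_lit 29], []⟩, ⟨nat_lit 0, nat_lit 0, [nat_lit 16, nat_lit 1, nat_lit 20, nat_lit 17, nat_lit 22, nat_lit 20, nat_lit 27, nat_lit 22, nat_lit 22, nat_lit 27, nat_lit 26, nat_lit 28, nat_lit 29, nat_lit 29], []⟩, ⟨nat_lit 0, nat_lit 0, [nat_lit 16, nat_lit 25, nat_lit 0, nat_lit 18, nat_lit 19, nat_lit 26, nat_lit 21, nat_lit 26, nat_lit 24, nat_lit 25, nat_lit 28, nat_lit 27, nat_lit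 27, nat_lit 29, nat_lit 29], []⟩, ⟨nat_lit 0, nat_lit 0, [nat_lit 19, nat_lit 0, nat_lit 24, nat_lit 17, nat_lit 26, nat_lit 21, nat_lit 28, nat_lit 22, nat_lit 27, nat_lit 26, nat_lit 27, nat_lit 27], []⟩, ⟨nat_lit 0, nat_lit 0, [nat_lit 17, nat_lit 22, nat_lit 0, nat_lit 19, nat_lit 18, nat_lit 23, nat_lit 20, nat_lit 25, nat_lit 22, nat_lit 28, nat_lit 29], []⟩, ⟨nat_lit 0, nat_lit 0, [nat_lit 25, nat_lit 12, nat_lit 2, nat_lit 24, nat_lit 19, nat_lit 29, nat_lit 20, nat_lit 28, nat_lit 22, nat_lit 29, nat_lit 25, nat_lit 25, nat_lit 29, nat_lit 29], []⟩, ⟨nat_lit 1, nat_lit 0, [nat_lit 22, nat_lit 9, nat_lit 25, nat_lit 18, nat_lit 23, nat_lit 20, nat_lit 25, nat_lit 25, nat_lit 29, nat_lit 27, nat_lit 29], [nat_lit 0, nat_lit 1, nat_lit 1, nat_lit 1]⟩, ⟨nat_lit 0, nat_lit 0, [nat_lit 25, nat_lit 12, nat_lit 2, nat_lit 18, nat_lit 20, nat_lit 20, nat_lit 23,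 nat_lit 25, nat_lit 22, nat_lit 25, nat_lit 29, nat_lit 29], []⟩, ⟨nat_lit 0, nat_lit 0, [nat_lit 3, nat_lit 2, nat_lit 19, nat_lit 24, nat_lit 24, nat_lit 25, nat_lit 25, nat_lit 28, nat_lit 27, nat_lit 27, nat_lit 29], []⟩, ⟨nat_lit 1, nat_lit 0, [nat_lit 29, nat_lit 27, nat_lit 0, nat_lit 24, nat_lit 17, nat_lit 17, nat_lit 20, nat_lit 20, nat_lit 24, nat_lit 25, nat_lit 26, nat_lit 28], [nat_lit 0, nat_lit 1]⟩, ⟨nat_lit 0, nat_lit 0, [nat_lit 29, nat_lit 1, nat_lit 0, nat_lit 24, nat_lit 19, nat_lit 20, nat_lit 21, nat_lit 24, nat_lit 24, nat_lit 29, nat_lit 25, nat_lit 27, nat_lit 27], []⟩, ⟨nat_lit 0, nat_lit 0, [nat_lit 23, nat_lit 1, nat_lit 0, nat_lit 24, nat_lit 19, nat_lit 26, nat_lit 21, nat_lit 20, nat_lit 24, nat_lit 25, nat_lit 25, nat_lit 29, nat_lit 28, nat_lit 29, nat_lit 29], []⟩, ⟨nat_lit 0, nat_lit 0, [nat_lit 16, nat_lit 17, nat_lit 0, nat_lit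 24, nat_lit 19, nat_lit 22, nat_lit 20, nat_lit 27, nat_lit 24, nat_lit 27, nat_lit 26, nat_lit 27, nat_lit 27, nat_lit 29], []⟩, ⟨nat_lit 0, nat_lit 0, [nat_lit 16, nat_lit 2, nat_lit 27, nat_lit 17, nat_lit 20, nat_lit 20, nat_lit 25, nat_lit 22, nat_lit 25, nat_lit 26, nat_lit 29, nat_lit 28, nat_lit 29], []⟩, ⟨nat_lit 0, nat_lit 0, [nat_lit 21, nat_lit 16, nat_lit 1, nat_lit 26, nat_lit 20, nat_lit 23, nat_lit 22, nat_lit 25, nat_lit 25, nat_lit 29, nat_lit 29], []⟩, ⟨nat_lit 0, nat_lit 0, [nat_lit 4, nat_lit 0, nat_lit 1, nat_lit 18, nat_lit 18, nat_lit 21, nat_lit 23, nat_lit 20, nat_lit 28, nat_lit 22, nat_lit 25, nat_lit 26, nat_lit 27, nat_lit 27, nat_lit 29, nat_lit 29], []⟩, ⟨nat_lit 0, nat_lit 0, [nat_lit 2, nat_lit 10, nat_lit 0, nat_lit 27, nat_lit 17, nat_lit 28, nat_lit 20, nat_lit 25, nat_lit 22, nat_lit 29, nat_lit 28, nat_lit 29], []⟩, ⟨nat_lit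 0, nat_lit 0, [nat_lit 9, nat_lit 16, nat_lit 0, nat_lit 18, nat_lit 28, nat_lit 20, nat_lit 25, nat_lit 22, nat_lit 27, nat_lit 26, nat_lit 29, nat_lit 28], []⟩, ⟨nat_lit 1, nat_lit 0, [nat_lit 18, nat_lit 12, nat_lit 1, nat_lit 17, nat_lit 21, nat_lit 26, nat_lit 24, nat_lit 29, nat_lit 25, nat_lit 25], [nat_lit 0, nat_lit 0, nat_lit 1, nat_lit 1, nat_lit 1]⟩, ⟨nat_lit 0, nat_lit 0, [nat_lit 29, nat_lit 12, nat_lit 1, nat_lit 27, nat_lit 17, nat_lit 21, nat_lit 23, nat_lit 20, nat_lit 25, nat_lit 29, nat_lit 27, nat_lit 29], []⟩, ⟨nat_lit 0, nat_lit 0, [nat_lit 16, nat_lit 25, nat_lit 0, nat_lit 17, nat_lit 17, nat_lit 21, nat_lit 25, nat_lit 22, nat_lit 25, nat_lit 28, nat_lit 29], []⟩, ⟨nat_lit 0, nat_lit 0, [nat_lit 27, nat_lit 6, nat_lit 0, nat_lit 25, nat_lit 18, nat_lit 26, nat_lit 21, nat_lit 26, nat_lit 24, nat_lit 29, nat_lit 25, nat_lit 28, nat_lit 27,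 nat_lit 27], []⟩, ⟨nat_lit 0, nat_lit 0, [nat_lit 9, nat_lit 5, nat_lit 19, nat_lit 18, nat_lit 25, nat_lit 20, nat_lit 23, nat_lit 22, nat_lit 27], []⟩, ⟨nat_lit 0, nat_lit 0, [nat_lit 20, nat_lit 2, nat_lit 0, nat_lit 21, nat_lit 17, nat_lit 26, nat_lit 21, nat_lit 20, nat_lit 22, nat_lit 22, nat_lit 26, nat_lit 29, nat_lit 27, nat_lit 29], []⟩, ⟨nat_lit 0, nat_lit 0, [nat_lit 20, nat_lit 11, nat_lit 24, nat_lit 17, nat_lit 17, nat_lit 26, nat_lit 20, nat_lit 22, nat_lit 25, nat_lit 25, nat_lit 29, nat_lit 27], []⟩, ⟨nat_lit 0, nat_lit 0, [nat_lit 22, nat_lit 11, nat_lit 18, nat_lit 18, nat_lit 22, nat_lit 20, nat_lit 25, nat_lit 22, nat_lit 25, nat_lit 25, nat_lit 29], []⟩, ⟨nat_lit 1, nat_lit 0, [nat_lit 27, nat_lit 5, nat_lit 2, nat_lit 22, nat_lit 22, nat_lit 20, nat_lit 24, nat_lit 22, nat_lit 26, nat_lit 29], [nat_lit 0, nat_lit 0, nat_lit 1, nat_lit 1,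 nat_lit 1]⟩, ⟨nat_lit 0, nat_lit 0, [nat_lit 4, nat_lit 16, nat_lit 1, nat_lit 27, nat_lit 17, nat_lit 26, nat_lit 21, nat_lit 20, nat_lit 23, nat_lit 25, nat_lit 22, nat_lit 25, nat_lit 26, nat_lit 27, nat_lit 29, nat_lit 29], []⟩, ⟨nat_lit 0, nat_lit 0, [nat_lit 29, nat_lit 12, nat_lit 1, nat_lit 18, nat_lit 18, nat_lit 26, nat_lit 21, nat_lit 27, nat_lit 24, nat_lit 29, nat_lit 28, nat_lit 29], []⟩, ⟨nat_lit 0, nat_lit 0, [nat_lit 11, nat_lit 14, nat_lit 18, nat_lit 18, nat_lit 20, nat_lit 22, nat_lit 27, nat_lit 26, nat_lit 28, nat_lit 27, nat_lit 27, nat_lit 29], []⟩, ⟨nat_lit 0, nat_lit 0, [nat_lit 3, nat_lit 17, nat_lit 0, nat_lit 17, nat_lit 18, nat_lit 22, nat_lit 22, nat_lit 20, nat_lit 24, nat_lit 24, nat_lit 25, nat_lit 26, nat_lit 28, nat_lit 29, nat_lit 29], []⟩, ⟨nat_lit 1, nat_lit 0, [nat_lit 20, nat_lit 10, nat_lit 17, nat_lit 17, nat_lit 26, nat_lit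 21, nat_lit 20, nat_lit 24, nat_lit 29, nat_lit 25, nat_lit 29, nat_lit 27, nat_lit 29], [nat_lit 1, nat_lit 1, nat_lit 1, nat_lit 1, nat_lit 1, nat_lit 1, nat_lit 1]⟩, ⟨nat_lit 0, nat_lit 0, [nat_lit 5, nat_lit 9, nat_lit 3, nat_lit 18, nat_lit 19, nat_lit 22, nat_lit 20, nat_lit 24, nat_lit 24, nat_lit 29, nat_lit 25, nat_lit 29, nat_lit 29], []⟩, ⟨nat_lit 0, nat_lit 0, [nat_lit 20, nat_lit 11, nat_lit 22, nat_lit 20, nat_lit 24, nat_lit 24, nat_lit 25, nat_lit 25, nat_lit 27, nat_lit 27, nat_lit 29], []⟩, ⟨nat_lit 0, nat_lit 0, [nat_lit 9, nat_lit 16, nat_lit 0, nat_lit 25, nat_lit 18, nat_lit 22, nat_lit 22, nat_lit 20, nat_lit 23, nat_lit 25, nat_lit 22, nat_lit 29, nat_lit 25, nat_lit 27, nat_lit 29, nat_lit 29], []⟩, ⟨nat_lit 0, nat_lit 0, [nat_lit 15, nat_lit 12, nat_lit 0, nat_lit 18, nat_lit 19, nat_lit 28, nat_lit 20, nat_lit 29, nat_lit 25, nat_lit 29],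 []⟩, ⟨nat_lit 0, nat_lit 0, [nat_lit 16, nat_lit 2, nat_lit 18, nat_lit 26, nat_lit 21, nat_lit 20, nat_lit 22, nat_lit 29, nat_lit 25, nat_lit 25, nat_lit 29, nat_lit 29], []⟩]⟩

noncomputable def rB13x1 : RP := ⟨[nat_lit 21, nat_lit 2, nat_lit 0, nat_lit 27, nat_lit 17, nat_lit 23, nat_lit 20, nat_lit 24, nat_lit 22, nat_lit 27, nat_lit 26, nat_lit 29, nat_lit 28, nat_lit 29], [nat_lit 3, nat_lit 4, nat_lit 18, nat_lit 20, nat_lit 20, nat_lit 24, nat_lit 24, nat_lit 26, nat_lit 29, nat_lit 29], [⟨nat_lit 0, nat_lit 0, [nat_lit 10, nat_lit 16, nat_lit 24, nat_lit 19, nat_lit 26, nat_lit 20, nat_lit 23, nat_lit 22, nat_lit 29, nat_lit 27, nat_lit 29], []⟩, ⟨nat_lit 0, nat_lit 0, [nat_lit 27, nat_lit 10, nat_lit 0, nat_lit 20, nat_lit 17, nat_lit 20, nat_lit 27, nat_lit 24, nat_lit 27, nat_lit 29], []⟩, ⟨nat_lit 0, nat_lit 0, [nat_lit 5, nat_lit 14, nat_lit 1, nat_lit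 20, nat_lit 20, nat_lit 25, nat_lit 22, nat_lit 29, nat_lit 25, nat_lit 25, nat_lit 29], []⟩, ⟨nat_lit 0, nat_lit 0, [nat_lit 14, nat_lit 4, nat_lit 17, nat_lit 28, nat_lit 20, nat_lit 23, nat_lit 22, nat_lit 25, nat_lit 25, nat_lit 28, nat_lit 29, nat_lit 29], []⟩, ⟨nat_lit 0, nat_lit 0, [nat_lit 16, nat_lit 14, nat_lit 0, nat_lit 22, nat_lit 22, nat_lit 20, nat_lit 26, nat_lit 22, nat_lit 29, nat_lit 25, nat_lit 25, nat_lit 27, nat_lit 27], []⟩, ⟨nat_lit 0, nat_lit 0, [nat_lit 5, nat_lit 14, nat_lit 1, nat_lit 18, nat_lit 18, nat_lit 21, nat_lit 20, nat_lit 24, nat_lit 24, nat_lit 29, nat_lit 25, nat_lit 25, nat_lit 27, nat_lit 27, nat_lit 29, nat_lit 29], []⟩, ⟨nat_lit 0, nat_lit 0, [nat_lit 5, nat_lit 14, nat_lit 1, nat_lit 24, nat_lit 17, nat_lit 17, nat_lit 26, nat_lit 20, nat_lit 28, nat_lit 22, nat_lit 25, nat_lit 25, nat_lit 29, nat_lit 28], []⟩, ⟨nat_lit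 0, nat_lit 0, [nat_lit 18, nat_lit 21, nat_lit 3, nat_lit 24, nat_lit 19, nat_lit 28, nat_lit 20, nat_lit 28, nat_lit 22, nat_lit 25, nat_lit 26, nat_lit 28, nat_lit 27, nat_lit 27, nat_lit 29], []⟩, ⟨nat_lit 0, nat_lit 0, [nat_lit 27, nat_lit 10, nat_lit 0, nat_lit 18, nat_lit 18, nat_lit 20, nat_lit 21, nat_lit 22, nat_lit 24, nat_lit 29, nat_lit 25, nat_lit 28, nat_lit 27, nat_lit 27], []⟩, ⟨nat_lit 0, nat_lit 0, [nat_lit 27, nat_lit 10, nat_lit 0, nat_lit 25, nat_lit 18, nat_lit 21, nat_lit 20, nat_lit 26, nat_lit 22, nat_lit 22, nat_lit 25, nat_lit 29, nat_lit 27, nat_lit 29, nat_lit 29], []⟩, ⟨nat_lit 0, nat_lit 0, [nat_lit 10, nat_lit 16, nat_lit 25, nat_lit 18, nat_lit 29, nat_lit 20, nat_lit 22, nat_lit 29, nat_lit 25, nat_lit 25, nat_lit 29, nat_lit 28], []⟩, ⟨nat_lit 0, nat_lit 0, [nat_lit 5, nat_lit 14, nat_lit 1, nat_lit 22, nat_lit 19, nat_lit 22,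 nat_lit 20, nat_lit 25, nat_lit 22, nat_lit 29, nat_lit 25, nat_lit 28, nat_lit 29, nat_lit 29], []⟩, ⟨nat_lit 0, nat_lit 0, [nat_lit 10, nat_lit 16, nat_lit 17, nat_lit 18, nat_lit 25, nat_lit 20, nat_lit 27, nat_lit 24, nat_lit 29, nat_lit 25, nat_lit 25, nat_lit 28, nat_lit 27, nat_lit 27], []⟩, ⟨nat_lit 0, nat_lit 0, [nat_lit 25, nat_lit 13, nat_lit 17, nat_lit 18, nat_lit 25, nat_lit 20, nat_lit 27, nat_lit 22, nat_lit 22, nat_lit 25, nat_lit 25, nat_lit 29, nat_lit 27, nat_lit 29, nat_lit 29], []⟩, ⟨nat_lit 0, nat_lit 0, [nat_lit 22, nat_lit 15, nat_lit 2, nat_lit 24, nat_lit 17, nat_lit 26, nat_lit 21, nat_lit 24, nat_lit 29, nat_lit 25, nat_lit 29, nat_lit 28], []⟩, ⟨nat_lit 0, nat_lit 0, [nat_lit 16, nat_lit 14, nat_lit 0, nat_lit 24, nat_lit 19, nat_lit 20, nat_lit 21, nat_lit 28, nat_lit 22, nat_lit 27, nat_lit 26, nat_lit 29, nat_lit 27], []⟩, ⟨nat_lit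 0, nat_lit 0, [nat_lit 14, nat_lit 4, nat_lit 18, nat_lit 19, nat_lit 21, nat_lit 26, nat_lit 22, nat_lit 22, nat_lit 29, nat_lit 25, nat_lit 25, nat_lit 28, nat_lit 29, nat_lit 29], []⟩, ⟨nat_lit 0, nat_lit 0, [nat_lit 25, nat_lit 13, nat_lit 20, nat_lit 18, nat_lit 26, nat_lit 21, nat_lit 20, nat_lit 24, nat_lit 24, nat_lit 25, nat_lit 29, nat_lit 27, nat_lit 29], []⟩, ⟨nat_lit 0, nat_lit 0, [nat_lit 25, nat_lit 13, nat_lit 19, nat_lit 18, nat_lit 26, nat_lit 21, nat_lit 20, nat_lit 27, nat_lit 24, nat_lit 27, nat_lit 26, nat_lit 27, nat_lit 27], []⟩, ⟨nat_lit 0, nat_lit 0, [nat_lit 22, nat_lit 15, nat_lit 2, nat_lit 17, nat_lit 18, nat_lit 25, nat_lit 20, nat_lit 24, nat_lit 22, nat_lit 29, nat_lit 25, nat_lit 29, nat_lit 27], []⟩, ⟨nat_lit 0, nat_lit 0, [nat_lit 18, nat_lit 21, nat_lit 3, nat_lit 20, nat_lit 18, nat_lit 26, nat_lit 21, nat_lit 20, nat_lit 26,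 nat_lit 29], []⟩, ⟨nat_lit 0, nat_lit 0, [nat_lit 20, nat_lit 0, nat_lit 18, nat_lit 18, nat_lit 25, nat_lit 20, nat_lit 24, nat_lit 27, nat_lit 26, nat_lit 28], []⟩, ⟨nat_lit 0, nat_lit 0, [nat_lit 22, nat_lit 15, nat_lit 2, nat_lit 19, nat_lit 28, nat_lit 20, nat_lit 22, nat_lit 25, nat_lit 29, nat_lit 27], []⟩, ⟨nat_lit 0, nat_lit 0, [nat_lit 10, nat_lit 16, nat_lit 20, nat_lit 17, nat_lit 22, nat_lit 20, nat_lit 22, nat_lit 22, nat_lit 26], []⟩, ⟨nat_lit 0, nat_lit 0, [nat_lit 27, nat_lit 10, nat_lit 0, nat_lit 22, nat_lit 19, nat_lit 29, nat_lit 20, nat_lit 22, nat_lit 22, nat_lit 27, nat_lit 26, nat_lit 29, nat_lit 28, nat_lit 29], []⟩, ⟨nat_lit 0, nat_lit 0, [nat_lit 18, nat_lit 21, nat_lit 3, nat_lit 19, nat_lit 18, nat_lit 21, nat_lit 27, nat_lit 22, nat_lit 22, nat_lit 29, nat_lit 25, nat_lit 29, nat_lit 29], []⟩, ⟨nat_lit 0, nat_lit 0, [nat_lit 20, nat_lit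 0, nat_lit 18, nat_lit 19, nat_lit 26, nat_lit 21, nat_lit 20, nat_lit 24, nat_lit 24, nat_lit 27, nat_lit 26, nat_lit 29, nat_lit 28, nat_lit 29, nat_lit 29], []⟩, ⟨nat_lit 0, nat_lit 0, [nat_lit 16, nat_lit 14, nat_lit 0, nat_lit 17, nat_lit 17, nat_lit 20, nat_lit 21, nat_lit 22, nat_lit 22, nat_lit 26, nat_lit 29, nat_lit 27, nat_lit 29, nat_lit 29], []⟩, ⟨nat_lit 0, nat_lit 0, [nat_lit 14, nat_lit 4, nat_lit 21, nat_lit 17, nat_lit 22, nat_lit 20, nat_lit 22, nat_lit 22, nat_lit 29, nat_lit 25, nat_lit 25, nat_lit 28, nat_lit 27, nat_lit 27, nat_lit 29], []⟩, ⟨nat_lit 0, nat_lit 0, [nat_lit 20, nat_lit 0, nat_lit 19, nat_lit 18, nat_lit 23, nat_lit 20, nat_lit 23, nat_lit 25, nat_lit 22, nat_lit 25, nat_lit 26, nat_lit 28, nat_lit 29], []⟩, ⟨nat_lit 0, nat_lit 0, [nat_lit 18, nat_lit 21, nat_lit 3, nat_lit 18, nat_lit 19, nat_lit 26, nat_lit 21, nat_lit 20,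 nat_lit 27, nat_lit 24, nat_lit 29, nat_lit 25, nat_lit 25, nat_lit 29, nat_lit 28, nat_lit 29], []⟩, ⟨nat_lit 0, nat_lit 0, [nat_lit 20, nat_lit 0, nat_lit 17, nat_lit 18, nat_lit 29, nat_lit 20, nat_lit 26, nat_lit 22, nat_lit 22, nat_lit 25, nat_lit 26, nat_lit 28, nat_lit 27, nat_lit 27, nat_lit 29], []⟩, ⟨nat_lit 0, nat_lit 0, [nat_lit 10, nat_lit 16, nat_lit 21, nat_lit 17, nat_lit 20, nat_lit 21, nat_lit 23, nat_lit 22, nat_lit 27, nat_lit 26, nat_lit 27, nat_lit 29, nat_lit 29], []⟩, ⟨nat_lit 0, nat_lit 0, [nat_lit 25, nat_lit 13, nat_lit 20, nat_lit 17, nat_lit 23, nat_lit 20, nat_lit 27, nat_lit 22, nat_lit 22, nat_lit 28, nat_lit 27, nat_lit 27, nat_lit 29], []⟩, ⟨nat_lit 0, nat_lit 0, [nat_lit 5, nat_lit 14, nat_lit 1, nat_lit 17, nat_lit 17, nat_lit 22, nat_lit 20, nat_lit 23, nat_lit 22], []⟩, ⟨nat_lit 0, nat_lit 0, [nat_lit 22, nat_lit 15, nat_lit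 2, nat_lit 18, nat_lit 19, nat_lit 26, nat_lit 21, nat_lit 27, nat_lit 24, nat_lit 27], []⟩, ⟨nat_lit 0, nat_lit 0, [nat_lit 20, nat_lit 0, nat_lit 19, nat_lit 22, nat_lit 22, nat_lit 20, nat_lit 24, nat_lit 22, nat_lit 27, nat_lit 26, nat_lit 28, nat_lit 29, nat_lit 29], []⟩, ⟨nat_lit 0, nat_lit 0, [nat_lit 16, nat_lit 14, nat_lit 0, nat_lit 25, nat_lit 18, nat_lit 22, nat_lit 20, nat_lit 29, nat_lit 28, nat_lit 29, nat_lit 29], []⟩, ⟨nat_lit 0, nat_lit 0, [nat_lit 18, nat_lit 21, nat_lit 3, nat_lit 17, nat_lit 17, nat_lit 25, nat_lit 20, nat_lit 26, nat_lit 24, nat_lit 29, nat_lit 25, nat_lit 25, nat_lit 29, nat_lit 27], []⟩, ⟨nat_lit 0, nat_lit 0, [nat_lit 16, nat_lit 14, nat_lit 0, nat_lit 21, nat_lit 17, nat_lit 25, nat_lit 20, nat_lit 22, nat_lit 26, nat_lit 29, nat_lit 28], []⟩, ⟨nat_lit 0, nat_lit 0, [nat_lit 25, nat_lit 13, nat_lit 18, nat_lit 18, nat_lit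 20, nat_lit 20, nat_lit 24, nat_lit 29, nat_lit 25, nat_lit 25, nat_lit 29, nat_lit 27], []⟩, ⟨nat_lit 0, nat_lit 0, [nat_lit 27, nat_lit 10, nat_lit 0, nat_lit 27, nat_lit 17, nat_lit 29, nat_lit 20, nat_lit 22, nat_lit 22, nat_lit 29, nat_lit 25, nat_lit 25, nat_lit 27, nat_lit 27, nat_lit 29, nat_lit 29], []⟩, ⟨nat_lit 0, nat_lit 0, [nat_lit 22, nat_lit 15, nat_lit 2, nat_lit 24, nat_lit 19, nat_lit 24, nat_lit 24, nat_lit 26, nat_lit 27], []⟩, ⟨nat_lit 0, nat_lit 0, [nat_lit 14, nat_lit 4, nat_lit 19, nat_lit 28, nat_lit 20, nat_lit 26, nat_lit 24, nat_lit 25, nat_lit 26, nat_lit 29, nat_lit 28, nat_lit 29], []⟩, ⟨nat_lit 0, nat_lit 0, [nat_lit 10, nat_lit 16, nat_lit 18, nat_lit 19, nat_lit 22, nat_lit 22, nat_lit 20, nat_lit 24, nat_lit 25, nat_lit 28], []⟩, ⟨nat_lit 0, nat_lit 0, [nat_lit 5, nat_lit 14, nat_lit 1, nat_lit 20, nat_lit 18, nat_lit 26, nat_lit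 21, nat_lit 26, nat_lit 24, nat_lit 29, nat_lit 25, nat_lit 25, nat_lit 28], []⟩, ⟨nat_lit 0, nat_lit 0, [nat_lit 16, nat_lit 14, nat_lit 0, nat_lit 24, nat_lit 17, nat_lit 17, nat_lit 20, nat_lit 21, nat_lit 23, nat_lit 22, nat_lit 26, nat_lit 27, nat_lit 29], []⟩, ⟨nat_lit 0, nat_lit 0, [nat_lit 20, nat_lit 0, nat_lit 17, nat_lit 21, nat_lit 24, nat_lit 29, nat_lit 25, nat_lit 29, nat_lit 27, nat_lit 29, nat_lit 29], []⟩, ⟨nat_lit 0, nat_lit 0, [nat_lit 27, nat_lit 10, nat_lit 0, nat_lit 19, nat_lit 22, nat_lit 20, nat_lit 24, nat_lit 25, nat_lit 27, nat_lit 29, nat_lit 29], []⟩, ⟨nat_lit 0, nat_lit 0, [nat_lit 14, nat_lit 4, nat_lit 20, nat_lit 17, nat_lit 29, nat_lit 20, nat_lit 23, nat_lit 25, nat_lit 22, nat_lit 29, nat_lit 27, nat_lit 29], []⟩, ⟨nat_lit 0, nat_lit 0, [nat_lit 22, nat_lit 15, nat_lit 2, nat_lit 25, nat_lit 18, nat_lit 26, nat_lit 21, nat_lit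 20, nat_lit 27, nat_lit 24, nat_lit 25, nat_lit 26, nat_lit 27, nat_lit 27], []⟩, ⟨nat_lit 0, nat_lit 0, [nat_lit 25, nat_lit 13, nat_lit 22, nat_lit 19, nat_lit 21, nat_lit 26, nat_lit 22, nat_lit 22, nat_lit 25, nat_lit 27, nat_lit 27, nat_lit 29, nat_lit 29], []⟩, ⟨nat_lit 0, nat_lit 0, [nat_lit 18, nat_lit 21, nat_lit 3, nat_lit 25, nat_lit 18, nat_lit 20, nat_lit 21, nat_lit 22, nat_lit 24, nat_lit 29, nat_lit 25, nat_lit 25, nat_lit 29, nat_lit 28], []⟩, ⟨nat_lit 0, nat_lit 0, [nat_lit 14, nat_lit 4, nat_lit 24, nat_lit 19, nat_lit 22, nat_lit 20, nat_lit 26, nat_lit 22, nat_lit 22, nat_lit 29, nat_lit 29], []⟩]⟩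

noncomputable def cB13 : CC := ⟨[[nat_lit 12, nat_lit 25, nat_lit 1, nat_lit 24, nat_lit 19, nat_lit 22, nat_lit 22, nat_lit 20, nat_lit 25, nat_lit 22, nat_lit 25, nat_lit 26, nat_lit 27, nat_lit 29, nat_lit 29], [nat_lit 14, nat_lit 4, nat_lit 19, nat_lit 23, nat_lit 20, nat_lit 25, nat_lit 22, nat_lit 25, nat_lit 25, nat_lit 27, nat_lit 27, nat_lit 29]], [(nat_lit 14316723603, []), (nat_lit 92657147320, [nat_lit 1]), (nat_lit 113991321945, [nat_lit 0]), (nat_lit 191591963674, [nat_lit 0, nat_lit 0]), (nat_lit 259713877488, [nat_lit 0, nat_lit 1]), (nat_lit 260100451900, [nat_lit 0, nat_lit 0, nat_lit 1, nat_lit 1]), (nat_lit 281638985353, [nat_lit 0, nat_lit 1, nat_lit 1]), (nat_lit 334878959978, [nat_lit 1, nat_lit 1]), (nat_lit 356387191140, [nat_lit 0, nat_lit 0, nat_lit 1])],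
  [⟨nat_lit 1, nat_lit 99, [], []⟩, ⟨nat_lit 1, nat_lit 3, [nat_lit 10, nat_lit 15, nat_lit 17, nat_lit 17, nat_lit 29, nat_lit 20, nat_lit 23, nat_lit 22, nat_lit 25, nat_lit 26, nat_lit 29], []⟩, ⟨nat_lit 2, nat_lit 0, [], []⟩, ⟨nat_lit 1, nat_lit 2, [nat_lit 8, nat_lit 16, nat_lit 0, nat_lit 24, nat_lit 19, nat_lit 25, nat_lit 20, nat_lit 26, nat_lit 22, nat_lit 25, nat_lit 28, nat_lit 29], []⟩, ⟨nat_lit 1, nat_lit 1, [nat_lit 24, nat_lit 29, nat_lit 0, nat_lit 20, nat_lit 21, nat_lit 28, nat_lit 22, nat_lit 25, nat_lit 27, nat_lit 29], []⟩, ⟨nat_lit 1, nat_lit 0, [nat_lit 20, nat_lit 0, nat_lit 18, nat_lit 21, nat_lit 26, nat_lit 28, nat_lit 27, nat_lit 27, nat_lit 29], []⟩, ⟨nat_lit 2, nat_lit 1, [], []⟩, ⟨nat_lit 1, nat_lit 3, [nat_lit 29, nat_lit 5, nat_lit 17, nat_lit 17, nat_lit 26, nat_lit 24, nat_lit 25, nat_lit 26, nat_lit 29, nat_lit 28, nat_lit 29,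 nat_lit 29], []⟩, ⟨nat_lit 1, nat_lit 2, [nat_lit 14, nat_lit 4, nat_lit 17, nat_lit 18, nat_lit 21, nat_lit 29, nat_lit 27], []⟩],
  [rB13x0, rB13x1]⟩

noncomputable def rB14x0 : RP := ⟨[nat_lit 25, nat_lit 1, nat_lit 22, nat_lit 19, nat_lit 20, nat_lit 21, nat_lit 24, nat_lit 24, nat_lit 29, nat_lit 25, nat_lit 25, nat_lit 27, nat_lit 27, nat_lit 29], [nat_lit 26, nat_lit 5, nat_lit 3, nat_lit 27, nat_lit 17, nat_lit 22, nat_lit 22, nat_lit 20, nat_lit 27, nat_lit 22, nat_lit 22, nat_lit 27, nat_lit 27, nat_lit 29], [⟨nat_lit 0, nat_lit 0, [nat_lit 15, nat_lit 17, nat_lit 3, nat_lit 25, nat_lit 18, nat_lit 22, nat_lit 22, nat_lit 20, nat_lit 24, nat_lit 25, nat_lit 26, nat_lit 28, nat_lit 27, nat_lit 27, nat_lit 29, nat_lit 29], []⟩, ⟨nat_lit 0, nat_lit 0, [nat_lit 13, nat_lit 21, nat_lit 0, nat_lit 20, nat_lit 17, nat_lit 23, nat_lit 20, nat_lit 26, nat_lit 24,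 nat_lit 29, nat_lit 28], []⟩, ⟨nat_lit 0, nat_lit 0, [nat_lit 19, nat_lit 0, nat_lit 25, nat_lit 18, nat_lit 26, nat_lit 21, nat_lit 20, nat_lit 26, nat_lit 24, nat_lit 29, nat_lit 25, nat_lit 29, nat_lit 28], []⟩, ⟨nat_lit 0, nat_lit 0, [nat_lit 18, nat_lit 3, nat_lit 17, nat_lit 17, nat_lit 20, nat_lit 27, nat_lit 22, nat_lit 22, nat_lit 29, nat_lit 25, nat_lit 29], []⟩, ⟨nat_lit 0, nat_lit 0, [nat_lit 28, nat_lit 6, nat_lit 2, nat_lit 24, nat_lit 17, nat_lit 17, nat_lit 20, nat_lit 20, nat_lit 23, nat_lit 22, nat_lit 27, nat_lit 26, nat_lit 28, nat_lit 29], []⟩, ⟨nat_lit 0, nat_lit 0, [nat_lit 14, nat_lit 1, nat_lit 0, nat_lit 18, nat_lit 18, nat_lit 26, nat_lit 20, nat_lit 23, nat_lit 22, nat_lit 29, nat_lit 25, nat_lit 28], []⟩, ⟨nat_lit 0, nat_lit 0, [nat_lit 28, nat_lit 6, nat_lit 2, nat_lit 19, nat_lit 18, nat_lit 26, nat_lit 22, nat_lit 22, nat_lit 28,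 nat_lit 29, nat_lit 29], []⟩, ⟨nat_lit 0, nat_lit 0, [nat_lit 14, nat_lit 1, nat_lit 0, nat_lit 29, nat_lit 20, nat_lit 23, nat_lit 25, nat_lit 22, nat_lit 29, nat_lit 25, nat_lit 25, nat_lit 29, nat_lit 27, nat_lit 29], []⟩, ⟨nat_lit 0, nat_lit 0, [nat_lit 19, nat_lit 0, nat_lit 21, nat_lit 23, nat_lit 20, nat_lit 27, nat_lit 22, nat_lit 22, nat_lit 29, nat_lit 25, nat_lit 29], []⟩, ⟨nat_lit 0, nat_lit 0, [nat_lit 5, nat_lit 14, nat_lit 1, nat_lit 24, nat_lit 17, nat_lit 17, nat_lit 26, nat_lit 21, nat_lit 24, nat_lit 22, nat_lit 27, nat_lit 26, nat_lit 27], []⟩, ⟨nat_lit 0, nat_lit 0, [nat_lit 13, nat_lit 21, nat_lit 0, nat_lit 20, nat_lit 18, nat_lit 22, nat_lit 22, nat_lit 20, nat_lit 27, nat_lit 22, nat_lit 22, nat_lit 25, nat_lit 27, nat_lit 27, nat_lit 29], []⟩, ⟨nat_lit 0, nat_lit 0, [nat_lit 19, nat_lit 0, nat_lit 25, nat_lit 18, nat_lit 26, nat_lit 20,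 nat_lit 24, nat_lit 24, nat_lit 29, nat_lit 25, nat_lit 25, nat_lit 29, nat_lit 27, nat_lit 29, nat_lit 29], []⟩, ⟨nat_lit 0, nat_lit 0, [nat_lit 13, nat_lit 21, nat_lit 0, nat_lit 20, nat_lit 18, nat_lit 26, nat_lit 24, nat_lit 29, nat_lit 28], []⟩, ⟨nat_lit 0, nat_lit 0, [nat_lit 25, nat_lit 1, nat_lit 18, nat_lit 18, nat_lit 21, nat_lit 24, nat_lit 24, nat_lit 26, nat_lit 27, nat_lit 29, nat_lit 29], []⟩, ⟨nat_lit 0, nat_lit 0, [nat_lit 14, nat_lit 1, nat_lit 0, nat_lit 17, nat_lit 17, nat_lit 21, nat_lit 27, nat_lit 27, nat_lit 29, nat_lit 29], []⟩, ⟨nat_lit 0, nat_lit 0, [nat_lit 18, nat_lit 3, nat_lit 18, nat_lit 21, nat_lit 23, nat_lit 20, nat_lit 27, nat_lit 24, nat_lit 26, nat_lit 27, nat_lit 27, nat_lit 29], []⟩, ⟨nat_lit 0, nat_lit 0, [nat_lit 25, nat_lit 1, nat_lit 17, nat_lit 22, nat_lit 22, nat_lit 20, nat_lit 26, nat_lit 24, nat_lit 29, nat_lit 27,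 nat_lit 29], []⟩, ⟨nat_lit 0, nat_lit 0, [nat_lit 13, nat_lit 21, nat_lit 0, nat_lit 22, nat_lit 19, nat_lit 20, nat_lit 20, nat_lit 28, nat_lit 22, nat_lit 27, nat_lit 26, nat_lit 29, nat_lit 27, nat_lit 29], []⟩, ⟨nat_lit 0, nat_lit 0, [nat_lit 26, nat_lit 22, nat_lit 0, nat_lit 20, nat_lit 18, nat_lit 26, nat_lit 21, nat_lit 23, nat_lit 22, nat_lit 25, nat_lit 25, nat_lit 28, nat_lit 27, nat_lit 27], []⟩, ⟨nat_lit 0, nat_lit 0, [nat_lit 25, nat_lit 1, nat_lit 17, nat_lit 17, nat_lit 22, nat_lit 20, nat_lit 23, nat_lit 25, nat_lit 22, nat_lit 29, nat_lit 25, nat_lit 29, nat_lit 28], []⟩, ⟨nat_lit 0, nat_lit 0, [nat_lit 5, nat_lit 14, nat_lit 1, nat_lit 18, nat_lit 19, nat_lit 28, nat_lit 20, nat_lit 23, nat_lit 22, nat_lit 25, nat_lit 25, nat_lit 27, nat_lit 29], []⟩, ⟨nat_lit 0, nat_lit 0, [nat_lit 5, nat_lit 14, nat_lit 1, nat_lit 21, nat_lit 17, nat_lit 25,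 nat_lit 20, nat_lit 22, nat_lit 22, nat_lit 29, nat_lit 25, nat_lit 25, nat_lit 29, nat_lit 27, nat_lit 29], []⟩, ⟨nat_lit 0, nat_lit 0, [nat_lit 25, nat_lit 1, nat_lit 17, nat_lit 17, nat_lit 22, nat_lit 22, nat_lit 20, nat_lit 23, nat_lit 22, nat_lit 25, nat_lit 25, nat_lit 29], []⟩, ⟨nat_lit 0, nat_lit 0, [nat_lit 28, nat_lit 6, nat_lit 2, nat_lit 18, nat_lit 21, nat_lit 26, nat_lit 22, nat_lit 25, nat_lit 25, nat_lit 28], []⟩, ⟨nat_lit 0, nat_lit 0, [nat_lit 19, nat_lit 0, nat_lit 28, nat_lit 20, nat_lit 25, nat_lit 22, nat_lit 27, nat_lit 26, nat_lit 27, nat_lit 29], []⟩, ⟨nat_lit 0, nat_lit 0, [nat_lit 26, nat_lit 22, nat_lit 0, nat_lit 18, nat_lit 21, nat_lit 27, nat_lit 24, nat_lit 29, nat_lit 25, nat_lit 25, nat_lit 29, nat_lit 27, nat_lit 29], []⟩, ⟨nat_lit 0, nat_lit 0, [nat_lit 15, nat_lit 17, nat_lit 3, nat_lit 20, nat_lit 17, nat_lit 20, nat_lit 23,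 nat_lit 25, nat_lit 22, nat_lit 29, nat_lit 25, nat_lit 25, nat_lit 27], []⟩, ⟨nat_lit 0, nat_lit 0, [nat_lit 26, nat_lit 22, nat_lit 0, nat_lit 25, nat_lit 18, nat_lit 20, nat_lit 21, nat_lit 23, nat_lit 22, nat_lit 26, nat_lit 28, nat_lit 29], []⟩, ⟨nat_lit 0, nat_lit 0, [nat_lit 25, nat_lit 1, nat_lit 17, nat_lit 28, nat_lit 20, nat_lit 24, nat_lit 25, nat_lit 27, nat_lit 27], []⟩, ⟨nat_lit 0, nat_lit 0, [nat_lit 18, nat_lit 3, nat_lit 22, nat_lit 19, nat_lit 21, nat_lit 20, nat_lit 22, nat_lit 27, nat_lit 26, nat_lit 27, nat_lit 29], []⟩, ⟨nat_lit 0, nat_lit 0, [nat_lit 5, nat_lit 14, nat_lit 1, nat_lit 18, nat_lit 19, nat_lit 29, nat_lit 20, nat_lit 24, nat_lit 22, nat_lit 29, nat_lit 25, nat_lit 29, nat_lit 28, nat_lit 29], []⟩, ⟨nat_lit 0, nat_lit 0, [nat_lit 5, nat_lit 14, nat_lit 1, nat_lit 21, nat_lit 17, nat_lit 20, nat_lit 26, nat_lit 24, nat_lit 29,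 nat_lit 25, nat_lit 25, nat_lit 29, nat_lit 28, nat_lit 29], []⟩, ⟨nat_lit 0, nat_lit 0, [nat_lit 28, nat_lit 6, nat_lit 2, nat_lit 18, nat_lit 28, nat_lit 20, nat_lit 23, nat_lit 22, nat_lit 27, nat_lit 26, nat_lit 28], []⟩, ⟨nat_lit 0, nat_lit 0, [nat_lit 13, nat_lit 21, nat_lit 0, nat_lit 22, nat_lit 19, nat_lit 25, nat_lit 20, nat_lit 22, nat_lit 22, nat_lit 25, nat_lit 27, nat_lit 27, nat_lit 29], []⟩, ⟨nat_lit 0, nat_lit 0, [nat_lit 28, nat_lit 6, nat_lit 2, nat_lit 19, nat_lit 18, nat_lit 21, nat_lit 26, nat_lit 24, nat_lit 25, nat_lit 27, nat_lit 27, nat_lit 29], []⟩, ⟨nat_lit 0, nat_lit 0, [nat_lit 14, nat_lit 1, nat_lit 0, nat_lit 17, nat_lit 17, nat_lit 21, nat_lit 23, nat_lit 20, nat_lit 23, nat_lit 22, nat_lit 27, nat_lit 26, nat_lit 28, nat_lit 27, nat_lit 27, nat_lit 29, nat_lit 29], []⟩, ⟨nat_lit 0, nat_lit 0, [nat_lit 18, nat_lit 3, nat_lit 22,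 nat_lit 19, nat_lit 29, nat_lit 20, nat_lit 24, nat_lit 22, nat_lit 28], []⟩, ⟨nat_lit 0, nat_lit 0, [nat_lit 18, nat_lit 3, nat_lit 18, nat_lit 29, nat_lit 20, nat_lit 24, nat_lit 22, nat_lit 29, nat_lit 29], []⟩, ⟨nat_lit 0, nat_lit 0, [nat_lit 26, nat_lit 22, nat_lit 0, nat_lit 18, nat_lit 28, nat_lit 22, nat_lit 25, nat_lit 26, nat_lit 28, nat_lit 27, nat_lit 27], []⟩, ⟨nat_lit 0, nat_lit 0, [nat_lit 26, nat_lit 22, nat_lit 0, nat_lit 25, nat_lit 18, nat_lit 21, nat_lit 23, nat_lit 20, nat_lit 23, nat_lit 25, nat_lit 22, nat_lit 27, nat_lit 26, nat_lit 28], []⟩, ⟨nat_lit 0, nat_lit 0, [nat_lit 26, nat_lit 22, nat_lit 0, nat_lit 20, nat_lit 18, nat_lit 20, nat_lit 20, nat_lit 22, nat_lit 27, nat_lit 29], []⟩, ⟨nat_lit 0, nat_lit 0, [nat_lit 13, nat_lit 21, nat_lit 0, nat_lit 20, nat_lit 17, nat_lit 20, nat_lit 20, nat_lit 22, nat_lit 22, nat_lit 26, nat_lit 28,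 nat_lit 29, nat_lit 29], []⟩, ⟨nat_lit 0, nat_lit 0, [nat_lit 15, nat_lit 17, nat_lit 3, nat_lit 21, nat_lit 17, nat_lit 25, nat_lit 20, nat_lit 25, nat_lit 22, nat_lit 29, nat_lit 25, nat_lit 28, nat_lit 27, nat_lit 27, nat_lit 29], []⟩, ⟨nat_lit 0, nat_lit 0, [nat_lit 18, nat_lit 3, nat_lit 17, nat_lit 17, nat_lit 22, nat_lit 22, nat_lit 20, nat_lit 27, nat_lit 26, nat_lit 29, nat_lit 28, nat_lit 29], []⟩, ⟨nat_lit 0, nat_lit 0, [nat_lit 15, nat_lit 17, nat_lit 3, nat_lit 25, nat_lit 18, nat_lit 22, nat_lit 20, nat_lit 28, nat_lit 22, nat_lit 25, nat_lit 26, nat_lit 28], []⟩, ⟨nat_lit 0, nat_lit 0, [nat_lit 14, nat_lit 1, nat_lit 0, nat_lit 18, nat_lit 18, nat_lit 21, nat_lit 23, nat_lit 20, nat_lit 28, nat_lit 22, nat_lit 27, nat_lit 26, nat_lit 27, nat_lit 27, nat_lit 29, nat_lit 29], []⟩, ⟨nat_lit 0, nat_lit 0, [nat_lit 28, nat_lit 6, nat_lit 2, nat_lit 24,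 nat_lit 17, nat_lit 17, nat_lit 24, nat_lit 24, nat_lit 27, nat_lit 29], []⟩, ⟨nat_lit 0, nat_lit 0, [nat_lit 15, nat_lit 17, nat_lit 3, nat_lit 20, nat_lit 17, nat_lit 23, nat_lit 20, nat_lit 24, nat_lit 29, nat_lit 27, nat_lit 29, nat_lit 29], []⟩, ⟨nat_lit 0, nat_lit 0, [nat_lit 5, nat_lit 14, nat_lit 1, nat_lit 24, nat_lit 17, nat_lit 17, nat_lit 21, nat_lit 23, nat_lit 20, nat_lit 24, nat_lit 29, nat_lit 27, nat_lit 29], []⟩, ⟨nat_lit 0, nat_lit 0, [nat_lit 19, nat_lit 0, nat_lit 24, nat_lit 19, nat_lit 26, nat_lit 21, nat_lit 22, nat_lit 24, nat_lit 29, nat_lit 25, nat_lit 25, nat_lit 27, nat_lit 27, nat_lit 29], []⟩, ⟨nat_lit 0, nat_lit 0, [nat_lit 15, nat_lit 17, nat_lit 3, nat_lit 21, nat_lit 17, nat_lit 29, nat_lit 20, nat_lit 22, nat_lit 22, nat_lit 25, nat_lit 25, nat_lit 28, nat_lit 27, nat_lit 27], []⟩, ⟨nat_lit 0, nat_lit 0, [nat_lit 25, nat_lit 1,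 nat_lit 18, nat_lit 18, nat_lit 25, nat_lit 20, nat_lit 28, nat_lit 22, nat_lit 25, nat_lit 29, nat_lit 28, nat_lit 29, nat_lit 29], []⟩, ⟨nat_lit 0, nat_lit 0, [nat_lit 14, nat_lit 1, nat_lit 0, nat_lit 22, nat_lit 22, nat_lit 20, nat_lit 23, nat_lit 22, nat_lit 27, nat_lit 29], []⟩, ⟨nat_lit 0, nat_lit 0, [nat_lit 19, nat_lit 0, nat_lit 24, nat_lit 19, nat_lit 27, nat_lit 24, nat_lit 28], []⟩]⟩

noncomputable def cB14 : CC := ⟨[[nat_lit 10, nat_lit 3, nat_lit 18, nat_lit 19, nat_lit 25, nat_lit 20, nat_lit 22, nat_lit 24, nat_lit 25, nat_lit 27, nat_lit 27, nat_lit 29, nat_lit 29]], [(nat_lit 14316723603, []), (nat_lit 82553685675, [nat_lit 0]), (nat_lit 155980964445, [nat_lit 0, nat_lit 0])],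
  [⟨nat_lit 1, nat_lit 99, [], []⟩, ⟨nat_lit 1, nat_lit 2, [nat_lit 13, nat_lit 16, nat_lit 0, nat_lit 24, nat_lit 17, nat_lit 17, nat_lit 25, nat_lit 20, nat_lit 24, nat_lit 24, nat_lit 29, nat_lit 25, nat_lit 29, nat_lit 29], []⟩, ⟨nat_lit 2, nat_lit 0, [], []⟩],
  [rB14x0]⟩

noncomputable def CLB : List (List ℕ) := [[nat_lit 31], [nat_lit 52], [nat_lit 31, nat_lit 31], [nat_lit 31, nat_lit 52], [nat_lit 52, nat_lit 52], [nat_lit 31, nat_lit 31, nat_lit 52], [nat_lit 31, nat_lit 52, nat_lit 52], [nat_lit 52, nat_lit 52, nat_lit 52], [nat_lit 31, nat_lit 31, nat_lit 52, nat_lit 52], [nat_lit 31, nat_lit 52, nat_lit 52, nat_lit 52], [nat_lit 52, nat_lit 52, nat_lit 52, nat_lit 52], [nat_lit 31, nat_lit 31, nat_lit 52, nat_lit 52, nat_lit 52], [nat_lit 31, nat_lit 52, nat_lit 52, nat_lit 52, nat_lit 52], [nat_lit 52, nat_lit 52, nat_lit 52, nat_lit 52, nat_lit 52],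 [nat_lit 31, nat_lit 31, nat_lit 52, nat_lit 52, nat_lit 52, nat_lit 52], [nat_lit 31, nat_lit 52, nat_lit 52, nat_lit 52, nat_lit 52, nat_lit 52], [nat_lit 52, nat_lit 52, nat_lit 52, nat_lit 52, nat_lit 52, nat_lit 52], [nat_lit 31, nat_lit 31, nat_lit 52, nat_lit 52, nat_lit 52, nat_lit 52, nat_lit 52], [nat_lit 31, nat_lit 52, nat_lit 52, nat_lit 52, nat_lit 52, nat_lit 52, nat_lit 52], [nat_lit 52, nat_lit 52, nat_lit 52, nat_lit 52, nat_lit 52, nat_lit 52, nat_lit 52], [nat_lit 31, nat_lit 31, nat_lit 52, nat_lit 52, nat_lit 52, nat_lit 52, nat_lit 52, nat_lit 52], [nat_lit 31, nat_lit 52, nat_lit 52, nat_lit 52, nat_lit 52, nat_lit 52, nat_lit 52, nat_lit 52], [nat_lit 31, nat_lit 31, nat_lit 52, nat_lit 52, nat_lit 52, nat_lit 52, nat_lit 52, nat_lit 52, nat_lit 52]]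

noncomputable def clBq0 : List (List ℕ) := [[nat_lit 1, nat_lit 2], [nat_lit 3, nat_lit 4], [nat_lit 4, nat_lit 5], [nat_lit 5, nat_lit 6], [nat_lit 6, nat_lit 7], [nat_lit 7, nat_lit 8], [nat_lit 8, nat_lit 9], [nat_lit 9, nat_lit 10], [nat_lit 10, nat_lit 11], [nat_lit 11, nat_lit 12], [nat_lit 12, nat_lit 13], [nat_lit 13, nat_lit 14], [nat_lit 14, nat_lit 15], [nat_lit 15, nat_lit 16], [nat_lit 16, nat_lit 17], [nat_lit 17, nat_lit 18], [nat_lit 18, nat_lit 19], [nat_lit 19, nat_lit 20], [nat_lit 20, nat_lit 21], [nat_lit 21, nat_lit 22], [nat_lit 22, nat_lit 0], [nat_lit 0, nat_lit 23], [nat_lit 23, nat_lit 1], [nat_lit 2, nat_lit 3]]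

noncomputable def t2 : List ℕ := [nat_lit 52]

noncomputable def b1 : List ℕ := [nat_lit 31]

noncomputable def aw0 : List ℕ := [nat_lit 30]

noncomputable def reps : List (ℕ × List ℕ) := [(nat_lit 1, aw0)]

noncomputable def relA : List (List ℕ) := []

noncomputable def relB : List (List ℕ) := [[nat_lit 0, nat_lit 1, nat_lit 2, nat_lit 1, nat_lit 1, nat_lit 0, nat_lit 0, nat_lit 1, nat_lit 2, nat_lit 1, nat_lit 1, nat_lit 0], [nat_lit 0, nat_lit 2, nat_lit 1, nat_lit 0, nat_lit 1, nat_lit 2, nat_lit 0, nat_lit 2, nat_lit 1, nat_lit 0, nat_lit 1, nat_lit 2, nat_lit 0, nat_lit 2, nat_lit 1, nat_lit 0, nat_lit 1, nat_lit 2, nat_lit 0, nat_lit 2, nat_lit 1, nat_lit 0, nat_lit 1, nat_lit 2, nat_lit 0, nat_lit 2, nat_lit 1, nat_lit 0, nat_lit 1, nat_lit 2, nat_lit 0, nat_lit 2, nat_lit 1, nat_lit 0, nat_lit 1, nat_lit 2, nat_lit 0, nat_lit 2, nat_lit 1, nat_lit 0, nat_lit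 1, nat_lit 2, nat_lit 0, nat_lit 2, nat_lit 1, nat_lit 0, nat_lit 1, nat_lit 2, nat_lit 0, nat_lit 2, nat_lit 1, nat_lit 0, nat_lit 1, nat_lit 2, nat_lit 0, nat_lit 2, nat_lit 1, nat_lit 0, nat_lit 1, nat_lit 2, nat_lit 0, nat_lit 2, nat_lit 1, nat_lit 0, nat_lit 1, nat_lit 2, nat_lit 0, nat_lit 2, nat_lit 1, nat_lit 0, nat_lit 1, nat_lit 2, nat_lit 0, nat_lit 2, nat_lit 1, nat_lit 0, nat_lit 1, nat_lit 2, nat_lit 0, nat_lit 2, nat_lit 1, nat_lit 0, nat_lit 1, nat_lit 2]]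

noncomputable def sAq0 : List TC := [⟨nat_lit 1, nat_lit 0, [], []⟩, ⟨nat_lit 1, nat_lit 0, [nat_lit 30, nat_lit 30], []⟩, ⟨nat_lit 1, nat_lit 0, [nat_lit 53, nat_lit 53], []⟩, ⟨nat_lit 1, nat_lit 0, [nat_lit 30, nat_lit 30, nat_lit 30, nat_lit 30], []⟩, ⟨nat_lit 1, nat_lit 0, [nat_lit 30, nat_lit 30, nat_lit 53, nat_lit 53], []⟩, ⟨nat_lit 1, nat_lit 0, [nat_lit 53], []⟩, ⟨nat_lit 1, nat_lit 0, [nat_lit 30, nat_lit 30, nat_lit 30, nat_lit 30, nat_lit 30, nat_lit 30], []⟩, ⟨nat_lit 1, nat_lit 0, [nat_lit 30, nat_lit 30, nat_lit 30, nat_lit 30, nat_lit 53, nat_lit 53], []⟩, ⟨nat_lit 1, nat_lit 0, [nat_lit 30, nat_lit 30, nat_lit 53], []⟩, ⟨nat_lit 1, nat_lit 0, [nat_lit 30, nat_lit 30, nat_lit 30, nat_lit 30, nat_lit 30, nat_lit 30, nat_lit 30, nat_lit 30], []⟩, ⟨nat_lit 1, nat_lit 0, [nat_lit 30, nat_lit 30, nat_lit 30, nat_lit 30, nat_lit 30, nat_lit 30, nat_lit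 53, nat_lit 53], []⟩, ⟨nat_lit 1, nat_lit 0, [nat_lit 30, nat_lit 30, nat_lit 30, nat_lit 30, nat_lit 53], []⟩, ⟨nat_lit 1, nat_lit 0, [nat_lit 30, nat_lit 30, nat_lit 30, nat_lit 30, nat_lit 30, nat_lit 30, nat_lit 30, nat_lit 30, nat_lit 30, nat_lit 30], []⟩, ⟨nat_lit 1, nat_lit 0, [nat_lit 30, nat_lit 30, nat_lit 30, nat_lit 30, nat_lit 30, nat_lit 30, nat_lit 30, nat_lit 30, nat_lit 53, nat_lit 53], []⟩, ⟨nat_lit 1, nat_lit 0, [nat_lit 30, nat_lit 30, nat_lit 30, nat_lit 30, nat_lit 30, nat_lit 30, nat_lit 53], []⟩]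

noncomputable def sAq1 : List TC := [⟨nat_lit 1, nat_lit 0, [nat_lit 30, nat_lit 30, nat_lit 30, nat_lit 30, nat_lit 30, nat_lit 30, nat_lit 30, nat_lit 30, nat_lit 30, nat_lit 30, nat_lit 30, nat_lit 30], []⟩, ⟨nat_lit 1, nat_lit 0, [nat_lit 30, nat_lit 30, nat_lit 30, nat_lit 30, nat_lit 30, nat_lit 30, nat_lit 30, nat_lit 30, nat_lit 30, nat_lit 30, nat_lit 53, nat_lit 53], []⟩, ⟨nat_lit 1, nat_lit 0, [nat_lit 30, nat_lit 30, nat_lit 30, nat_lit 30, nat_lit 30, nat_lit 30, nat_lit 30, nat_lit 30, nat_lit 53], []⟩, ⟨nat_lit 1, nat_lit 0, [nat_lit 30], []⟩, ⟨nat_lit 1, nat_lit 0, [nat_lit 30, nat_lit 30, nat_lit 30, nat_lit 30, nat_lit 30, nat_lit 30, nat_lit 30, nat_lit 30, nat_lit 30, nat_lit 30, nat_lit 30, nat_lit 30, nat_lit 53, nat_lit 53], []⟩, ⟨nat_lit 1, nat_lit 0, [nat_lit 30, nat_lit 30, nat_lit 30, nat_lit 30, nat_lit 30, nat_lit 30, nat_lit 30, nat_lit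 30, nat_lit 30, nat_lit 30, nat_lit 53], []⟩, ⟨nat_lit 1, nat_lit 0, [nat_lit 30, nat_lit 30, nat_lit 30], []⟩, ⟨nat_lit 1, nat_lit 0, [nat_lit 30, nat_lit 53, nat_lit 53], []⟩, ⟨nat_lit 1, nat_lit 0, [nat_lit 30, nat_lit 30, nat_lit 30, nat_lit 30, nat_lit 30, nat_lit 30, nat_lit 30, nat_lit 30, nat_lit 30, nat_lit 30, nat_lit 30, nat_lit 30, nat_lit 53], []⟩, ⟨nat_lit 1, nat_lit 0, [nat_lit 30, nat_lit 30, nat_lit 30, nat_lit 30, nat_lit 30], []⟩, ⟨nat_lit 1, nat_lit 0, [nat_lit 30, nat_lit 30, nat_lit 30, nat_lit 53, nat_lit 53], []⟩, ⟨nat_lit 1, nat_lit 0, [nat_lit 30, nat_lit 53], []⟩, ⟨nat_lit 1, nat_lit 0, [nat_lit 30, nat_lit 30, nat_lit 30, nat_lit 30, nat_lit 30, nat_lit 30, nat_lit 30], []⟩, ⟨nat_lit 1, nat_lit 0, [nat_lit 30, nat_lit 30, nat_lit 30, nat_lit 30, nat_lit 30, nat_lit 53, nat_lit 53], []⟩, ⟨nat_lit 1, nat_lit 0, [nat_lit 30, nat_lit 30,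 nat_lit 30, nat_lit 53], []⟩]

noncomputable def sAq2 : List TC := [⟨nat_lit 1, nat_lit 0, [nat_lit 30, nat_lit 30, nat_lit 30, nat_lit 30, nat_lit 30, nat_lit 30, nat_lit 30, nat_lit 30, nat_lit 30], []⟩, ⟨nat_lit 1, nat_lit 0, [nat_lit 30, nat_lit 30, nat_lit 30, nat_lit 30, nat_lit 30, nat_lit 30, nat_lit 30, nat_lit 53, nat_lit 53], []⟩, ⟨nat_lit 1, nat_lit 0, [nat_lit 30, nat_lit 30, nat_lit 30, nat_lit 30, nat_lit 30, nat_lit 53], []⟩, ⟨nat_lit 1, nat_lit 0, [nat_lit 30, nat_lit 30, nat_lit 30, nat_lit 30, nat_lit 30, nat_lit 30, nat_lit 30, nat_lit 30, nat_lit 30, nat_lit 30, nat_lit 30], []⟩, ⟨nat_lit 1, nat_lit 0, [nat_lit 30, nat_lit 30, nat_lit 30, nat_lit 30, nat_lit 30, nat_lit 30, nat_lit 30, nat_lit 30, nat_lit 30, nat_lit 53, nat_lit 53], []⟩, ⟨nat_lit 1, nat_lit 0, [nat_lit 30, nat_lit 30, nat_lit 30, nat_lit 30, nat_lit 30, nat_lit 30, nat_lit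 30, nat_lit 53], []⟩, ⟨nat_lit 1, nat_lit 0, [nat_lit 30, nat_lit 30, nat_lit 30, nat_lit 30, nat_lit 30, nat_lit 30, nat_lit 30, nat_lit 30, nat_lit 30, nat_lit 30, nat_lit 30, nat_lit 53, nat_lit 53], []⟩, ⟨nat_lit 1, nat_lit 0, [nat_lit 30, nat_lit 30, nat_lit 30, nat_lit 30, nat_lit 30, nat_lit 30, nat_lit 30, nat_lit 30, nat_lit 30, nat_lit 53], []⟩, ⟨nat_lit 1, nat_lit 0, [nat_lit 30, nat_lit 30, nat_lit 30, nat_lit 30, nat_lit 30, nat_lit 30, nat_lit 30, nat_lit 30, nat_lit 30, nat_lit 30, nat_lit 30, nat_lit 53], []⟩]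

noncomputable def zw : List ℕ := [nat_lit 4, nat_lit 11, nat_lit 17, nat_lit 18, nat_lit 21, nat_lit 26, nat_lit 24, nat_lit 25, nat_lit 26, nat_lit 29, nat_lit 27, nat_lit 52, nat_lit 25, nat_lit 6, nat_lit 19, nat_lit 18, nat_lit 26, nat_lit 21, nat_lit 20, nat_lit 23, nat_lit 22, nat_lit 25, nat_lit 27, nat_lit 52, nat_lit 9, nat_lit 24, nat_lit 17, nat_lit 28, nat_lit 20, nat_lit 22, nat_lit 22, nat_lit 28]

noncomputable def hu : List ℕ := [nat_lit 31, nat_lit 52, nat_lit 30, nat_lit 52, nat_lit 30, nat_lit 31, nat_lit 31, nat_lit 31, nat_lit 52, nat_lit 31, nat_lit 30, nat_lit 30, nat_lit 52, nat_lit 30, nat_lit 52, nat_lit 30, nat_lit 30, nat_lit 52, nat_lit 30, nat_lit 52]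

noncomputable def hv : List ℕ := [nat_lit 31, nat_lit 31, nat_lit 52, nat_lit 30, nat_lit 30, nat_lit 52, nat_lit 30, nat_lit 52, nat_lit 31, nat_lit 30, nat_lit 31, nat_lit 52, nat_lit 31, nat_lit 30, nat_lit 31, nat_lit 30, nat_lit 31, nat_lit 30, nat_lit 52, nat_lit 30]

noncomputable def sB0q0 : List TC := [⟨nat_lit 1, nat_lit 0, [], []⟩, ⟨nat_lit 0, nat_lit 0, [], []⟩, ⟨nat_lit 0, nat_lit 0, [], []⟩, ⟨nat_lit 0, nat_lit 0, [], []⟩, ⟨nat_lit 0, nat_lit 0, [], []⟩, ⟨nat_lit 0, nat_lit 0, [], []⟩, ⟨nat_lit 0, nat_lit 0, [], []⟩, ⟨nat_lit 0, nat_lit 0, [], []⟩, ⟨nat_lit 0, nat_lit 0, [], []⟩, ⟨nat_lit 0, nat_lit 0, [], []⟩, ⟨nat_lit 0, nat_lit 0, [], []⟩, ⟨nat_lit 0, nat_lit 1, [], []⟩, ⟨nat_lit 0, nat_lit 0, [], []⟩, ⟨nat_lit 0, nat_lit 0, [], []⟩, ⟨nat_lit 0, nat_lit 0, [], []⟩, ⟨nat_lit 0, nat_lit 0, [], []⟩, ⟨nat_lit 0, nat_lit 0, [], []⟩, ⟨nat_lit 0, nat_lit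 0, [], []⟩, ⟨nat_lit 0, nat_lit 0, [], []⟩, ⟨nat_lit 0, nat_lit 0, [], []⟩, ⟨nat_lit 0, nat_lit 0, [], []⟩, ⟨nat_lit 0, nat_lit 0, [], []⟩, ⟨nat_lit 0, nat_lit 0, [], []⟩, ⟨nat_lit 0, nat_lit 0, [], []⟩]

end Cfsg.Agent.H9.OTh
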