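import Cfsg.Agent.H9.Search
import Cfsg.Agent.L0.RAct
import Cfsg.Prelude.Def_KGroupFacts

/-! Outer automorphism groups from a normal form for automorphisms. -/

set_option autoImplicit false

namespace Cfsg.Agent.H9

open Cfsg.Agent.L0 (ev ev_nil ev_cons ev_append ev_mem nthW nthW_mem)

section nf
variable {G : Type*} [Group G]

theorem conj_pow_of {a b : G} {r : ℕ} (hab : a * b = b * a ^ r) (m : ℕ) :
    (b ^ m)⁻¹ * a * b ^ m = a ^ r ^ m := by
  induction m with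
  | zero => simp
  | succ m ih =>
    have h1 : b⁻¹ * a * b = a ^ r := by rw [mul_assoc, hab]; group
    have h2 : ∀ n : ℕ, b⁻¹ * a ^ n * b = (a ^ r) ^ n := fun n => by
      rw [← h1]
      have := conj_pow (a := b⁻¹) (b := a) (i := n)
      rw [inv_inv] at this
      exact this.symm
    calc (b ^ (m + 1))⁻¹ * a * b ^ (m + 1) = b⁻¹ * ((b ^ m)⁻¹ * a * b ^ m) * b := by
          rw [pow_succ]; group
      _ = a ^ r ^ (m + 1) := by rw [ih, h2, ← pow_mul, pow_succ']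

/-- an automorphism maps `a` to a conjugate of a power of `a` -/
theorem aut_sylow [Finite G] {a : G} {p : ℕ} (hp : p.Prime) (ha : orderOf a = p)
    (hp2 : ¬ p ^ 2 ∣ Nat.card G) (φ : MulAut G) :
    ∃ g : G, ∃ k : ℕ, g⁻¹ * φ a * g = a ^ k := by
  haveI := Fact.mk hp
  have key : ∀ x : G, orderOf x = p → ∃ P : Sylow p G, (P : Subgroup G) = Subgroup.zpowers x := by
    intro x hx
    have h1 : Nat.card (Subgroup.zpowers x) = p := by rw [Nat.card_zpowers, hx]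
    have h2 : (Nat.card G).factorization p = 1 := by
      have h3 : p ∣ Nat.card G := hx ▸ orderOf_dvd_natCard x
      have h4 := (hp.dvd_iff_one_le_factorization Nat.card_pos.ne').mp h3
      have h5 := (hp.pow_dvd_iff_le_factorization (k := 2) Nat.card_pos.ne').not.mp hp2
      omega
    exact ⟨Sylow.ofCard (Subgroup.zpowers x) (by rw [h1, h2, pow_one]), rfl⟩
  obtain ⟨P, hP⟩ := key a ha
  obtain ⟨Q, hQ⟩ := key (φ a) (by rw [MulEquiv.orderOf_eq, ha])
  obtain ⟨g, hg⟩ := MulAction.exists_smul_eq G P Q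
  have h1 : φ a ∈ (Q : Subgroup G) := hQ ▸ Subgroup.mem_zpowers _
  classical
  rw [← hg, Sylow.coe_subgroup_smul, Subgroup.mem_pointwise_smul_iff_inv_smul_mem, hP,
    mem_zpowers_iff_mem_range_orderOf] at h1
  obtain ⟨k, -, hk⟩ := Finset.mem_image.mp h1
  exact ⟨g, k, by rw [hk]; simp⟩

/-- normal form of an automorphism up to inner ones -/
theorem aut_nf [Finite G] {a b t : G} {p r i j : ℕ} (hp : p.Prime) (ha : orderOf a = p)
    (hp2 : ¬ p ^ 2 ∣ Nat.card G) (hCa : ∀ g, a * g = g * a → g ∈ Subgroup.zpowers a)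
    (hab : a * b = b * a ^ r) (hr : ∀ u < p, ∃ n < p, (u + n * r) % p = n % p)
    (hbt : b ^ i * t = t * b ^ j) {reps : List ℕ}
    (hreps : ∀ k < p, k ≠ 0 → ∃ m < p, k * r ^ m % p ∈ reps) (φ : MulAut G) :
    ∃ g : G, ∃ k ∈ reps, ∃ c, b ^ i * c = c * b ^ i ∧ g⁻¹ * φ a * g = a ^ k ∧
      g⁻¹ * φ b * g = b ∧ g⁻¹ * φ t * g = c * t := by
  -- it is enough to treat automorphisms, composing with inner ones
  have H1 : ∀ ψ : MulAut G, ψ b = b → b ^ i * (ψ t * t⁻¹) = (ψ t * t⁻¹) * b ^ i := by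
    intro ψ h
    have h1 := congrArg ψ hbt
    simp only [map_mul, map_pow, h] at h1
    have h2 : t⁻¹ * b ^ i = b ^ j * t⁻¹ := by
      rw [inv_mul_eq_iff_eq_mul, ← mul_assoc, ← hbt]; group
    rw [← mul_assoc, h1, mul_assoc, mul_assoc, h2]
  have hpow : ∀ n : ℕ, a ^ (n % p) = a ^ n := fun n => by rw [← ha, pow_mod_orderOf]
  obtain ⟨g1, k, hk⟩ := aut_sylow hp ha hp2 φ
  let ψ1 : MulAut G := MulAut.conj g1⁻¹ * φ
  have e1 : ∀ x, ψ1 x = g1⁻¹ * φ x * g1 := fun x => by simp [ψ1]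
  have hψa : ψ1 a = a ^ k := by rw [e1, hk]
  have hk0 : k % p ≠ 0 := by
    intro h0
    have : ψ1 a = 1 := by rw [hψa, ← hpow, h0, pow_zero]
    rw [MulEquiv.map_eq_one_iff, ← orderOf_eq_one_iff, ha] at this
    exact hp.one_lt.ne' this
  have hcop : Nat.Coprime k (orderOf a) := by
    rw [ha, Nat.coprime_comm, hp.coprime_iff_not_dvd]
    exact fun h => hk0 (Nat.mod_eq_zero_of_dvd h)
  obtain ⟨k', hk'⟩ := exists_pow_eq_self_of_coprime hcop
  -- `ψ1 b` acts on `a` like `b`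
  have h2 : a * ψ1 b = ψ1 b * a ^ r := by
    have h3 := congrArg ψ1 hab
    rw [map_mul, map_mul, map_pow, hψa] at h3
    have h4 := conj_pow_of h3 1
    rw [pow_one, pow_one] at h4
    have h5 := conj_pow (a := (ψ1 b)⁻¹) (b := a ^ k) (i := k')
    rw [inv_inv, h4, hk', ← pow_mul, ← pow_mul, mul_comm r k', ← mul_assoc, pow_mul, pow_mul, hk'] at h5
    rw [h5]; group
  have h3 : b⁻¹ * ψ1 b ∈ Subgroup.zpowers a := by
    have h4 : ψ1 b * b⁻¹ ∈ Subgroup.zpowers a := by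
      apply hCa
      have : b⁻¹ * a = a ^ r * b⁻¹ := by rw [inv_mul_eq_iff_eq_mul, ← mul_assoc, ← hab]; group
      rw [← mul_assoc, h2, mul_assoc, mul_assoc, this]
    obtain ⟨n, hn⟩ := h4
    have h5 : b⁻¹ * a * b = a ^ r := by rw [mul_assoc, hab]; group
    have h6 : b⁻¹ * ψ1 b = (b⁻¹ * a * b) ^ n := by
      have := conj_zpow (a := b⁻¹) (b := a) (i := n)
      rw [inv_inv] at this
      rw [this]
      have hn' : a ^ n = ψ1 b * b⁻¹ := hn
      rw [hn']; group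
    rw [h6, h5]
    exact Subgroup.zpow_mem _ (Subgroup.pow_mem _ (Subgroup.mem_zpowers a) r) n
  classical
  rw [mem_zpowers_iff_mem_range_orderOf] at h3
  obtain ⟨u, hu, hu'⟩ := Finset.mem_image.mp h3
  obtain ⟨n, -, hn⟩ := hr u (by rw [← ha]; simpa using hu)
  obtain ⟨m, -, hm⟩ := hreps (k % p) (Nat.mod_lt _ hp.pos) hk0
  -- conjugate by `a ^ -n`, then by `b ^ m`
  have hb1 : ψ1 b = b * a ^ u := by rw [hu']; group
  have h7 : a ^ n * b = b * a ^ (n * r) := by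
    have := conj_pow (a := b⁻¹) (b := a) (i := n)
    rw [inv_inv, mul_assoc b⁻¹ a b, hab, inv_mul_cancel_left, ← pow_mul, mul_comm r n] at this
    rw [this]; group
  let g := g1 * (a ^ n)⁻¹ * b ^ m
  let ψ : MulAut G := MulAut.conj g⁻¹ * φ
  have e2 : ∀ x, ψ x = g⁻¹ * φ x * g := fun x => by simp [ψ]
  have e3 : ∀ x, ψ x = (b ^ m)⁻¹ * (a ^ n * ψ1 x * (a ^ n)⁻¹) * b ^ m := fun x => by
    rw [e2, e1]; simp only [g]; group
  have hψb : ψ b = b := by
    rw [e3, hb1, ← mul_assoc (a ^ n), h7, mul_assoc b, ← pow_add, add_comm, ← hpow, hn, hpow]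
    group
  refine ⟨g, _, hm, ψ t * t⁻¹, H1 ψ hψb, ?_, by rw [← e2, hψb], by rw [← e2]; group⟩
  rw [← e2, e3, hψa, hpow]
  have h8 : a ^ n * a ^ k * (a ^ n)⁻¹ = a ^ k := by group
  have h9 := conj_pow (a := (b ^ m)⁻¹) (b := a) (i := k)
  rw [inv_inv, conj_pow_of hab] at h9
  rw [h8, ← h9, ← pow_mul, mul_comm, ← hpow (k * r ^ m), ← hpow (k % p * r ^ m), Nat.mod_mul_mod]

theorem out_eq_of {a b t : G} (hgen : Subgroup.closure {a, b, t} = ⊤) {φ ψ : MulAut G} {g : G}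
    (h1 : g⁻¹ * φ a * g = ψ a) (h2 : g⁻¹ * φ b * g = ψ b) (h3 : g⁻¹ * φ t * g = ψ t) :
    (QuotientGroup.mk φ : Cfsg.Out G) = QuotientGroup.mk ψ := by
  have h : ψ = MulAut.conj g⁻¹ * φ := by
    apply MulEquiv.toMonoidHom_injective
    apply MonoidHom.eq_of_eqOn_dense hgen
    rintro x (rfl | rfl | rfl) <;> simp [*]
  have h4 : (QuotientGroup.mk (MulAut.conj g⁻¹) : Cfsg.Out G) = 1 :=
    (QuotientGroup.eq_one_iff _).mpr (MonoidHom.mem_range.mpr ⟨g⁻¹, rfl⟩)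
  rw [h, QuotientGroup.mk_mul, h4, one_mul]

theorem card_out_eq_one {a b t : G} (hgen : Subgroup.closure {a, b, t} = ⊤)
    (h : ∀ φ : MulAut G, ∃ g : G, g⁻¹ * φ a * g = a ∧ g⁻¹ * φ b * g = b ∧ g⁻¹ * φ t * g = t) :
    Nat.card (Cfsg.Out G) = 1 := by
  rw [Nat.card_eq_one_iff_exists]
  refine ⟨QuotientGroup.mk 1, fun y => ?_⟩
  obtain ⟨φ, rfl⟩ := QuotientGroup.mk_surjective y
  obtain ⟨g, h1, h2, h3⟩ := h φ
  exact out_eq_of hgen h1 h2 h3

theorem card_out_eq_two {a b t : G} (hgen : Subgroup.closure {a, b, t} = ⊤) (σ : MulAut G)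
    (hσ : ∀ u : G, u * b = σ b * u → u * a = σ a * u → u * t = σ t * u → False)
    (h : ∀ φ : MulAut G, ∃ g : G, (g⁻¹ * φ a * g = a ∧ g⁻¹ * φ b * g = b ∧ g⁻¹ * φ t * g = t) ∨
      (g⁻¹ * φ a * g = σ a ∧ g⁻¹ * φ b * g = σ b ∧ g⁻¹ * φ t * g = σ t)) :
    Nat.card (Cfsg.Out G) = 2 := by
  rw [Nat.card_eq_two_iff]
  refine ⟨QuotientGroup.mk 1, QuotientGroup.mk σ, fun he => ?_, ?_⟩
  · rw [QuotientGroup.eq, inv_one, one_mul] at he
    obtain ⟨u, hu⟩ := he
    apply hσ u <;> rw [← hu] <;> simp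
  · rw [Set.eq_univ_iff_forall]
    intro y
    obtain ⟨φ, rfl⟩ := QuotientGroup.mk_surjective y
    obtain ⟨g, ⟨h1, h2, h3⟩ | ⟨h1, h2, h3⟩⟩ := h φ
    · exact Or.inl (out_eq_of hgen h1 h2 h3)
    · exact Or.inr (out_eq_of hgen h1 h2 h3)

/-- transport along an isomorphism -/
theorem card_out_congr {H : Type*} [Group H] (e : G ≃* H) :
    Nat.card (Cfsg.Out G) = Nat.card (Cfsg.Out H) := by
  refine Nat.card_congr (QuotientGroup.congr _ _ (MulAut.congr e) ?_).toEquiv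
  ext ψ
  constructor
  · rintro ⟨_, ⟨g, rfl⟩, rfl⟩
    exact ⟨e g, by ext x; simp⟩
  · rintro ⟨h, rfl⟩
    exact ⟨_, ⟨e.symm h, rfl⟩, by ext x; simp⟩

/-- a list closed under the generators contains the subgroup generated -/
theorem closure_sub_of_closed [Finite G] {S C : Set G} (h1 : (1 : G) ∈ C)
    (h : ∀ s ∈ S, ∀ c ∈ C, c * s ∈ C) : ∀ x ∈ Subgroup.closure S, x ∈ C := by
  have key : ∀ x ∈ Subgroup.closure S, ∀ c ∈ C, c * x ∈ C := by
    intro x hx
    induction hx using Subgroup.closure_induction with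
    | mem x hx => exact h x hx
    | one => simp
    | mul x y _ _ hx hy => intro c hc; rw [← mul_assoc]; exact hy _ (hx c hc)
    | inv x _ hx =>
      have h2 : ∀ n : ℕ, ∀ c ∈ C, c * x ^ n ∈ C := by
        intro n
        induction n with
        | zero => simp
        | succ n ih => intro c hc; rw [pow_succ, ← mul_assoc]; exact hx _ (ih c hc)
      have h3 : x⁻¹ = x ^ (orderOf x - 1) := by
        rw [eq_comm, ← mul_eq_one_iff_eq_inv, ← pow_succ,
          Nat.sub_add_cancel (orderOf_pos x), pow_orderOf_eq_one]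
      rw [h3]; exact h2 _
  intro x hx
  simpa using key x hx 1 h1

end nf

end Cfsg.Agent.H9
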