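import Cfsg.Agent.H9.OutCo1D

/-! The outer automorphism group of Co1. Checks. -/

set_option autoImplicit false
set_option maxRecDepth 100000

namespace Cfsg.Agent.H9.OutCo1

theorem vchk_8 : allPow (below (nat_lit 98280) (pairB (nat_lit 0) V T as (nat_lit 98280) (nat_lit 3))) 10 (8 * 2 ^ 10) = true := by decide +kernel

theorem vchk_9 : allPow (below (nat_lit 98280) (pairB (nat_lit 0) V T as (nat_lit 98280) (nat_lit 3))) 10 (9 * 2 ^ 10) = true := by decide +kernel

theorem vchk_10 : allPow (below (nat_lit 98280) (pairB (nat_lit 0) V T as (nat_lit 98280) (nat_lit 3))) 10 (10 * 2 ^ 10) = true := by decide +kernel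

theorem vchk_11 : allPow (below (nat_lit 98280) (pairB (nat_lit 0) V T as (nat_lit 98280) (nat_lit 3))) 10 (11 * 2 ^ 10) = true := by decide +kernel

theorem vchk_12 : allPow (below (nat_lit 98280) (pairB (nat_lit 0) V T as (nat_lit 98280) (nat_lit 3))) 10 (12 * 2 ^ 10) = true := by decide +kernel

theorem vchk_13 : allPow (below (nat_lit 98280) (pairB (nat_lit 0) V T as (nat_lit 98280) (nat_lit 3))) 10 (13 * 2 ^ 10) = true := by decide +kernel

theorem vchk_14 : allPow (below (nat_lit 98280) (pairB (nat_lit 0) V T as (nat_lit 98280) (nat_lit 3))) 10 (14 * 2 ^ 10) = true := by decide +kernel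

theorem vchk_15 : allPow (below (nat_lit 98280) (pairB (nat_lit 0) V T as (nat_lit 98280) (nat_lit 3))) 10 (15 * 2 ^ 10) = true := by decide +kernel

theorem vchk_16 : allPow (below (nat_lit 98280) (pairB (nat_lit 0) V T as (nat_lit 98280) (nat_lit 3))) 10 (16 * 2 ^ 10) = true := by decide +kernel

theorem vchk_17 : allPow (below (nat_lit 98280) (pairB (nat_lit 0) V T as (nat_lit 98280) (nat_lit 3))) 10 (17 * 2 ^ 10) = true := by decide +kernel

theorem vchk_18 : allPow (below (nat_lit 98280) (pairB (nat_lit 0) V T as (nat_lit 98280) (nat_lit 3))) 10 (18 * 2 ^ 10) = true := by decide +kernel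

theorem vchk_19 : allPow (below (nat_lit 98280) (pairB (nat_lit 0) V T as (nat_lit 98280) (nat_lit 3))) 10 (19 * 2 ^ 10) = true := by decide +kernel

theorem vchk_20 : allPow (below (nat_lit 98280) (pairB (nat_lit 0) V T as (nat_lit 98280) (nat_lit 3))) 10 (20 * 2 ^ 10) = true := by decide +kernel

theorem vchk_21 : allPow (below (nat_lit 98280) (pairB (nat_lit 0) V T as (nat_lit 98280) (nat_lit 3))) 10 (21 * 2 ^ 10) = true := by decide +kernel

theorem vchk_22 : allPow (below (nat_lit 98280) (pairB (nat_lit 0) V T as (nat_lit 98280) (nat_lit 3))) 10 (22 * 2 ^ 10) = true := by decide +kernel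

theorem vchk_23 : allPow (below (nat_lit 98280) (pairB (nat_lit 0) V T as (nat_lit 98280) (nat_lit 3))) 10 (23 * 2 ^ 10) = true := by decide +kernel

theorem vchk_24 : allPow (below (nat_lit 98280) (pairB (nat_lit 0) V T as (nat_lit 98280) (nat_lit 3))) 10 (24 * 2 ^ 10) = true := by decide +kernel

theorem vchk_25 : allPow (below (nat_lit 98280) (pairB (nat_lit 0) V T as (nat_lit 98280) (nat_lit 3))) 10 (25 * 2 ^ 10) = true := by decide +kernel

theorem vchk_26 : allPow (below (nat_lit 98280) (pairB (nat_lit 0) V T as (nat_lit 98280) (nat_lit 3))) 10 (26 * 2 ^ 10) = true := by decide +kernel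

theorem vchk_27 : allPow (below (nat_lit 98280) (pairB (nat_lit 0) V T as (nat_lit 98280) (nat_lit 3))) 10 (27 * 2 ^ 10) = true := by decide +kernel

theorem vchk_28 : allPow (below (nat_lit 98280) (pairB (nat_lit 0) V T as (nat_lit 98280) (nat_lit 3))) 10 (28 * 2 ^ 10) = true := by decide +kernel

theorem vchk_29 : allPow (below (nat_lit 98280) (pairB (nat_lit 0) V T as (nat_lit 98280) (nat_lit 3))) 10 (29 * 2 ^ 10) = true := by decide +kernel

theorem vchk_30 : allPow (below (nat_lit 98280) (pairB (nat_lit 0) V T as (nat_lit 98280) (nat_lit 3))) 10 (30 * 2 ^ 10) = true := by decide +kernel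

theorem vchk_31 : allPow (below (nat_lit 98280) (pairB (nat_lit 0) V T as (nat_lit 98280) (nat_lit 3))) 10 (31 * 2 ^ 10) = true := by decide +kernel

theorem vchk_32 : allPow (below (nat_lit 98280) (pairB (nat_lit 0) V T as (nat_lit 98280) (nat_lit 3))) 10 (32 * 2 ^ 10) = true := by decide +kernel

theorem vchk_33 : allPow (below (nat_lit 98280) (pairB (nat_lit 0) V T as (nat_lit 98280) (nat_lit 3))) 10 (33 * 2 ^ 10) = true := by decide +kernel

theorem vchk_34 : allPow (below (nat_lit 98280) (pairB (nat_lit 0) V T as (nat_lit 98280) (nat_lit 3))) 10 (34 * 2 ^ 10) = true := by decide +kernel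

theorem vchk_35 : allPow (below (nat_lit 98280) (pairB (nat_lit 0) V T as (nat_lit 98280) (nat_lit 3))) 10 (35 * 2 ^ 10) = true := by decide +kernel

theorem vchk_36 : allPow (below (nat_lit 98280) (pairB (nat_lit 0) V T as (nat_lit 98280) (nat_lit 3))) 10 (36 * 2 ^ 10) = true := by decide +kernel

theorem vchk_37 : allPow (below (nat_lit 98280) (pairB (nat_lit 0) V T as (nat_lit 98280) (nat_lit 3))) 10 (37 * 2 ^ 10) = true := by decide +kernel

theorem vchk_38 : allPow (below (nat_lit 98280) (pairB (nat_lit 0) V T as (nat_lit 98280) (nat_lit 3))) 10 (38 * 2 ^ 10) = true := by decide +kernel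

theorem vchk_39 : allPow (below (nat_lit 98280) (pairB (nat_lit 0) V T as (nat_lit 98280) (nat_lit 3))) 10 (39 * 2 ^ 10) = true := by decide +kernel

theorem vchk_40 : allPow (below (nat_lit 98280) (pairB (nat_lit 0) V T as (nat_lit 98280) (nat_lit 3))) 10 (40 * 2 ^ 10) = true := by decide +kernel

theorem vchk_41 : allPow (below (nat_lit 98280) (pairB (nat_lit 0) V T as (nat_lit 98280) (nat_lit 3))) 10 (41 * 2 ^ 10) = true := by decide +kernel

theorem vchk_42 : allPow (below (nat_lit 98280) (pairB (nat_lit 0) V T as (nat_lit 98280) (nat_lit 3))) 10 (42 * 2 ^ 10) = true := by decide +kernel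

theorem vchk_43 : allPow (below (nat_lit 98280) (pairB (nat_lit 0) V T as (nat_lit 98280) (nat_lit 3))) 10 (43 * 2 ^ 10) = true := by decide +kernel

theorem vchk_44 : allPow (below (nat_lit 98280) (pairB (nat_lit 0) V T as (nat_lit 98280) (nat_lit 3))) 10 (44 * 2 ^ 10) = true := by decide +kernel

theorem vchk_45 : allPow (below (nat_lit 98280) (pairB (nat_lit 0) V T as (nat_lit 98280) (nat_lit 3))) 10 (45 * 2 ^ 10) = true := by decide +kernel

theorem vchk_46 : allPow (below (nat_lit 98280) (pairB (nat_lit 0) V T as (nat_lit 98280) (nat_lit 3))) 10 (46 * 2 ^ 10) = true := by decide +kernel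

theorem vchk_47 : allPow (below (nat_lit 98280) (pairB (nat_lit 0) V T as (nat_lit 98280) (nat_lit 3))) 10 (47 * 2 ^ 10) = true := by decide +kernel

theorem vchk_48 : allPow (below (nat_lit 98280) (pairB (nat_lit 0) V T as (nat_lit 98280) (nat_lit 3))) 10 (48 * 2 ^ 10) = true := by decide +kernel

theorem vchk_49 : allPow (below (nat_lit 98280) (pairB (nat_lit 0) V T as (nat_lit 98280) (nat_lit 3))) 10 (49 * 2 ^ 10) = true := by decide +kernel

theorem vchk_50 : allPow (below (nat_lit 98280) (pairB (nat_lit 0) V T as (nat_lit 98280) (nat_lit 3))) 10 (50 * 2 ^ 10) = true := by decide +kernel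

theorem vchk_51 : allPow (below (nat_lit 98280) (pairB (nat_lit 0) V T as (nat_lit 98280) (nat_lit 3))) 10 (51 * 2 ^ 10) = true := by decide +kernel

end Cfsg.Agent.H9.OutCo1
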