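import Cfsg.Agent.H9.OutCo1D

/-! The outer automorphism group of Co1. Checks. -/

set_option autoImplicit false
set_option maxRecDepth 100000

namespace Cfsg.Agent.H9.OutCo1

theorem vchk_52 : allPow (below (nat_lit 98280) (pairB (nat_lit 0) V T as (nat_lit 98280) (nat_lit 3))) 10 (52 * 2 ^ 10) = true := by decide +kernel

theorem vchk_53 : allPow (below (nat_lit 98280) (pairB (nat_lit 0) V T as (nat_lit 98280) (nat_lit 3))) 10 (53 * 2 ^ 10) = true := by decide +kernel

theorem vchk_54 : allPow (below (nat_lit 98280) (pairB (nat_lit 0) V T as (nat_lit 98280) (nat_lit 3))) 10 (54 * 2 ^ 10) = true := by decide +kernel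

theorem vchk_55 : allPow (below (nat_lit 98280) (pairB (nat_lit 0) V T as (nat_lit 98280) (nat_lit 3))) 10 (55 * 2 ^ 10) = true := by decide +kernel

theorem vchk_56 : allPow (below (nat_lit 98280) (pairB (nat_lit 0) V T as (nat_lit 98280) (nat_lit 3))) 10 (56 * 2 ^ 10) = true := by decide +kernel

theorem vchk_57 : allPow (below (nat_lit 98280) (pairB (nat_lit 0) V T as (nat_lit 98280) (nat_lit 3))) 10 (57 * 2 ^ 10) = true := by decide +kernel

theorem vchk_58 : allPow (below (nat_lit 98280) (pairB (nat_lit 0) V T as (nat_lit 98280) (nat_lit 3))) 10 (58 * 2 ^ 10) = true := by decide +kernel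

theorem vchk_59 : allPow (below (nat_lit 98280) (pairB (nat_lit 0) V T as (nat_lit 98280) (nat_lit 3))) 10 (59 * 2 ^ 10) = true := by decide +kernel

theorem vchk_60 : allPow (below (nat_lit 98280) (pairB (nat_lit 0) V T as (nat_lit 98280) (nat_lit 3))) 10 (60 * 2 ^ 10) = true := by decide +kernel

theorem vchk_61 : allPow (below (nat_lit 98280) (pairB (nat_lit 0) V T as (nat_lit 98280) (nat_lit 3))) 10 (61 * 2 ^ 10) = true := by decide +kernel

theorem vchk_62 : allPow (below (nat_lit 98280) (pairB (nat_lit 0) V T as (nat_lit 98280) (nat_lit 3))) 10 (62 * 2 ^ 10) = true := by decide +kernel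

theorem vchk_63 : allPow (below (nat_lit 98280) (pairB (nat_lit 0) V T as (nat_lit 98280) (nat_lit 3))) 10 (63 * 2 ^ 10) = true := by decide +kernel

theorem vchk_64 : allPow (below (nat_lit 98280) (pairB (nat_lit 0) V T as (nat_lit 98280) (nat_lit 3))) 10 (64 * 2 ^ 10) = true := by decide +kernel

theorem vchk_65 : allPow (below (nat_lit 98280) (pairB (nat_lit 0) V T as (nat_lit 98280) (nat_lit 3))) 10 (65 * 2 ^ 10) = true := by decide +kernel

theorem vchk_66 : allPow (below (nat_lit 98280) (pairB (nat_lit 0) V T as (nat_lit 98280) (nat_lit 3))) 10 (66 * 2 ^ 10) = true := by decide +kernel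

theorem vchk_67 : allPow (below (nat_lit 98280) (pairB (nat_lit 0) V T as (nat_lit 98280) (nat_lit 3))) 10 (67 * 2 ^ 10) = true := by decide +kernel

theorem vchk_68 : allPow (below (nat_lit 98280) (pairB (nat_lit 0) V T as (nat_lit 98280) (nat_lit 3))) 10 (68 * 2 ^ 10) = true := by decide +kernel

theorem vchk_69 : allPow (below (nat_lit 98280) (pairB (nat_lit 0) V T as (nat_lit 98280) (nat_lit 3))) 10 (69 * 2 ^ 10) = true := by decide +kernel

theorem vchk_70 : allPow (below (nat_lit 98280) (pairB (nat_lit 0) V T as (nat_lit 98280) (nat_lit 3))) 10 (70 * 2 ^ 10) = true := by decide +kernel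

theorem vchk_71 : allPow (below (nat_lit 98280) (pairB (nat_lit 0) V T as (nat_lit 98280) (nat_lit 3))) 10 (71 * 2 ^ 10) = true := by decide +kernel

theorem vchk_72 : allPow (below (nat_lit 98280) (pairB (nat_lit 0) V T as (nat_lit 98280) (nat_lit 3))) 10 (72 * 2 ^ 10) = true := by decide +kernel

theorem vchk_73 : allPow (below (nat_lit 98280) (pairB (nat_lit 0) V T as (nat_lit 98280) (nat_lit 3))) 10 (73 * 2 ^ 10) = true := by decide +kernel

theorem vchk_74 : allPow (below (nat_lit 98280) (pairB (nat_lit 0) V T as (nat_lit 98280) (nat_lit 3))) 10 (74 * 2 ^ 10) = true := by decide +kernel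

theorem vchk_75 : allPow (below (nat_lit 98280) (pairB (nat_lit 0) V T as (nat_lit 98280) (nat_lit 3))) 10 (75 * 2 ^ 10) = true := by decide +kernel

theorem vchk_76 : allPow (below (nat_lit 98280) (pairB (nat_lit 0) V T as (nat_lit 98280) (nat_lit 3))) 10 (76 * 2 ^ 10) = true := by decide +kernel

theorem vchk_77 : allPow (below (nat_lit 98280) (pairB (nat_lit 0) V T as (nat_lit 98280) (nat_lit 3))) 10 (77 * 2 ^ 10) = true := by decide +kernel

theorem vchk_78 : allPow (below (nat_lit 98280) (pairB (nat_lit 0) V T as (nat_lit 98280) (nat_lit 3))) 10 (78 * 2 ^ 10) = true := by decide +kernel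

theorem vchk_79 : allPow (below (nat_lit 98280) (pairB (nat_lit 0) V T as (nat_lit 98280) (nat_lit 3))) 10 (79 * 2 ^ 10) = true := by decide +kernel

theorem vchk_80 : allPow (below (nat_lit 98280) (pairB (nat_lit 0) V T as (nat_lit 98280) (nat_lit 3))) 10 (80 * 2 ^ 10) = true := by decide +kernel

theorem vchk_81 : allPow (below (nat_lit 98280) (pairB (nat_lit 0) V T as (nat_lit 98280) (nat_lit 3))) 10 (81 * 2 ^ 10) = true := by decide +kernel

theorem vchk_82 : allPow (below (nat_lit 98280) (pairB (nat_lit 0) V T as (nat_lit 98280) (nat_lit 3))) 10 (82 * 2 ^ 10) = true := by decide +kernel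

theorem vchk_83 : allPow (below (nat_lit 98280) (pairB (nat_lit 0) V T as (nat_lit 98280) (nat_lit 3))) 10 (83 * 2 ^ 10) = true := by decide +kernel

theorem vchk_84 : allPow (below (nat_lit 98280) (pairB (nat_lit 0) V T as (nat_lit 98280) (nat_lit 3))) 10 (84 * 2 ^ 10) = true := by decide +kernel

theorem vchk_85 : allPow (below (nat_lit 98280) (pairB (nat_lit 0) V T as (nat_lit 98280) (nat_lit 3))) 10 (85 * 2 ^ 10) = true := by decide +kernel

theorem vchk_86 : allPow (below (nat_lit 98280) (pairB (nat_lit 0) V T as (nat_lit 98280) (nat_lit 3))) 10 (86 * 2 ^ 10) = true := by decide +kernel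

theorem vchk_87 : allPow (below (nat_lit 98280) (pairB (nat_lit 0) V T as (nat_lit 98280) (nat_lit 3))) 10 (87 * 2 ^ 10) = true := by decide +kernel

theorem vchk_88 : allPow (below (nat_lit 98280) (pairB (nat_lit 0) V T as (nat_lit 98280) (nat_lit 3))) 10 (88 * 2 ^ 10) = true := by decide +kernel

theorem vchk_89 : allPow (below (nat_lit 98280) (pairB (nat_lit 0) V T as (nat_lit 98280) (nat_lit 3))) 10 (89 * 2 ^ 10) = true := by decide +kernel

theorem vchk_90 : allPow (below (nat_lit 98280) (pairB (nat_lit 0) V T as (nat_lit 98280) (nat_lit 3))) 10 (90 * 2 ^ 10) = true := by decide +kernel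

theorem vchk_91 : allPow (below (nat_lit 98280) (pairB (nat_lit 0) V T as (nat_lit 98280) (nat_lit 3))) 10 (91 * 2 ^ 10) = true := by decide +kernel

theorem vchk_92 : allPow (below (nat_lit 98280) (pairB (nat_lit 0) V T as (nat_lit 98280) (nat_lit 3))) 10 (92 * 2 ^ 10) = true := by decide +kernel

theorem vchk_93 : allPow (below (nat_lit 98280) (pairB (nat_lit 0) V T as (nat_lit 98280) (nat_lit 3))) 10 (93 * 2 ^ 10) = true := by decide +kernel

theorem vchk_94 : allPow (below (nat_lit 98280) (pairB (nat_lit 0) V T as (nat_lit 98280) (nat_lit 3))) 10 (94 * 2 ^ 10) = true := by decide +kernel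

theorem vchk_95 : allPow (below (nat_lit 98280) (pairB (nat_lit 0) V T as (nat_lit 98280) (nat_lit 3))) 10 (95 * 2 ^ 10) = true := by decide +kernel

end Cfsg.Agent.H9.OutCo1
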