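import Cfsg.Agent.H9.OutCo1C0
import Cfsg.Agent.H9.OutCo1C1
import Cfsg.Agent.H9.OutCo1C2

/-! The outer automorphism group of Co1. -/

set_option autoImplicit false
set_option maxRecDepth 100000

namespace Cfsg.Agent.H9.OutCo1

theorem slp : ∀ i < 98280, (slp2B T SW (nat_lit 3)) i = true :=
  all_of_blocks (d := 13) (m := 12) (by decide) (forall_lt_succ'' (forall_lt_succ'' (forall_lt_succ'' (forall_lt_succ'' (forall_lt_succ'' (forall_lt_succ'' (forall_lt_succ'' (forall_lt_succ'' (forall_lt_succ'' (forall_lt_succ'' (forall_lt_succ'' (forall_lt_succ'' forall_lt_zero'' slp_0) slp_1) slp_2) slp_3) slp_4) slp_5) slp_6) slp_7) slp_8) slp_9) slp_10) slp_11)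

theorem trans : ∀ i < 98280, (transB TT (nat_lit 26956) (nat_lit 10) inf (nat_lit 5) (nat_lit 31)) i = true :=
  all_of_blocks (d := 15) (m := 3) (by decide) (forall_lt_succ'' (forall_lt_succ'' (forall_lt_succ'' forall_lt_zero'' trans_0) trans_1) trans_2)

theorem fa : ∀ i < 98280, (fixB (tr TT [D.ia]) [nat_lit 26956]) i = true :=
  all_of_blocks (d := 16) (m := 2) (by decide) (forall_lt_succ'' (forall_lt_succ'' forall_lt_zero'' fa_0) fa_1)

theorem fb : ∀ i < 98280, (fixB (tr TT (List.replicate D.i D.ib)) (nat_lit 26956 :: (lk.map Prod.fst ++ dead.map Prod.fst))) i = true :=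
  all_of_blocks (d := 16) (m := 2) (by decide) (forall_lt_succ'' (forall_lt_succ'' forall_lt_zero'' fb_0) fb_1)

theorem sub : ∀ i < 4600, (subB TT U TH Wh (nat_lit 98280) (nat_lit 4600)) i = true :=
  all_of_blocks (d := 12) (m := 2) (by decide) (forall_lt_succ'' (forall_lt_succ'' forall_lt_zero'' sub_0) sub_1)

theorem slpH : ∀ i < 4600, (slpB TH WH Wh.length) i = true :=
  all_of_blocks (d := 9) (m := 9) (by decide) (forall_lt_succ'' (forall_lt_succ'' (forall_lt_succ'' (forall_lt_succ'' (forall_lt_succ'' (forall_lt_succ'' (forall_lt_succ'' (forall_lt_succ'' (forall_lt_succ'' forall_lt_zero'' slpH_0) slpH_1) slpH_2) slpH_3) slpH_4) slpH_5) slpH_6) slpH_7) slpH_8)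

theorem ptLa : ∀ i < 4600, (La0.toLv.ptB TH (nat_lit 4600)) i = true :=
  all_of_blocks (d := 13) (m := 1) (by decide) (forall_lt_succ'' forall_lt_zero'' ptLa_0)

theorem chLa : ChainChk TH 4600 47 ((La0 :: Las).map SLv.toLv) [] :=
  ⟨by decide +kernel, ptLa, chainChk_of chLa1⟩

theorem scLa : ∀ i < 4600, (scanB TH iv (tr TH [nat_lit 0]) La0 Las []) i = true :=
  all_of_blocks (d := 13) (m := 1) (by decide) (forall_lt_succ'' forall_lt_zero'' scLa_0)

theorem ptLb : ∀ i < 4600, (Lb0.toLv.ptB TH (nat_lit 4600)) i = true :=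
  all_of_blocks (d := 13) (m := 1) (by decide) (forall_lt_succ'' forall_lt_zero'' ptLb_0)

theorem chLb : ChainChk TH 4600 47 ((Lb0 :: Lbs).map SLv.toLv) [] :=
  ⟨by decide +kernel, ptLb, chainChk_of chLb1⟩

theorem scLb : ∀ i < 4600, (scanB TH iv (tr TH (List.replicate D.i (nat_lit 1))) Lb0 Lbs []) i = true :=
  all_of_blocks (d := 13) (m := 1) (by decide) (forall_lt_succ'' forall_lt_zero'' scLb_0)

theorem okH {K : Type*} [Group K] [Finite K] (A : RA K 4600) (g0 : ℕ → K) (hT : A.Tab g0 Wh.length TH)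
    (hle : Nat.card K ≤ 42305421312000) : RA.HOK A g0 Wh.length BH (nat_lit 0) (List.replicate D.i (nat_lit 1))
      (linkWs (Lb0 :: Lbs)) ys 42305421312000 :=
  RA.hOK_of hT (by decide +kernel) slpH (by decide +kernel) hle chLa (by decide +kernel) chLb
    (by decide +kernel) (by decide +kernel) (iv := iv) (by decide +kernel) scLa
    (by decide +kernel) scLb (by decide +kernel) nc

theorem ok {G : Type*} [Group G] [Finite G] {A : RA G 98280} {g0 : ℕ → G} (hT : A.Tab g0 3 T)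
    (hle : Nat.card G ≤ 4157776806543360000) : ∃ g : ℕ → G, (∀ s < 3, g s = g0 s) ∧ RA.OutOK A g 10 TT B D 4157776806543360000 := by
  obtain ⟨g1, h1, e1⟩ := hT.extend2 (L := SW) (by decide +kernel) slp
  have h2 : A.Tab g1 8 T := h1
  refine ⟨_, fun s hs => ?_, bigOK_of (h2.derive2 (Wd := Wd) (by decide +kernel) 10) (n' := 42305421312000)
    hle trans (by decide +kernel) sub (fun K _ _ A' g0 h h' => okH A' g0 h h') (by decide +kernel)
    bigS fa fb⟩
  rw [if_pos (by omega), e1 s hs]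

theorem out {G : Type*} [Group G] [Finite G] {A : RA G 98280} {g0 : ℕ → G} (hT : A.Tab g0 3 T)
    (hle : Nat.card G ≤ 4157776806543360000) : Nat.card (Cfsg.Out G) = 1 := by
  obtain ⟨g, -, h⟩ := ok hT hle
  exact h.out_one (by decide) chk rfl

theorem vchk_a0 : ∀ j < 40, allPow (below (nat_lit 98280) (pairB (nat_lit 0) V T as (nat_lit 98280) (nat_lit 3))) 10 (j * 2 ^ 10) = true :=
  (forall_lt_succ'' (forall_lt_succ'' (forall_lt_succ'' (forall_lt_succ'' (forall_lt_succ'' (forall_lt_succ'' (forall_lt_succ'' (forall_lt_succ'' (forall_lt_succ'' (forall_lt_succ'' (forall_lt_succ'' (forall_lt_succ'' (forall_lt_succ'' (forall_lt_succ'' (forall_lt_succ'' (forall_lt_succ'' (forall_lt_succ'' (forall_lt_succ'' (forall_lt_succ'' (forall_lt_succ'' (forall_lt_succ'' (forall_lt_succ'' (forall_lt_succ'' (forall_lt_succ'' (forall_lt_succ'' (forall_lt_succ'' (forall_lt_succ'' (forall_lt_succ'' (forall_lt_succ'' (forall_lt_succ'' (forall_lt_succ'' (forall_lt_succ''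 (forall_lt_succ'' (forall_lt_succ'' (forall_lt_succ'' (forall_lt_succ'' (forall_lt_succ'' (forall_lt_succ'' (forall_lt_succ'' (forall_lt_succ'' forall_lt_zero'' vchk_0) vchk_1) vchk_2) vchk_3) vchk_4) vchk_5) vchk_6) vchk_7) vchk_8) vchk_9) vchk_10) vchk_11) vchk_12) vchk_13) vchk_14) vchk_15) vchk_16) vchk_17) vchk_18) vchk_19) vchk_20) vchk_21) vchk_22) vchk_23) vchk_24) vchk_25) vchk_26) vchk_27) vchk_28) vchk_29) vchk_30) vchk_31) vchk_32) vchk_33) vchk_34) vchk_35) vchk_36) vchk_37) vchk_38) vchk_39)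

theorem vchk_a40 : ∀ j < 80, allPow (below (nat_lit 98280) (pairB (nat_lit 0) V T as (nat_lit 98280) (nat_lit 3))) 10 (j * 2 ^ 10) = true :=
  (forall_lt_succ'' (forall_lt_succ'' (forall_lt_succ'' (forall_lt_succ'' (forall_lt_succ'' (forall_lt_succ'' (forall_lt_succ'' (forall_lt_succ'' (forall_lt_succ'' (forall_lt_succ'' (forall_lt_succ'' (forall_lt_succ'' (forall_lt_succ'' (forall_lt_succ'' (forall_lt_succ'' (forall_lt_succ'' (forall_lt_succ'' (forall_lt_succ'' (forall_lt_succ'' (forall_lt_succ'' (forall_lt_succ'' (forall_lt_succ'' (forall_lt_succ'' (forall_lt_succ'' (forall_lt_succ'' (forall_lt_succ'' (forall_lt_succ'' (forall_lt_succ'' (forall_lt_succ'' (forall_lt_succ'' (forall_lt_succ'' (forall_lt_succ'' (forall_lt_succ'' (forall_lt_succ'' (forall_lt_succ'' (forall_lt_succ'' (forall_lt_succ'' (forall_lt_succ'' (forall_lt_succ'' (forall_lt_succ'' vchk_a0 vchk_40) vchk_41) vchk_42) vchk_43) vchk_44) vchk_45) vchk_46) vchk_47) vchk_48) vchk_49)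 vchk_50) vchk_51) vchk_52) vchk_53) vchk_54) vchk_55) vchk_56) vchk_57) vchk_58) vchk_59) vchk_60) vchk_61) vchk_62) vchk_63) vchk_64) vchk_65) vchk_66) vchk_67) vchk_68) vchk_69) vchk_70) vchk_71) vchk_72) vchk_73) vchk_74) vchk_75) vchk_76) vchk_77) vchk_78) vchk_79)

theorem vchk : ∀ i < 98280, (pairB (nat_lit 0) V T as (nat_lit 98280) (nat_lit 3)) i = true :=
  all_of_blocks (d := 10) (m := 96) (by decide) (forall_lt_succ'' (forall_lt_succ'' (forall_lt_succ'' (forall_lt_succ'' (forall_lt_succ'' (forall_lt_succ'' (forall_lt_succ'' (forall_lt_succ'' (forall_lt_succ'' (forall_lt_succ'' (forall_lt_succ'' (forall_lt_succ'' (forall_lt_succ'' (forall_lt_succ'' (forall_lt_succ'' (forall_lt_succ'' vchk_a40 vchk_80) vchk_81) vchk_82) vchk_83) vchk_84) vchk_85) vchk_86) vchk_87) vchk_88) vchk_89) vchk_90) vchk_91) vchk_92) vchk_93) vchk_94) vchk_95)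

theorem exists_ra : ∃ (A : RA Co0q 98280) (g : ℕ → Cfsg.Co0),
    A.Tab (fun s => QuotientGroup.mk (g s)) 3 T ∧ ∀ s < 3, LRep (as s) (g s) := by
  obtain ⟨g, hg⟩ := exists_gens (H := Cfsg.Co0) memCo0 (k := 3) (Xs := Xs) (as := as) (by decide +kernel)
  obtain ⟨A, hA⟩ := exists_ra_pair (QuotientGroup.mk' (Subgroup.zpowers negOne)) hg (U := nat_lit 0)
    (by decide +kernel) ker_negOne vchk
    fun K A g0 hT => eq_top_of_card card_Co0q_le fun h => (ok hT h).choose_spec.2.card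
  exact ⟨A, g, hA, hg⟩

theorem center_Co0 : Subgroup.center Cfsg.Co0 = Subgroup.zpowers negOne := by
  obtain ⟨A, g, hA, -⟩ := exists_ra
  obtain ⟨g', -, h⟩ := ok hA card_Co0q_le
  exact center_eq_of zpowers_negOne_le (h.center_eq_bot (by decide) chk)

/-- `Co1` is the quotient by the sign -/
noncomputable def equivCo1 : Co0q ≃* Cfsg.Spor.Co1 :=
  QuotientGroup.quotientMulEquivOfEq center_Co0.symm

theorem card_out : Nat.card (Cfsg.Out Cfsg.Spor.Co1) = 1 := by
  obtain ⟨A, g, hA, -⟩ := exists_ra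
  rw [← card_out_congr equivCo1]
  exact out hA card_Co0q_le

theorem exists_ra1 : ∃ (A : RA Cfsg.Spor.Co1 98280) (g : ℕ → Cfsg.Co0),
    A.Tab (fun s => QuotientGroup.mk (g s)) 3 T ∧ ∀ s < 3, LRep (as s) (g s) := by
  obtain ⟨A, g, hA, hg⟩ := exists_ra
  exact ⟨A.comap equivCo1.symm.toMonoidHom, g, hA, hg⟩

theorem card_le : Nat.card Cfsg.Spor.Co1 ≤ 4157776806543360000 := card_Co1_le

theorem pub : ∃ (A : L0.RAct Cfsg.Spor.Co1 98280) (g : ℕ → Cfsg.Spor.Co1), A.Tab g 10 TT ∧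
    A.IsBase B ∧ Nat.card Cfsg.Spor.Co1 = 4157776806543360000 ∧
    Subgroup.closure {g D.ia, g D.ib, g D.it} = ⊤ := by
  obtain ⟨A, g, hA, -⟩ := exists_ra1
  obtain ⟨g', -, h⟩ := ok hA card_Co1_le
  exact ⟨_, g', h.pub⟩


end Cfsg.Agent.H9.OutCo1
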