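import Cfsg.Agent.H9.OutCo1D

/-! The outer automorphism group of Co1. Checks. -/

set_option autoImplicit false
set_option maxRecDepth 100000

namespace Cfsg.Agent.H9.OutCo1

theorem slp_0 : allPow (below (nat_lit 98280) (slp2B T SW (nat_lit 3))) 13 (0 * 2 ^ 13) = true := by decide +kernel

theorem slp_1 : allPow (below (nat_lit 98280) (slp2B T SW (nat_lit 3))) 13 (1 * 2 ^ 13) = true := by decide +kernel

theorem slp_2 : allPow (below (nat_lit 98280) (slp2B T SW (nat_lit 3))) 13 (2 * 2 ^ 13) = true := by decide +kernel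

theorem slp_3 : allPow (below (nat_lit 98280) (slp2B T SW (nat_lit 3))) 13 (3 * 2 ^ 13) = true := by decide +kernel

theorem slp_4 : allPow (below (nat_lit 98280) (slp2B T SW (nat_lit 3))) 13 (4 * 2 ^ 13) = true := by decide +kernel

theorem slp_5 : allPow (below (nat_lit 98280) (slp2B T SW (nat_lit 3))) 13 (5 * 2 ^ 13) = true := by decide +kernel

theorem slp_6 : allPow (below (nat_lit 98280) (slp2B T SW (nat_lit 3))) 13 (6 * 2 ^ 13) = true := by decide +kernel

theorem slp_7 : allPow (below (nat_lit 98280) (slp2B T SW (nat_lit 3))) 13 (7 * 2 ^ 13) = true := by decide +kernel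

theorem slp_8 : allPow (below (nat_lit 98280) (slp2B T SW (nat_lit 3))) 13 (8 * 2 ^ 13) = true := by decide +kernel

theorem slp_9 : allPow (below (nat_lit 98280) (slp2B T SW (nat_lit 3))) 13 (9 * 2 ^ 13) = true := by decide +kernel

theorem slp_10 : allPow (below (nat_lit 98280) (slp2B T SW (nat_lit 3))) 13 (10 * 2 ^ 13) = true := by decide +kernel

theorem slp_11 : allPow (below (nat_lit 98280) (slp2B T SW (nat_lit 3))) 13 (11 * 2 ^ 13) = true := by decide +kernel

theorem trans_0 : allPow (below (nat_lit 98280) (transB TT (nat_lit 26956) (nat_lit 10) inf (nat_lit 5) (nat_lit 31))) 15 (0 * 2 ^ 15) = true := by decide +kernel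

theorem trans_1 : allPow (below (nat_lit 98280) (transB TT (nat_lit 26956) (nat_lit 10) inf (nat_lit 5) (nat_lit 31))) 15 (1 * 2 ^ 15) = true := by decide +kernel

theorem trans_2 : allPow (below (nat_lit 98280) (transB TT (nat_lit 26956) (nat_lit 10) inf (nat_lit 5) (nat_lit 31))) 15 (2 * 2 ^ 15) = true := by decide +kernel

theorem fa_0 : allPow (below (nat_lit 98280) (fixB (tr TT [D.ia]) [nat_lit 26956])) 16 (0 * 2 ^ 16) = true := by decide +kernel

theorem fa_1 : allPow (below (nat_lit 98280) (fixB (tr TT [D.ia]) [nat_lit 26956])) 16 (1 * 2 ^ 16) = true := by decide +kernel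

theorem fb_0 : allPow (below (nat_lit 98280) (fixB (tr TT (List.replicate D.i D.ib)) (nat_lit 26956 :: (lk.map Prod.fst ++ dead.map Prod.fst)))) 16 (0 * 2 ^ 16) = true := by decide +kernel

theorem fb_1 : allPow (below (nat_lit 98280) (fixB (tr TT (List.replicate D.i D.ib)) (nat_lit 26956 :: (lk.map Prod.fst ++ dead.map Prod.fst)))) 16 (1 * 2 ^ 16) = true := by decide +kernel

theorem sub_0 : allPow (below (nat_lit 4600) (subB TT U TH Wh (nat_lit 98280) (nat_lit 4600))) 12 (0 * 2 ^ 12) = true := by decide +kernel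

theorem sub_1 : allPow (below (nat_lit 4600) (subB TT U TH Wh (nat_lit 98280) (nat_lit 4600))) 12 (1 * 2 ^ 12) = true := by decide +kernel

theorem slpH_0 : allPow (below (nat_lit 4600) (slpB TH WH Wh.length)) 9 (0 * 2 ^ 9) = true := by decide +kernel

theorem slpH_1 : allPow (below (nat_lit 4600) (slpB TH WH Wh.length)) 9 (1 * 2 ^ 9) = true := by decide +kernel

theorem slpH_2 : allPow (below (nat_lit 4600) (slpB TH WH Wh.length)) 9 (2 * 2 ^ 9) = true := by decide +kernel

theorem slpH_3 : allPow (below (nat_lit 4600) (slpB TH WH Wh.length)) 9 (3 * 2 ^ 9) = true := by decide +kernel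

theorem slpH_4 : allPow (below (nat_lit 4600) (slpB TH WH Wh.length)) 9 (4 * 2 ^ 9) = true := by decide +kernel

theorem slpH_5 : allPow (below (nat_lit 4600) (slpB TH WH Wh.length)) 9 (5 * 2 ^ 9) = true := by decide +kernel

theorem slpH_6 : allPow (below (nat_lit 4600) (slpB TH WH Wh.length)) 9 (6 * 2 ^ 9) = true := by decide +kernel

theorem slpH_7 : allPow (below (nat_lit 4600) (slpB TH WH Wh.length)) 9 (7 * 2 ^ 9) = true := by decide +kernel

theorem slpH_8 : allPow (below (nat_lit 4600) (slpB TH WH Wh.length)) 9 (8 * 2 ^ 9) = true := by decide +kernel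

theorem ptLa_0 : allPow (below (nat_lit 4600) (La0.toLv.ptB TH (nat_lit 4600))) 13 (0 * 2 ^ 13) = true := by decide +kernel

theorem chLa1 : chainB TH 4600 47 (Las.map SLv.toLv) [La0.β] = true := by decide +kernel

theorem scLa_0 : allPow (below (nat_lit 4600) (scanB TH iv (tr TH [nat_lit 0]) La0 Las [])) 13 (0 * 2 ^ 13) = true := by decide +kernel

theorem ptLb_0 : allPow (below (nat_lit 4600) (Lb0.toLv.ptB TH (nat_lit 4600))) 13 (0 * 2 ^ 13) = true := by decide +kernel

theorem chLb1 : chainB TH 4600 47 (Lbs.map SLv.toLv) [Lb0.β] = true := by decide +kernel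

theorem scLb_0 : allPow (below (nat_lit 4600) (scanB TH iv (tr TH (List.replicate D.i (nat_lit 1))) Lb0 Lbs [])) 13 (0 * 2 ^ 13) = true := by decide +kernel

theorem chk : D.chk TT 10 4157776806543360000 B = true := by decide +kernel

theorem bigS : RA.bigB TT 98280 10 (nat_lit 26956) B D Wh (nat_lit 0) (nat_lit 1) (linkWs (Lb0 :: Lbs)) ys lk dead gl = true := by decide +kernel

theorem nc : (allL ys fun y => emptyB TH iv (Lb0 :: Lbs) (tr TH [y]) []) = true := by decide +kernel

theorem vchk_0 : allPow (below (nat_lit 98280) (pairB (nat_lit 0) V T as (nat_lit 98280) (nat_lit 3))) 10 (0 * 2 ^ 10) = true := by decide +kernel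

theorem vchk_1 : allPow (below (nat_lit 98280) (pairB (nat_lit 0) V T as (nat_lit 98280) (nat_lit 3))) 10 (1 * 2 ^ 10) = true := by decide +kernel

theorem vchk_2 : allPow (below (nat_lit 98280) (pairB (nat_lit 0) V T as (nat_lit 98280) (nat_lit 3))) 10 (2 * 2 ^ 10) = true := by decide +kernel

theorem vchk_3 : allPow (below (nat_lit 98280) (pairB (nat_lit 0) V T as (nat_lit 98280) (nat_lit 3))) 10 (3 * 2 ^ 10) = true := by decide +kernel

theorem vchk_4 : allPow (below (nat_lit 98280) (pairB (nat_lit 0) V T as (nat_lit 98280) (nat_lit 3))) 10 (4 * 2 ^ 10) = true := by decide +kernel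

theorem vchk_5 : allPow (below (nat_lit 98280) (pairB (nat_lit 0) V T as (nat_lit 98280) (nat_lit 3))) 10 (5 * 2 ^ 10) = true := by decide +kernel

theorem vchk_6 : allPow (below (nat_lit 98280) (pairB (nat_lit 0) V T as (nat_lit 98280) (nat_lit 3))) 10 (6 * 2 ^ 10) = true := by decide +kernel

theorem vchk_7 : allPow (below (nat_lit 98280) (pairB (nat_lit 0) V T as (nat_lit 98280) (nat_lit 3))) 10 (7 * 2 ^ 10) = true := by decide +kernel

end Cfsg.Agent.H9.OutCo1
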