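import Cfsg.Agent.H9.LeechRA2
import Cfsg.Agent.H9.OutCo1L0
import Cfsg.Agent.H9.OutCo1L1
import Cfsg.Agent.H9.OutCo1L2
import Cfsg.Agent.H9.OutCo1L3

/-! The outer automorphism group of Co1. Data. -/

set_option autoImplicit false
set_option maxRecDepth 100000

namespace Cfsg.Agent.H9.OutCo1

noncomputable def TB : L0.BT := (.node (.node (.node (.node (.node (.node (.node (.node (.node (.node (.leaf TB_0) (.leaf TB_512)) (.node (.leaf TB_256) (.leaf TB_768))) (.node (.node (.leaf TB_128) (.leaf TB_640)) (.node (.leaf TB_384) (.leaf TB_896)))) (.node (.node (.node (.leaf TB_64) (.leaf TB_576)) (.node (.leaf TB_320) (.leaf TB_832))) (.node (.node (.leaf TB_192) (.leaf TB_704)) (.node (.leaf TB_448) (.leaf TB_960))))) (.node (.node (.node (.node (.leaf TB_32) (.leaf TB_544)) (.node (.leaf TB_288) (.leaf TB_800))) (.node (.node (.leaf TB_160) (.leaf TB_672)) (.node (.leaf TB_416) (.leaf TB_928)))) (.node (.node (.node (.leaf (nat_lit 0)) (.leaf (nat_lit 0))) (.node (.leaf (nat_lit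 0)) (.leaf (nat_lit 0)))) (.node (.node (.leaf (nat_lit 0)) (.leaf (nat_lit 0))) (.node (.leaf (nat_lit 0)) (.leaf (nat_lit 0))))))) (.node (.node (.node (.node (.node (.leaf TB_16) (.leaf TB_528)) (.node (.leaf TB_272) (.leaf TB_784))) (.node (.node (.leaf TB_144) (.leaf TB_656)) (.node (.leaf TB_400) (.leaf TB_912)))) (.node (.node (.node (.leaf TB_80) (.leaf TB_592)) (.node (.leaf TB_336) (.leaf TB_848))) (.node (.node (.leaf TB_208) (.leaf TB_720)) (.node (.leaf TB_464) (.leaf TB_976))))) (.node (.node (.node (.node (.leaf TB_48) (.leaf TB_560)) (.node (.leaf TB_304) (.leaf TB_816))) (.node (.node (.leaf TB_176) (.leaf TB_688)) (.node (.leaf TB_432) (.leaf TB_944)))) (.node (.node (.node (.leaf (nat_lit 0)) (.leaf (nat_lit 0))) (.node (.leaf (nat_lit 0)) (.leaf (nat_lit 0)))) (.node (.node (.leaf (nat_lit 0)) (.leaf (nat_lit 0))) (.node (.leaf (nat_lit 0)) (.leaf (nat_lit 0)))))))) (.node (.node (.node (.node (.node (.node (.leaf TB_8) (.leaf TB_520)) (.node (.leaf TB_264)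 (.leaf TB_776))) (.node (.node (.leaf TB_136) (.leaf TB_648)) (.node (.leaf TB_392) (.leaf TB_904)))) (.node (.node (.node (.leaf TB_72) (.leaf TB_584)) (.node (.leaf TB_328) (.leaf TB_840))) (.node (.node (.leaf TB_200) (.leaf TB_712)) (.node (.leaf TB_456) (.leaf TB_968))))) (.node (.node (.node (.node (.leaf TB_40) (.leaf TB_552)) (.node (.leaf TB_296) (.leaf TB_808))) (.node (.node (.leaf TB_168) (.leaf TB_680)) (.node (.leaf TB_424) (.leaf TB_936)))) (.node (.node (.node (.leaf (nat_lit 0)) (.leaf (nat_lit 0))) (.node (.leaf (nat_lit 0)) (.leaf (nat_lit 0)))) (.node (.node (.leaf (nat_lit 0)) (.leaf (nat_lit 0))) (.node (.leaf (nat_lit 0)) (.leaf (nat_lit 0))))))) (.node (.node (.node (.node (.node (.leaf TB_24) (.leaf TB_536)) (.node (.leaf TB_280) (.leaf TB_792))) (.node (.node (.leaf TB_152) (.leaf TB_664)) (.node (.leaf TB_408) (.leaf TB_920)))) (.node (.node (.node (.leaf TB_88) (.leaf TB_600)) (.node (.leaf TB_344) (.leaf TB_856))) (.node (.node (.leaf TB_216)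 (.leaf TB_728)) (.node (.leaf TB_472) (.leaf TB_984))))) (.node (.node (.node (.node (.leaf TB_56) (.leaf TB_568)) (.node (.leaf TB_312) (.leaf TB_824))) (.node (.node (.leaf TB_184) (.leaf TB_696)) (.node (.leaf TB_440) (.leaf TB_952)))) (.node (.node (.node (.leaf (nat_lit 0)) (.leaf (nat_lit 0))) (.node (.leaf (nat_lit 0)) (.leaf (nat_lit 0)))) (.node (.node (.leaf (nat_lit 0)) (.leaf (nat_lit 0))) (.node (.leaf (nat_lit 0)) (.leaf (nat_lit 0))))))))) (.node (.node (.node (.node (.node (.node (.node (.leaf TB_4) (.leaf TB_516)) (.node (.leaf TB_260) (.leaf TB_772))) (.node (.node (.leaf TB_132) (.leaf TB_644)) (.node (.leaf TB_388) (.leaf TB_900)))) (.node (.node (.node (.leaf TB_68) (.leaf TB_580)) (.node (.leaf TB_324) (.leaf TB_836))) (.node (.node (.leaf TB_196) (.leaf TB_708)) (.node (.leaf TB_452) (.leaf TB_964))))) (.node (.node (.node (.node (.leaf TB_36) (.leaf TB_548)) (.node (.leaf TB_292) (.leaf TB_804))) (.node (.node (.leaf TB_164) (.leaf TB_676)) (.node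 (.leaf TB_420) (.leaf TB_932)))) (.node (.node (.node (.leaf (nat_lit 0)) (.leaf (nat_lit 0))) (.node (.leaf (nat_lit 0)) (.leaf (nat_lit 0)))) (.node (.node (.leaf (nat_lit 0)) (.leaf (nat_lit 0))) (.node (.leaf (nat_lit 0)) (.leaf (nat_lit 0))))))) (.node (.node (.node (.node (.node (.leaf TB_20) (.leaf TB_532)) (.node (.leaf TB_276) (.leaf TB_788))) (.node (.node (.leaf TB_148) (.leaf TB_660)) (.node (.leaf TB_404) (.leaf TB_916)))) (.node (.node (.node (.leaf TB_84) (.leaf TB_596)) (.node (.leaf TB_340) (.leaf TB_852))) (.node (.node (.leaf TB_212) (.leaf TB_724)) (.node (.leaf TB_468) (.leaf TB_980))))) (.node (.node (.node (.node (.leaf TB_52) (.leaf TB_564)) (.node (.leaf TB_308) (.leaf TB_820))) (.node (.node (.leaf TB_180) (.leaf TB_692)) (.node (.leaf TB_436) (.leaf TB_948)))) (.node (.node (.node (.leaf (nat_lit 0)) (.leaf (nat_lit 0))) (.node (.leaf (nat_lit 0)) (.leaf (nat_lit 0)))) (.node (.node (.leaf (nat_lit 0)) (.leaf (nat_lit 0))) (.node (.leaf (nat_lit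 0)) (.leaf (nat_lit 0)))))))) (.node (.node (.node (.node (.node (.node (.leaf TB_12) (.leaf TB_524)) (.node (.leaf TB_268) (.leaf TB_780))) (.node (.node (.leaf TB_140) (.leaf TB_652)) (.node (.leaf TB_396) (.leaf TB_908)))) (.node (.node (.node (.leaf TB_76) (.leaf TB_588)) (.node (.leaf TB_332) (.leaf TB_844))) (.node (.node (.leaf TB_204) (.leaf TB_716)) (.node (.leaf TB_460) (.leaf TB_972))))) (.node (.node (.node (.node (.leaf TB_44) (.leaf TB_556)) (.node (.leaf TB_300) (.leaf TB_812))) (.node (.node (.leaf TB_172) (.leaf TB_684)) (.node (.leaf TB_428) (.leaf TB_940)))) (.node (.node (.node (.leaf (nat_lit 0)) (.leaf (nat_lit 0))) (.node (.leaf (nat_lit 0)) (.leaf (nat_lit 0)))) (.node (.node (.leaf (nat_lit 0)) (.leaf (nat_lit 0))) (.node (.leaf (nat_lit 0)) (.leaf (nat_lit 0))))))) (.node (.node (.node (.node (.node (.leaf TB_28) (.leaf TB_540)) (.node (.leaf TB_284) (.leaf TB_796))) (.node (.node (.leaf TB_156) (.leaf TB_668)) (.node (.leaf TB_412) (.leaf TB_924))))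 (.node (.node (.node (.leaf TB_92) (.leaf TB_604)) (.node (.leaf TB_348) (.leaf TB_860))) (.node (.node (.leaf TB_220) (.leaf TB_732)) (.node (.leaf TB_476) (.leaf TB_988))))) (.node (.node (.node (.node (.leaf TB_60) (.leaf TB_572)) (.node (.leaf TB_316) (.leaf TB_828))) (.node (.node (.leaf TB_188) (.leaf TB_700)) (.node (.leaf TB_444) (.leaf TB_956)))) (.node (.node (.node (.leaf (nat_lit 0)) (.leaf (nat_lit 0))) (.node (.leaf (nat_lit 0)) (.leaf (nat_lit 0)))) (.node (.node (.leaf (nat_lit 0)) (.leaf (nat_lit 0))) (.node (.leaf (nat_lit 0)) (.leaf (nat_lit 0)))))))))) (.node (.node (.node (.node (.node (.node (.node (.node (.leaf TB_2) (.leaf TB_514)) (.node (.leaf TB_258) (.leaf TB_770))) (.node (.node (.leaf TB_130) (.leaf TB_642)) (.node (.leaf TB_386) (.leaf TB_898)))) (.node (.node (.node (.leaf TB_66) (.leaf TB_578)) (.node (.leaf TB_322) (.leaf TB_834))) (.node (.node (.leaf TB_194) (.leaf TB_706)) (.node (.leaf TB_450) (.leaf TB_962))))) (.node (.node (.node (.node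 (.leaf TB_34) (.leaf TB_546)) (.node (.leaf TB_290) (.leaf TB_802))) (.node (.node (.leaf TB_162) (.leaf TB_674)) (.node (.leaf TB_418) (.leaf TB_930)))) (.node (.node (.node (.leaf (nat_lit 0)) (.leaf (nat_lit 0))) (.node (.leaf (nat_lit 0)) (.leaf (nat_lit 0)))) (.node (.node (.leaf (nat_lit 0)) (.leaf (nat_lit 0))) (.node (.leaf (nat_lit 0)) (.leaf (nat_lit 0))))))) (.node (.node (.node (.node (.node (.leaf TB_18) (.leaf TB_530)) (.node (.leaf TB_274) (.leaf TB_786))) (.node (.node (.leaf TB_146) (.leaf TB_658)) (.node (.leaf TB_402) (.leaf TB_914)))) (.node (.node (.node (.leaf TB_82) (.leaf TB_594)) (.node (.leaf TB_338) (.leaf TB_850))) (.node (.node (.leaf TB_210) (.leaf TB_722)) (.node (.leaf TB_466) (.leaf TB_978))))) (.node (.node (.node (.node (.leaf TB_50) (.leaf TB_562)) (.node (.leaf TB_306) (.leaf TB_818))) (.node (.node (.leaf TB_178) (.leaf TB_690)) (.node (.leaf TB_434) (.leaf TB_946)))) (.node (.node (.node (.leaf (nat_lit 0)) (.leaf (nat_lit 0))) (.node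 (.leaf (nat_lit 0)) (.leaf (nat_lit 0)))) (.node (.node (.leaf (nat_lit 0)) (.leaf (nat_lit 0))) (.node (.leaf (nat_lit 0)) (.leaf (nat_lit 0)))))))) (.node (.node (.node (.node (.node (.node (.leaf TB_10) (.leaf TB_522)) (.node (.leaf TB_266) (.leaf TB_778))) (.node (.node (.leaf TB_138) (.leaf TB_650)) (.node (.leaf TB_394) (.leaf TB_906)))) (.node (.node (.node (.leaf TB_74) (.leaf TB_586)) (.node (.leaf TB_330) (.leaf TB_842))) (.node (.node (.leaf TB_202) (.leaf TB_714)) (.node (.leaf TB_458) (.leaf TB_970))))) (.node (.node (.node (.node (.leaf TB_42) (.leaf TB_554)) (.node (.leaf TB_298) (.leaf TB_810))) (.node (.node (.leaf TB_170) (.leaf TB_682)) (.node (.leaf TB_426) (.leaf TB_938)))) (.node (.node (.node (.leaf (nat_lit 0)) (.leaf (nat_lit 0))) (.node (.leaf (nat_lit 0)) (.leaf (nat_lit 0)))) (.node (.node (.leaf (nat_lit 0)) (.leaf (nat_lit 0))) (.node (.leaf (nat_lit 0)) (.leaf (nat_lit 0))))))) (.node (.node (.node (.node (.node (.leaf TB_26) (.leaf TB_538))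 (.node (.leaf TB_282) (.leaf TB_794))) (.node (.node (.leaf TB_154) (.leaf TB_666)) (.node (.leaf TB_410) (.leaf TB_922)))) (.node (.node (.node (.leaf TB_90) (.leaf TB_602)) (.node (.leaf TB_346) (.leaf TB_858))) (.node (.node (.leaf TB_218) (.leaf TB_730)) (.node (.leaf TB_474) (.leaf TB_986))))) (.node (.node (.node (.node (.leaf TB_58) (.leaf TB_570)) (.node (.leaf TB_314) (.leaf TB_826))) (.node (.node (.leaf TB_186) (.leaf TB_698)) (.node (.leaf TB_442) (.leaf TB_954)))) (.node (.node (.node (.leaf (nat_lit 0)) (.leaf (nat_lit 0))) (.node (.leaf (nat_lit 0)) (.leaf (nat_lit 0)))) (.node (.node (.leaf (nat_lit 0)) (.leaf (nat_lit 0))) (.node (.leaf (nat_lit 0)) (.leaf (nat_lit 0))))))))) (.node (.node (.node (.node (.node (.node (.node (.leaf TB_6) (.leaf TB_518)) (.node (.leaf TB_262) (.leaf TB_774))) (.node (.node (.leaf TB_134) (.leaf TB_646)) (.node (.leaf TB_390) (.leaf TB_902)))) (.node (.node (.node (.leaf TB_70) (.leaf TB_582)) (.node (.leaf TB_326) (.leaf TB_838)))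 (.node (.node (.leaf TB_198) (.leaf TB_710)) (.node (.leaf TB_454) (.leaf TB_966))))) (.node (.node (.node (.node (.leaf TB_38) (.leaf TB_550)) (.node (.leaf TB_294) (.leaf TB_806))) (.node (.node (.leaf TB_166) (.leaf TB_678)) (.node (.leaf TB_422) (.leaf TB_934)))) (.node (.node (.node (.leaf (nat_lit 0)) (.leaf (nat_lit 0))) (.node (.leaf (nat_lit 0)) (.leaf (nat_lit 0)))) (.node (.node (.leaf (nat_lit 0)) (.leaf (nat_lit 0))) (.node (.leaf (nat_lit 0)) (.leaf (nat_lit 0))))))) (.node (.node (.node (.node (.node (.leaf TB_22) (.leaf TB_534)) (.node (.leaf TB_278) (.leaf TB_790))) (.node (.node (.leaf TB_150) (.leaf TB_662)) (.node (.leaf TB_406) (.leaf TB_918)))) (.node (.node (.node (.leaf TB_86) (.leaf TB_598)) (.node (.leaf TB_342) (.leaf TB_854))) (.node (.node (.leaf TB_214) (.leaf TB_726)) (.node (.leaf TB_470) (.leaf TB_982))))) (.node (.node (.node (.node (.leaf TB_54) (.leaf TB_566)) (.node (.leaf TB_310) (.leaf TB_822))) (.node (.node (.leaf TB_182) (.leaf TB_694))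 (.node (.leaf TB_438) (.leaf TB_950)))) (.node (.node (.node (.leaf (nat_lit 0)) (.leaf (nat_lit 0))) (.node (.leaf (nat_lit 0)) (.leaf (nat_lit 0)))) (.node (.node (.leaf (nat_lit 0)) (.leaf (nat_lit 0))) (.node (.leaf (nat_lit 0)) (.leaf (nat_lit 0)))))))) (.node (.node (.node (.node (.node (.node (.leaf TB_14) (.leaf TB_526)) (.node (.leaf TB_270) (.leaf TB_782))) (.node (.node (.leaf TB_142) (.leaf TB_654)) (.node (.leaf TB_398) (.leaf TB_910)))) (.node (.node (.node (.leaf TB_78) (.leaf TB_590)) (.node (.leaf TB_334) (.leaf TB_846))) (.node (.node (.leaf TB_206) (.leaf TB_718)) (.node (.leaf TB_462) (.leaf TB_974))))) (.node (.node (.node (.node (.leaf TB_46) (.leaf TB_558)) (.node (.leaf TB_302) (.leaf TB_814))) (.node (.node (.leaf TB_174) (.leaf TB_686)) (.node (.leaf TB_430) (.leaf TB_942)))) (.node (.node (.node (.leaf (nat_lit 0)) (.leaf (nat_lit 0))) (.node (.leaf (nat_lit 0)) (.leaf (nat_lit 0)))) (.node (.node (.leaf (nat_lit 0)) (.leaf (nat_lit 0))) (.node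 (.leaf (nat_lit 0)) (.leaf (nat_lit 0))))))) (.node (.node (.node (.node (.node (.leaf TB_30) (.leaf TB_542)) (.node (.leaf TB_286) (.leaf TB_798))) (.node (.node (.leaf TB_158) (.leaf TB_670)) (.node (.leaf TB_414) (.leaf TB_926)))) (.node (.node (.node (.leaf TB_94) (.leaf TB_606)) (.node (.leaf TB_350) (.leaf TB_862))) (.node (.node (.leaf TB_222) (.leaf TB_734)) (.node (.leaf TB_478) (.leaf TB_990))))) (.node (.node (.node (.node (.leaf TB_62) (.leaf TB_574)) (.node (.leaf TB_318) (.leaf TB_830))) (.node (.node (.leaf TB_190) (.leaf TB_702)) (.node (.leaf TB_446) (.leaf TB_958)))) (.node (.node (.node (.leaf (nat_lit 0)) (.leaf (nat_lit 0))) (.node (.leaf (nat_lit 0)) (.leaf (nat_lit 0)))) (.node (.node (.leaf (nat_lit 0)) (.leaf (nat_lit 0))) (.node (.leaf (nat_lit 0)) (.leaf (nat_lit 0))))))))))) (.node (.node (.node (.node (.node (.node (.node (.node (.node (.leaf TB_1) (.leaf TB_513)) (.node (.leaf TB_257) (.leaf TB_769))) (.node (.node (.leaf TB_129) (.leaf TB_641))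 (.node (.leaf TB_385) (.leaf TB_897)))) (.node (.node (.node (.leaf TB_65) (.leaf TB_577)) (.node (.leaf TB_321) (.leaf TB_833))) (.node (.node (.leaf TB_193) (.leaf TB_705)) (.node (.leaf TB_449) (.leaf TB_961))))) (.node (.node (.node (.node (.leaf TB_33) (.leaf TB_545)) (.node (.leaf TB_289) (.leaf TB_801))) (.node (.node (.leaf TB_161) (.leaf TB_673)) (.node (.leaf TB_417) (.leaf TB_929)))) (.node (.node (.node (.leaf (nat_lit 0)) (.leaf (nat_lit 0))) (.node (.leaf (nat_lit 0)) (.leaf (nat_lit 0)))) (.node (.node (.leaf (nat_lit 0)) (.leaf (nat_lit 0))) (.node (.leaf (nat_lit 0)) (.leaf (nat_lit 0))))))) (.node (.node (.node (.node (.node (.leaf TB_17) (.leaf TB_529)) (.node (.leaf TB_273) (.leaf TB_785))) (.node (.node (.leaf TB_145) (.leaf TB_657)) (.node (.leaf TB_401) (.leaf TB_913)))) (.node (.node (.node (.leaf TB_81) (.leaf TB_593)) (.node (.leaf TB_337) (.leaf TB_849))) (.node (.node (.leaf TB_209) (.leaf TB_721)) (.node (.leaf TB_465) (.leaf TB_977))))) (.node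 (.node (.node (.node (.leaf TB_49) (.leaf TB_561)) (.node (.leaf TB_305) (.leaf TB_817))) (.node (.node (.leaf TB_177) (.leaf TB_689)) (.node (.leaf TB_433) (.leaf TB_945)))) (.node (.node (.node (.leaf (nat_lit 0)) (.leaf (nat_lit 0))) (.node (.leaf (nat_lit 0)) (.leaf (nat_lit 0)))) (.node (.node (.leaf (nat_lit 0)) (.leaf (nat_lit 0))) (.node (.leaf (nat_lit 0)) (.leaf (nat_lit 0)))))))) (.node (.node (.node (.node (.node (.node (.leaf TB_9) (.leaf TB_521)) (.node (.leaf TB_265) (.leaf TB_777))) (.node (.node (.leaf TB_137) (.leaf TB_649)) (.node (.leaf TB_393) (.leaf TB_905)))) (.node (.node (.node (.leaf TB_73) (.leaf TB_585)) (.node (.leaf TB_329) (.leaf TB_841))) (.node (.node (.leaf TB_201) (.leaf TB_713)) (.node (.leaf TB_457) (.leaf TB_969))))) (.node (.node (.node (.node (.leaf TB_41) (.leaf TB_553)) (.node (.leaf TB_297) (.leaf TB_809))) (.node (.node (.leaf TB_169) (.leaf TB_681)) (.node (.leaf TB_425) (.leaf TB_937)))) (.node (.node (.node (.leaf (nat_lit 0))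 (.leaf (nat_lit 0))) (.node (.leaf (nat_lit 0)) (.leaf (nat_lit 0)))) (.node (.node (.leaf (nat_lit 0)) (.leaf (nat_lit 0))) (.node (.leaf (nat_lit 0)) (.leaf (nat_lit 0))))))) (.node (.node (.node (.node (.node (.leaf TB_25) (.leaf TB_537)) (.node (.leaf TB_281) (.leaf TB_793))) (.node (.node (.leaf TB_153) (.leaf TB_665)) (.node (.leaf TB_409) (.leaf TB_921)))) (.node (.node (.node (.leaf TB_89) (.leaf TB_601)) (.node (.leaf TB_345) (.leaf TB_857))) (.node (.node (.leaf TB_217) (.leaf TB_729)) (.node (.leaf TB_473) (.leaf TB_985))))) (.node (.node (.node (.node (.leaf TB_57) (.leaf TB_569)) (.node (.leaf TB_313) (.leaf TB_825))) (.node (.node (.leaf TB_185) (.leaf TB_697)) (.node (.leaf TB_441) (.leaf TB_953)))) (.node (.node (.node (.leaf (nat_lit 0)) (.leaf (nat_lit 0))) (.node (.leaf (nat_lit 0)) (.leaf (nat_lit 0)))) (.node (.node (.leaf (nat_lit 0)) (.leaf (nat_lit 0))) (.node (.leaf (nat_lit 0)) (.leaf (nat_lit 0))))))))) (.node (.node (.node (.node (.node (.node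 (.node (.leaf TB_5) (.leaf TB_517)) (.node (.leaf TB_261) (.leaf TB_773))) (.node (.node (.leaf TB_133) (.leaf TB_645)) (.node (.leaf TB_389) (.leaf TB_901)))) (.node (.node (.node (.leaf TB_69) (.leaf TB_581)) (.node (.leaf TB_325) (.leaf TB_837))) (.node (.node (.leaf TB_197) (.leaf TB_709)) (.node (.leaf TB_453) (.leaf TB_965))))) (.node (.node (.node (.node (.leaf TB_37) (.leaf TB_549)) (.node (.leaf TB_293) (.leaf TB_805))) (.node (.node (.leaf TB_165) (.leaf TB_677)) (.node (.leaf TB_421) (.leaf TB_933)))) (.node (.node (.node (.leaf (nat_lit 0)) (.leaf (nat_lit 0))) (.node (.leaf (nat_lit 0)) (.leaf (nat_lit 0)))) (.node (.node (.leaf (nat_lit 0)) (.leaf (nat_lit 0))) (.node (.leaf (nat_lit 0)) (.leaf (nat_lit 0))))))) (.node (.node (.node (.node (.node (.leaf TB_21) (.leaf TB_533)) (.node (.leaf TB_277) (.leaf TB_789))) (.node (.node (.leaf TB_149) (.leaf TB_661)) (.node (.leaf TB_405) (.leaf TB_917)))) (.node (.node (.node (.leaf TB_85) (.leaf TB_597)) (.node (.leaf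 TB_341) (.leaf TB_853))) (.node (.node (.leaf TB_213) (.leaf TB_725)) (.node (.leaf TB_469) (.leaf TB_981))))) (.node (.node (.node (.node (.leaf TB_53) (.leaf TB_565)) (.node (.leaf TB_309) (.leaf TB_821))) (.node (.node (.leaf TB_181) (.leaf TB_693)) (.node (.leaf TB_437) (.leaf TB_949)))) (.node (.node (.node (.leaf (nat_lit 0)) (.leaf (nat_lit 0))) (.node (.leaf (nat_lit 0)) (.leaf (nat_lit 0)))) (.node (.node (.leaf (nat_lit 0)) (.leaf (nat_lit 0))) (.node (.leaf (nat_lit 0)) (.leaf (nat_lit 0)))))))) (.node (.node (.node (.node (.node (.node (.leaf TB_13) (.leaf TB_525)) (.node (.leaf TB_269) (.leaf TB_781))) (.node (.node (.leaf TB_141) (.leaf TB_653)) (.node (.leaf TB_397) (.leaf TB_909)))) (.node (.node (.node (.leaf TB_77) (.leaf TB_589)) (.node (.leaf TB_333) (.leaf TB_845))) (.node (.node (.leaf TB_205) (.leaf TB_717)) (.node (.leaf TB_461) (.leaf TB_973))))) (.node (.node (.node (.node (.leaf TB_45) (.leaf TB_557)) (.node (.leaf TB_301) (.leaf TB_813))) (.node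 (.node (.leaf TB_173) (.leaf TB_685)) (.node (.leaf TB_429) (.leaf TB_941)))) (.node (.node (.node (.leaf (nat_lit 0)) (.leaf (nat_lit 0))) (.node (.leaf (nat_lit 0)) (.leaf (nat_lit 0)))) (.node (.node (.leaf (nat_lit 0)) (.leaf (nat_lit 0))) (.node (.leaf (nat_lit 0)) (.leaf (nat_lit 0))))))) (.node (.node (.node (.node (.node (.leaf TB_29) (.leaf TB_541)) (.node (.leaf TB_285) (.leaf TB_797))) (.node (.node (.leaf TB_157) (.leaf TB_669)) (.node (.leaf TB_413) (.leaf TB_925)))) (.node (.node (.node (.leaf TB_93) (.leaf TB_605)) (.node (.leaf TB_349) (.leaf TB_861))) (.node (.node (.leaf TB_221) (.leaf TB_733)) (.node (.leaf TB_477) (.leaf TB_989))))) (.node (.node (.node (.node (.leaf TB_61) (.leaf TB_573)) (.node (.leaf TB_317) (.leaf TB_829))) (.node (.node (.leaf TB_189) (.leaf TB_701)) (.node (.leaf TB_445) (.leaf TB_957)))) (.node (.node (.node (.leaf (nat_lit 0)) (.leaf (nat_lit 0))) (.node (.leaf (nat_lit 0)) (.leaf (nat_lit 0)))) (.node (.node (.leaf (nat_lit 0))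 (.leaf (nat_lit 0))) (.node (.leaf (nat_lit 0)) (.leaf (nat_lit 0)))))))))) (.node (.node (.node (.node (.node (.node (.node (.node (.leaf TB_3) (.leaf TB_515)) (.node (.leaf TB_259) (.leaf TB_771))) (.node (.node (.leaf TB_131) (.leaf TB_643)) (.node (.leaf TB_387) (.leaf TB_899)))) (.node (.node (.node (.leaf TB_67) (.leaf TB_579)) (.node (.leaf TB_323) (.leaf TB_835))) (.node (.node (.leaf TB_195) (.leaf TB_707)) (.node (.leaf TB_451) (.leaf TB_963))))) (.node (.node (.node (.node (.leaf TB_35) (.leaf TB_547)) (.node (.leaf TB_291) (.leaf TB_803))) (.node (.node (.leaf TB_163) (.leaf TB_675)) (.node (.leaf TB_419) (.leaf TB_931)))) (.node (.node (.node (.leaf (nat_lit 0)) (.leaf (nat_lit 0))) (.node (.leaf (nat_lit 0)) (.leaf (nat_lit 0)))) (.node (.node (.leaf (nat_lit 0)) (.leaf (nat_lit 0))) (.node (.leaf (nat_lit 0)) (.leaf (nat_lit 0))))))) (.node (.node (.node (.node (.node (.leaf TB_19) (.leaf TB_531)) (.node (.leaf TB_275) (.leaf TB_787))) (.node (.node (.leaf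 TB_147) (.leaf TB_659)) (.node (.leaf TB_403) (.leaf TB_915)))) (.node (.node (.node (.leaf TB_83) (.leaf TB_595)) (.node (.leaf TB_339) (.leaf TB_851))) (.node (.node (.leaf TB_211) (.leaf TB_723)) (.node (.leaf TB_467) (.leaf TB_979))))) (.node (.node (.node (.node (.leaf TB_51) (.leaf TB_563)) (.node (.leaf TB_307) (.leaf TB_819))) (.node (.node (.leaf TB_179) (.leaf TB_691)) (.node (.leaf TB_435) (.leaf TB_947)))) (.node (.node (.node (.leaf (nat_lit 0)) (.leaf (nat_lit 0))) (.node (.leaf (nat_lit 0)) (.leaf (nat_lit 0)))) (.node (.node (.leaf (nat_lit 0)) (.leaf (nat_lit 0))) (.node (.leaf (nat_lit 0)) (.leaf (nat_lit 0)))))))) (.node (.node (.node (.node (.node (.node (.leaf TB_11) (.leaf TB_523)) (.node (.leaf TB_267) (.leaf TB_779))) (.node (.node (.leaf TB_139) (.leaf TB_651)) (.node (.leaf TB_395) (.leaf TB_907)))) (.node (.node (.node (.leaf TB_75) (.leaf TB_587)) (.node (.leaf TB_331) (.leaf TB_843))) (.node (.node (.leaf TB_203) (.leaf TB_715)) (.node (.leaf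 TB_459) (.leaf TB_971))))) (.node (.node (.node (.node (.leaf TB_43) (.leaf TB_555)) (.node (.leaf TB_299) (.leaf TB_811))) (.node (.node (.leaf TB_171) (.leaf TB_683)) (.node (.leaf TB_427) (.leaf TB_939)))) (.node (.node (.node (.leaf (nat_lit 0)) (.leaf (nat_lit 0))) (.node (.leaf (nat_lit 0)) (.leaf (nat_lit 0)))) (.node (.node (.leaf (nat_lit 0)) (.leaf (nat_lit 0))) (.node (.leaf (nat_lit 0)) (.leaf (nat_lit 0))))))) (.node (.node (.node (.node (.node (.leaf TB_27) (.leaf TB_539)) (.node (.leaf TB_283) (.leaf TB_795))) (.node (.node (.leaf TB_155) (.leaf TB_667)) (.node (.leaf TB_411) (.leaf TB_923)))) (.node (.node (.node (.leaf TB_91) (.leaf TB_603)) (.node (.leaf TB_347) (.leaf TB_859))) (.node (.node (.leaf TB_219) (.leaf TB_731)) (.node (.leaf TB_475) (.leaf TB_987))))) (.node (.node (.node (.node (.leaf TB_59) (.leaf TB_571)) (.node (.leaf TB_315) (.leaf TB_827))) (.node (.node (.leaf TB_187) (.leaf TB_699)) (.node (.leaf TB_443) (.leaf TB_955)))) (.node (.node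 (.node (.leaf (nat_lit 0)) (.leaf (nat_lit 0))) (.node (.leaf (nat_lit 0)) (.leaf (nat_lit 0)))) (.node (.node (.leaf (nat_lit 0)) (.leaf (nat_lit 0))) (.node (.leaf (nat_lit 0)) (.leaf (nat_lit 0))))))))) (.node (.node (.node (.node (.node (.node (.node (.leaf TB_7) (.leaf TB_519)) (.node (.leaf TB_263) (.leaf TB_775))) (.node (.node (.leaf TB_135) (.leaf TB_647)) (.node (.leaf TB_391) (.leaf TB_903)))) (.node (.node (.node (.leaf TB_71) (.leaf TB_583)) (.node (.leaf TB_327) (.leaf TB_839))) (.node (.node (.leaf TB_199) (.leaf TB_711)) (.node (.leaf TB_455) (.leaf TB_967))))) (.node (.node (.node (.node (.leaf TB_39) (.leaf TB_551)) (.node (.leaf TB_295) (.leaf TB_807))) (.node (.node (.leaf TB_167) (.leaf TB_679)) (.node (.leaf TB_423) (.leaf TB_935)))) (.node (.node (.node (.leaf (nat_lit 0)) (.leaf (nat_lit 0))) (.node (.leaf (nat_lit 0)) (.leaf (nat_lit 0)))) (.node (.node (.leaf (nat_lit 0)) (.leaf (nat_lit 0))) (.node (.leaf (nat_lit 0)) (.leaf (nat_lit 0))))))) (.node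 (.node (.node (.node (.node (.leaf TB_23) (.leaf TB_535)) (.node (.leaf TB_279) (.leaf TB_791))) (.node (.node (.leaf TB_151) (.leaf TB_663)) (.node (.leaf TB_407) (.leaf TB_919)))) (.node (.node (.node (.leaf TB_87) (.leaf TB_599)) (.node (.leaf TB_343) (.leaf TB_855))) (.node (.node (.leaf TB_215) (.leaf TB_727)) (.node (.leaf TB_471) (.leaf TB_983))))) (.node (.node (.node (.node (.leaf TB_55) (.leaf TB_567)) (.node (.leaf TB_311) (.leaf TB_823))) (.node (.node (.leaf TB_183) (.leaf TB_695)) (.node (.leaf TB_439) (.leaf TB_951)))) (.node (.node (.node (.leaf (nat_lit 0)) (.leaf (nat_lit 0))) (.node (.leaf (nat_lit 0)) (.leaf (nat_lit 0)))) (.node (.node (.leaf (nat_lit 0)) (.leaf (nat_lit 0))) (.node (.leaf (nat_lit 0)) (.leaf (nat_lit 0)))))))) (.node (.node (.node (.node (.node (.node (.leaf TB_15) (.leaf TB_527)) (.node (.leaf TB_271) (.leaf TB_783))) (.node (.node (.leaf TB_143) (.leaf TB_655)) (.node (.leaf TB_399) (.leaf TB_911)))) (.node (.node (.node (.leaf TB_79)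 (.leaf TB_591)) (.node (.leaf TB_335) (.leaf TB_847))) (.node (.node (.leaf TB_207) (.leaf TB_719)) (.node (.leaf TB_463) (.leaf TB_975))))) (.node (.node (.node (.node (.leaf TB_47) (.leaf TB_559)) (.node (.leaf TB_303) (.leaf TB_815))) (.node (.node (.leaf TB_175) (.leaf TB_687)) (.node (.leaf TB_431) (.leaf TB_943)))) (.node (.node (.node (.leaf (nat_lit 0)) (.leaf (nat_lit 0))) (.node (.leaf (nat_lit 0)) (.leaf (nat_lit 0)))) (.node (.node (.leaf (nat_lit 0)) (.leaf (nat_lit 0))) (.node (.leaf (nat_lit 0)) (.leaf (nat_lit 0))))))) (.node (.node (.node (.node (.node (.leaf TB_31) (.leaf TB_543)) (.node (.leaf TB_287) (.leaf TB_799))) (.node (.node (.leaf TB_159) (.leaf TB_671)) (.node (.leaf TB_415) (.leaf TB_927)))) (.node (.node (.node (.leaf TB_95) (.leaf TB_607)) (.node (.leaf TB_351) (.leaf TB_863))) (.node (.node (.leaf TB_223) (.leaf TB_735)) (.node (.leaf TB_479) (.leaf TB_991))))) (.node (.node (.node (.node (.leaf TB_63) (.leaf TB_575)) (.node (.leaf TB_319)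 (.leaf TB_831))) (.node (.node (.leaf TB_191) (.leaf TB_703)) (.node (.leaf TB_447) (.leaf TB_959)))) (.node (.node (.node (.leaf (nat_lit 0)) (.leaf (nat_lit 0))) (.node (.leaf (nat_lit 0)) (.leaf (nat_lit 0)))) (.node (.node (.leaf (nat_lit 0)) (.leaf (nat_lit 0))) (.node (.leaf (nat_lit 0)) (.leaf (nat_lit 0))))))))))))

noncomputable def TG (s j : ℕ) : ℕ := L0.BT.get TB (Nat.add (Nat.mul s (nat_lit 128)) j)

noncomputable def T (c s : ℕ) : ℕ := Nat.rec (motive := fun _ => ℕ) 0 (fun j _ => Nat.land (Nat.shiftRight (TG s j) (Nat.mul (nat_lit 17) (Nat.land c (nat_lit 1023)))) (nat_lit 131071)) (Nat.succ (Nat.shiftRight c (nat_lit 10)))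

def SW : List (ℕ × List ℕ) := [(nat_lit 0, []), (nat_lit 1, []), (nat_lit 2, []), (nat_lit 0, [nat_lit 3, nat_lit 5, nat_lit 5, nat_lit 0, nat_lit 4]), (nat_lit 6, [])]

def Wd : List (List ℕ) := [[nat_lit 5, nat_lit 5, nat_lit 5, nat_lit 5, nat_lit 5, nat_lit 5, nat_lit 5, nat_lit 5, nat_lit 1, nat_lit 5, nat_lit 5], [nat_lit 6, nat_lit 6, nat_lit 3, nat_lit 2, nat_lit 0, nat_lit 1, nat_lit 2, nat_lit 2, nat_lit 6, nat_lit 5, nat_lit 5, nat_lit 6, nat_lit 5, nat_lit 1, nat_lit 5, nat_lit 0, nat_lit 7, nat_lit 5, nat_lit 1, nat_lit 1, nat_lit 3, nat_lit 5, nat_lit 4, nat_lit 7, nat_lit 3, nat_lit 6, nat_lit 2, nat_lit 1, nat_lit 3, nat_lit 5, nat_lit 1, nat_lit 3, nat_lit 7, nat_lit 5, nat_lit 0, nat_lit 5, nat_lit 0, nat_lit 2, nat_lit 0, nat_lit 6, nat_lit 2, nat_lit 2, nat_lit 4]]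

noncomputable def TT : ℕ → ℕ → ℕ := T2 T (nat_lit 8) Wd

noncomputable def infB : L0.BT := (.node (.node (.node (.node (.node (.leaf infB_0) (.leaf infB_16)) (.leaf infB_8)) (.node (.node (.leaf infB_4) (.leaf infB_20)) (.leaf infB_12))) (.node (.node (.node (.leaf infB_2) (.leaf infB_18)) (.leaf infB_10)) (.node (.node (.leaf infB_6) (.leaf infB_22)) (.leaf infB_14)))) (.node (.node (.node (.node (.leaf infB_1) (.leaf infB_17)) (.leaf infB_9)) (.node (.node (.leaf infB_5) (.leaf infB_21)) (.leaf infB_13))) (.node (.node (.node (.leaf infB_3) (.leaf infB_19)) (.leaf infB_11)) (.node (.node (.leaf infB_7) (.leaf infB_23)) (.leaf infB_15)))))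

noncomputable def inf (c : ℕ) : ℕ := L0.rowOf infB (nat_lit 12) (nat_lit 4095) (nat_lit 9) (nat_lit 511) c

noncomputable def UB : L0.BT := (.node (.node (.leaf UB_0) (.leaf UB_2)) (.leaf UB_1))

noncomputable def U (c : ℕ) : ℕ := L0.rowOf UB (nat_lit 11) (nat_lit 2047) (nat_lit 17) (nat_lit 131071) c

noncomputable def THB : L0.BT := (.node (.node (.node (.node (.node (.node (.node (.node (.node (.leaf THB_0) (.leaf THB_256)) (.leaf THB_128)) (.node (.node (.leaf THB_64) (.leaf THB_320)) (.leaf THB_192))) (.node (.node (.node (.leaf THB_32) (.leaf THB_288)) (.leaf THB_160)) (.node (.node (.leaf THB_96) (.leaf THB_352)) (.leaf THB_224)))) (.node (.node (.node (.node (.leaf THB_16) (.leaf THB_272)) (.leaf THB_144)) (.node (.node (.leaf THB_80) (.leaf THB_336)) (.leaf THB_208))) (.node (.node (.node (.leaf THB_48) (.leaf THB_304)) (.leaf THB_176)) (.node (.node (.leaf THB_112) (.leaf THB_368)) (.leaf THB_240))))) (.node (.node (.node (.node (.node (.leaf THB_8) (.leaf THB_264))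 (.leaf THB_136)) (.node (.node (.leaf THB_72) (.leaf THB_328)) (.leaf THB_200))) (.node (.node (.node (.leaf THB_40) (.leaf THB_296)) (.leaf THB_168)) (.node (.node (.leaf THB_104) (.leaf THB_360)) (.leaf THB_232)))) (.node (.node (.node (.node (.leaf THB_24) (.leaf THB_280)) (.leaf THB_152)) (.node (.node (.leaf THB_88) (.leaf THB_344)) (.leaf THB_216))) (.node (.node (.node (.leaf THB_56) (.leaf THB_312)) (.leaf THB_184)) (.node (.leaf THB_120) (.leaf THB_248)))))) (.node (.node (.node (.node (.node (.node (.leaf THB_4) (.leaf THB_260)) (.leaf THB_132)) (.node (.node (.leaf THB_68) (.leaf THB_324)) (.leaf THB_196))) (.node (.node (.node (.leaf THB_36) (.leaf THB_292)) (.leaf THB_164)) (.node (.node (.leaf THB_100) (.leaf THB_356)) (.leaf THB_228)))) (.node (.node (.node (.node (.leaf THB_20) (.leaf THB_276)) (.leaf THB_148)) (.node (.node (.leaf THB_84) (.leaf THB_340)) (.leaf THB_212))) (.node (.node (.node (.leaf THB_52) (.leaf THB_308)) (.leaf THB_180)) (.node (.node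 (.leaf THB_116) (.leaf THB_372)) (.leaf THB_244))))) (.node (.node (.node (.node (.node (.leaf THB_12) (.leaf THB_268)) (.leaf THB_140)) (.node (.node (.leaf THB_76) (.leaf THB_332)) (.leaf THB_204))) (.node (.node (.node (.leaf THB_44) (.leaf THB_300)) (.leaf THB_172)) (.node (.node (.leaf THB_108) (.leaf THB_364)) (.leaf THB_236)))) (.node (.node (.node (.node (.leaf THB_28) (.leaf THB_284)) (.leaf THB_156)) (.node (.node (.leaf THB_92) (.leaf THB_348)) (.leaf THB_220))) (.node (.node (.node (.leaf THB_60) (.leaf THB_316)) (.leaf THB_188)) (.node (.leaf THB_124) (.leaf THB_252))))))) (.node (.node (.node (.node (.node (.node (.node (.leaf THB_2) (.leaf THB_258)) (.leaf THB_130)) (.node (.node (.leaf THB_66) (.leaf THB_322)) (.leaf THB_194))) (.node (.node (.node (.leaf THB_34) (.leaf THB_290)) (.leaf THB_162)) (.node (.node (.leaf THB_98) (.leaf THB_354)) (.leaf THB_226)))) (.node (.node (.node (.node (.leaf THB_18) (.leaf THB_274)) (.leaf THB_146)) (.node (.node (.leaf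 THB_82) (.leaf THB_338)) (.leaf THB_210))) (.node (.node (.node (.leaf THB_50) (.leaf THB_306)) (.leaf THB_178)) (.node (.node (.leaf THB_114) (.leaf THB_370)) (.leaf THB_242))))) (.node (.node (.node (.node (.node (.leaf THB_10) (.leaf THB_266)) (.leaf THB_138)) (.node (.node (.leaf THB_74) (.leaf THB_330)) (.leaf THB_202))) (.node (.node (.node (.leaf THB_42) (.leaf THB_298)) (.leaf THB_170)) (.node (.node (.leaf THB_106) (.leaf THB_362)) (.leaf THB_234)))) (.node (.node (.node (.node (.leaf THB_26) (.leaf THB_282)) (.leaf THB_154)) (.node (.node (.leaf THB_90) (.leaf THB_346)) (.leaf THB_218))) (.node (.node (.node (.leaf THB_58) (.leaf THB_314)) (.leaf THB_186)) (.node (.leaf THB_122) (.leaf THB_250)))))) (.node (.node (.node (.node (.node (.node (.leaf (nat_lit 0)) (.leaf (nat_lit 0))) (.leaf (nat_lit 0))) (.node (.node (.leaf (nat_lit 0)) (.leaf (nat_lit 0))) (.leaf (nat_lit 0)))) (.node (.node (.node (.leaf (nat_lit 0)) (.leaf (nat_lit 0))) (.leaf (nat_lit 0))) (.node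 (.node (.leaf (nat_lit 0)) (.leaf (nat_lit 0))) (.leaf (nat_lit 0))))) (.node (.node (.node (.node (.leaf (nat_lit 0)) (.leaf (nat_lit 0))) (.leaf (nat_lit 0))) (.node (.node (.leaf (nat_lit 0)) (.leaf (nat_lit 0))) (.leaf (nat_lit 0)))) (.node (.node (.node (.leaf (nat_lit 0)) (.leaf (nat_lit 0))) (.leaf (nat_lit 0))) (.node (.node (.leaf (nat_lit 0)) (.leaf (nat_lit 0))) (.leaf (nat_lit 0)))))) (.node (.node (.node (.node (.node (.leaf (nat_lit 0)) (.leaf (nat_lit 0))) (.leaf (nat_lit 0))) (.node (.node (.leaf (nat_lit 0)) (.leaf (nat_lit 0))) (.leaf (nat_lit 0)))) (.node (.node (.node (.leaf (nat_lit 0)) (.leaf (nat_lit 0))) (.leaf (nat_lit 0))) (.node (.node (.leaf (nat_lit 0)) (.leaf (nat_lit 0))) (.leaf (nat_lit 0))))) (.node (.node (.node (.node (.leaf (nat_lit 0)) (.leaf (nat_lit 0))) (.leaf (nat_lit 0))) (.node (.node (.leaf (nat_lit 0)) (.leaf (nat_lit 0))) (.leaf (nat_lit 0)))) (.node (.node (.node (.leaf (nat_lit 0)) (.leaf (nat_lit 0))) (.leaf (nat_lit 0))) (.node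 (.leaf (nat_lit 0)) (.leaf (nat_lit 0))))))))) (.node (.node (.node (.node (.node (.node (.node (.node (.leaf THB_1) (.leaf THB_257)) (.leaf THB_129)) (.node (.node (.leaf THB_65) (.leaf THB_321)) (.leaf THB_193))) (.node (.node (.node (.leaf THB_33) (.leaf THB_289)) (.leaf THB_161)) (.node (.node (.leaf THB_97) (.leaf THB_353)) (.leaf THB_225)))) (.node (.node (.node (.node (.leaf THB_17) (.leaf THB_273)) (.leaf THB_145)) (.node (.node (.leaf THB_81) (.leaf THB_337)) (.leaf THB_209))) (.node (.node (.node (.leaf THB_49) (.leaf THB_305)) (.leaf THB_177)) (.node (.node (.leaf THB_113) (.leaf THB_369)) (.leaf THB_241))))) (.node (.node (.node (.node (.node (.leaf THB_9) (.leaf THB_265)) (.leaf THB_137)) (.node (.node (.leaf THB_73) (.leaf THB_329)) (.leaf THB_201))) (.node (.node (.node (.leaf THB_41) (.leaf THB_297)) (.leaf THB_169)) (.node (.node (.leaf THB_105) (.leaf THB_361)) (.leaf THB_233)))) (.node (.node (.node (.node (.leaf THB_25) (.leaf THB_281)) (.leaf THB_153))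 (.node (.node (.leaf THB_89) (.leaf THB_345)) (.leaf THB_217))) (.node (.node (.node (.leaf THB_57) (.leaf THB_313)) (.leaf THB_185)) (.node (.leaf THB_121) (.leaf THB_249)))))) (.node (.node (.node (.node (.node (.node (.leaf (nat_lit 0)) (.leaf (nat_lit 0))) (.leaf (nat_lit 0))) (.node (.node (.leaf (nat_lit 0)) (.leaf (nat_lit 0))) (.leaf (nat_lit 0)))) (.node (.node (.node (.leaf (nat_lit 0)) (.leaf (nat_lit 0))) (.leaf (nat_lit 0))) (.node (.node (.leaf (nat_lit 0)) (.leaf (nat_lit 0))) (.leaf (nat_lit 0))))) (.node (.node (.node (.node (.leaf (nat_lit 0)) (.leaf (nat_lit 0))) (.leaf (nat_lit 0))) (.node (.node (.leaf (nat_lit 0)) (.leaf (nat_lit 0))) (.leaf (nat_lit 0)))) (.node (.node (.node (.leaf (nat_lit 0)) (.leaf (nat_lit 0))) (.leaf (nat_lit 0))) (.node (.node (.leaf (nat_lit 0)) (.leaf (nat_lit 0))) (.leaf (nat_lit 0)))))) (.node (.node (.node (.node (.node (.leaf (nat_lit 0)) (.leaf (nat_lit 0))) (.leaf (nat_lit 0))) (.node (.node (.leaf (nat_lit 0)) (.leaf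 (nat_lit 0))) (.leaf (nat_lit 0)))) (.node (.node (.node (.leaf (nat_lit 0)) (.leaf (nat_lit 0))) (.leaf (nat_lit 0))) (.node (.node (.leaf (nat_lit 0)) (.leaf (nat_lit 0))) (.leaf (nat_lit 0))))) (.node (.node (.node (.node (.leaf (nat_lit 0)) (.leaf (nat_lit 0))) (.leaf (nat_lit 0))) (.node (.node (.leaf (nat_lit 0)) (.leaf (nat_lit 0))) (.leaf (nat_lit 0)))) (.node (.node (.node (.leaf (nat_lit 0)) (.leaf (nat_lit 0))) (.leaf (nat_lit 0))) (.node (.leaf (nat_lit 0)) (.leaf (nat_lit 0)))))))) (.node (.node (.node (.node (.node (.node (.node (.leaf THB_3) (.leaf THB_259)) (.leaf THB_131)) (.node (.node (.leaf THB_67) (.leaf THB_323)) (.leaf THB_195))) (.node (.node (.node (.leaf THB_35) (.leaf THB_291)) (.leaf THB_163)) (.node (.node (.leaf THB_99) (.leaf THB_355)) (.leaf THB_227)))) (.node (.node (.node (.node (.leaf THB_19) (.leaf THB_275)) (.leaf THB_147)) (.node (.node (.leaf THB_83) (.leaf THB_339)) (.leaf THB_211))) (.node (.node (.node (.leaf THB_51) (.leaf THB_307))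 (.leaf THB_179)) (.node (.node (.leaf THB_115) (.leaf THB_371)) (.leaf THB_243))))) (.node (.node (.node (.node (.node (.leaf THB_11) (.leaf THB_267)) (.leaf THB_139)) (.node (.node (.leaf THB_75) (.leaf THB_331)) (.leaf THB_203))) (.node (.node (.node (.leaf THB_43) (.leaf THB_299)) (.leaf THB_171)) (.node (.node (.leaf THB_107) (.leaf THB_363)) (.leaf THB_235)))) (.node (.node (.node (.node (.leaf THB_27) (.leaf THB_283)) (.leaf THB_155)) (.node (.node (.leaf THB_91) (.leaf THB_347)) (.leaf THB_219))) (.node (.node (.node (.leaf THB_59) (.leaf THB_315)) (.leaf THB_187)) (.node (.leaf THB_123) (.leaf THB_251)))))) (.node (.node (.node (.node (.node (.node (.leaf (nat_lit 0)) (.leaf (nat_lit 0))) (.leaf (nat_lit 0))) (.node (.node (.leaf (nat_lit 0)) (.leaf (nat_lit 0))) (.leaf (nat_lit 0)))) (.node (.node (.node (.leaf (nat_lit 0)) (.leaf (nat_lit 0))) (.leaf (nat_lit 0))) (.node (.node (.leaf (nat_lit 0)) (.leaf (nat_lit 0))) (.leaf (nat_lit 0))))) (.node (.node (.node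 (.node (.leaf (nat_lit 0)) (.leaf (nat_lit 0))) (.leaf (nat_lit 0))) (.node (.node (.leaf (nat_lit 0)) (.leaf (nat_lit 0))) (.leaf (nat_lit 0)))) (.node (.node (.node (.leaf (nat_lit 0)) (.leaf (nat_lit 0))) (.leaf (nat_lit 0))) (.node (.node (.leaf (nat_lit 0)) (.leaf (nat_lit 0))) (.leaf (nat_lit 0)))))) (.node (.node (.node (.node (.node (.leaf (nat_lit 0)) (.leaf (nat_lit 0))) (.leaf (nat_lit 0))) (.node (.node (.leaf (nat_lit 0)) (.leaf (nat_lit 0))) (.leaf (nat_lit 0)))) (.node (.node (.node (.leaf (nat_lit 0)) (.leaf (nat_lit 0))) (.leaf (nat_lit 0))) (.node (.node (.leaf (nat_lit 0)) (.leaf (nat_lit 0))) (.leaf (nat_lit 0))))) (.node (.node (.node (.node (.leaf (nat_lit 0)) (.leaf (nat_lit 0))) (.leaf (nat_lit 0))) (.node (.node (.leaf (nat_lit 0)) (.leaf (nat_lit 0))) (.leaf (nat_lit 0)))) (.node (.node (.node (.leaf (nat_lit 0)) (.leaf (nat_lit 0))) (.leaf (nat_lit 0))) (.node (.leaf (nat_lit 0)) (.leaf (nat_lit 0))))))))))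

noncomputable def THG (s j : ℕ) : ℕ := L0.BT.get THB (Nat.add (Nat.mul s (nat_lit 8)) j)

noncomputable def TH (c s : ℕ) : ℕ := Nat.rec (motive := fun _ => ℕ) 0 (fun j _ => Nat.land (Nat.shiftRight (THG s j) (Nat.mul (nat_lit 13) (Nat.land c (nat_lit 1023)))) (nat_lit 8191)) (Nat.succ (Nat.shiftRight c (nat_lit 10)))

def Wh : List (List ℕ) := [[nat_lit 0], [nat_lit 1], [nat_lit 7, nat_lit 4, nat_lit 7, nat_lit 4, nat_lit 7], [nat_lit 7, nat_lit 7, nat_lit 7, nat_lit 1, nat_lit 7]]

def WH : List (List ℕ) := [[nat_lit 3, nat_lit 2, nat_lit 0], [nat_lit 2, nat_lit 3], [nat_lit 3, nat_lit 5, nat_lit 4], [nat_lit 4, nat_lit 1, nat_lit 1, nat_lit 1, nat_lit 4], [nat_lit 2, nat_lit 2, nat_lit 4, nat_lit 5, nat_lit 1, nat_lit 4], [nat_lit 7, nat_lit 8, nat_lit 7], [nat_lit 9, nat_lit 9, nat_lit 7], [nat_lit 9, nat_lit 10, nat_lit 9], [nat_lit 10, nat_lit 8, nat_lit 7, nat_lit 8, nat_lit 11, nat_lit 11, nat_lit 9, nat_lit 10, nat_lit 8], [nat_lit 9, nat_lit 11, nat_lit 10, nat_lit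 10, nat_lit 11, nat_lit 11, nat_lit 9], [nat_lit 13, nat_lit 13, nat_lit 12], [nat_lit 14, nat_lit 14, nat_lit 13], [nat_lit 13, nat_lit 14, nat_lit 12, nat_lit 12, nat_lit 13], [nat_lit 14, nat_lit 15, nat_lit 14, nat_lit 15, nat_lit 13, nat_lit 15, nat_lit 12, nat_lit 12], [nat_lit 17, nat_lit 16, nat_lit 17], [nat_lit 17, nat_lit 16, nat_lit 18], [nat_lit 19, nat_lit 18, nat_lit 19, nat_lit 16, nat_lit 19, nat_lit 17, nat_lit 18], [nat_lit 19, nat_lit 17, nat_lit 17, nat_lit 17, nat_lit 19, nat_lit 18, nat_lit 19, nat_lit 19, nat_lit 16], [nat_lit 18, nat_lit 16, nat_lit 16, nat_lit 18, nat_lit 17, nat_lit 18, nat_lit 18, nat_lit 18], [nat_lit 22, nat_lit 21, nat_lit 21, nat_lit 21, nat_lit 21, nat_lit 21, nat_lit 22, nat_lit 20], [nat_lit 9, nat_lit 2, nat_lit 22, nat_lit 1], [nat_lit 24, nat_lit 24, nat_lit 23], [nat_lit 25, nat_lit 25, nat_lit 23], [nat_lit 26, nat_lit 25, nat_lit 26], [nat_lit 24, nat_lit 24, nat_lit 27, nat_lit 24, nat_lit 23, nat_lit 27, nat_lit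 27, nat_lit 26], [nat_lit 23, nat_lit 25, nat_lit 24, nat_lit 25, nat_lit 26, nat_lit 23, nat_lit 27], [nat_lit 29, nat_lit 28, nat_lit 29], [nat_lit 29, nat_lit 28, nat_lit 28], [nat_lit 29, nat_lit 28, nat_lit 28, nat_lit 30, nat_lit 30, nat_lit 29, nat_lit 30, nat_lit 31], [nat_lit 30, nat_lit 30, nat_lit 29, nat_lit 29, nat_lit 28], [nat_lit 28, nat_lit 29, nat_lit 29, nat_lit 29, nat_lit 31, nat_lit 31, nat_lit 30], [nat_lit 33, nat_lit 32, nat_lit 34], [nat_lit 33, nat_lit 35, nat_lit 35, nat_lit 34, nat_lit 35], [nat_lit 35, nat_lit 34, nat_lit 35, nat_lit 34], [nat_lit 34, nat_lit 32, nat_lit 34, nat_lit 34, nat_lit 32, nat_lit 34, nat_lit 35], [nat_lit 32, nat_lit 33, nat_lit 35, nat_lit 33, nat_lit 34, nat_lit 32, nat_lit 33, nat_lit 32, nat_lit 33], [nat_lit 39, nat_lit 39, nat_lit 39, nat_lit 39, nat_lit 39, nat_lit 36], [nat_lit 36, nat_lit 38, nat_lit 36, nat_lit 36], [nat_lit 39, nat_lit 36, nat_lit 38, nat_lit 37, nat_lit 36], [nat_lit 37, nat_lit 37, nat_lit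 42, nat_lit 38], [nat_lit 41, nat_lit 38], [nat_lit 44, nat_lit 43], [nat_lit 40, nat_lit 37]]

noncomputable def ordT (c : ℕ) : ℕ := Nat.land (Nat.shiftRight ordTD (Nat.mul (nat_lit 5) c)) (nat_lit 31)

noncomputable def iv (s : ℕ) : List ℕ := List.replicate (ordT s) s

noncomputable def La0t (c : ℕ) : ℕ := Nat.land (Nat.shiftRight La0tD (Nat.mul (nat_lit 5) c)) (nat_lit 31)

noncomputable def La0 : SLv := ⟨⟨nat_lit 116, La0t, nat_lit 16777215, nat_lit 5, nat_lit 4600, fun i => i⟩, true, [nat_lit 2715, nat_lit 1180, nat_lit 615, nat_lit 1399, nat_lit 1602, nat_lit 362, nat_lit 944, nat_lit 2012, nat_lit 3932, nat_lit 4228, nat_lit 2141, nat_lit 172, nat_lit 2276, nat_lit 3170, nat_lit 629, nat_lit 4416, nat_lit 3510, nat_lit 1243, nat_lit 893, nat_lit 150, nat_lit 4206, nat_lit 4205, nat_lit 116], [nat_lit 0], nat_lit 22, []⟩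

noncomputable def La1t (c : ℕ) : ℕ := Nat.land (Nat.shiftRight La1tD (Nat.mul (nat_lit 5) c)) (nat_lit 31)

noncomputable def La1p (c : ℕ) : ℕ := Nat.land (Nat.shiftRight La1pD (Nat.mul (nat_lit 13) c)) (nat_lit 8191)

noncomputable def La1 : SLv := ⟨⟨nat_lit 2715, La1t, nat_lit 16777088, nat_lit 5, nat_lit 891, La1p⟩, false, [], [], nat_lit 0, []⟩

noncomputable def La2t (c : ℕ) : ℕ := Nat.land (Nat.shiftRight La2tD (Nat.mul (nat_lit 5) c)) (nat_lit 31)

noncomputable def La2p (c : ℕ) : ℕ := Nat.land (Nat.shiftRight La2pD (Nat.mul (nat_lit 13) c)) (nat_lit 8191)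

noncomputable def La2 : SLv := ⟨⟨nat_lit 1180, La2t, nat_lit 16773120, nat_lit 6, nat_lit 512, La2p⟩, false, [], [], nat_lit 0, []⟩

noncomputable def La3t (c : ℕ) : ℕ := Nat.land (Nat.shiftRight La3tD (Nat.mul (nat_lit 5) c)) (nat_lit 31)

noncomputable def La3p (c : ℕ) : ℕ := Nat.land (Nat.shiftRight La3pD (Nat.mul (nat_lit 13) c)) (nat_lit 8191)

noncomputable def La3 : SLv := ⟨⟨nat_lit 615, La3t, nat_lit 16711680, nat_lit 6, nat_lit 336, La3p⟩, false, [], [], nat_lit 0, []⟩

noncomputable def La4t (c : ℕ) : ℕ := Nat.land (Nat.shiftRight La4tD (Nat.mul (nat_lit 5) c)) (nat_lit 31)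

noncomputable def La4p (c : ℕ) : ℕ := Nat.land (Nat.shiftRight La4pD (Nat.mul (nat_lit 13) c)) (nat_lit 8191)

noncomputable def La4 : SLv := ⟨⟨nat_lit 1399, La4t, nat_lit 15728640, nat_lit 5, nat_lit 30, La4p⟩, false, [], [], nat_lit 0, []⟩

noncomputable def La5t (c : ℕ) : ℕ := Nat.land (Nat.shiftRight La5tD (Nat.mul (nat_lit 5) c)) (nat_lit 31)

noncomputable def La5p (c : ℕ) : ℕ := Nat.land (Nat.shiftRight La5pD (Nat.mul (nat_lit 12) c)) (nat_lit 4095)

noncomputable def La5 : SLv := ⟨⟨nat_lit 1602, La5t, nat_lit 8388608, nat_lit 2, nat_lit 2, La5p⟩, false, [], [], nat_lit 0, []⟩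

noncomputable def Las : List SLv := [La1, La2, La3, La4, La5]

noncomputable def Lb0t (c : ℕ) : ℕ := Nat.land (Nat.shiftRight Lb0tD (Nat.mul (nat_lit 6) c)) (nat_lit 63)

noncomputable def Lb0 : SLv := ⟨⟨nat_lit 350, Lb0t, nat_lit 140737488355327, nat_lit 5, nat_lit 4600, fun i => i⟩, true, [nat_lit 2164, nat_lit 3250, nat_lit 1244, nat_lit 4486, nat_lit 3954, nat_lit 3999, nat_lit 1149, nat_lit 1742, nat_lit 2088, nat_lit 1276, nat_lit 350], [nat_lit 1], nat_lit 10, []⟩

noncomputable def Lb1t (c : ℕ) : ℕ := Nat.land (Nat.shiftRight Lb1tD (Nat.mul (nat_lit 6) c)) (nat_lit 63)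

noncomputable def Lb1p (c : ℕ) : ℕ := Nat.land (Nat.shiftRight Lb1pD (Nat.mul (nat_lit 13) c)) (nat_lit 8191)

noncomputable def Lb1 : SLv := ⟨⟨nat_lit 2164, Lb1t, nat_lit 140737479966720, nat_lit 5, nat_lit 891, Lb1p⟩, false, [], [], nat_lit 0, []⟩

noncomputable def Lb2t (c : ℕ) : ℕ := Nat.land (Nat.shiftRight Lb2tD (Nat.mul (nat_lit 6) c)) (nat_lit 63)

noncomputable def Lb2p (c : ℕ) : ℕ := Nat.land (Nat.shiftRight Lb2pD (Nat.mul (nat_lit 13) c)) (nat_lit 8191)

noncomputable def Lb2 : SLv := ⟨⟨nat_lit 3250, Lb2t, nat_lit 140737219919872, nat_lit 5, nat_lit 336, Lb2p⟩, false, [], [], nat_lit 0, []⟩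

noncomputable def Lb3t (c : ℕ) : ℕ := Nat.land (Nat.shiftRight Lb3tD (Nat.mul (nat_lit 6) c)) (nat_lit 63)

noncomputable def Lb3p (c : ℕ) : ℕ := Nat.land (Nat.shiftRight Lb3pD (Nat.mul (nat_lit 13) c)) (nat_lit 8191)

noncomputable def Lb3 : SLv := ⟨⟨nat_lit 1244, Lb3t, nat_lit 140733193388032, nat_lit 5, nat_lit 160, Lb3p⟩, false, [], [], nat_lit 0, []⟩

noncomputable def Lb4t (c : ℕ) : ℕ := Nat.land (Nat.shiftRight Lb4tD (Nat.mul (nat_lit 6) c)) (nat_lit 63)

noncomputable def Lb4p (c : ℕ) : ℕ := Nat.land (Nat.shiftRight Lb4pD (Nat.mul (nat_lit 13) c)) (nat_lit 8191)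

noncomputable def Lb4 : SLv := ⟨⟨nat_lit 4486, Lb4t, nat_lit 755914244096, nat_lit 4, nat_lit 6, Lb4p⟩, false, [], [], nat_lit 0, []⟩

noncomputable def Lb5t (c : ℕ) : ℕ := Nat.land (Nat.shiftRight Lb5tD (Nat.mul (nat_lit 6) c)) (nat_lit 63)

noncomputable def Lb5p (c : ℕ) : ℕ := Nat.land (Nat.shiftRight Lb5pD (Nat.mul (nat_lit 12) c)) (nat_lit 4095)

noncomputable def Lb5 : SLv := ⟨⟨nat_lit 3954, Lb5t, nat_lit 274877906944, nat_lit 2, nat_lit 2, Lb5p⟩, false, [], [], nat_lit 0, []⟩

noncomputable def Lb6t (c : ℕ) : ℕ := Nat.land (Nat.shiftRight Lb6tD (Nat.mul (nat_lit 6) c)) (nat_lit 63)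

noncomputable def Lb6p (c : ℕ) : ℕ := Nat.land (Nat.shiftRight Lb6pD (Nat.mul (nat_lit 12) c)) (nat_lit 4095)

noncomputable def Lb6 : SLv := ⟨⟨nat_lit 3999, Lb6t, nat_lit 8796093022208, nat_lit 2, nat_lit 2, Lb6p⟩, false, [], [], nat_lit 0, []⟩

noncomputable def Lb7t (c : ℕ) : ℕ := Nat.land (Nat.shiftRight Lb7tD (Nat.mul (nat_lit 6) c)) (nat_lit 63)

noncomputable def Lb7p (c : ℕ) : ℕ := Nat.land (Nat.shiftRight Lb7pD (Nat.mul (nat_lit 12) c)) (nat_lit 4095)

noncomputable def Lb7 : SLv := ⟨⟨nat_lit 1149, Lb7t, nat_lit 35184372088832, nat_lit 2, nat_lit 2, Lb7p⟩, false, [], [], nat_lit 0, []⟩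

noncomputable def Lb8t (c : ℕ) : ℕ := Nat.land (Nat.shiftRight Lb8tD (Nat.mul (nat_lit 6) c)) (nat_lit 63)

noncomputable def Lb8p (c : ℕ) : ℕ := Nat.land (Nat.shiftRight Lb8pD (Nat.mul (nat_lit 12) c)) (nat_lit 4095)

noncomputable def Lb8 : SLv := ⟨⟨nat_lit 1742, Lb8t, nat_lit 137438953472, nat_lit 2, nat_lit 2, Lb8p⟩, false, [], [], nat_lit 0, []⟩

noncomputable def Lb9t (c : ℕ) : ℕ := Nat.land (Nat.shiftRight Lb9tD (Nat.mul (nat_lit 6) c)) (nat_lit 63)

noncomputable def Lb9p (c : ℕ) : ℕ := Nat.land (Nat.shiftRight Lb9pD (Nat.mul (nat_lit 12) c)) (nat_lit 4095)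

noncomputable def Lb9 : SLv := ⟨⟨nat_lit 2088, Lb9t, nat_lit 70368744177664, nat_lit 2, nat_lit 2, Lb9p⟩, false, [], [], nat_lit 0, []⟩

noncomputable def Lbs : List SLv := [Lb1, Lb2, Lb3, Lb4, Lb5, Lb6, Lb7, Lb8, Lb9]

def B : List ℕ := [nat_lit 26956, nat_lit 2291, nat_lit 55421, nat_lit 26039, nat_lit 13358, nat_lit 27458, nat_lit 30739]

def BH : List ℕ := [nat_lit 116, nat_lit 2715, nat_lit 1180, nat_lit 615, nat_lit 1399, nat_lit 1602]

def D : OD := ⟨nat_lit 0, nat_lit 1, nat_lit 2, nat_lit 23, nat_lit 2, nat_lit 1, nat_lit 6, [nat_lit 1, nat_lit 5],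
  [(nat_lit 27700306154086520918676046872080836, []), (nat_lit 26907574415297832380030739179315716, [nat_lit 1]), (nat_lit 56225994216151927308779384646618582, [nat_lit 9]), (nat_lit 5353048178712291856205999445209802, [nat_lit 8]), (nat_lit 87803449859646644485740238927842796, [nat_lit 1, nat_lit 1]), (nat_lit 23645596560986636543174977186813756, [nat_lit 9, nat_lit 9]), (nat_lit 59454827786232153496657945471404942, [nat_lit 1, nat_lit 9]), (nat_lit 30279682596691122059271951750067362, [nat_lit 1, nat_lit 8]), (nat_lit 41941150265905544521630032752859705, [nat_lit 9, nat_lit 8]), (nat_lit 36248591126603672811474588422209171, [nat_lit 8, nat_lit 8]), (nat_lit 46848839783067700480559855668385088, [nat_lit 8, nat_lit 9]), (nat_lit 76705308757915320409133894110137916, [nat_lit 1, nat_lit 1, nat_lit 1]), (nat_lit 6084846260202518903305965022249662, [nat_lit 9, nat_lit 9, nat_lit 9]), (nat_lit 3951206463164479492423176155129382, [nat_lit 8, nat_lit 9, nat_lit 8]), (nat_lit 44747238758425673318940493204346862,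 [nat_lit 1, nat_lit 1, nat_lit 9]), (nat_lit 60742397031323650030982371977344682, [nat_lit 1, nat_lit 1, nat_lit 8]), (nat_lit 10966221470189475303279339239540802, [nat_lit 8, nat_lit 9, nat_lit 9]), (nat_lit 14754748704544481337245777853248505, [nat_lit 8, nat_lit 8, nat_lit 9]), (nat_lit 80749899273534712276382697454549065, [nat_lit 1, nat_lit 9, nat_lit 8]), (nat_lit 69926793486174387951715482682913371, [nat_lit 9, nat_lit 8, nat_lit 9]), (nat_lit 28453827985143814250917192738327411, [nat_lit 1, nat_lit 8, nat_lit 8]), (nat_lit 12795170465304127138651323286247208, [nat_lit 9, nat_lit 8, nat_lit 8]), (nat_lit 39511816918015679707867452939908088, [nat_lit 1, nat_lit 8, nat_lit 9]), (nat_lit 76360655992691420868391309619683156, [nat_lit 8, nat_lit 9, nat_lit 8, nat_lit 9]), (nat_lit 43257777322917533999851592768634796, [nat_lit 9, nat_lit 9, nat_lit 9, nat_lit 9]), (nat_lit 5347631151502419769958509086638476, [nat_lit 1, nat_lit 1, nat_lit 1, nat_lit 1]), (nat_lit 36291976443061864216300444552191702,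 [nat_lit 1, nat_lit 1, nat_lit 1, nat_lit 9]), (nat_lit 5080044209956791682691435652267102, [nat_lit 1, nat_lit 8, nat_lit 9, nat_lit 8]), (nat_lit 44809846264195047635864800575286602, [nat_lit 1, nat_lit 1, nat_lit 1, nat_lit 8]), (nat_lit 14483528703414609873587635160168145, [nat_lit 1, nat_lit 1, nat_lit 9, nat_lit 8]), (nat_lit 2468549911578408520497145453530825, [nat_lit 1, nat_lit 8, nat_lit 8, nat_lit 9]), (nat_lit 10889833768528416128714411224222905, [nat_lit 9, nat_lit 8, nat_lit 9, nat_lit 9]), (nat_lit 24369896959324223879902053528866025, [nat_lit 8, nat_lit 9, nat_lit 8, nat_lit 8]), (nat_lit 63348769588102883713689546140731, [nat_lit 1, nat_lit 9, nat_lit 8, nat_lit 9]), (nat_lit 67256274489745694420600993850758371, [nat_lit 1, nat_lit 1, nat_lit 8, nat_lit 8]), (nat_lit 27872982902116383882472374863037931, [nat_lit 8, nat_lit 8, nat_lit 9, nat_lit 9]), (nat_lit 86863057609089497862563916311478528, [nat_lit 8, nat_lit 8, nat_lit 9, nat_lit 8]), (nat_lit 39012104249734872692889800008245648,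 [nat_lit 1, nat_lit 1, nat_lit 8, nat_lit 9]), (nat_lit 35484111858670803227615007345273648, [nat_lit 8, nat_lit 9, nat_lit 9, nat_lit 9]), (nat_lit 6708979972958899466098499406268248, [nat_lit 1, nat_lit 9, nat_lit 8, nat_lit 8]), (nat_lit 77002777789664035279221246277763956, [nat_lit 1, nat_lit 1, nat_lit 1, nat_lit 1, nat_lit 1]), (nat_lit 5504149174127965883333518160721196, [nat_lit 1, nat_lit 8, nat_lit 9, nat_lit 8, nat_lit 9]), (nat_lit 80804749936503853450367342668865862, [nat_lit 8, nat_lit 9, nat_lit 8, nat_lit 9, nat_lit 9]), (nat_lit 31104919085357807060288596383652902, [nat_lit 8, nat_lit 8, nat_lit 9, nat_lit 8, nat_lit 8]), (nat_lit 30748911692122798877827460857053942, [nat_lit 1, nat_lit 1, nat_lit 1, nat_lit 1, nat_lit 9]), (nat_lit 39642399545041127813392581592017402, [nat_lit 8, nat_lit 8, nat_lit 9, nat_lit 8, nat_lit 9]), (nat_lit 37165047528312805740049184479826202, [nat_lit 1, nat_lit 1, nat_lit 1, nat_lit 1, nat_lit 8]), (nat_lit 397771405979785919014732251951762,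 [nat_lit 8, nat_lit 9, nat_lit 9, nat_lit 9, nat_lit 9]), (nat_lit 54023983278912215972373697726806225, [nat_lit 1, nat_lit 1, nat_lit 1, nat_lit 9, nat_lit 8]), (nat_lit 49057688524540053058876282185743265, [nat_lit 1, nat_lit 8, nat_lit 9, nat_lit 8, nat_lit 8]), (nat_lit 20696845610410054634365424327668185, [nat_lit 1, nat_lit 1, nat_lit 8, nat_lit 8, nat_lit 9]), (nat_lit 57626937184114556271759018276032851, [nat_lit 1, nat_lit 1, nat_lit 9, nat_lit 8, nat_lit 9]), (nat_lit 66723295325618464646865635660024251, [nat_lit 1, nat_lit 1, nat_lit 1, nat_lit 8, nat_lit 8]), (nat_lit 87751611813236780125169273036009251, [nat_lit 9, nat_lit 8, nat_lit 9, nat_lit 9, nat_lit 9]), (nat_lit 59796973990570436524413609413060448, [nat_lit 1, nat_lit 8, nat_lit 8, nat_lit 9, nat_lit 8]), (nat_lit 33107627705889949924411820859089688, [nat_lit 1, nat_lit 1, nat_lit 1, nat_lit 8, nat_lit 9]), (nat_lit 23420684409769426844941987535026848, [nat_lit 1, nat_lit 1, nat_lit 9, nat_lit 8, nat_lit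 8]), (nat_lit 70418075350593855445948306834610716, [nat_lit 1, nat_lit 1, nat_lit 1, nat_lit 1, nat_lit 1, nat_lit 1]), (nat_lit 31773638144112806636104639445571582, [nat_lit 1, nat_lit 8, nat_lit 8, nat_lit 9, nat_lit 8, nat_lit 8]), (nat_lit 48783431704642890011819714868922242, [nat_lit 1, nat_lit 8, nat_lit 8, nat_lit 9, nat_lit 8, nat_lit 9]), (nat_lit 45109431056415303013532418530313642, [nat_lit 1, nat_lit 1, nat_lit 1, nat_lit 1, nat_lit 1, nat_lit 8]), (nat_lit 57529871321830631149367743275702465, [nat_lit 1, nat_lit 1, nat_lit 1, nat_lit 8, nat_lit 8, nat_lit 9]), (nat_lit 36162607023363300838696975379004811, [nat_lit 1, nat_lit 1, nat_lit 1, nat_lit 9, nat_lit 8, nat_lit 9]), (nat_lit 80955373724024084432425601070512131, [nat_lit 1, nat_lit 1, nat_lit 1, nat_lit 1, nat_lit 8, nat_lit 8]), (nat_lit 63551157892996933529236536729094008, [nat_lit 1, nat_lit 1, nat_lit 1, nat_lit 9, nat_lit 8, nat_lit 8]), (nat_lit 37166933152250545232141447779299042, [nat_lit 1, nat_lit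 1, nat_lit 1, nat_lit 1, nat_lit 1, nat_lit 1, nat_lit 8])],
  [[nat_lit 1, nat_lit 2, nat_lit 2, nat_lit 0, nat_lit 1, nat_lit 2, nat_lit 2, nat_lit 0, nat_lit 1, nat_lit 2, nat_lit 2, nat_lit 0, nat_lit 1, nat_lit 2, nat_lit 2, nat_lit 0, nat_lit 1, nat_lit 2, nat_lit 2, nat_lit 0, nat_lit 1, nat_lit 2, nat_lit 2, nat_lit 0, nat_lit 1, nat_lit 2, nat_lit 2, nat_lit 0], [nat_lit 2, nat_lit 0, nat_lit 2, nat_lit 0, nat_lit 2, nat_lit 0, nat_lit 2, nat_lit 0, nat_lit 2, nat_lit 0, nat_lit 2, nat_lit 0, nat_lit 2, nat_lit 0, nat_lit 2, nat_lit 0, nat_lit 2, nat_lit 0, nat_lit 2, nat_lit 0, nat_lit 2, nat_lit 0, nat_lit 2, nat_lit 0, nat_lit 2, nat_lit 0, nat_lit 2, nat_lit 0, nat_lit 2, nat_lit 0, nat_lit 2, nat_lit 0, nat_lit 2, nat_lit 0, nat_lit 2, nat_lit 0, nat_lit 2, nat_lit 0, nat_lit 2, nat_lit 0], [nat_lit 0, nat_lit 2, nat_lit 2, nat_lit 2, nat_lit 2, nat_lit 2, nat_lit 2, nat_lit 0, nat_lit 2, nat_lit 2, nat_lit 2, nat_lit 2, nat_lit 2, nat_lit 2, nat_lit 0, nat_lit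 2, nat_lit 2, nat_lit 2, nat_lit 2, nat_lit 2, nat_lit 2, nat_lit 0, nat_lit 2, nat_lit 2, nat_lit 2, nat_lit 2, nat_lit 2, nat_lit 2, nat_lit 0, nat_lit 2, nat_lit 2, nat_lit 2, nat_lit 2, nat_lit 2, nat_lit 2, nat_lit 0, nat_lit 2, nat_lit 2, nat_lit 2, nat_lit 2, nat_lit 2, nat_lit 2, nat_lit 0, nat_lit 2, nat_lit 2, nat_lit 2, nat_lit 2, nat_lit 2, nat_lit 2, nat_lit 0, nat_lit 2, nat_lit 2, nat_lit 2, nat_lit 2, nat_lit 2, nat_lit 2]],
  [[]], [], [], []⟩

def lk : List (ℕ × List ℕ) := [(nat_lit 35262, [nat_lit 9]), (nat_lit 40122, [nat_lit 8, nat_lit 8]), (nat_lit 64665, [nat_lit 9, nat_lit 8]), (nat_lit 73531, [nat_lit 8]), (nat_lit 85968, [nat_lit 8, nat_lit 9])]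

def gl : List (ℕ × List ℕ) := [(nat_lit 3, [nat_lit 0, nat_lit 0, nat_lit 0, nat_lit 0, nat_lit 0, nat_lit 0, nat_lit 0, nat_lit 0, nat_lit 0, nat_lit 0, nat_lit 0, nat_lit 0, nat_lit 0, nat_lit 0, nat_lit 0, nat_lit 0, nat_lit 0, nat_lit 0, nat_lit 0, nat_lit 0, nat_lit 0, nat_lit 0]), (nat_lit 4, [nat_lit 1, nat_lit 1, nat_lit 1, nat_lit 1, nat_lit 1, nat_lit 1, nat_lit 1, nat_lit 1, nat_lit 1, nat_lit 1]), (nat_lit 5, [nat_lit 2, nat_lit 2, nat_lit 2, nat_lit 2, nat_lit 2, nat_lit 2, nat_lit 2, nat_lit 2, nat_lit 2, nat_lit 2, nat_lit 2, nat_lit 2, nat_lit 2, nat_lit 2, nat_lit 2, nat_lit 2, nat_lit 2, nat_lit 2, nat_lit 2, nat_lit 2, nat_lit 2, nat_lit 2, nat_lit 2, nat_lit 2, nat_lit 2, nat_lit 2, nat_lit 2, nat_lit 2, nat_lit 2]), (nat_lit 6, [nat_lit 3, nat_lit 5, nat_lit 5, nat_lit 0, nat_lit 4]), (nat_lit 7, [nat_lit 1, nat_lit 3, nat_lit 2, nat_lit 2, nat_lit 0]), (nat_lit 8, [nat_lit 5, nat_lit 5, nat_lit 5, nat_lit 5, nat_lit 5, nat_lit 5, nat_lit 5, nat_lit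 5, nat_lit 1, nat_lit 5, nat_lit 5]), (nat_lit 9, [nat_lit 6, nat_lit 6, nat_lit 3, nat_lit 2, nat_lit 0, nat_lit 1, nat_lit 2, nat_lit 2, nat_lit 6, nat_lit 5, nat_lit 5, nat_lit 6, nat_lit 5, nat_lit 1, nat_lit 5, nat_lit 0, nat_lit 7, nat_lit 5, nat_lit 1, nat_lit 1, nat_lit 3, nat_lit 5, nat_lit 4, nat_lit 7, nat_lit 3, nat_lit 6, nat_lit 2, nat_lit 1, nat_lit 3, nat_lit 5, nat_lit 1, nat_lit 3, nat_lit 7, nat_lit 5, nat_lit 0, nat_lit 5, nat_lit 0, nat_lit 2, nat_lit 0, nat_lit 6, nat_lit 2, nat_lit 2, nat_lit 4])]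

def dead : List (ℕ × List ℕ × ℕ) := []

def ys : List ℕ := []

noncomputable def Xs (c : ℕ) : ℕ := Nat.land (Nat.shiftRight XsD (Nat.mul (nat_lit 2878) c)) (nat_lit 231380907952261979626952228753293585751747624494222576872883440244235706353039349096257882196343062758007670350225410500619458356691796096835988926448970138388842603831242652217282538624517571123612230894667474305706667100456744052805341399032819449104066642991681207236029168494331134250052333033994680250443161465093011433042226111424005463143532013865802433145816171313518777510865579683384312027622901424395635431711289971679217723496474339142366263499954964157908395027724622400555112685927126170456275616755454773005599526401287009126697710529822332564320875229234287589816368193820886510030575316980028948747145435033374453626952306579020141385155388330868164158752539205954095497866682707108364337072382970122678463481834726912573959798799072797545777195693466823578310044434763568075749326826342967568262213889989544475212892068388446826888938697348867948543)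

noncomputable def as (c : ℕ) : ℕ := Nat.land (Nat.shiftRight asD (Nat.mul (nat_lit 7476) c)) (nat_lit 316408093502539190148460590260558367426695320573996139751978375246572984211858187776042129303762140842240070316143441306211335737100936223784642227425873176697319140659843489913056131908862839692575742246866660889043503277956152459907949027616838566652987959802211615062549916068952777660088790626818297863365467747381795503384040264364697247953971486013924821788631908234584490133177161592007119881774350585992873208961521079870163299698123135403881148925737358895937047374236518147965478263772272624473989730653940029748444358776075104515648382541235086149093706130452436893378207451761193118805241886152551571840130609855372366869703470679347112236504252394901166570157947332660854999121126583735832059384065271972868768417172497958543394745802463712983075087345286824468468398730858132618674033682440240061253968915117586832195158955441155613883885085944731546784764403887116160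9521616886006680573661002628901931848139846161626064399977627612776281768409012081801582832319355129057998761845244054964253103032134903097563246513165858472353947538525032772426297231846113457293157992295836055214855903259091836194907871956631057386859026968316317627118554715536348502655775831656458594517158364125238002590287256006798893516194909684973254018254144623811021071938998524096066287394687523248641613872695401664394737837270201303129053645406831616114945125148598069187685665230745121710936368313196697683510816551682313453854130766209036466724632816511809671835552916072158827343754680166448209649168844065484894145011600711035383333693332335733939554443613111508888147858173813099483255059169514202023889227470912210413657788606494530510994539669729604720238020618462840902524659180448317152387705769515663085264332407523822293297230261843853442408776920680925059370753521232573354814234239221813662398789649427259596404354376199957569483738995129378975493716914243676038582790731911169082650327095221605597021734558122212442695998264472032417856960301596658429888407379458456163255866995949105938056561088204918928917501812315973018939927542596151737633276084839325847902988682889894714776139450378931219747636476183638744011112358292681419030419976308700392492136537426578031531119551741969600917449015628394897499262646350028409039878404463065563135)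

noncomputable def VB : L0.BT := (.node (.node (.node (.node (.node (.node (.node (.node (.node (.node (.leaf VB_0) (.leaf VB_512)) (.leaf VB_256)) (.node (.node (.leaf VB_128) (.leaf VB_640)) (.leaf VB_384))) (.node (.node (.node (.leaf VB_64) (.leaf VB_576)) (.leaf VB_320)) (.node (.node (.leaf VB_192) (.leaf VB_704)) (.leaf VB_448)))) (.node (.node (.node (.node (.leaf VB_32) (.leaf VB_544)) (.leaf VB_288)) (.node (.node (.leaf VB_160) (.leaf VB_672)) (.leaf VB_416))) (.node (.node (.node (.leaf VB_96) (.leaf VB_608)) (.leaf VB_352)) (.node (.node (.leaf VB_224) (.leaf VB_736)) (.leaf VB_480))))) (.node (.node (.node (.node (.node (.leaf VB_16) (.leaf VB_528)) (.leaf VB_272)) (.node (.node (.leaf VB_144) (.leaf VB_656)) (.leaf VB_400))) (.node (.node (.node (.leaf VB_80) (.leaf VB_592)) (.leaf VB_336)) (.node (.node (.leaf VB_208) (.leaf VB_720)) (.leaf VB_464)))) (.node (.node (.node (.node (.leaf VB_48) (.leaf VB_560)) (.leaf VB_304)) (.node (.node (.leaf VB_176) (.leaf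 VB_688)) (.leaf VB_432))) (.node (.node (.node (.leaf VB_112) (.leaf VB_624)) (.leaf VB_368)) (.node (.node (.leaf VB_240) (.leaf VB_752)) (.leaf VB_496)))))) (.node (.node (.node (.node (.node (.node (.leaf VB_8) (.leaf VB_520)) (.leaf VB_264)) (.node (.node (.leaf VB_136) (.leaf VB_648)) (.leaf VB_392))) (.node (.node (.node (.leaf VB_72) (.leaf VB_584)) (.leaf VB_328)) (.node (.node (.leaf VB_200) (.leaf VB_712)) (.leaf VB_456)))) (.node (.node (.node (.node (.leaf VB_40) (.leaf VB_552)) (.leaf VB_296)) (.node (.node (.leaf VB_168) (.leaf VB_680)) (.leaf VB_424))) (.node (.node (.node (.leaf VB_104) (.leaf VB_616)) (.leaf VB_360)) (.node (.node (.leaf VB_232) (.leaf VB_744)) (.leaf VB_488))))) (.node (.node (.node (.node (.node (.leaf VB_24) (.leaf VB_536)) (.leaf VB_280)) (.node (.node (.leaf VB_152) (.leaf VB_664)) (.leaf VB_408))) (.node (.node (.node (.leaf VB_88) (.leaf VB_600)) (.leaf VB_344)) (.node (.node (.leaf VB_216) (.leaf VB_728)) (.leaf VB_472)))) (.node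 (.node (.node (.node (.leaf VB_56) (.leaf VB_568)) (.leaf VB_312)) (.node (.node (.leaf VB_184) (.leaf VB_696)) (.leaf VB_440))) (.node (.node (.node (.leaf VB_120) (.leaf VB_632)) (.leaf VB_376)) (.node (.node (.leaf VB_248) (.leaf VB_760)) (.leaf VB_504))))))) (.node (.node (.node (.node (.node (.node (.node (.leaf VB_4) (.leaf VB_516)) (.leaf VB_260)) (.node (.node (.leaf VB_132) (.leaf VB_644)) (.leaf VB_388))) (.node (.node (.node (.leaf VB_68) (.leaf VB_580)) (.leaf VB_324)) (.node (.node (.leaf VB_196) (.leaf VB_708)) (.leaf VB_452)))) (.node (.node (.node (.node (.leaf VB_36) (.leaf VB_548)) (.leaf VB_292)) (.node (.node (.leaf VB_164) (.leaf VB_676)) (.leaf VB_420))) (.node (.node (.node (.leaf VB_100) (.leaf VB_612)) (.leaf VB_356)) (.node (.node (.leaf VB_228) (.leaf VB_740)) (.leaf VB_484))))) (.node (.node (.node (.node (.node (.leaf VB_20) (.leaf VB_532)) (.leaf VB_276)) (.node (.node (.leaf VB_148) (.leaf VB_660)) (.leaf VB_404))) (.node (.node (.node (.leaf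 VB_84) (.leaf VB_596)) (.leaf VB_340)) (.node (.node (.leaf VB_212) (.leaf VB_724)) (.leaf VB_468)))) (.node (.node (.node (.node (.leaf VB_52) (.leaf VB_564)) (.leaf VB_308)) (.node (.node (.leaf VB_180) (.leaf VB_692)) (.leaf VB_436))) (.node (.node (.node (.leaf VB_116) (.leaf VB_628)) (.leaf VB_372)) (.node (.node (.leaf VB_244) (.leaf VB_756)) (.leaf VB_500)))))) (.node (.node (.node (.node (.node (.node (.leaf VB_12) (.leaf VB_524)) (.leaf VB_268)) (.node (.node (.leaf VB_140) (.leaf VB_652)) (.leaf VB_396))) (.node (.node (.node (.leaf VB_76) (.leaf VB_588)) (.leaf VB_332)) (.node (.node (.leaf VB_204) (.leaf VB_716)) (.leaf VB_460)))) (.node (.node (.node (.node (.leaf VB_44) (.leaf VB_556)) (.leaf VB_300)) (.node (.node (.leaf VB_172) (.leaf VB_684)) (.leaf VB_428))) (.node (.node (.node (.leaf VB_108) (.leaf VB_620)) (.leaf VB_364)) (.node (.node (.leaf VB_236) (.leaf VB_748)) (.leaf VB_492))))) (.node (.node (.node (.node (.node (.leaf VB_28) (.leaf VB_540)) (.leaf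 VB_284)) (.node (.node (.leaf VB_156) (.leaf VB_668)) (.leaf VB_412))) (.node (.node (.node (.leaf VB_92) (.leaf VB_604)) (.leaf VB_348)) (.node (.node (.leaf VB_220) (.leaf VB_732)) (.leaf VB_476)))) (.node (.node (.node (.node (.leaf VB_60) (.leaf VB_572)) (.leaf VB_316)) (.node (.node (.leaf VB_188) (.leaf VB_700)) (.leaf VB_444))) (.node (.node (.node (.leaf VB_124) (.leaf VB_636)) (.leaf VB_380)) (.node (.node (.leaf VB_252) (.leaf VB_764)) (.leaf VB_508)))))))) (.node (.node (.node (.node (.node (.node (.node (.node (.leaf VB_2) (.leaf VB_514)) (.leaf VB_258)) (.node (.node (.leaf VB_130) (.leaf VB_642)) (.leaf VB_386))) (.node (.node (.node (.leaf VB_66) (.leaf VB_578)) (.leaf VB_322)) (.node (.node (.leaf VB_194) (.leaf VB_706)) (.leaf VB_450)))) (.node (.node (.node (.node (.leaf VB_34) (.leaf VB_546)) (.leaf VB_290)) (.node (.node (.leaf VB_162) (.leaf VB_674)) (.leaf VB_418))) (.node (.node (.node (.leaf VB_98) (.leaf VB_610)) (.leaf VB_354)) (.node (.node (.leaf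 VB_226) (.leaf VB_738)) (.leaf VB_482))))) (.node (.node (.node (.node (.node (.leaf VB_18) (.leaf VB_530)) (.leaf VB_274)) (.node (.node (.leaf VB_146) (.leaf VB_658)) (.leaf VB_402))) (.node (.node (.node (.leaf VB_82) (.leaf VB_594)) (.leaf VB_338)) (.node (.node (.leaf VB_210) (.leaf VB_722)) (.leaf VB_466)))) (.node (.node (.node (.node (.leaf VB_50) (.leaf VB_562)) (.leaf VB_306)) (.node (.node (.leaf VB_178) (.leaf VB_690)) (.leaf VB_434))) (.node (.node (.node (.leaf VB_114) (.leaf VB_626)) (.leaf VB_370)) (.node (.node (.leaf VB_242) (.leaf VB_754)) (.leaf VB_498)))))) (.node (.node (.node (.node (.node (.node (.leaf VB_10) (.leaf VB_522)) (.leaf VB_266)) (.node (.node (.leaf VB_138) (.leaf VB_650)) (.leaf VB_394))) (.node (.node (.node (.leaf VB_74) (.leaf VB_586)) (.leaf VB_330)) (.node (.node (.leaf VB_202) (.leaf VB_714)) (.leaf VB_458)))) (.node (.node (.node (.node (.leaf VB_42) (.leaf VB_554)) (.leaf VB_298)) (.node (.node (.leaf VB_170) (.leaf VB_682)) (.leaf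 VB_426))) (.node (.node (.node (.leaf VB_106) (.leaf VB_618)) (.leaf VB_362)) (.node (.node (.leaf VB_234) (.leaf VB_746)) (.leaf VB_490))))) (.node (.node (.node (.node (.node (.leaf VB_26) (.leaf VB_538)) (.leaf VB_282)) (.node (.node (.leaf VB_154) (.leaf VB_666)) (.leaf VB_410))) (.node (.node (.node (.leaf VB_90) (.leaf VB_602)) (.leaf VB_346)) (.node (.node (.leaf VB_218) (.leaf VB_730)) (.leaf VB_474)))) (.node (.node (.node (.node (.leaf VB_58) (.leaf VB_570)) (.leaf VB_314)) (.node (.node (.leaf VB_186) (.leaf VB_698)) (.leaf VB_442))) (.node (.node (.node (.leaf VB_122) (.leaf VB_634)) (.leaf VB_378)) (.node (.node (.leaf VB_250) (.leaf VB_762)) (.leaf VB_506))))))) (.node (.node (.node (.node (.node (.node (.node (.leaf VB_6) (.leaf VB_518)) (.leaf VB_262)) (.node (.node (.leaf VB_134) (.leaf VB_646)) (.leaf VB_390))) (.node (.node (.node (.leaf VB_70) (.leaf VB_582)) (.leaf VB_326)) (.node (.node (.leaf VB_198) (.leaf VB_710)) (.leaf VB_454)))) (.node (.node (.node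 (.node (.leaf VB_38) (.leaf VB_550)) (.leaf VB_294)) (.node (.node (.leaf VB_166) (.leaf VB_678)) (.leaf VB_422))) (.node (.node (.node (.leaf VB_102) (.leaf VB_614)) (.leaf VB_358)) (.node (.node (.leaf VB_230) (.leaf VB_742)) (.leaf VB_486))))) (.node (.node (.node (.node (.node (.leaf VB_22) (.leaf VB_534)) (.leaf VB_278)) (.node (.node (.leaf VB_150) (.leaf VB_662)) (.leaf VB_406))) (.node (.node (.node (.leaf VB_86) (.leaf VB_598)) (.leaf VB_342)) (.node (.node (.leaf VB_214) (.leaf VB_726)) (.leaf VB_470)))) (.node (.node (.node (.node (.leaf VB_54) (.leaf VB_566)) (.leaf VB_310)) (.node (.node (.leaf VB_182) (.leaf VB_694)) (.leaf VB_438))) (.node (.node (.node (.leaf VB_118) (.leaf VB_630)) (.leaf VB_374)) (.node (.node (.leaf VB_246) (.leaf VB_758)) (.leaf VB_502)))))) (.node (.node (.node (.node (.node (.node (.leaf VB_14) (.leaf VB_526)) (.leaf VB_270)) (.node (.node (.leaf VB_142) (.leaf VB_654)) (.leaf VB_398))) (.node (.node (.node (.leaf VB_78) (.leaf VB_590))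 (.leaf VB_334)) (.node (.node (.leaf VB_206) (.leaf VB_718)) (.leaf VB_462)))) (.node (.node (.node (.node (.leaf VB_46) (.leaf VB_558)) (.leaf VB_302)) (.node (.node (.leaf VB_174) (.leaf VB_686)) (.leaf VB_430))) (.node (.node (.node (.leaf VB_110) (.leaf VB_622)) (.leaf VB_366)) (.node (.node (.leaf VB_238) (.leaf VB_750)) (.leaf VB_494))))) (.node (.node (.node (.node (.node (.leaf VB_30) (.leaf VB_542)) (.leaf VB_286)) (.node (.node (.leaf VB_158) (.leaf VB_670)) (.leaf VB_414))) (.node (.node (.node (.leaf VB_94) (.leaf VB_606)) (.leaf VB_350)) (.node (.node (.leaf VB_222) (.leaf VB_734)) (.leaf VB_478)))) (.node (.node (.node (.node (.leaf VB_62) (.leaf VB_574)) (.leaf VB_318)) (.node (.node (.leaf VB_190) (.leaf VB_702)) (.leaf VB_446))) (.node (.node (.node (.leaf VB_126) (.leaf VB_638)) (.leaf VB_382)) (.node (.node (.leaf VB_254) (.leaf VB_766)) (.leaf VB_510))))))))) (.node (.node (.node (.node (.node (.node (.node (.node (.node (.leaf VB_1) (.leaf VB_513)) (.leaf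 VB_257)) (.node (.node (.leaf VB_129) (.leaf VB_641)) (.leaf VB_385))) (.node (.node (.node (.leaf VB_65) (.leaf VB_577)) (.leaf VB_321)) (.node (.node (.leaf VB_193) (.leaf VB_705)) (.leaf VB_449)))) (.node (.node (.node (.node (.leaf VB_33) (.leaf VB_545)) (.leaf VB_289)) (.node (.node (.leaf VB_161) (.leaf VB_673)) (.leaf VB_417))) (.node (.node (.node (.leaf VB_97) (.leaf VB_609)) (.leaf VB_353)) (.node (.node (.leaf VB_225) (.leaf VB_737)) (.leaf VB_481))))) (.node (.node (.node (.node (.node (.leaf VB_17) (.leaf VB_529)) (.leaf VB_273)) (.node (.node (.leaf VB_145) (.leaf VB_657)) (.leaf VB_401))) (.node (.node (.node (.leaf VB_81) (.leaf VB_593)) (.leaf VB_337)) (.node (.node (.leaf VB_209) (.leaf VB_721)) (.leaf VB_465)))) (.node (.node (.node (.node (.leaf VB_49) (.leaf VB_561)) (.leaf VB_305)) (.node (.node (.leaf VB_177) (.leaf VB_689)) (.leaf VB_433))) (.node (.node (.node (.leaf VB_113) (.leaf VB_625)) (.leaf VB_369)) (.node (.node (.leaf VB_241) (.leaf VB_753))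 (.leaf VB_497)))))) (.node (.node (.node (.node (.node (.node (.leaf VB_9) (.leaf VB_521)) (.leaf VB_265)) (.node (.node (.leaf VB_137) (.leaf VB_649)) (.leaf VB_393))) (.node (.node (.node (.leaf VB_73) (.leaf VB_585)) (.leaf VB_329)) (.node (.node (.leaf VB_201) (.leaf VB_713)) (.leaf VB_457)))) (.node (.node (.node (.node (.leaf VB_41) (.leaf VB_553)) (.leaf VB_297)) (.node (.node (.leaf VB_169) (.leaf VB_681)) (.leaf VB_425))) (.node (.node (.node (.leaf VB_105) (.leaf VB_617)) (.leaf VB_361)) (.node (.node (.leaf VB_233) (.leaf VB_745)) (.leaf VB_489))))) (.node (.node (.node (.node (.node (.leaf VB_25) (.leaf VB_537)) (.leaf VB_281)) (.node (.node (.leaf VB_153) (.leaf VB_665)) (.leaf VB_409))) (.node (.node (.node (.leaf VB_89) (.leaf VB_601)) (.leaf VB_345)) (.node (.node (.leaf VB_217) (.leaf VB_729)) (.leaf VB_473)))) (.node (.node (.node (.node (.leaf VB_57) (.leaf VB_569)) (.leaf VB_313)) (.node (.node (.leaf VB_185) (.leaf VB_697)) (.leaf VB_441))) (.node (.node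 (.node (.leaf VB_121) (.leaf VB_633)) (.leaf VB_377)) (.node (.node (.leaf VB_249) (.leaf VB_761)) (.leaf VB_505))))))) (.node (.node (.node (.node (.node (.node (.node (.leaf VB_5) (.leaf VB_517)) (.leaf VB_261)) (.node (.node (.leaf VB_133) (.leaf VB_645)) (.leaf VB_389))) (.node (.node (.node (.leaf VB_69) (.leaf VB_581)) (.leaf VB_325)) (.node (.node (.leaf VB_197) (.leaf VB_709)) (.leaf VB_453)))) (.node (.node (.node (.node (.leaf VB_37) (.leaf VB_549)) (.leaf VB_293)) (.node (.node (.leaf VB_165) (.leaf VB_677)) (.leaf VB_421))) (.node (.node (.node (.leaf VB_101) (.leaf VB_613)) (.leaf VB_357)) (.node (.node (.leaf VB_229) (.leaf VB_741)) (.leaf VB_485))))) (.node (.node (.node (.node (.node (.leaf VB_21) (.leaf VB_533)) (.leaf VB_277)) (.node (.node (.leaf VB_149) (.leaf VB_661)) (.leaf VB_405))) (.node (.node (.node (.leaf VB_85) (.leaf VB_597)) (.leaf VB_341)) (.node (.node (.leaf VB_213) (.leaf VB_725)) (.leaf VB_469)))) (.node (.node (.node (.node (.leaf VB_53)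 (.leaf VB_565)) (.leaf VB_309)) (.node (.node (.leaf VB_181) (.leaf VB_693)) (.leaf VB_437))) (.node (.node (.node (.leaf VB_117) (.leaf VB_629)) (.leaf VB_373)) (.node (.node (.leaf VB_245) (.leaf VB_757)) (.leaf VB_501)))))) (.node (.node (.node (.node (.node (.node (.leaf VB_13) (.leaf VB_525)) (.leaf VB_269)) (.node (.node (.leaf VB_141) (.leaf VB_653)) (.leaf VB_397))) (.node (.node (.node (.leaf VB_77) (.leaf VB_589)) (.leaf VB_333)) (.node (.node (.leaf VB_205) (.leaf VB_717)) (.leaf VB_461)))) (.node (.node (.node (.node (.leaf VB_45) (.leaf VB_557)) (.leaf VB_301)) (.node (.node (.leaf VB_173) (.leaf VB_685)) (.leaf VB_429))) (.node (.node (.node (.leaf VB_109) (.leaf VB_621)) (.leaf VB_365)) (.node (.node (.leaf VB_237) (.leaf VB_749)) (.leaf VB_493))))) (.node (.node (.node (.node (.node (.leaf VB_29) (.leaf VB_541)) (.leaf VB_285)) (.node (.node (.leaf VB_157) (.leaf VB_669)) (.leaf VB_413))) (.node (.node (.node (.leaf VB_93) (.leaf VB_605)) (.leaf VB_349)) (.node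 (.node (.leaf VB_221) (.leaf VB_733)) (.leaf VB_477)))) (.node (.node (.node (.node (.leaf VB_61) (.leaf VB_573)) (.leaf VB_317)) (.node (.node (.leaf VB_189) (.leaf VB_701)) (.leaf VB_445))) (.node (.node (.node (.leaf VB_125) (.leaf VB_637)) (.leaf VB_381)) (.node (.node (.leaf VB_253) (.leaf VB_765)) (.leaf VB_509)))))))) (.node (.node (.node (.node (.node (.node (.node (.node (.leaf VB_3) (.leaf VB_515)) (.leaf VB_259)) (.node (.node (.leaf VB_131) (.leaf VB_643)) (.leaf VB_387))) (.node (.node (.node (.leaf VB_67) (.leaf VB_579)) (.leaf VB_323)) (.node (.node (.leaf VB_195) (.leaf VB_707)) (.leaf VB_451)))) (.node (.node (.node (.node (.leaf VB_35) (.leaf VB_547)) (.leaf VB_291)) (.node (.node (.leaf VB_163) (.leaf VB_675)) (.leaf VB_419))) (.node (.node (.node (.leaf VB_99) (.leaf VB_611)) (.leaf VB_355)) (.node (.node (.leaf VB_227) (.leaf VB_739)) (.leaf VB_483))))) (.node (.node (.node (.node (.node (.leaf VB_19) (.leaf VB_531)) (.leaf VB_275)) (.node (.node (.leaf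 VB_147) (.leaf VB_659)) (.leaf VB_403))) (.node (.node (.node (.leaf VB_83) (.leaf VB_595)) (.leaf VB_339)) (.node (.node (.leaf VB_211) (.leaf VB_723)) (.leaf VB_467)))) (.node (.node (.node (.node (.leaf VB_51) (.leaf VB_563)) (.leaf VB_307)) (.node (.node (.leaf VB_179) (.leaf VB_691)) (.leaf VB_435))) (.node (.node (.node (.leaf VB_115) (.leaf VB_627)) (.leaf VB_371)) (.node (.node (.leaf VB_243) (.leaf VB_755)) (.leaf VB_499)))))) (.node (.node (.node (.node (.node (.node (.leaf VB_11) (.leaf VB_523)) (.leaf VB_267)) (.node (.node (.leaf VB_139) (.leaf VB_651)) (.leaf VB_395))) (.node (.node (.node (.leaf VB_75) (.leaf VB_587)) (.leaf VB_331)) (.node (.node (.leaf VB_203) (.leaf VB_715)) (.leaf VB_459)))) (.node (.node (.node (.node (.leaf VB_43) (.leaf VB_555)) (.leaf VB_299)) (.node (.node (.leaf VB_171) (.leaf VB_683)) (.leaf VB_427))) (.node (.node (.node (.leaf VB_107) (.leaf VB_619)) (.leaf VB_363)) (.node (.node (.leaf VB_235) (.leaf VB_747)) (.leaf VB_491)))))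 (.node (.node (.node (.node (.node (.leaf VB_27) (.leaf VB_539)) (.leaf VB_283)) (.node (.node (.leaf VB_155) (.leaf VB_667)) (.leaf VB_411))) (.node (.node (.node (.leaf VB_91) (.leaf VB_603)) (.leaf VB_347)) (.node (.node (.leaf VB_219) (.leaf VB_731)) (.leaf VB_475)))) (.node (.node (.node (.node (.leaf VB_59) (.leaf VB_571)) (.leaf VB_315)) (.node (.node (.leaf VB_187) (.leaf VB_699)) (.leaf VB_443))) (.node (.node (.node (.leaf VB_123) (.leaf VB_635)) (.leaf VB_379)) (.node (.node (.leaf VB_251) (.leaf VB_763)) (.leaf VB_507))))))) (.node (.node (.node (.node (.node (.node (.node (.leaf VB_7) (.leaf VB_519)) (.leaf VB_263)) (.node (.node (.leaf VB_135) (.leaf VB_647)) (.leaf VB_391))) (.node (.node (.node (.leaf VB_71) (.leaf VB_583)) (.leaf VB_327)) (.node (.node (.leaf VB_199) (.leaf VB_711)) (.leaf VB_455)))) (.node (.node (.node (.node (.leaf VB_39) (.leaf VB_551)) (.leaf VB_295)) (.node (.node (.leaf VB_167) (.leaf VB_679)) (.leaf VB_423))) (.node (.node (.node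 (.leaf VB_103) (.leaf VB_615)) (.leaf VB_359)) (.node (.node (.leaf VB_231) (.leaf VB_743)) (.leaf VB_487))))) (.node (.node (.node (.node (.node (.leaf VB_23) (.leaf VB_535)) (.leaf VB_279)) (.node (.node (.leaf VB_151) (.leaf VB_663)) (.leaf VB_407))) (.node (.node (.node (.leaf VB_87) (.leaf VB_599)) (.leaf VB_343)) (.node (.node (.leaf VB_215) (.leaf VB_727)) (.leaf VB_471)))) (.node (.node (.node (.node (.leaf VB_55) (.leaf VB_567)) (.leaf VB_311)) (.node (.node (.leaf VB_183) (.leaf VB_695)) (.leaf VB_439))) (.node (.node (.node (.leaf VB_119) (.leaf VB_631)) (.leaf VB_375)) (.node (.node (.leaf VB_247) (.leaf VB_759)) (.leaf VB_503)))))) (.node (.node (.node (.node (.node (.node (.leaf VB_15) (.leaf VB_527)) (.leaf VB_271)) (.node (.node (.leaf VB_143) (.leaf VB_655)) (.leaf VB_399))) (.node (.node (.node (.leaf VB_79) (.leaf VB_591)) (.leaf VB_335)) (.node (.node (.leaf VB_207) (.leaf VB_719)) (.leaf VB_463)))) (.node (.node (.node (.node (.leaf VB_47) (.leaf VB_559))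 (.leaf VB_303)) (.node (.node (.leaf VB_175) (.leaf VB_687)) (.leaf VB_431))) (.node (.node (.node (.leaf VB_111) (.leaf VB_623)) (.leaf VB_367)) (.node (.node (.leaf VB_239) (.leaf VB_751)) (.leaf VB_495))))) (.node (.node (.node (.node (.node (.leaf VB_31) (.leaf VB_543)) (.leaf VB_287)) (.node (.node (.leaf VB_159) (.leaf VB_671)) (.leaf VB_415))) (.node (.node (.node (.leaf VB_95) (.leaf VB_607)) (.leaf VB_351)) (.node (.node (.leaf VB_223) (.leaf VB_735)) (.leaf VB_479)))) (.node (.node (.node (.node (.leaf VB_63) (.leaf VB_575)) (.leaf VB_319)) (.node (.node (.leaf VB_191) (.leaf VB_703)) (.leaf VB_447))) (.node (.node (.node (.leaf VB_127) (.leaf VB_639)) (.leaf VB_383)) (.node (.node (.leaf VB_255) (.leaf VB_767)) (.leaf VB_511))))))))))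

noncomputable def V (c : ℕ) : ℕ := L0.rowOf VB (nat_lit 7) (nat_lit 127) (nat_lit 300) (nat_lit 2037035976334486086268445688409378161051468393665936250636140449354381299763336706183397375) c

end Cfsg.Agent.H9.OutCo1
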