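import Cfsg.Agent.H9.OutFi23D

/-! The outer automorphism group of Fi23. Checks. -/

set_option autoImplicit false
set_option maxRecDepth 100000

namespace Cfsg.Agent.H9.OutFi23

theorem slp_0 : allPow (below (nat_lit 31671) (slpB T Ws (nat_lit 10))) 8 (0 * 2 ^ 8) = true := by decide +kernel

theorem slp_1 : allPow (below (nat_lit 31671) (slpB T Ws (nat_lit 10))) 8 (1 * 2 ^ 8) = true := by decide +kernel

theorem slp_2 : allPow (below (nat_lit 31671) (slpB T Ws (nat_lit 10))) 8 (2 * 2 ^ 8) = true := by decide +kernel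

theorem slp_3 : allPow (below (nat_lit 31671) (slpB T Ws (nat_lit 10))) 8 (3 * 2 ^ 8) = true := by decide +kernel

theorem slp_4 : allPow (below (nat_lit 31671) (slpB T Ws (nat_lit 10))) 8 (4 * 2 ^ 8) = true := by decide +kernel

theorem slp_5 : allPow (below (nat_lit 31671) (slpB T Ws (nat_lit 10))) 8 (5 * 2 ^ 8) = true := by decide +kernel

theorem slp_6 : allPow (below (nat_lit 31671) (slpB T Ws (nat_lit 10))) 8 (6 * 2 ^ 8) = true := by decide +kernel

theorem slp_7 : allPow (below (nat_lit 31671) (slpB T Ws (nat_lit 10))) 8 (7 * 2 ^ 8) = true := by decide +kernel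

theorem slp_8 : allPow (below (nat_lit 31671) (slpB T Ws (nat_lit 10))) 8 (8 * 2 ^ 8) = true := by decide +kernel

theorem slp_9 : allPow (below (nat_lit 31671) (slpB T Ws (nat_lit 10))) 8 (9 * 2 ^ 8) = true := by decide +kernel

theorem slp_10 : allPow (below (nat_lit 31671) (slpB T Ws (nat_lit 10))) 8 (10 * 2 ^ 8) = true := by decide +kernel

theorem slp_11 : allPow (below (nat_lit 31671) (slpB T Ws (nat_lit 10))) 8 (11 * 2 ^ 8) = true := by decide +kernel

theorem slp_12 : allPow (below (nat_lit 31671) (slpB T Ws (nat_lit 10))) 8 (12 * 2 ^ 8) = true := by decide +kernel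

theorem slp_13 : allPow (below (nat_lit 31671) (slpB T Ws (nat_lit 10))) 8 (13 * 2 ^ 8) = true := by decide +kernel

theorem slp_14 : allPow (below (nat_lit 31671) (slpB T Ws (nat_lit 10))) 8 (14 * 2 ^ 8) = true := by decide +kernel

theorem slp_15 : allPow (below (nat_lit 31671) (slpB T Ws (nat_lit 10))) 8 (15 * 2 ^ 8) = true := by decide +kernel

theorem slp_16 : allPow (below (nat_lit 31671) (slpB T Ws (nat_lit 10))) 8 (16 * 2 ^ 8) = true := by decide +kernel

theorem slp_17 : allPow (below (nat_lit 31671) (slpB T Ws (nat_lit 10))) 8 (17 * 2 ^ 8) = true := by decide +kernel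

theorem slp_18 : allPow (below (nat_lit 31671) (slpB T Ws (nat_lit 10))) 8 (18 * 2 ^ 8) = true := by decide +kernel

theorem slp_19 : allPow (below (nat_lit 31671) (slpB T Ws (nat_lit 10))) 8 (19 * 2 ^ 8) = true := by decide +kernel

theorem slp_20 : allPow (below (nat_lit 31671) (slpB T Ws (nat_lit 10))) 8 (20 * 2 ^ 8) = true := by decide +kernel

theorem slp_21 : allPow (below (nat_lit 31671) (slpB T Ws (nat_lit 10))) 8 (21 * 2 ^ 8) = true := by decide +kernel

theorem slp_22 : allPow (below (nat_lit 31671) (slpB T Ws (nat_lit 10))) 8 (22 * 2 ^ 8) = true := by decide +kernel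

theorem slp_23 : allPow (below (nat_lit 31671) (slpB T Ws (nat_lit 10))) 8 (23 * 2 ^ 8) = true := by decide +kernel

theorem slp_24 : allPow (below (nat_lit 31671) (slpB T Ws (nat_lit 10))) 8 (24 * 2 ^ 8) = true := by decide +kernel

theorem slp_25 : allPow (below (nat_lit 31671) (slpB T Ws (nat_lit 10))) 8 (25 * 2 ^ 8) = true := by decide +kernel

theorem slp_26 : allPow (below (nat_lit 31671) (slpB T Ws (nat_lit 10))) 8 (26 * 2 ^ 8) = true := by decide +kernel

theorem slp_27 : allPow (below (nat_lit 31671) (slpB T Ws (nat_lit 10))) 8 (27 * 2 ^ 8) = true := by decide +kernel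

theorem slp_28 : allPow (below (nat_lit 31671) (slpB T Ws (nat_lit 10))) 8 (28 * 2 ^ 8) = true := by decide +kernel

theorem slp_29 : allPow (below (nat_lit 31671) (slpB T Ws (nat_lit 10))) 8 (29 * 2 ^ 8) = true := by decide +kernel

theorem slp_30 : allPow (below (nat_lit 31671) (slpB T Ws (nat_lit 10))) 8 (30 * 2 ^ 8) = true := by decide +kernel

theorem slp_31 : allPow (below (nat_lit 31671) (slpB T Ws (nat_lit 10))) 8 (31 * 2 ^ 8) = true := by decide +kernel

theorem slp_32 : allPow (below (nat_lit 31671) (slpB T Ws (nat_lit 10))) 8 (32 * 2 ^ 8) = true := by decide +kernel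

theorem slp_33 : allPow (below (nat_lit 31671) (slpB T Ws (nat_lit 10))) 8 (33 * 2 ^ 8) = true := by decide +kernel

theorem slp_34 : allPow (below (nat_lit 31671) (slpB T Ws (nat_lit 10))) 8 (34 * 2 ^ 8) = true := by decide +kernel

theorem slp_35 : allPow (below (nat_lit 31671) (slpB T Ws (nat_lit 10))) 8 (35 * 2 ^ 8) = true := by decide +kernel

theorem slp_36 : allPow (below (nat_lit 31671) (slpB T Ws (nat_lit 10))) 8 (36 * 2 ^ 8) = true := by decide +kernel

theorem slp_37 : allPow (below (nat_lit 31671) (slpB T Ws (nat_lit 10))) 8 (37 * 2 ^ 8) = true := by decide +kernel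

theorem slp_38 : allPow (below (nat_lit 31671) (slpB T Ws (nat_lit 10))) 8 (38 * 2 ^ 8) = true := by decide +kernel

theorem slp_39 : allPow (below (nat_lit 31671) (slpB T Ws (nat_lit 10))) 8 (39 * 2 ^ 8) = true := by decide +kernel

theorem slp_40 : allPow (below (nat_lit 31671) (slpB T Ws (nat_lit 10))) 8 (40 * 2 ^ 8) = true := by decide +kernel

theorem slp_41 : allPow (below (nat_lit 31671) (slpB T Ws (nat_lit 10))) 8 (41 * 2 ^ 8) = true := by decide +kernel

theorem slp_42 : allPow (below (nat_lit 31671) (slpB T Ws (nat_lit 10))) 8 (42 * 2 ^ 8) = true := by decide +kernel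

theorem slp_43 : allPow (below (nat_lit 31671) (slpB T Ws (nat_lit 10))) 8 (43 * 2 ^ 8) = true := by decide +kernel

theorem slp_44 : allPow (below (nat_lit 31671) (slpB T Ws (nat_lit 10))) 8 (44 * 2 ^ 8) = true := by decide +kernel

theorem slp_45 : allPow (below (nat_lit 31671) (slpB T Ws (nat_lit 10))) 8 (45 * 2 ^ 8) = true := by decide +kernel

theorem slp_46 : allPow (below (nat_lit 31671) (slpB T Ws (nat_lit 10))) 8 (46 * 2 ^ 8) = true := by decide +kernel

theorem slp_47 : allPow (below (nat_lit 31671) (slpB T Ws (nat_lit 10))) 8 (47 * 2 ^ 8) = true := by decide +kernel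

theorem slp_48 : allPow (below (nat_lit 31671) (slpB T Ws (nat_lit 10))) 8 (48 * 2 ^ 8) = true := by decide +kernel

theorem slp_49 : allPow (below (nat_lit 31671) (slpB T Ws (nat_lit 10))) 8 (49 * 2 ^ 8) = true := by decide +kernel

end Cfsg.Agent.H9.OutFi23
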