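import Cfsg.Agent.H9.OutFi23D

/-! The outer automorphism group of Fi23. Checks. -/

set_option autoImplicit false
set_option maxRecDepth 100000

namespace Cfsg.Agent.H9.OutFi23

theorem slp_50 : allPow (below (nat_lit 31671) (slpB T Ws (nat_lit 10))) 8 (50 * 2 ^ 8) = true := by decide +kernel

theorem slp_51 : allPow (below (nat_lit 31671) (slpB T Ws (nat_lit 10))) 8 (51 * 2 ^ 8) = true := by decide +kernel

theorem slp_52 : allPow (below (nat_lit 31671) (slpB T Ws (nat_lit 10))) 8 (52 * 2 ^ 8) = true := by decide +kernel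

theorem slp_53 : allPow (below (nat_lit 31671) (slpB T Ws (nat_lit 10))) 8 (53 * 2 ^ 8) = true := by decide +kernel

theorem slp_54 : allPow (below (nat_lit 31671) (slpB T Ws (nat_lit 10))) 8 (54 * 2 ^ 8) = true := by decide +kernel

theorem slp_55 : allPow (below (nat_lit 31671) (slpB T Ws (nat_lit 10))) 8 (55 * 2 ^ 8) = true := by decide +kernel

theorem slp_56 : allPow (below (nat_lit 31671) (slpB T Ws (nat_lit 10))) 8 (56 * 2 ^ 8) = true := by decide +kernel

theorem slp_57 : allPow (below (nat_lit 31671) (slpB T Ws (nat_lit 10))) 8 (57 * 2 ^ 8) = true := by decide +kernel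

theorem slp_58 : allPow (below (nat_lit 31671) (slpB T Ws (nat_lit 10))) 8 (58 * 2 ^ 8) = true := by decide +kernel

theorem slp_59 : allPow (below (nat_lit 31671) (slpB T Ws (nat_lit 10))) 8 (59 * 2 ^ 8) = true := by decide +kernel

theorem slp_60 : allPow (below (nat_lit 31671) (slpB T Ws (nat_lit 10))) 8 (60 * 2 ^ 8) = true := by decide +kernel

theorem slp_61 : allPow (below (nat_lit 31671) (slpB T Ws (nat_lit 10))) 8 (61 * 2 ^ 8) = true := by decide +kernel

theorem slp_62 : allPow (below (nat_lit 31671) (slpB T Ws (nat_lit 10))) 8 (62 * 2 ^ 8) = true := by decide +kernel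

theorem slp_63 : allPow (below (nat_lit 31671) (slpB T Ws (nat_lit 10))) 8 (63 * 2 ^ 8) = true := by decide +kernel

theorem slp_64 : allPow (below (nat_lit 31671) (slpB T Ws (nat_lit 10))) 8 (64 * 2 ^ 8) = true := by decide +kernel

theorem slp_65 : allPow (below (nat_lit 31671) (slpB T Ws (nat_lit 10))) 8 (65 * 2 ^ 8) = true := by decide +kernel

theorem slp_66 : allPow (below (nat_lit 31671) (slpB T Ws (nat_lit 10))) 8 (66 * 2 ^ 8) = true := by decide +kernel

theorem slp_67 : allPow (below (nat_lit 31671) (slpB T Ws (nat_lit 10))) 8 (67 * 2 ^ 8) = true := by decide +kernel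

theorem slp_68 : allPow (below (nat_lit 31671) (slpB T Ws (nat_lit 10))) 8 (68 * 2 ^ 8) = true := by decide +kernel

theorem slp_69 : allPow (below (nat_lit 31671) (slpB T Ws (nat_lit 10))) 8 (69 * 2 ^ 8) = true := by decide +kernel

theorem slp_70 : allPow (below (nat_lit 31671) (slpB T Ws (nat_lit 10))) 8 (70 * 2 ^ 8) = true := by decide +kernel

theorem slp_71 : allPow (below (nat_lit 31671) (slpB T Ws (nat_lit 10))) 8 (71 * 2 ^ 8) = true := by decide +kernel

theorem slp_72 : allPow (below (nat_lit 31671) (slpB T Ws (nat_lit 10))) 8 (72 * 2 ^ 8) = true := by decide +kernel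

theorem slp_73 : allPow (below (nat_lit 31671) (slpB T Ws (nat_lit 10))) 8 (73 * 2 ^ 8) = true := by decide +kernel

theorem slp_74 : allPow (below (nat_lit 31671) (slpB T Ws (nat_lit 10))) 8 (74 * 2 ^ 8) = true := by decide +kernel

theorem slp_75 : allPow (below (nat_lit 31671) (slpB T Ws (nat_lit 10))) 8 (75 * 2 ^ 8) = true := by decide +kernel

theorem slp_76 : allPow (below (nat_lit 31671) (slpB T Ws (nat_lit 10))) 8 (76 * 2 ^ 8) = true := by decide +kernel

theorem slp_77 : allPow (below (nat_lit 31671) (slpB T Ws (nat_lit 10))) 8 (77 * 2 ^ 8) = true := by decide +kernel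

theorem slp_78 : allPow (below (nat_lit 31671) (slpB T Ws (nat_lit 10))) 8 (78 * 2 ^ 8) = true := by decide +kernel

theorem slp_79 : allPow (below (nat_lit 31671) (slpB T Ws (nat_lit 10))) 8 (79 * 2 ^ 8) = true := by decide +kernel

theorem slp_80 : allPow (below (nat_lit 31671) (slpB T Ws (nat_lit 10))) 8 (80 * 2 ^ 8) = true := by decide +kernel

theorem slp_81 : allPow (below (nat_lit 31671) (slpB T Ws (nat_lit 10))) 8 (81 * 2 ^ 8) = true := by decide +kernel

theorem slp_82 : allPow (below (nat_lit 31671) (slpB T Ws (nat_lit 10))) 8 (82 * 2 ^ 8) = true := by decide +kernel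

theorem slp_83 : allPow (below (nat_lit 31671) (slpB T Ws (nat_lit 10))) 8 (83 * 2 ^ 8) = true := by decide +kernel

theorem slp_84 : allPow (below (nat_lit 31671) (slpB T Ws (nat_lit 10))) 8 (84 * 2 ^ 8) = true := by decide +kernel

theorem slp_85 : allPow (below (nat_lit 31671) (slpB T Ws (nat_lit 10))) 8 (85 * 2 ^ 8) = true := by decide +kernel

theorem slp_86 : allPow (below (nat_lit 31671) (slpB T Ws (nat_lit 10))) 8 (86 * 2 ^ 8) = true := by decide +kernel

theorem slp_87 : allPow (below (nat_lit 31671) (slpB T Ws (nat_lit 10))) 8 (87 * 2 ^ 8) = true := by decide +kernel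

theorem slp_88 : allPow (below (nat_lit 31671) (slpB T Ws (nat_lit 10))) 8 (88 * 2 ^ 8) = true := by decide +kernel

theorem slp_89 : allPow (below (nat_lit 31671) (slpB T Ws (nat_lit 10))) 8 (89 * 2 ^ 8) = true := by decide +kernel

theorem slp_90 : allPow (below (nat_lit 31671) (slpB T Ws (nat_lit 10))) 8 (90 * 2 ^ 8) = true := by decide +kernel

theorem slp_91 : allPow (below (nat_lit 31671) (slpB T Ws (nat_lit 10))) 8 (91 * 2 ^ 8) = true := by decide +kernel

theorem slp_92 : allPow (below (nat_lit 31671) (slpB T Ws (nat_lit 10))) 8 (92 * 2 ^ 8) = true := by decide +kernel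

theorem slp_93 : allPow (below (nat_lit 31671) (slpB T Ws (nat_lit 10))) 8 (93 * 2 ^ 8) = true := by decide +kernel

theorem slp_94 : allPow (below (nat_lit 31671) (slpB T Ws (nat_lit 10))) 8 (94 * 2 ^ 8) = true := by decide +kernel

theorem slp_95 : allPow (below (nat_lit 31671) (slpB T Ws (nat_lit 10))) 8 (95 * 2 ^ 8) = true := by decide +kernel

theorem slp_96 : allPow (below (nat_lit 31671) (slpB T Ws (nat_lit 10))) 8 (96 * 2 ^ 8) = true := by decide +kernel

theorem slp_97 : allPow (below (nat_lit 31671) (slpB T Ws (nat_lit 10))) 8 (97 * 2 ^ 8) = true := by decide +kernel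

theorem slp_98 : allPow (below (nat_lit 31671) (slpB T Ws (nat_lit 10))) 8 (98 * 2 ^ 8) = true := by decide +kernel

theorem slp_99 : allPow (below (nat_lit 31671) (slpB T Ws (nat_lit 10))) 8 (99 * 2 ^ 8) = true := by decide +kernel

end Cfsg.Agent.H9.OutFi23
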