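import Cfsg.Agent.H9.OutFi23D

/-! The outer automorphism group of Fi23. Checks. -/

set_option autoImplicit false
set_option maxRecDepth 100000

namespace Cfsg.Agent.H9.OutFi23

theorem slp_100 : allPow (below (nat_lit 31671) (slpB T Ws (nat_lit 10))) 8 (100 * 2 ^ 8) = true := by decide +kernel

theorem slp_101 : allPow (below (nat_lit 31671) (slpB T Ws (nat_lit 10))) 8 (101 * 2 ^ 8) = true := by decide +kernel

theorem slp_102 : allPow (below (nat_lit 31671) (slpB T Ws (nat_lit 10))) 8 (102 * 2 ^ 8) = true := by decide +kernel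

theorem slp_103 : allPow (below (nat_lit 31671) (slpB T Ws (nat_lit 10))) 8 (103 * 2 ^ 8) = true := by decide +kernel

theorem slp_104 : allPow (below (nat_lit 31671) (slpB T Ws (nat_lit 10))) 8 (104 * 2 ^ 8) = true := by decide +kernel

theorem slp_105 : allPow (below (nat_lit 31671) (slpB T Ws (nat_lit 10))) 8 (105 * 2 ^ 8) = true := by decide +kernel

theorem slp_106 : allPow (below (nat_lit 31671) (slpB T Ws (nat_lit 10))) 8 (106 * 2 ^ 8) = true := by decide +kernel

theorem slp_107 : allPow (below (nat_lit 31671) (slpB T Ws (nat_lit 10))) 8 (107 * 2 ^ 8) = true := by decide +kernel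

theorem slp_108 : allPow (below (nat_lit 31671) (slpB T Ws (nat_lit 10))) 8 (108 * 2 ^ 8) = true := by decide +kernel

theorem slp_109 : allPow (below (nat_lit 31671) (slpB T Ws (nat_lit 10))) 8 (109 * 2 ^ 8) = true := by decide +kernel

theorem slp_110 : allPow (below (nat_lit 31671) (slpB T Ws (nat_lit 10))) 8 (110 * 2 ^ 8) = true := by decide +kernel

theorem slp_111 : allPow (below (nat_lit 31671) (slpB T Ws (nat_lit 10))) 8 (111 * 2 ^ 8) = true := by decide +kernel

theorem slp_112 : allPow (below (nat_lit 31671) (slpB T Ws (nat_lit 10))) 8 (112 * 2 ^ 8) = true := by decide +kernel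

theorem slp_113 : allPow (below (nat_lit 31671) (slpB T Ws (nat_lit 10))) 8 (113 * 2 ^ 8) = true := by decide +kernel

theorem slp_114 : allPow (below (nat_lit 31671) (slpB T Ws (nat_lit 10))) 8 (114 * 2 ^ 8) = true := by decide +kernel

theorem slp_115 : allPow (below (nat_lit 31671) (slpB T Ws (nat_lit 10))) 8 (115 * 2 ^ 8) = true := by decide +kernel

theorem slp_116 : allPow (below (nat_lit 31671) (slpB T Ws (nat_lit 10))) 8 (116 * 2 ^ 8) = true := by decide +kernel

theorem slp_117 : allPow (below (nat_lit 31671) (slpB T Ws (nat_lit 10))) 8 (117 * 2 ^ 8) = true := by decide +kernel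

theorem slp_118 : allPow (below (nat_lit 31671) (slpB T Ws (nat_lit 10))) 8 (118 * 2 ^ 8) = true := by decide +kernel

theorem slp_119 : allPow (below (nat_lit 31671) (slpB T Ws (nat_lit 10))) 8 (119 * 2 ^ 8) = true := by decide +kernel

theorem slp_120 : allPow (below (nat_lit 31671) (slpB T Ws (nat_lit 10))) 8 (120 * 2 ^ 8) = true := by decide +kernel

theorem slp_121 : allPow (below (nat_lit 31671) (slpB T Ws (nat_lit 10))) 8 (121 * 2 ^ 8) = true := by decide +kernel

theorem slp_122 : allPow (below (nat_lit 31671) (slpB T Ws (nat_lit 10))) 8 (122 * 2 ^ 8) = true := by decide +kernel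

theorem slp_123 : allPow (below (nat_lit 31671) (slpB T Ws (nat_lit 10))) 8 (123 * 2 ^ 8) = true := by decide +kernel

theorem ptLa_0 : allPow (below (nat_lit 31671) (La0.toLv.ptB T (nat_lit 31671))) 13 (0 * 2 ^ 13) = true := by decide +kernel

theorem ptLa_1 : allPow (below (nat_lit 31671) (La0.toLv.ptB T (nat_lit 31671))) 13 (1 * 2 ^ 13) = true := by decide +kernel

theorem ptLa_2 : allPow (below (nat_lit 31671) (La0.toLv.ptB T (nat_lit 31671))) 13 (2 * 2 ^ 13) = true := by decide +kernel

theorem ptLa_3 : allPow (below (nat_lit 31671) (La0.toLv.ptB T (nat_lit 31671))) 13 (3 * 2 ^ 13) = true := by decide +kernel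

theorem scLa_0 : allPow (below (nat_lit 31671) (scanB T iv (tr T [D.ia]) La0 Las [])) 13 (0 * 2 ^ 13) = true := by decide +kernel

theorem scLa_1 : allPow (below (nat_lit 31671) (scanB T iv (tr T [D.ia]) La0 Las [])) 13 (1 * 2 ^ 13) = true := by decide +kernel

theorem scLa_2 : allPow (below (nat_lit 31671) (scanB T iv (tr T [D.ia]) La0 Las [])) 13 (2 * 2 ^ 13) = true := by decide +kernel

theorem scLa_3 : allPow (below (nat_lit 31671) (scanB T iv (tr T [D.ia]) La0 Las [])) 13 (3 * 2 ^ 13) = true := by decide +kernel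

theorem ptLb_0 : allPow (below (nat_lit 31671) (Lb0.toLv.ptB T (nat_lit 31671))) 13 (0 * 2 ^ 13) = true := by decide +kernel

theorem ptLb_1 : allPow (below (nat_lit 31671) (Lb0.toLv.ptB T (nat_lit 31671))) 13 (1 * 2 ^ 13) = true := by decide +kernel

theorem ptLb_2 : allPow (below (nat_lit 31671) (Lb0.toLv.ptB T (nat_lit 31671))) 13 (2 * 2 ^ 13) = true := by decide +kernel

theorem ptLb_3 : allPow (below (nat_lit 31671) (Lb0.toLv.ptB T (nat_lit 31671))) 13 (3 * 2 ^ 13) = true := by decide +kernel

theorem scLb_0 : allPow (below (nat_lit 31671) (scanB T iv (tr T (List.replicate D.i D.ib)) Lb0 Lbs [])) 13 (0 * 2 ^ 13) = true := by decide +kernel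

theorem scLb_1 : allPow (below (nat_lit 31671) (scanB T iv (tr T (List.replicate D.i D.ib)) Lb0 Lbs [])) 13 (1 * 2 ^ 13) = true := by decide +kernel

theorem scLb_2 : allPow (below (nat_lit 31671) (scanB T iv (tr T (List.replicate D.i D.ib)) Lb0 Lbs [])) 13 (2 * 2 ^ 13) = true := by decide +kernel

theorem scLb_3 : allPow (below (nat_lit 31671) (scanB T iv (tr T (List.replicate D.i D.ib)) Lb0 Lbs [])) 13 (3 * 2 ^ 13) = true := by decide +kernel

end Cfsg.Agent.H9.OutFi23
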