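import Cfsg.Agent.H9.OutFi23D
import Cfsg.Agent.L0.Fi23.Act

/-! The outer automorphism group of Fi23. Comparison of tables. -/

set_option autoImplicit false
set_option maxRecDepth 100000

namespace Cfsg.Agent.H9.OutFi23

theorem eqT_0 : allPow (below (nat_lit 31671) (eqTB L0.Fi23Act.T T 10)) 12 (0 * 2 ^ 12) = true := by decide +kernel

theorem eqT_1 : allPow (below (nat_lit 31671) (eqTB L0.Fi23Act.T T 10)) 12 (1 * 2 ^ 12) = true := by decide +kernel

theorem eqT_2 : allPow (below (nat_lit 31671) (eqTB L0.Fi23Act.T T 10)) 12 (2 * 2 ^ 12) = true := by decide +kernel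

theorem eqT_3 : allPow (below (nat_lit 31671) (eqTB L0.Fi23Act.T T 10)) 12 (3 * 2 ^ 12) = true := by decide +kernel

theorem eqT_4 : allPow (below (nat_lit 31671) (eqTB L0.Fi23Act.T T 10)) 12 (4 * 2 ^ 12) = true := by decide +kernel

theorem eqT_5 : allPow (below (nat_lit 31671) (eqTB L0.Fi23Act.T T 10)) 12 (5 * 2 ^ 12) = true := by decide +kernel

theorem eqT_6 : allPow (below (nat_lit 31671) (eqTB L0.Fi23Act.T T 10)) 12 (6 * 2 ^ 12) = true := by decide +kernel

theorem eqT_7 : allPow (below (nat_lit 31671) (eqTB L0.Fi23Act.T T 10)) 12 (7 * 2 ^ 12) = true := by decide +kernel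

end Cfsg.Agent.H9.OutFi23
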