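import Cfsg.Agent.L0.Fi23.Grp
import Cfsg.Agent.H9.OutFi23E
import Cfsg.Agent.H9.OutFi23C0
import Cfsg.Agent.H9.OutFi23C1
import Cfsg.Agent.H9.OutFi23C2

/-! The outer automorphism group of Fi23. -/

set_option autoImplicit false
set_option maxRecDepth 100000

namespace Cfsg.Agent.H9.OutFi23

theorem slp_a0 : ∀ j < 40, allPow (below (nat_lit 31671) (slpB T Ws (nat_lit 10))) 8 (j * 2 ^ 8) = true :=
  (forall_lt_succ'' (forall_lt_succ'' (forall_lt_succ'' (forall_lt_succ'' (forall_lt_succ'' (forall_lt_succ'' (forall_lt_succ'' (forall_lt_succ'' (forall_lt_succ'' (forall_lt_succ'' (forall_lt_succ'' (forall_lt_succ'' (forall_lt_succ'' (forall_lt_succ'' (forall_lt_succ'' (forall_lt_succ'' (forall_lt_succ'' (forall_lt_succ'' (forall_lt_succ'' (forall_lt_succ'' (forall_lt_succ'' (forall_lt_succ'' (forall_lt_succ'' (forall_lt_succ'' (forall_lt_succ'' (forall_lt_succ'' (forall_lt_succ'' (forall_lt_succ'' (forall_lt_succ'' (forall_lt_succ'' (forall_lt_succ''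 (forall_lt_succ'' (forall_lt_succ'' (forall_lt_succ'' (forall_lt_succ'' (forall_lt_succ'' (forall_lt_succ'' (forall_lt_succ'' (forall_lt_succ'' (forall_lt_succ'' forall_lt_zero'' slp_0) slp_1) slp_2) slp_3) slp_4) slp_5) slp_6) slp_7) slp_8) slp_9) slp_10) slp_11) slp_12) slp_13) slp_14) slp_15) slp_16) slp_17) slp_18) slp_19) slp_20) slp_21) slp_22) slp_23) slp_24) slp_25) slp_26) slp_27) slp_28) slp_29) slp_30) slp_31) slp_32) slp_33) slp_34) slp_35) slp_36) slp_37) slp_38) slp_39)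

theorem slp_a40 : ∀ j < 80, allPow (below (nat_lit 31671) (slpB T Ws (nat_lit 10))) 8 (j * 2 ^ 8) = true :=
  (forall_lt_succ'' (forall_lt_succ'' (forall_lt_succ'' (forall_lt_succ'' (forall_lt_succ'' (forall_lt_succ'' (forall_lt_succ'' (forall_lt_succ'' (forall_lt_succ'' (forall_lt_succ'' (forall_lt_succ'' (forall_lt_succ'' (forall_lt_succ'' (forall_lt_succ'' (forall_lt_succ'' (forall_lt_succ'' (forall_lt_succ'' (forall_lt_succ'' (forall_lt_succ'' (forall_lt_succ'' (forall_lt_succ'' (forall_lt_succ'' (forall_lt_succ'' (forall_lt_succ'' (forall_lt_succ'' (forall_lt_succ'' (forall_lt_succ'' (forall_lt_succ'' (forall_lt_succ'' (forall_lt_succ'' (forall_lt_succ'' (forall_lt_succ'' (forall_lt_succ'' (forall_lt_succ'' (forall_lt_succ'' (forall_lt_succ'' (forall_lt_succ'' (forall_lt_succ'' (forall_lt_succ'' (forall_lt_succ'' slp_a0 slp_40) slp_41) slp_42) slp_43) slp_44) slp_45) slp_46) slp_47) slp_48) slp_49) slp_50) slp_51) slp_52) slp_53) slp_54)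 slp_55) slp_56) slp_57) slp_58) slp_59) slp_60) slp_61) slp_62) slp_63) slp_64) slp_65) slp_66) slp_67) slp_68) slp_69) slp_70) slp_71) slp_72) slp_73) slp_74) slp_75) slp_76) slp_77) slp_78) slp_79)

theorem slp_a80 : ∀ j < 120, allPow (below (nat_lit 31671) (slpB T Ws (nat_lit 10))) 8 (j * 2 ^ 8) = true :=
  (forall_lt_succ'' (forall_lt_succ'' (forall_lt_succ'' (forall_lt_succ'' (forall_lt_succ'' (forall_lt_succ'' (forall_lt_succ'' (forall_lt_succ'' (forall_lt_succ'' (forall_lt_succ'' (forall_lt_succ'' (forall_lt_succ'' (forall_lt_succ'' (forall_lt_succ'' (forall_lt_succ'' (forall_lt_succ'' (forall_lt_succ'' (forall_lt_succ'' (forall_lt_succ'' (forall_lt_succ'' (forall_lt_succ'' (forall_lt_succ'' (forall_lt_succ'' (forall_lt_succ'' (forall_lt_succ'' (forall_lt_succ'' (forall_lt_succ'' (forall_lt_succ'' (forall_lt_succ'' (forall_lt_succ'' (forall_lt_succ'' (forall_lt_succ'' (forall_lt_succ'' (forall_lt_succ'' (forall_lt_succ'' (forall_lt_succ''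 (forall_lt_succ'' (forall_lt_succ'' (forall_lt_succ'' (forall_lt_succ'' slp_a40 slp_80) slp_81) slp_82) slp_83) slp_84) slp_85) slp_86) slp_87) slp_88) slp_89) slp_90) slp_91) slp_92) slp_93) slp_94) slp_95) slp_96) slp_97) slp_98) slp_99) slp_100) slp_101) slp_102) slp_103) slp_104) slp_105) slp_106) slp_107) slp_108) slp_109) slp_110) slp_111) slp_112) slp_113) slp_114) slp_115) slp_116) slp_117) slp_118) slp_119)

theorem slp : ∀ i < 31671, (slpB T Ws (nat_lit 10)) i = true :=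
  all_of_blocks (d := 8) (m := 124) (by decide) (forall_lt_succ'' (forall_lt_succ'' (forall_lt_succ'' (forall_lt_succ'' slp_a80 slp_120) slp_121) slp_122) slp_123)

theorem ptLa : ∀ i < 31671, (La0.toLv.ptB T (nat_lit 31671)) i = true :=
  all_of_blocks (d := 13) (m := 4) (by decide) (forall_lt_succ'' (forall_lt_succ'' (forall_lt_succ'' (forall_lt_succ'' forall_lt_zero'' ptLa_0) ptLa_1) ptLa_2) ptLa_3)

theorem chLa : ChainChk T 31671 49 ((La0 :: Las).map SLv.toLv) [] :=
  ⟨by decide +kernel, ptLa, chainChk_of (by decide +kernel)⟩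

theorem scLa : ∀ i < 31671, (scanB T iv (tr T [D.ia]) La0 Las []) i = true :=
  all_of_blocks (d := 13) (m := 4) (by decide) (forall_lt_succ'' (forall_lt_succ'' (forall_lt_succ'' (forall_lt_succ'' forall_lt_zero'' scLa_0) scLa_1) scLa_2) scLa_3)

theorem ptLb : ∀ i < 31671, (Lb0.toLv.ptB T (nat_lit 31671)) i = true :=
  all_of_blocks (d := 13) (m := 4) (by decide) (forall_lt_succ'' (forall_lt_succ'' (forall_lt_succ'' (forall_lt_succ'' forall_lt_zero'' ptLb_0) ptLb_1) ptLb_2) ptLb_3)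

theorem chLb : ChainChk T 31671 49 ((Lb0 :: Lbs).map SLv.toLv) [] :=
  ⟨by decide +kernel, ptLb, chainChk_of (by decide +kernel)⟩

theorem scLb : ∀ i < 31671, (scanB T iv (tr T (List.replicate D.i D.ib)) Lb0 Lbs []) i = true :=
  all_of_blocks (d := 13) (m := 4) (by decide) (forall_lt_succ'' (forall_lt_succ'' (forall_lt_succ'' (forall_lt_succ'' forall_lt_zero'' scLb_0) scLb_1) scLb_2) scLb_3)

theorem chk : D.chk T 49 4089470473293004800 B = true := by decide +kernel

theorem ok {G : Type*} [Group G] [Finite G] {A : RA G 31671} {g0 : ℕ → G} (hT : A.Tab g0 10 T)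
    (hle : Nat.card G ≤ 4089470473293004800) : ∃ g : ℕ → G, (∀ s < 10, g s = g0 s) ∧ RA.OutOK A g 49 T B D 4089470473293004800 :=
  RA.outOK_of hT (by decide +kernel) slp (by decide +kernel) hle chLa (by decide +kernel) chLb
    (by decide +kernel) (by decide +kernel) (m := 562948879679488) (iv := iv) (by decide +kernel) scLa
    (by decide +kernel) scLb (by decide +kernel)

theorem out {G : Type*} [Group G] [Finite G] {A : RA G 31671} {g0 : ℕ → G} (hT : A.Tab g0 10 T)
    (hle : Nat.card G ≤ 4089470473293004800) : Nat.card (Cfsg.Out G) = 1 := by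
  obtain ⟨g, -, h⟩ := ok hT hle
  exact h.out_one (by decide) chk rfl

theorem eqT : ∀ i < 31671, (eqTB L0.Fi23Act.T T 10) i = true :=
  all_of_blocks (d := 12) (m := 8) (by decide) (forall_lt_succ'' (forall_lt_succ'' (forall_lt_succ'' (forall_lt_succ'' (forall_lt_succ'' (forall_lt_succ'' (forall_lt_succ'' (forall_lt_succ'' forall_lt_zero'' eqT_0) eqT_1) eqT_2) eqT_3) eqT_4) eqT_5) eqT_6) eqT_7)

instance instFinite : Finite Cfsg.Spor.Fi23 := L0.Fi23G.card_le.1

theorem exists_ra : ∃ A : RA Cfsg.Spor.Fi23 31671, A.Tab L0.Fi23G.x 10 T := by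
  obtain ⟨A, hA⟩ := L0.Fi23G.exists_act
  exact ⟨_, (RA.Tab.ofRAct hA).of_eq eqT⟩

theorem card_out : Nat.card (Cfsg.Out Cfsg.Spor.Fi23) = 1 := by
  obtain ⟨A, hA⟩ := exists_ra
  exact out hA L0.Fi23G.card_le.2

theorem pub : ∃ (A : L0.RAct Cfsg.Spor.Fi23 31671) (g : ℕ → Cfsg.Spor.Fi23), A.Tab g 49 T ∧ A.IsBase B ∧
    Nat.card Cfsg.Spor.Fi23 = 4089470473293004800 ∧ Subgroup.closure {g D.ia, g D.ib, g D.it} = ⊤ := by
  obtain ⟨A, hA⟩ := exists_ra
  obtain ⟨g', -, h⟩ := ok hA L0.Fi23G.card_le.2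
  exact ⟨_, g', h.pub⟩

end Cfsg.Agent.H9.OutFi23
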