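import Cfsg.Agent.H9.Big
import Cfsg.Agent.H9.OutFi23L0
import Cfsg.Agent.H9.OutFi23L1
import Cfsg.Agent.H9.OutFi23L2

/-! The outer automorphism group of Fi23. Data. -/

set_option autoImplicit false
set_option maxRecDepth 100000

namespace Cfsg.Agent.H9.OutFi23

noncomputable def TB : L0.BT := (.node (.node (.node (.node (.node (.node (.node (.node (.node (.node (.node (.leaf TB_0) (.leaf TB_1024)) (.node (.leaf TB_512) (.leaf TB_1536))) (.node (.node (.leaf TB_256) (.leaf TB_1280)) (.leaf TB_768))) (.node (.node (.node (.leaf TB_128) (.leaf TB_1152)) (.leaf TB_640)) (.node (.node (.leaf TB_384) (.leaf TB_1408)) (.leaf TB_896)))) (.node (.node (.node (.node (.leaf TB_64) (.leaf TB_1088)) (.leaf TB_576)) (.node (.node (.leaf TB_320) (.leaf TB_1344)) (.leaf TB_832))) (.node (.node (.node (.leaf TB_192) (.leaf TB_1216)) (.leaf TB_704)) (.node (.node (.leaf TB_448) (.leaf TB_1472)) (.leaf TB_960))))) (.node (.node (.node (.node (.node (.leaf TB_32) (.leaf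 TB_1056)) (.leaf TB_544)) (.node (.node (.leaf TB_288) (.leaf TB_1312)) (.leaf TB_800))) (.node (.node (.node (.leaf TB_160) (.leaf TB_1184)) (.leaf TB_672)) (.node (.node (.leaf TB_416) (.leaf TB_1440)) (.leaf TB_928)))) (.node (.node (.node (.node (.leaf TB_96) (.leaf TB_1120)) (.leaf TB_608)) (.node (.node (.leaf TB_352) (.leaf TB_1376)) (.leaf TB_864))) (.node (.node (.node (.leaf TB_224) (.leaf TB_1248)) (.leaf TB_736)) (.node (.node (.leaf TB_480) (.leaf TB_1504)) (.leaf TB_992)))))) (.node (.node (.node (.node (.node (.node (.leaf TB_16) (.leaf TB_1040)) (.node (.leaf TB_528) (.leaf TB_1552))) (.node (.node (.leaf TB_272) (.leaf TB_1296)) (.leaf TB_784))) (.node (.node (.node (.leaf TB_144) (.leaf TB_1168)) (.leaf TB_656)) (.node (.node (.leaf TB_400) (.leaf TB_1424)) (.leaf TB_912)))) (.node (.node (.node (.node (.leaf TB_80) (.leaf TB_1104)) (.leaf TB_592)) (.node (.node (.leaf TB_336) (.leaf TB_1360)) (.leaf TB_848))) (.node (.node (.node (.leaf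 TB_208) (.leaf TB_1232)) (.leaf TB_720)) (.node (.node (.leaf TB_464) (.leaf TB_1488)) (.leaf TB_976))))) (.node (.node (.node (.node (.node (.leaf TB_48) (.leaf TB_1072)) (.leaf TB_560)) (.node (.node (.leaf TB_304) (.leaf TB_1328)) (.leaf TB_816))) (.node (.node (.node (.leaf TB_176) (.leaf TB_1200)) (.leaf TB_688)) (.node (.node (.leaf TB_432) (.leaf TB_1456)) (.leaf TB_944)))) (.node (.node (.node (.node (.leaf TB_112) (.leaf TB_1136)) (.leaf TB_624)) (.node (.node (.leaf TB_368) (.leaf TB_1392)) (.leaf TB_880))) (.node (.node (.node (.leaf TB_240) (.leaf TB_1264)) (.leaf TB_752)) (.node (.node (.leaf TB_496) (.leaf TB_1520)) (.leaf TB_1008))))))) (.node (.node (.node (.node (.node (.node (.node (.leaf TB_8) (.leaf TB_1032)) (.node (.leaf TB_520) (.leaf TB_1544))) (.node (.node (.leaf TB_264) (.leaf TB_1288)) (.leaf TB_776))) (.node (.node (.node (.leaf TB_136) (.leaf TB_1160)) (.leaf TB_648)) (.node (.node (.leaf TB_392) (.leaf TB_1416)) (.leaf TB_904))))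 (.node (.node (.node (.node (.leaf TB_72) (.leaf TB_1096)) (.leaf TB_584)) (.node (.node (.leaf TB_328) (.leaf TB_1352)) (.leaf TB_840))) (.node (.node (.node (.leaf TB_200) (.leaf TB_1224)) (.leaf TB_712)) (.node (.node (.leaf TB_456) (.leaf TB_1480)) (.leaf TB_968))))) (.node (.node (.node (.node (.node (.leaf TB_40) (.leaf TB_1064)) (.leaf TB_552)) (.node (.node (.leaf TB_296) (.leaf TB_1320)) (.leaf TB_808))) (.node (.node (.node (.leaf TB_168) (.leaf TB_1192)) (.leaf TB_680)) (.node (.node (.leaf TB_424) (.leaf TB_1448)) (.leaf TB_936)))) (.node (.node (.node (.node (.leaf TB_104) (.leaf TB_1128)) (.leaf TB_616)) (.node (.node (.leaf TB_360) (.leaf TB_1384)) (.leaf TB_872))) (.node (.node (.node (.leaf TB_232) (.leaf TB_1256)) (.leaf TB_744)) (.node (.node (.leaf TB_488) (.leaf TB_1512)) (.leaf TB_1000)))))) (.node (.node (.node (.node (.node (.node (.leaf TB_24) (.leaf TB_1048)) (.node (.leaf TB_536) (.leaf TB_1560))) (.node (.node (.leaf TB_280)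 (.leaf TB_1304)) (.leaf TB_792))) (.node (.node (.node (.leaf TB_152) (.leaf TB_1176)) (.leaf TB_664)) (.node (.node (.leaf TB_408) (.leaf TB_1432)) (.leaf TB_920)))) (.node (.node (.node (.node (.leaf TB_88) (.leaf TB_1112)) (.leaf TB_600)) (.node (.node (.leaf TB_344) (.leaf TB_1368)) (.leaf TB_856))) (.node (.node (.node (.leaf TB_216) (.leaf TB_1240)) (.leaf TB_728)) (.node (.node (.leaf TB_472) (.leaf TB_1496)) (.leaf TB_984))))) (.node (.node (.node (.node (.node (.leaf TB_56) (.leaf TB_1080)) (.leaf TB_568)) (.node (.node (.leaf TB_312) (.leaf TB_1336)) (.leaf TB_824))) (.node (.node (.node (.leaf TB_184) (.leaf TB_1208)) (.leaf TB_696)) (.node (.node (.leaf TB_440) (.leaf TB_1464)) (.leaf TB_952)))) (.node (.node (.node (.node (.leaf TB_120) (.leaf TB_1144)) (.leaf TB_632)) (.node (.node (.leaf TB_376) (.leaf TB_1400)) (.leaf TB_888))) (.node (.node (.node (.leaf TB_248) (.leaf TB_1272)) (.leaf TB_760)) (.node (.node (.leaf TB_504) (.leaf TB_1528))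 (.leaf TB_1016)))))))) (.node (.node (.node (.node (.node (.node (.node (.node (.leaf TB_4) (.leaf TB_1028)) (.node (.leaf TB_516) (.leaf TB_1540))) (.node (.node (.leaf TB_260) (.leaf TB_1284)) (.leaf TB_772))) (.node (.node (.node (.leaf TB_132) (.leaf TB_1156)) (.leaf TB_644)) (.node (.node (.leaf TB_388) (.leaf TB_1412)) (.leaf TB_900)))) (.node (.node (.node (.node (.leaf TB_68) (.leaf TB_1092)) (.leaf TB_580)) (.node (.node (.leaf TB_324) (.leaf TB_1348)) (.leaf TB_836))) (.node (.node (.node (.leaf TB_196) (.leaf TB_1220)) (.leaf TB_708)) (.node (.node (.leaf TB_452) (.leaf TB_1476)) (.leaf TB_964))))) (.node (.node (.node (.node (.node (.leaf TB_36) (.leaf TB_1060)) (.leaf TB_548)) (.node (.node (.leaf TB_292) (.leaf TB_1316)) (.leaf TB_804))) (.node (.node (.node (.leaf TB_164) (.leaf TB_1188)) (.leaf TB_676)) (.node (.node (.leaf TB_420) (.leaf TB_1444)) (.leaf TB_932)))) (.node (.node (.node (.node (.leaf TB_100) (.leaf TB_1124)) (.leaf TB_612))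 (.node (.node (.leaf TB_356) (.leaf TB_1380)) (.leaf TB_868))) (.node (.node (.node (.leaf TB_228) (.leaf TB_1252)) (.leaf TB_740)) (.node (.node (.leaf TB_484) (.leaf TB_1508)) (.leaf TB_996)))))) (.node (.node (.node (.node (.node (.node (.leaf TB_20) (.leaf TB_1044)) (.node (.leaf TB_532) (.leaf TB_1556))) (.node (.node (.leaf TB_276) (.leaf TB_1300)) (.leaf TB_788))) (.node (.node (.node (.leaf TB_148) (.leaf TB_1172)) (.leaf TB_660)) (.node (.node (.leaf TB_404) (.leaf TB_1428)) (.leaf TB_916)))) (.node (.node (.node (.node (.leaf TB_84) (.leaf TB_1108)) (.leaf TB_596)) (.node (.node (.leaf TB_340) (.leaf TB_1364)) (.leaf TB_852))) (.node (.node (.node (.leaf TB_212) (.leaf TB_1236)) (.leaf TB_724)) (.node (.node (.leaf TB_468) (.leaf TB_1492)) (.leaf TB_980))))) (.node (.node (.node (.node (.node (.leaf TB_52) (.leaf TB_1076)) (.leaf TB_564)) (.node (.node (.leaf TB_308) (.leaf TB_1332)) (.leaf TB_820))) (.node (.node (.node (.leaf TB_180) (.leaf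 TB_1204)) (.leaf TB_692)) (.node (.node (.leaf TB_436) (.leaf TB_1460)) (.leaf TB_948)))) (.node (.node (.node (.node (.leaf TB_116) (.leaf TB_1140)) (.leaf TB_628)) (.node (.node (.leaf TB_372) (.leaf TB_1396)) (.leaf TB_884))) (.node (.node (.node (.leaf TB_244) (.leaf TB_1268)) (.leaf TB_756)) (.node (.node (.leaf TB_500) (.leaf TB_1524)) (.leaf TB_1012))))))) (.node (.node (.node (.node (.node (.node (.node (.leaf TB_12) (.leaf TB_1036)) (.node (.leaf TB_524) (.leaf TB_1548))) (.node (.node (.leaf TB_268) (.leaf TB_1292)) (.leaf TB_780))) (.node (.node (.node (.leaf TB_140) (.leaf TB_1164)) (.leaf TB_652)) (.node (.node (.leaf TB_396) (.leaf TB_1420)) (.leaf TB_908)))) (.node (.node (.node (.node (.leaf TB_76) (.leaf TB_1100)) (.leaf TB_588)) (.node (.node (.leaf TB_332) (.leaf TB_1356)) (.leaf TB_844))) (.node (.node (.node (.leaf TB_204) (.leaf TB_1228)) (.leaf TB_716)) (.node (.node (.leaf TB_460) (.leaf TB_1484)) (.leaf TB_972))))) (.node (.node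 (.node (.node (.node (.leaf TB_44) (.leaf TB_1068)) (.leaf TB_556)) (.node (.node (.leaf TB_300) (.leaf TB_1324)) (.leaf TB_812))) (.node (.node (.node (.leaf TB_172) (.leaf TB_1196)) (.leaf TB_684)) (.node (.node (.leaf TB_428) (.leaf TB_1452)) (.leaf TB_940)))) (.node (.node (.node (.node (.leaf TB_108) (.leaf TB_1132)) (.leaf TB_620)) (.node (.node (.leaf TB_364) (.leaf TB_1388)) (.leaf TB_876))) (.node (.node (.node (.leaf TB_236) (.leaf TB_1260)) (.leaf TB_748)) (.node (.node (.leaf TB_492) (.leaf TB_1516)) (.leaf TB_1004)))))) (.node (.node (.node (.node (.node (.node (.leaf TB_28) (.leaf TB_1052)) (.node (.leaf TB_540) (.leaf TB_1564))) (.node (.node (.leaf TB_284) (.leaf TB_1308)) (.leaf TB_796))) (.node (.node (.node (.leaf TB_156) (.leaf TB_1180)) (.leaf TB_668)) (.node (.node (.leaf TB_412) (.leaf TB_1436)) (.leaf TB_924)))) (.node (.node (.node (.node (.leaf TB_92) (.leaf TB_1116)) (.leaf TB_604)) (.node (.node (.leaf TB_348) (.leaf TB_1372))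 (.leaf TB_860))) (.node (.node (.node (.leaf TB_220) (.leaf TB_1244)) (.leaf TB_732)) (.node (.node (.leaf TB_476) (.leaf TB_1500)) (.leaf TB_988))))) (.node (.node (.node (.node (.node (.leaf TB_60) (.leaf TB_1084)) (.leaf TB_572)) (.node (.node (.leaf TB_316) (.leaf TB_1340)) (.leaf TB_828))) (.node (.node (.node (.leaf TB_188) (.leaf TB_1212)) (.leaf TB_700)) (.node (.node (.leaf TB_444) (.leaf TB_1468)) (.leaf TB_956)))) (.node (.node (.node (.node (.leaf TB_124) (.leaf TB_1148)) (.leaf TB_636)) (.node (.node (.leaf TB_380) (.leaf TB_1404)) (.leaf TB_892))) (.node (.node (.node (.leaf TB_252) (.leaf TB_1276)) (.leaf TB_764)) (.node (.node (.leaf TB_508) (.leaf TB_1532)) (.leaf TB_1020))))))))) (.node (.node (.node (.node (.node (.node (.node (.node (.node (.leaf TB_2) (.leaf TB_1026)) (.node (.leaf TB_514) (.leaf TB_1538))) (.node (.node (.leaf TB_258) (.leaf TB_1282)) (.leaf TB_770))) (.node (.node (.node (.leaf TB_130) (.leaf TB_1154)) (.leaf TB_642))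 (.node (.node (.leaf TB_386) (.leaf TB_1410)) (.leaf TB_898)))) (.node (.node (.node (.node (.leaf TB_66) (.leaf TB_1090)) (.leaf TB_578)) (.node (.node (.leaf TB_322) (.leaf TB_1346)) (.leaf TB_834))) (.node (.node (.node (.leaf TB_194) (.leaf TB_1218)) (.leaf TB_706)) (.node (.node (.leaf TB_450) (.leaf TB_1474)) (.leaf TB_962))))) (.node (.node (.node (.node (.node (.leaf TB_34) (.leaf TB_1058)) (.leaf TB_546)) (.node (.node (.leaf TB_290) (.leaf TB_1314)) (.leaf TB_802))) (.node (.node (.node (.leaf TB_162) (.leaf TB_1186)) (.leaf TB_674)) (.node (.node (.leaf TB_418) (.leaf TB_1442)) (.leaf TB_930)))) (.node (.node (.node (.node (.leaf TB_98) (.leaf TB_1122)) (.leaf TB_610)) (.node (.node (.leaf TB_354) (.leaf TB_1378)) (.leaf TB_866))) (.node (.node (.node (.leaf TB_226) (.leaf TB_1250)) (.leaf TB_738)) (.node (.node (.leaf TB_482) (.leaf TB_1506)) (.leaf TB_994)))))) (.node (.node (.node (.node (.node (.node (.leaf TB_18) (.leaf TB_1042)) (.node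 (.leaf TB_530) (.leaf TB_1554))) (.node (.node (.leaf TB_274) (.leaf TB_1298)) (.leaf TB_786))) (.node (.node (.node (.leaf TB_146) (.leaf TB_1170)) (.leaf TB_658)) (.node (.node (.leaf TB_402) (.leaf TB_1426)) (.leaf TB_914)))) (.node (.node (.node (.node (.leaf TB_82) (.leaf TB_1106)) (.leaf TB_594)) (.node (.node (.leaf TB_338) (.leaf TB_1362)) (.leaf TB_850))) (.node (.node (.node (.leaf TB_210) (.leaf TB_1234)) (.leaf TB_722)) (.node (.node (.leaf TB_466) (.leaf TB_1490)) (.leaf TB_978))))) (.node (.node (.node (.node (.node (.leaf TB_50) (.leaf TB_1074)) (.leaf TB_562)) (.node (.node (.leaf TB_306) (.leaf TB_1330)) (.leaf TB_818))) (.node (.node (.node (.leaf TB_178) (.leaf TB_1202)) (.leaf TB_690)) (.node (.node (.leaf TB_434) (.leaf TB_1458)) (.leaf TB_946)))) (.node (.node (.node (.node (.leaf TB_114) (.leaf TB_1138)) (.leaf TB_626)) (.node (.node (.leaf TB_370) (.leaf TB_1394)) (.leaf TB_882))) (.node (.node (.node (.leaf TB_242) (.leaf TB_1266))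 (.leaf TB_754)) (.node (.node (.leaf TB_498) (.leaf TB_1522)) (.leaf TB_1010))))))) (.node (.node (.node (.node (.node (.node (.node (.leaf TB_10) (.leaf TB_1034)) (.node (.leaf TB_522) (.leaf TB_1546))) (.node (.node (.leaf TB_266) (.leaf TB_1290)) (.leaf TB_778))) (.node (.node (.node (.leaf TB_138) (.leaf TB_1162)) (.leaf TB_650)) (.node (.node (.leaf TB_394) (.leaf TB_1418)) (.leaf TB_906)))) (.node (.node (.node (.node (.leaf TB_74) (.leaf TB_1098)) (.leaf TB_586)) (.node (.node (.leaf TB_330) (.leaf TB_1354)) (.leaf TB_842))) (.node (.node (.node (.leaf TB_202) (.leaf TB_1226)) (.leaf TB_714)) (.node (.node (.leaf TB_458) (.leaf TB_1482)) (.leaf TB_970))))) (.node (.node (.node (.node (.node (.leaf TB_42) (.leaf TB_1066)) (.leaf TB_554)) (.node (.node (.leaf TB_298) (.leaf TB_1322)) (.leaf TB_810))) (.node (.node (.node (.leaf TB_170) (.leaf TB_1194)) (.leaf TB_682)) (.node (.node (.leaf TB_426) (.leaf TB_1450)) (.leaf TB_938)))) (.node (.node (.node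 (.node (.leaf TB_106) (.leaf TB_1130)) (.leaf TB_618)) (.node (.node (.leaf TB_362) (.leaf TB_1386)) (.leaf TB_874))) (.node (.node (.node (.leaf TB_234) (.leaf TB_1258)) (.leaf TB_746)) (.node (.node (.leaf TB_490) (.leaf TB_1514)) (.leaf TB_1002)))))) (.node (.node (.node (.node (.node (.node (.leaf TB_26) (.leaf TB_1050)) (.node (.leaf TB_538) (.leaf TB_1562))) (.node (.node (.leaf TB_282) (.leaf TB_1306)) (.leaf TB_794))) (.node (.node (.node (.leaf TB_154) (.leaf TB_1178)) (.leaf TB_666)) (.node (.node (.leaf TB_410) (.leaf TB_1434)) (.leaf TB_922)))) (.node (.node (.node (.node (.leaf TB_90) (.leaf TB_1114)) (.leaf TB_602)) (.node (.node (.leaf TB_346) (.leaf TB_1370)) (.leaf TB_858))) (.node (.node (.node (.leaf TB_218) (.leaf TB_1242)) (.leaf TB_730)) (.node (.node (.leaf TB_474) (.leaf TB_1498)) (.leaf TB_986))))) (.node (.node (.node (.node (.node (.leaf TB_58) (.leaf TB_1082)) (.leaf TB_570)) (.node (.node (.leaf TB_314) (.leaf TB_1338)) (.leaf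 TB_826))) (.node (.node (.node (.leaf TB_186) (.leaf TB_1210)) (.leaf TB_698)) (.node (.node (.leaf TB_442) (.leaf TB_1466)) (.leaf TB_954)))) (.node (.node (.node (.node (.leaf TB_122) (.leaf TB_1146)) (.leaf TB_634)) (.node (.node (.leaf TB_378) (.leaf TB_1402)) (.leaf TB_890))) (.node (.node (.node (.leaf TB_250) (.leaf TB_1274)) (.leaf TB_762)) (.node (.node (.leaf TB_506) (.leaf TB_1530)) (.leaf TB_1018)))))))) (.node (.node (.node (.node (.node (.node (.node (.node (.leaf TB_6) (.leaf TB_1030)) (.node (.leaf TB_518) (.leaf TB_1542))) (.node (.node (.leaf TB_262) (.leaf TB_1286)) (.leaf TB_774))) (.node (.node (.node (.leaf TB_134) (.leaf TB_1158)) (.leaf TB_646)) (.node (.node (.leaf TB_390) (.leaf TB_1414)) (.leaf TB_902)))) (.node (.node (.node (.node (.leaf TB_70) (.leaf TB_1094)) (.leaf TB_582)) (.node (.node (.leaf TB_326) (.leaf TB_1350)) (.leaf TB_838))) (.node (.node (.node (.leaf TB_198) (.leaf TB_1222)) (.leaf TB_710)) (.node (.node (.leaf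 TB_454) (.leaf TB_1478)) (.leaf TB_966))))) (.node (.node (.node (.node (.node (.leaf TB_38) (.leaf TB_1062)) (.leaf TB_550)) (.node (.node (.leaf TB_294) (.leaf TB_1318)) (.leaf TB_806))) (.node (.node (.node (.leaf TB_166) (.leaf TB_1190)) (.leaf TB_678)) (.node (.node (.leaf TB_422) (.leaf TB_1446)) (.leaf TB_934)))) (.node (.node (.node (.node (.leaf TB_102) (.leaf TB_1126)) (.leaf TB_614)) (.node (.node (.leaf TB_358) (.leaf TB_1382)) (.leaf TB_870))) (.node (.node (.node (.leaf TB_230) (.leaf TB_1254)) (.leaf TB_742)) (.node (.node (.leaf TB_486) (.leaf TB_1510)) (.leaf TB_998)))))) (.node (.node (.node (.node (.node (.node (.leaf TB_22) (.leaf TB_1046)) (.node (.leaf TB_534) (.leaf TB_1558))) (.node (.node (.leaf TB_278) (.leaf TB_1302)) (.leaf TB_790))) (.node (.node (.node (.leaf TB_150) (.leaf TB_1174)) (.leaf TB_662)) (.node (.node (.leaf TB_406) (.leaf TB_1430)) (.leaf TB_918)))) (.node (.node (.node (.node (.leaf TB_86) (.leaf TB_1110)) (.leaf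 TB_598)) (.node (.node (.leaf TB_342) (.leaf TB_1366)) (.leaf TB_854))) (.node (.node (.node (.leaf TB_214) (.leaf TB_1238)) (.leaf TB_726)) (.node (.node (.leaf TB_470) (.leaf TB_1494)) (.leaf TB_982))))) (.node (.node (.node (.node (.node (.leaf TB_54) (.leaf TB_1078)) (.leaf TB_566)) (.node (.node (.leaf TB_310) (.leaf TB_1334)) (.leaf TB_822))) (.node (.node (.node (.leaf TB_182) (.leaf TB_1206)) (.leaf TB_694)) (.node (.node (.leaf TB_438) (.leaf TB_1462)) (.leaf TB_950)))) (.node (.node (.node (.node (.leaf TB_118) (.leaf TB_1142)) (.leaf TB_630)) (.node (.node (.leaf TB_374) (.leaf TB_1398)) (.leaf TB_886))) (.node (.node (.node (.leaf TB_246) (.leaf TB_1270)) (.leaf TB_758)) (.node (.node (.leaf TB_502) (.leaf TB_1526)) (.leaf TB_1014))))))) (.node (.node (.node (.node (.node (.node (.node (.leaf TB_14) (.leaf TB_1038)) (.node (.leaf TB_526) (.leaf TB_1550))) (.node (.node (.leaf TB_270) (.leaf TB_1294)) (.leaf TB_782))) (.node (.node (.node (.leaf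 TB_142) (.leaf TB_1166)) (.leaf TB_654)) (.node (.node (.leaf TB_398) (.leaf TB_1422)) (.leaf TB_910)))) (.node (.node (.node (.node (.leaf TB_78) (.leaf TB_1102)) (.leaf TB_590)) (.node (.node (.leaf TB_334) (.leaf TB_1358)) (.leaf TB_846))) (.node (.node (.node (.leaf TB_206) (.leaf TB_1230)) (.leaf TB_718)) (.node (.node (.leaf TB_462) (.leaf TB_1486)) (.leaf TB_974))))) (.node (.node (.node (.node (.node (.leaf TB_46) (.leaf TB_1070)) (.leaf TB_558)) (.node (.node (.leaf TB_302) (.leaf TB_1326)) (.leaf TB_814))) (.node (.node (.node (.leaf TB_174) (.leaf TB_1198)) (.leaf TB_686)) (.node (.node (.leaf TB_430) (.leaf TB_1454)) (.leaf TB_942)))) (.node (.node (.node (.node (.leaf TB_110) (.leaf TB_1134)) (.leaf TB_622)) (.node (.node (.leaf TB_366) (.leaf TB_1390)) (.leaf TB_878))) (.node (.node (.node (.leaf TB_238) (.leaf TB_1262)) (.leaf TB_750)) (.node (.node (.leaf TB_494) (.leaf TB_1518)) (.leaf TB_1006)))))) (.node (.node (.node (.node (.node (.node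 (.leaf TB_30) (.leaf TB_1054)) (.node (.leaf TB_542) (.leaf TB_1566))) (.node (.node (.leaf TB_286) (.leaf TB_1310)) (.leaf TB_798))) (.node (.node (.node (.leaf TB_158) (.leaf TB_1182)) (.leaf TB_670)) (.node (.node (.leaf TB_414) (.leaf TB_1438)) (.leaf TB_926)))) (.node (.node (.node (.node (.leaf TB_94) (.leaf TB_1118)) (.leaf TB_606)) (.node (.node (.leaf TB_350) (.leaf TB_1374)) (.leaf TB_862))) (.node (.node (.node (.leaf TB_222) (.leaf TB_1246)) (.leaf TB_734)) (.node (.node (.leaf TB_478) (.leaf TB_1502)) (.leaf TB_990))))) (.node (.node (.node (.node (.node (.leaf TB_62) (.leaf TB_1086)) (.leaf TB_574)) (.node (.node (.leaf TB_318) (.leaf TB_1342)) (.leaf TB_830))) (.node (.node (.node (.leaf TB_190) (.leaf TB_1214)) (.leaf TB_702)) (.node (.node (.leaf TB_446) (.leaf TB_1470)) (.leaf TB_958)))) (.node (.node (.node (.node (.leaf TB_126) (.leaf TB_1150)) (.leaf TB_638)) (.node (.node (.leaf TB_382) (.leaf TB_1406)) (.leaf TB_894))) (.node (.node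 (.node (.leaf TB_254) (.leaf TB_1278)) (.leaf TB_766)) (.node (.node (.leaf TB_510) (.leaf TB_1534)) (.leaf TB_1022)))))))))) (.node (.node (.node (.node (.node (.node (.node (.node (.node (.node (.leaf TB_1) (.leaf TB_1025)) (.node (.leaf TB_513) (.leaf TB_1537))) (.node (.node (.leaf TB_257) (.leaf TB_1281)) (.leaf TB_769))) (.node (.node (.node (.leaf TB_129) (.leaf TB_1153)) (.leaf TB_641)) (.node (.node (.leaf TB_385) (.leaf TB_1409)) (.leaf TB_897)))) (.node (.node (.node (.node (.leaf TB_65) (.leaf TB_1089)) (.leaf TB_577)) (.node (.node (.leaf TB_321) (.leaf TB_1345)) (.leaf TB_833))) (.node (.node (.node (.leaf TB_193) (.leaf TB_1217)) (.leaf TB_705)) (.node (.node (.leaf TB_449) (.leaf TB_1473)) (.leaf TB_961))))) (.node (.node (.node (.node (.node (.leaf TB_33) (.leaf TB_1057)) (.leaf TB_545)) (.node (.node (.leaf TB_289) (.leaf TB_1313)) (.leaf TB_801))) (.node (.node (.node (.leaf TB_161) (.leaf TB_1185)) (.leaf TB_673)) (.node (.node (.leaf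 TB_417) (.leaf TB_1441)) (.leaf TB_929)))) (.node (.node (.node (.node (.leaf TB_97) (.leaf TB_1121)) (.leaf TB_609)) (.node (.node (.leaf TB_353) (.leaf TB_1377)) (.leaf TB_865))) (.node (.node (.node (.leaf TB_225) (.leaf TB_1249)) (.leaf TB_737)) (.node (.node (.leaf TB_481) (.leaf TB_1505)) (.leaf TB_993)))))) (.node (.node (.node (.node (.node (.node (.leaf TB_17) (.leaf TB_1041)) (.node (.leaf TB_529) (.leaf TB_1553))) (.node (.node (.leaf TB_273) (.leaf TB_1297)) (.leaf TB_785))) (.node (.node (.node (.leaf TB_145) (.leaf TB_1169)) (.leaf TB_657)) (.node (.node (.leaf TB_401) (.leaf TB_1425)) (.leaf TB_913)))) (.node (.node (.node (.node (.leaf TB_81) (.leaf TB_1105)) (.leaf TB_593)) (.node (.node (.leaf TB_337) (.leaf TB_1361)) (.leaf TB_849))) (.node (.node (.node (.leaf TB_209) (.leaf TB_1233)) (.leaf TB_721)) (.node (.node (.leaf TB_465) (.leaf TB_1489)) (.leaf TB_977))))) (.node (.node (.node (.node (.node (.leaf TB_49) (.leaf TB_1073)) (.leaf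 TB_561)) (.node (.node (.leaf TB_305) (.leaf TB_1329)) (.leaf TB_817))) (.node (.node (.node (.leaf TB_177) (.leaf TB_1201)) (.leaf TB_689)) (.node (.node (.leaf TB_433) (.leaf TB_1457)) (.leaf TB_945)))) (.node (.node (.node (.node (.leaf TB_113) (.leaf TB_1137)) (.leaf TB_625)) (.node (.node (.leaf TB_369) (.leaf TB_1393)) (.leaf TB_881))) (.node (.node (.node (.leaf TB_241) (.leaf TB_1265)) (.leaf TB_753)) (.node (.node (.leaf TB_497) (.leaf TB_1521)) (.leaf TB_1009))))))) (.node (.node (.node (.node (.node (.node (.node (.leaf TB_9) (.leaf TB_1033)) (.node (.leaf TB_521) (.leaf TB_1545))) (.node (.node (.leaf TB_265) (.leaf TB_1289)) (.leaf TB_777))) (.node (.node (.node (.leaf TB_137) (.leaf TB_1161)) (.leaf TB_649)) (.node (.node (.leaf TB_393) (.leaf TB_1417)) (.leaf TB_905)))) (.node (.node (.node (.node (.leaf TB_73) (.leaf TB_1097)) (.leaf TB_585)) (.node (.node (.leaf TB_329) (.leaf TB_1353)) (.leaf TB_841))) (.node (.node (.node (.leaf TB_201)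 (.leaf TB_1225)) (.leaf TB_713)) (.node (.node (.leaf TB_457) (.leaf TB_1481)) (.leaf TB_969))))) (.node (.node (.node (.node (.node (.leaf TB_41) (.leaf TB_1065)) (.leaf TB_553)) (.node (.node (.leaf TB_297) (.leaf TB_1321)) (.leaf TB_809))) (.node (.node (.node (.leaf TB_169) (.leaf TB_1193)) (.leaf TB_681)) (.node (.node (.leaf TB_425) (.leaf TB_1449)) (.leaf TB_937)))) (.node (.node (.node (.node (.leaf TB_105) (.leaf TB_1129)) (.leaf TB_617)) (.node (.node (.leaf TB_361) (.leaf TB_1385)) (.leaf TB_873))) (.node (.node (.node (.leaf TB_233) (.leaf TB_1257)) (.leaf TB_745)) (.node (.node (.leaf TB_489) (.leaf TB_1513)) (.leaf TB_1001)))))) (.node (.node (.node (.node (.node (.node (.leaf TB_25) (.leaf TB_1049)) (.node (.leaf TB_537) (.leaf TB_1561))) (.node (.node (.leaf TB_281) (.leaf TB_1305)) (.leaf TB_793))) (.node (.node (.node (.leaf TB_153) (.leaf TB_1177)) (.leaf TB_665)) (.node (.node (.leaf TB_409) (.leaf TB_1433)) (.leaf TB_921)))) (.node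 (.node (.node (.node (.leaf TB_89) (.leaf TB_1113)) (.leaf TB_601)) (.node (.node (.leaf TB_345) (.leaf TB_1369)) (.leaf TB_857))) (.node (.node (.node (.leaf TB_217) (.leaf TB_1241)) (.leaf TB_729)) (.node (.node (.leaf TB_473) (.leaf TB_1497)) (.leaf TB_985))))) (.node (.node (.node (.node (.node (.leaf TB_57) (.leaf TB_1081)) (.leaf TB_569)) (.node (.node (.leaf TB_313) (.leaf TB_1337)) (.leaf TB_825))) (.node (.node (.node (.leaf TB_185) (.leaf TB_1209)) (.leaf TB_697)) (.node (.node (.leaf TB_441) (.leaf TB_1465)) (.leaf TB_953)))) (.node (.node (.node (.node (.leaf TB_121) (.leaf TB_1145)) (.leaf TB_633)) (.node (.node (.leaf TB_377) (.leaf TB_1401)) (.leaf TB_889))) (.node (.node (.node (.leaf TB_249) (.leaf TB_1273)) (.leaf TB_761)) (.node (.node (.leaf TB_505) (.leaf TB_1529)) (.leaf TB_1017)))))))) (.node (.node (.node (.node (.node (.node (.node (.node (.leaf TB_5) (.leaf TB_1029)) (.node (.leaf TB_517) (.leaf TB_1541))) (.node (.node (.leaf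 TB_261) (.leaf TB_1285)) (.leaf TB_773))) (.node (.node (.node (.leaf TB_133) (.leaf TB_1157)) (.leaf TB_645)) (.node (.node (.leaf TB_389) (.leaf TB_1413)) (.leaf TB_901)))) (.node (.node (.node (.node (.leaf TB_69) (.leaf TB_1093)) (.leaf TB_581)) (.node (.node (.leaf TB_325) (.leaf TB_1349)) (.leaf TB_837))) (.node (.node (.node (.leaf TB_197) (.leaf TB_1221)) (.leaf TB_709)) (.node (.node (.leaf TB_453) (.leaf TB_1477)) (.leaf TB_965))))) (.node (.node (.node (.node (.node (.leaf TB_37) (.leaf TB_1061)) (.leaf TB_549)) (.node (.node (.leaf TB_293) (.leaf TB_1317)) (.leaf TB_805))) (.node (.node (.node (.leaf TB_165) (.leaf TB_1189)) (.leaf TB_677)) (.node (.node (.leaf TB_421) (.leaf TB_1445)) (.leaf TB_933)))) (.node (.node (.node (.node (.leaf TB_101) (.leaf TB_1125)) (.leaf TB_613)) (.node (.node (.leaf TB_357) (.leaf TB_1381)) (.leaf TB_869))) (.node (.node (.node (.leaf TB_229) (.leaf TB_1253)) (.leaf TB_741)) (.node (.node (.leaf TB_485) (.leaf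 TB_1509)) (.leaf TB_997)))))) (.node (.node (.node (.node (.node (.node (.leaf TB_21) (.leaf TB_1045)) (.node (.leaf TB_533) (.leaf TB_1557))) (.node (.node (.leaf TB_277) (.leaf TB_1301)) (.leaf TB_789))) (.node (.node (.node (.leaf TB_149) (.leaf TB_1173)) (.leaf TB_661)) (.node (.node (.leaf TB_405) (.leaf TB_1429)) (.leaf TB_917)))) (.node (.node (.node (.node (.leaf TB_85) (.leaf TB_1109)) (.leaf TB_597)) (.node (.node (.leaf TB_341) (.leaf TB_1365)) (.leaf TB_853))) (.node (.node (.node (.leaf TB_213) (.leaf TB_1237)) (.leaf TB_725)) (.node (.node (.leaf TB_469) (.leaf TB_1493)) (.leaf TB_981))))) (.node (.node (.node (.node (.node (.leaf TB_53) (.leaf TB_1077)) (.leaf TB_565)) (.node (.node (.leaf TB_309) (.leaf TB_1333)) (.leaf TB_821))) (.node (.node (.node (.leaf TB_181) (.leaf TB_1205)) (.leaf TB_693)) (.node (.node (.leaf TB_437) (.leaf TB_1461)) (.leaf TB_949)))) (.node (.node (.node (.node (.leaf TB_117) (.leaf TB_1141)) (.leaf TB_629)) (.node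 (.node (.leaf TB_373) (.leaf TB_1397)) (.leaf TB_885))) (.node (.node (.node (.leaf TB_245) (.leaf TB_1269)) (.leaf TB_757)) (.node (.node (.leaf TB_501) (.leaf TB_1525)) (.leaf TB_1013))))))) (.node (.node (.node (.node (.node (.node (.node (.leaf TB_13) (.leaf TB_1037)) (.node (.leaf TB_525) (.leaf TB_1549))) (.node (.node (.leaf TB_269) (.leaf TB_1293)) (.leaf TB_781))) (.node (.node (.node (.leaf TB_141) (.leaf TB_1165)) (.leaf TB_653)) (.node (.node (.leaf TB_397) (.leaf TB_1421)) (.leaf TB_909)))) (.node (.node (.node (.node (.leaf TB_77) (.leaf TB_1101)) (.leaf TB_589)) (.node (.node (.leaf TB_333) (.leaf TB_1357)) (.leaf TB_845))) (.node (.node (.node (.leaf TB_205) (.leaf TB_1229)) (.leaf TB_717)) (.node (.node (.leaf TB_461) (.leaf TB_1485)) (.leaf TB_973))))) (.node (.node (.node (.node (.node (.leaf TB_45) (.leaf TB_1069)) (.leaf TB_557)) (.node (.node (.leaf TB_301) (.leaf TB_1325)) (.leaf TB_813))) (.node (.node (.node (.leaf TB_173) (.leaf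 TB_1197)) (.leaf TB_685)) (.node (.node (.leaf TB_429) (.leaf TB_1453)) (.leaf TB_941)))) (.node (.node (.node (.node (.leaf TB_109) (.leaf TB_1133)) (.leaf TB_621)) (.node (.node (.leaf TB_365) (.leaf TB_1389)) (.leaf TB_877))) (.node (.node (.node (.leaf TB_237) (.leaf TB_1261)) (.leaf TB_749)) (.node (.node (.leaf TB_493) (.leaf TB_1517)) (.leaf TB_1005)))))) (.node (.node (.node (.node (.node (.node (.leaf TB_29) (.leaf TB_1053)) (.node (.leaf TB_541) (.leaf TB_1565))) (.node (.node (.leaf TB_285) (.leaf TB_1309)) (.leaf TB_797))) (.node (.node (.node (.leaf TB_157) (.leaf TB_1181)) (.leaf TB_669)) (.node (.node (.leaf TB_413) (.leaf TB_1437)) (.leaf TB_925)))) (.node (.node (.node (.node (.leaf TB_93) (.leaf TB_1117)) (.leaf TB_605)) (.node (.node (.leaf TB_349) (.leaf TB_1373)) (.leaf TB_861))) (.node (.node (.node (.leaf TB_221) (.leaf TB_1245)) (.leaf TB_733)) (.node (.node (.leaf TB_477) (.leaf TB_1501)) (.leaf TB_989))))) (.node (.node (.node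 (.node (.node (.leaf TB_61) (.leaf TB_1085)) (.leaf TB_573)) (.node (.node (.leaf TB_317) (.leaf TB_1341)) (.leaf TB_829))) (.node (.node (.node (.leaf TB_189) (.leaf TB_1213)) (.leaf TB_701)) (.node (.node (.leaf TB_445) (.leaf TB_1469)) (.leaf TB_957)))) (.node (.node (.node (.node (.leaf TB_125) (.leaf TB_1149)) (.leaf TB_637)) (.node (.node (.leaf TB_381) (.leaf TB_1405)) (.leaf TB_893))) (.node (.node (.node (.leaf TB_253) (.leaf TB_1277)) (.leaf TB_765)) (.node (.node (.leaf TB_509) (.leaf TB_1533)) (.leaf TB_1021))))))))) (.node (.node (.node (.node (.node (.node (.node (.node (.node (.leaf TB_3) (.leaf TB_1027)) (.node (.leaf TB_515) (.leaf TB_1539))) (.node (.node (.leaf TB_259) (.leaf TB_1283)) (.leaf TB_771))) (.node (.node (.node (.leaf TB_131) (.leaf TB_1155)) (.leaf TB_643)) (.node (.node (.leaf TB_387) (.leaf TB_1411)) (.leaf TB_899)))) (.node (.node (.node (.node (.leaf TB_67) (.leaf TB_1091)) (.leaf TB_579)) (.node (.node (.leaf TB_323)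 (.leaf TB_1347)) (.leaf TB_835))) (.node (.node (.node (.leaf TB_195) (.leaf TB_1219)) (.leaf TB_707)) (.node (.node (.leaf TB_451) (.leaf TB_1475)) (.leaf TB_963))))) (.node (.node (.node (.node (.node (.leaf TB_35) (.leaf TB_1059)) (.leaf TB_547)) (.node (.node (.leaf TB_291) (.leaf TB_1315)) (.leaf TB_803))) (.node (.node (.node (.leaf TB_163) (.leaf TB_1187)) (.leaf TB_675)) (.node (.node (.leaf TB_419) (.leaf TB_1443)) (.leaf TB_931)))) (.node (.node (.node (.node (.leaf TB_99) (.leaf TB_1123)) (.leaf TB_611)) (.node (.node (.leaf TB_355) (.leaf TB_1379)) (.leaf TB_867))) (.node (.node (.node (.leaf TB_227) (.leaf TB_1251)) (.leaf TB_739)) (.node (.node (.leaf TB_483) (.leaf TB_1507)) (.leaf TB_995)))))) (.node (.node (.node (.node (.node (.node (.leaf TB_19) (.leaf TB_1043)) (.node (.leaf TB_531) (.leaf TB_1555))) (.node (.node (.leaf TB_275) (.leaf TB_1299)) (.leaf TB_787))) (.node (.node (.node (.leaf TB_147) (.leaf TB_1171)) (.leaf TB_659)) (.node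 (.node (.leaf TB_403) (.leaf TB_1427)) (.leaf TB_915)))) (.node (.node (.node (.node (.leaf TB_83) (.leaf TB_1107)) (.leaf TB_595)) (.node (.node (.leaf TB_339) (.leaf TB_1363)) (.leaf TB_851))) (.node (.node (.node (.leaf TB_211) (.leaf TB_1235)) (.leaf TB_723)) (.node (.node (.leaf TB_467) (.leaf TB_1491)) (.leaf TB_979))))) (.node (.node (.node (.node (.node (.leaf TB_51) (.leaf TB_1075)) (.leaf TB_563)) (.node (.node (.leaf TB_307) (.leaf TB_1331)) (.leaf TB_819))) (.node (.node (.node (.leaf TB_179) (.leaf TB_1203)) (.leaf TB_691)) (.node (.node (.leaf TB_435) (.leaf TB_1459)) (.leaf TB_947)))) (.node (.node (.node (.node (.leaf TB_115) (.leaf TB_1139)) (.leaf TB_627)) (.node (.node (.leaf TB_371) (.leaf TB_1395)) (.leaf TB_883))) (.node (.node (.node (.leaf TB_243) (.leaf TB_1267)) (.leaf TB_755)) (.node (.node (.leaf TB_499) (.leaf TB_1523)) (.leaf TB_1011))))))) (.node (.node (.node (.node (.node (.node (.node (.leaf TB_11) (.leaf TB_1035)) (.node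 (.leaf TB_523) (.leaf TB_1547))) (.node (.node (.leaf TB_267) (.leaf TB_1291)) (.leaf TB_779))) (.node (.node (.node (.leaf TB_139) (.leaf TB_1163)) (.leaf TB_651)) (.node (.node (.leaf TB_395) (.leaf TB_1419)) (.leaf TB_907)))) (.node (.node (.node (.node (.leaf TB_75) (.leaf TB_1099)) (.leaf TB_587)) (.node (.node (.leaf TB_331) (.leaf TB_1355)) (.leaf TB_843))) (.node (.node (.node (.leaf TB_203) (.leaf TB_1227)) (.leaf TB_715)) (.node (.node (.leaf TB_459) (.leaf TB_1483)) (.leaf TB_971))))) (.node (.node (.node (.node (.node (.leaf TB_43) (.leaf TB_1067)) (.leaf TB_555)) (.node (.node (.leaf TB_299) (.leaf TB_1323)) (.leaf TB_811))) (.node (.node (.node (.leaf TB_171) (.leaf TB_1195)) (.leaf TB_683)) (.node (.node (.leaf TB_427) (.leaf TB_1451)) (.leaf TB_939)))) (.node (.node (.node (.node (.leaf TB_107) (.leaf TB_1131)) (.leaf TB_619)) (.node (.node (.leaf TB_363) (.leaf TB_1387)) (.leaf TB_875))) (.node (.node (.node (.leaf TB_235) (.leaf TB_1259))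 (.leaf TB_747)) (.node (.node (.leaf TB_491) (.leaf TB_1515)) (.leaf TB_1003)))))) (.node (.node (.node (.node (.node (.node (.leaf TB_27) (.leaf TB_1051)) (.node (.leaf TB_539) (.leaf TB_1563))) (.node (.node (.leaf TB_283) (.leaf TB_1307)) (.leaf TB_795))) (.node (.node (.node (.leaf TB_155) (.leaf TB_1179)) (.leaf TB_667)) (.node (.node (.leaf TB_411) (.leaf TB_1435)) (.leaf TB_923)))) (.node (.node (.node (.node (.leaf TB_91) (.leaf TB_1115)) (.leaf TB_603)) (.node (.node (.leaf TB_347) (.leaf TB_1371)) (.leaf TB_859))) (.node (.node (.node (.leaf TB_219) (.leaf TB_1243)) (.leaf TB_731)) (.node (.node (.leaf TB_475) (.leaf TB_1499)) (.leaf TB_987))))) (.node (.node (.node (.node (.node (.leaf TB_59) (.leaf TB_1083)) (.leaf TB_571)) (.node (.node (.leaf TB_315) (.leaf TB_1339)) (.leaf TB_827))) (.node (.node (.node (.leaf TB_187) (.leaf TB_1211)) (.leaf TB_699)) (.node (.node (.leaf TB_443) (.leaf TB_1467)) (.leaf TB_955)))) (.node (.node (.node (.node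 (.leaf TB_123) (.leaf TB_1147)) (.leaf TB_635)) (.node (.node (.leaf TB_379) (.leaf TB_1403)) (.leaf TB_891))) (.node (.node (.node (.leaf TB_251) (.leaf TB_1275)) (.leaf TB_763)) (.node (.node (.leaf TB_507) (.leaf TB_1531)) (.leaf TB_1019)))))))) (.node (.node (.node (.node (.node (.node (.node (.node (.leaf TB_7) (.leaf TB_1031)) (.node (.leaf TB_519) (.leaf TB_1543))) (.node (.node (.leaf TB_263) (.leaf TB_1287)) (.leaf TB_775))) (.node (.node (.node (.leaf TB_135) (.leaf TB_1159)) (.leaf TB_647)) (.node (.node (.leaf TB_391) (.leaf TB_1415)) (.leaf TB_903)))) (.node (.node (.node (.node (.leaf TB_71) (.leaf TB_1095)) (.leaf TB_583)) (.node (.node (.leaf TB_327) (.leaf TB_1351)) (.leaf TB_839))) (.node (.node (.node (.leaf TB_199) (.leaf TB_1223)) (.leaf TB_711)) (.node (.node (.leaf TB_455) (.leaf TB_1479)) (.leaf TB_967))))) (.node (.node (.node (.node (.node (.leaf TB_39) (.leaf TB_1063)) (.leaf TB_551)) (.node (.node (.leaf TB_295) (.leaf TB_1319))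 (.leaf TB_807))) (.node (.node (.node (.leaf TB_167) (.leaf TB_1191)) (.leaf TB_679)) (.node (.node (.leaf TB_423) (.leaf TB_1447)) (.leaf TB_935)))) (.node (.node (.node (.node (.leaf TB_103) (.leaf TB_1127)) (.leaf TB_615)) (.node (.node (.leaf TB_359) (.leaf TB_1383)) (.leaf TB_871))) (.node (.node (.node (.leaf TB_231) (.leaf TB_1255)) (.leaf TB_743)) (.node (.node (.leaf TB_487) (.leaf TB_1511)) (.leaf TB_999)))))) (.node (.node (.node (.node (.node (.node (.leaf TB_23) (.leaf TB_1047)) (.node (.leaf TB_535) (.leaf TB_1559))) (.node (.node (.leaf TB_279) (.leaf TB_1303)) (.leaf TB_791))) (.node (.node (.node (.leaf TB_151) (.leaf TB_1175)) (.leaf TB_663)) (.node (.node (.leaf TB_407) (.leaf TB_1431)) (.leaf TB_919)))) (.node (.node (.node (.node (.leaf TB_87) (.leaf TB_1111)) (.leaf TB_599)) (.node (.node (.leaf TB_343) (.leaf TB_1367)) (.leaf TB_855))) (.node (.node (.node (.leaf TB_215) (.leaf TB_1239)) (.leaf TB_727)) (.node (.node (.leaf TB_471)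 (.leaf TB_1495)) (.leaf TB_983))))) (.node (.node (.node (.node (.node (.leaf TB_55) (.leaf TB_1079)) (.leaf TB_567)) (.node (.node (.leaf TB_311) (.leaf TB_1335)) (.leaf TB_823))) (.node (.node (.node (.leaf TB_183) (.leaf TB_1207)) (.leaf TB_695)) (.node (.node (.leaf TB_439) (.leaf TB_1463)) (.leaf TB_951)))) (.node (.node (.node (.node (.leaf TB_119) (.leaf TB_1143)) (.leaf TB_631)) (.node (.node (.leaf TB_375) (.leaf TB_1399)) (.leaf TB_887))) (.node (.node (.node (.leaf TB_247) (.leaf TB_1271)) (.leaf TB_759)) (.node (.node (.leaf TB_503) (.leaf TB_1527)) (.leaf TB_1015))))))) (.node (.node (.node (.node (.node (.node (.node (.leaf TB_15) (.leaf TB_1039)) (.node (.leaf TB_527) (.leaf TB_1551))) (.node (.node (.leaf TB_271) (.leaf TB_1295)) (.leaf TB_783))) (.node (.node (.node (.leaf TB_143) (.leaf TB_1167)) (.leaf TB_655)) (.node (.node (.leaf TB_399) (.leaf TB_1423)) (.leaf TB_911)))) (.node (.node (.node (.node (.leaf TB_79) (.leaf TB_1103)) (.leaf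 TB_591)) (.node (.node (.leaf TB_335) (.leaf TB_1359)) (.leaf TB_847))) (.node (.node (.node (.leaf TB_207) (.leaf TB_1231)) (.leaf TB_719)) (.node (.node (.leaf TB_463) (.leaf TB_1487)) (.leaf TB_975))))) (.node (.node (.node (.node (.node (.leaf TB_47) (.leaf TB_1071)) (.leaf TB_559)) (.node (.node (.leaf TB_303) (.leaf TB_1327)) (.leaf TB_815))) (.node (.node (.node (.leaf TB_175) (.leaf TB_1199)) (.leaf TB_687)) (.node (.node (.leaf TB_431) (.leaf TB_1455)) (.leaf TB_943)))) (.node (.node (.node (.node (.leaf TB_111) (.leaf TB_1135)) (.leaf TB_623)) (.node (.node (.leaf TB_367) (.leaf TB_1391)) (.leaf TB_879))) (.node (.node (.node (.leaf TB_239) (.leaf TB_1263)) (.leaf TB_751)) (.node (.node (.leaf TB_495) (.leaf TB_1519)) (.leaf TB_1007)))))) (.node (.node (.node (.node (.node (.node (.leaf (nat_lit 0)) (.leaf (nat_lit 0))) (.node (.leaf (nat_lit 0)) (.leaf (nat_lit 0)))) (.node (.node (.leaf (nat_lit 0)) (.leaf (nat_lit 0))) (.leaf (nat_lit 0))))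 (.node (.node (.node (.leaf (nat_lit 0)) (.leaf (nat_lit 0))) (.leaf (nat_lit 0))) (.node (.node (.leaf (nat_lit 0)) (.leaf (nat_lit 0))) (.leaf (nat_lit 0))))) (.node (.node (.node (.node (.leaf (nat_lit 0)) (.leaf (nat_lit 0))) (.leaf (nat_lit 0))) (.node (.node (.leaf (nat_lit 0)) (.leaf (nat_lit 0))) (.leaf (nat_lit 0)))) (.node (.node (.node (.leaf (nat_lit 0)) (.leaf (nat_lit 0))) (.leaf (nat_lit 0))) (.node (.node (.leaf (nat_lit 0)) (.leaf (nat_lit 0))) (.leaf (nat_lit 0)))))) (.node (.node (.node (.node (.node (.leaf (nat_lit 0)) (.leaf (nat_lit 0))) (.leaf (nat_lit 0))) (.node (.node (.leaf (nat_lit 0)) (.leaf (nat_lit 0))) (.leaf (nat_lit 0)))) (.node (.node (.node (.leaf (nat_lit 0)) (.leaf (nat_lit 0))) (.leaf (nat_lit 0))) (.node (.node (.leaf (nat_lit 0)) (.leaf (nat_lit 0))) (.leaf (nat_lit 0))))) (.node (.node (.node (.node (.leaf (nat_lit 0)) (.leaf (nat_lit 0))) (.leaf (nat_lit 0))) (.node (.node (.leaf (nat_lit 0)) (.leaf (nat_lit 0)))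 (.leaf (nat_lit 0)))) (.node (.node (.node (.leaf (nat_lit 0)) (.leaf (nat_lit 0))) (.leaf (nat_lit 0))) (.node (.node (.leaf (nat_lit 0)) (.leaf (nat_lit 0))) (.leaf (nat_lit 0))))))))))))

noncomputable def TG (s j : ℕ) : ℕ := L0.BT.get TB (Nat.add (Nat.mul s (nat_lit 32)) j)

noncomputable def T (c s : ℕ) : ℕ := Nat.rec (motive := fun _ => ℕ) 0 (fun j _ => Nat.land (Nat.shiftRight (TG s j) (Nat.mul (nat_lit 15) (Nat.land c (nat_lit 1023)))) (nat_lit 32767)) (Nat.succ (Nat.shiftRight c (nat_lit 10)))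

def Ws : List (List ℕ) := [[nat_lit 8, nat_lit 4, nat_lit 9], [nat_lit 3, nat_lit 10, nat_lit 7, nat_lit 9, nat_lit 7, nat_lit 4, nat_lit 3], [nat_lit 7, nat_lit 3, nat_lit 1, nat_lit 9, nat_lit 7, nat_lit 2, nat_lit 3, nat_lit 1], [nat_lit 7, nat_lit 6, nat_lit 4, nat_lit 7, nat_lit 1, nat_lit 5, nat_lit 2, nat_lit 8, nat_lit 0, nat_lit 10, nat_lit 6, nat_lit 7, nat_lit 2, nat_lit 0, nat_lit 1], [nat_lit 6, nat_lit 10, nat_lit 3, nat_lit 2, nat_lit 6, nat_lit 7, nat_lit 7, nat_lit 1, nat_lit 2, nat_lit 3, nat_lit 10, nat_lit 8], [nat_lit 2, nat_lit 12], [nat_lit 13, nat_lit 2, nat_lit 5, nat_lit 12, nat_lit 5, nat_lit 13, nat_lit 2], [nat_lit 11, nat_lit 5, nat_lit 2, nat_lit 14, nat_lit 2, nat_lit 11, nat_lit 14, nat_lit 5], [nat_lit 11, nat_lit 14, nat_lit 0, nat_lit 14, nat_lit 12], [nat_lit 5, nat_lit 13, nat_lit 14, nat_lit 0, nat_lit 14, nat_lit 5], [nat_lit 15, nat_lit 14, nat_lit 11, nat_lit 13, nat_lit 15, nat_lit 0, nat_lit 14, nat_lit 13,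 nat_lit 11, nat_lit 2], [nat_lit 18, nat_lit 0, nat_lit 18, nat_lit 19, nat_lit 19, nat_lit 18], [nat_lit 6, nat_lit 9, nat_lit 20, nat_lit 20, nat_lit 19, nat_lit 18, nat_lit 6, nat_lit 19, nat_lit 16], [nat_lit 19, nat_lit 20, nat_lit 18, nat_lit 16, nat_lit 16, nat_lit 19], [nat_lit 22, nat_lit 23, nat_lit 21], [nat_lit 24, nat_lit 0, nat_lit 24, nat_lit 23, nat_lit 21, nat_lit 22, nat_lit 24, nat_lit 21], [nat_lit 21, nat_lit 22, nat_lit 24, nat_lit 24, nat_lit 24, nat_lit 22, nat_lit 22, nat_lit 22, nat_lit 21, nat_lit 0, nat_lit 22, nat_lit 21], [nat_lit 26, nat_lit 25, nat_lit 0, nat_lit 25, nat_lit 25, nat_lit 26, nat_lit 0, nat_lit 26], [nat_lit 0, nat_lit 25, nat_lit 0, nat_lit 25, nat_lit 26, nat_lit 25, nat_lit 26, nat_lit 25, nat_lit 26, nat_lit 25], [nat_lit 27, nat_lit 28, nat_lit 28], [nat_lit 16, nat_lit 10, nat_lit 8, nat_lit 9, nat_lit 23, nat_lit 2, nat_lit 24, nat_lit 6, nat_lit 28, nat_lit 9, nat_lit 27, nat_lit 24, nat_lit 27, nat_lit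 21, nat_lit 24, nat_lit 29, nat_lit 0, nat_lit 28, nat_lit 28, nat_lit 27, nat_lit 29], [nat_lit 12, nat_lit 20, nat_lit 26, nat_lit 4, nat_lit 17, nat_lit 26, nat_lit 17, nat_lit 5, nat_lit 29, nat_lit 17, nat_lit 22, nat_lit 22, nat_lit 24, nat_lit 25, nat_lit 21, nat_lit 28, nat_lit 25, nat_lit 29, nat_lit 25, nat_lit 29, nat_lit 28], [nat_lit 27, nat_lit 20, nat_lit 10, nat_lit 25, nat_lit 1, nat_lit 25, nat_lit 28, nat_lit 23, nat_lit 2, nat_lit 16, nat_lit 26, nat_lit 16, nat_lit 21, nat_lit 26, nat_lit 22, nat_lit 22, nat_lit 26, nat_lit 25, nat_lit 26, nat_lit 0, nat_lit 25, nat_lit 27, nat_lit 27], [nat_lit 31, nat_lit 32, nat_lit 30], [nat_lit 31, nat_lit 33, nat_lit 31, nat_lit 30, nat_lit 31, nat_lit 31, nat_lit 30, nat_lit 30, nat_lit 33, nat_lit 31, nat_lit 32], [nat_lit 30, nat_lit 33, nat_lit 30, nat_lit 31, nat_lit 30, nat_lit 32, nat_lit 30, nat_lit 32, nat_lit 33, nat_lit 32, nat_lit 30], [nat_lit 35, nat_lit 34, nat_lit 35], [nat_lit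 36, nat_lit 36, nat_lit 34, nat_lit 35, nat_lit 34, nat_lit 36, nat_lit 36, nat_lit 34, nat_lit 35, nat_lit 35, nat_lit 34, nat_lit 34], [nat_lit 34, nat_lit 34, nat_lit 34, nat_lit 35, nat_lit 36], [nat_lit 37, nat_lit 38], [nat_lit 38, nat_lit 38, nat_lit 39, nat_lit 39, nat_lit 39, nat_lit 37, nat_lit 39, nat_lit 38, nat_lit 39, nat_lit 37], [nat_lit 37, nat_lit 37, nat_lit 39, nat_lit 38, nat_lit 37, nat_lit 37, nat_lit 39, nat_lit 39, nat_lit 39, nat_lit 38, nat_lit 39, nat_lit 38], [nat_lit 41, nat_lit 40, nat_lit 40], [nat_lit 42, nat_lit 41, nat_lit 41, nat_lit 40, nat_lit 42, nat_lit 42, nat_lit 41, nat_lit 42, nat_lit 41, nat_lit 40, nat_lit 42], [nat_lit 40, nat_lit 41, nat_lit 40, nat_lit 42, nat_lit 40, nat_lit 40, nat_lit 42], [nat_lit 43, nat_lit 44, nat_lit 43], [nat_lit 44, nat_lit 43, nat_lit 44, nat_lit 44, nat_lit 44, nat_lit 43], [nat_lit 43, nat_lit 43, nat_lit 45, nat_lit 43, nat_lit 43, nat_lit 43, nat_lit 44, nat_lit 44, nat_lit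 44], [nat_lit 38, nat_lit 41, nat_lit 43, nat_lit 32, nat_lit 45, nat_lit 46, nat_lit 36, nat_lit 37, nat_lit 37, nat_lit 43, nat_lit 40, nat_lit 37, nat_lit 43, nat_lit 47, nat_lit 41, nat_lit 40, nat_lit 46, nat_lit 45, nat_lit 45, nat_lit 45, nat_lit 44, nat_lit 44, nat_lit 46]]

noncomputable def ordT (c : ℕ) : ℕ := Nat.land (Nat.shiftRight ordTD (Nat.mul (nat_lit 5) c)) (nat_lit 31)

noncomputable def iv (s : ℕ) : List ℕ := List.replicate (ordT s) s

noncomputable def La0tB : L0.BT := (.node (.node (.node (.leaf La0tB_0) (.leaf La0tB_4)) (.node (.leaf La0tB_2) (.leaf La0tB_6))) (.node (.node (.leaf La0tB_1) (.leaf La0tB_5)) (.node (.leaf La0tB_3) (.leaf La0tB_7))))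

noncomputable def La0t (c : ℕ) : ℕ := L0.rowOf La0tB (nat_lit 12) (nat_lit 4095) (nat_lit 6) (nat_lit 63) c

noncomputable def La0 : SLv := ⟨⟨nat_lit 1978, La0t, nat_lit 8589934591, nat_lit 6, nat_lit 31671, fun i => i⟩, true, [nat_lit 7030, nat_lit 10090, nat_lit 7593, nat_lit 14430, nat_lit 29617, nat_lit 3762, nat_lit 17376, nat_lit 15018, nat_lit 13486, nat_lit 9781, nat_lit 4274, nat_lit 6076, nat_lit 15291, nat_lit 9946, nat_lit 2709, nat_lit 4966, nat_lit 1978], [nat_lit 30], nat_lit 16, []⟩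

noncomputable def La1tB : L0.BT := (.node (.node (.node (.leaf La1tB_0) (.leaf La1tB_4)) (.node (.leaf La1tB_2) (.leaf La1tB_6))) (.node (.node (.leaf La1tB_1) (.leaf La1tB_5)) (.node (.leaf La1tB_3) (.leaf La1tB_7))))

noncomputable def La1t (c : ℕ) : ℕ := L0.rowOf La1tB (nat_lit 12) (nat_lit 4095) (nat_lit 5) (nat_lit 31) c

noncomputable def La1pB : L0.BT := (.node (.leaf La1pB_0) (.leaf La1pB_1))

noncomputable def La1p (c : ℕ) : ℕ := L0.rowOf La1pB (nat_lit 11) (nat_lit 2047) (nat_lit 15) (nat_lit 32767) c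

noncomputable def La1 : SLv := ⟨⟨nat_lit 7030, La1t, nat_lit 1073740389, nat_lit 5, nat_lit 3510, La1p⟩, false, [], [], nat_lit 0, []⟩

noncomputable def La2tB : L0.BT := (.node (.node (.node (.leaf La2tB_0) (.leaf La2tB_4)) (.node (.leaf La2tB_2) (.leaf La2tB_6))) (.node (.node (.leaf La2tB_1) (.leaf La2tB_5)) (.node (.leaf La2tB_3) (.leaf La2tB_7))))

noncomputable def La2t (c : ℕ) : ℕ := L0.rowOf La2tB (nat_lit 12) (nat_lit 4095) (nat_lit 5) (nat_lit 31) c

noncomputable def La2pB : L0.BT := (.node (.leaf La2pB_0) (.leaf La2pB_1))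

noncomputable def La2p (c : ℕ) : ℕ := L0.rowOf La2pB (nat_lit 11) (nat_lit 2047) (nat_lit 15) (nat_lit 32767) c

noncomputable def La2 : SLv := ⟨⟨nat_lit 10090, La2t, nat_lit 1073676865, nat_lit 6, nat_lit 2816, La2p⟩, false, [], [], nat_lit 0, []⟩

noncomputable def La3tB : L0.BT := (.node (.node (.node (.leaf La3tB_0) (.leaf La3tB_4)) (.node (.leaf La3tB_2) (.leaf La3tB_6))) (.node (.node (.leaf La3tB_1) (.leaf La3tB_5)) (.node (.leaf La3tB_3) (.leaf La3tB_7))))

noncomputable def La3t (c : ℕ) : ℕ := L0.rowOf La3tB (nat_lit 12) (nat_lit 4095) (nat_lit 5) (nat_lit 31) c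

noncomputable def La3p (c : ℕ) : ℕ := Nat.land (Nat.shiftRight La3pD (Nat.mul (nat_lit 15) c)) (nat_lit 32767)

noncomputable def La3 : SLv := ⟨⟨nat_lit 7593, La3t, nat_lit 1071644673, nat_lit 7, nat_lit 2592, La3p⟩, false, [], [], nat_lit 0, []⟩

noncomputable def La4tB : L0.BT := (.node (.node (.node (.leaf La4tB_0) (.leaf La4tB_4)) (.node (.leaf La4tB_2) (.leaf La4tB_6))) (.node (.node (.leaf La4tB_1) (.leaf La4tB_5)) (.node (.leaf La4tB_3) (.leaf La4tB_7))))

noncomputable def La4t (c : ℕ) : ℕ := L0.rowOf La4tB (nat_lit 12) (nat_lit 4095) (nat_lit 5) (nat_lit 31) c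

noncomputable def La4p (c : ℕ) : ℕ := Nat.land (Nat.shiftRight La4pD (Nat.mul (nat_lit 15) c)) (nat_lit 32767)

noncomputable def La4 : SLv := ⟨⟨nat_lit 14430, La4t, nat_lit 1040187393, nat_lit 7, nat_lit 210, La4p⟩, false, [], [], nat_lit 0, []⟩

noncomputable def La5tB : L0.BT := (.node (.node (.node (.leaf La5tB_0) (.leaf (nat_lit 0))) (.node (.leaf La5tB_2) (.leaf La5tB_6))) (.node (.node (.leaf (nat_lit 0)) (.leaf La5tB_5)) (.node (.leaf La5tB_3) (.leaf La5tB_7))))

noncomputable def La5t (c : ℕ) : ℕ := L0.rowOf La5tB (nat_lit 12) (nat_lit 4095) (nat_lit 5) (nat_lit 31) c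

noncomputable def La5p (c : ℕ) : ℕ := Nat.land (Nat.shiftRight La5pD (Nat.mul (nat_lit 15) c)) (nat_lit 32767)

noncomputable def La5 : SLv := ⟨⟨nat_lit 29617, La5t, nat_lit 939524096, nat_lit 4, nat_lit 12, La5p⟩, false, [], [], nat_lit 0, []⟩

noncomputable def La6tB : L0.BT := (.node (.node (.node (.leaf (nat_lit 0)) (.leaf (nat_lit 0))) (.node (.leaf (nat_lit 0)) (.leaf (nat_lit 0)))) (.node (.node (.leaf La6tB_1) (.leaf (nat_lit 0))) (.node (.leaf (nat_lit 0)) (.leaf (nat_lit 0)))))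

noncomputable def La6t (c : ℕ) : ℕ := L0.rowOf La6tB (nat_lit 12) (nat_lit 4095) (nat_lit 5) (nat_lit 31) c

noncomputable def La6p (c : ℕ) : ℕ := Nat.land (Nat.shiftRight La6pD (Nat.mul (nat_lit 13) c)) (nat_lit 8191)

noncomputable def La6 : SLv := ⟨⟨nat_lit 3762, La6t, nat_lit 536870912, nat_lit 2, nat_lit 2, La6p⟩, false, [], [], nat_lit 0, []⟩

noncomputable def Las : List SLv := [La1, La2, La3, La4, La5, La6]

noncomputable def Lb0tB : L0.BT := (.node (.node (.node (.leaf Lb0tB_0) (.leaf Lb0tB_4)) (.node (.leaf Lb0tB_2) (.leaf Lb0tB_6))) (.node (.node (.leaf Lb0tB_1) (.leaf Lb0tB_5)) (.node (.leaf Lb0tB_3) (.leaf Lb0tB_7))))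

noncomputable def Lb0t (c : ℕ) : ℕ := L0.rowOf Lb0tB (nat_lit 12) (nat_lit 4095) (nat_lit 6) (nat_lit 63) c

noncomputable def Lb0 : SLv := ⟨⟨nat_lit 29, Lb0t, nat_lit 281473902968832, nat_lit 6, nat_lit 31671, fun i => i⟩, true, [nat_lit 28993, nat_lit 22291, nat_lit 22466, nat_lit 19583, nat_lit 9793, nat_lit 30994, nat_lit 26849, nat_lit 23809, nat_lit 4449, nat_lit 17585, nat_lit 780, nat_lit 21387, nat_lit 23988, nat_lit 1069, nat_lit 6472, nat_lit 29], [nat_lit 31], nat_lit 15, [(nat_lit 160, [nat_lit 31, nat_lit 48, nat_lit 48, nat_lit 48, nat_lit 48, nat_lit 48, nat_lit 48, nat_lit 48])]⟩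

noncomputable def Lb1tB : L0.BT := (.node (.node (.node (.leaf Lb1tB_0) (.leaf Lb1tB_4)) (.node (.leaf Lb1tB_2) (.leaf Lb1tB_6))) (.node (.node (.leaf Lb1tB_1) (.leaf Lb1tB_5)) (.node (.leaf Lb1tB_3) (.leaf Lb1tB_7))))

noncomputable def Lb1t (c : ℕ) : ℕ := L0.rowOf Lb1tB (nat_lit 12) (nat_lit 4095) (nat_lit 6) (nat_lit 63) c

noncomputable def Lb1pB : L0.BT := (.node (.leaf Lb1pB_0) (.leaf Lb1pB_1))

noncomputable def Lb1p (c : ℕ) : ℕ := L0.rowOf Lb1pB (nat_lit 11) (nat_lit 2047) (nat_lit 15) (nat_lit 32767) c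

noncomputable def Lb1 : SLv := ⟨⟨nat_lit 28993, Lb1t, nat_lit 281457796841472, nat_lit 6, nat_lit 3510, Lb1p⟩, false, [], [], nat_lit 0, []⟩

noncomputable def Lb2tB : L0.BT := (.node (.node (.node (.leaf Lb2tB_0) (.leaf Lb2tB_4)) (.node (.leaf Lb2tB_2) (.leaf Lb2tB_6))) (.node (.node (.leaf Lb2tB_1) (.leaf Lb2tB_5)) (.node (.leaf Lb2tB_3) (.leaf Lb2tB_7))))

noncomputable def Lb2t (c : ℕ) : ℕ := L0.rowOf Lb2tB (nat_lit 12) (nat_lit 4095) (nat_lit 6) (nat_lit 63) c

noncomputable def Lb2pB : L0.BT := (.node (.leaf Lb2pB_0) (.leaf Lb2pB_1))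

noncomputable def Lb2p (c : ℕ) : ℕ := L0.rowOf Lb2pB (nat_lit 11) (nat_lit 2047) (nat_lit 15) (nat_lit 32767) c

noncomputable def Lb2 : SLv := ⟨⟨nat_lit 22291, Lb2t, nat_lit 281337537757184, nat_lit 6, nat_lit 2816, Lb2p⟩, false, [], [], nat_lit 0, []⟩

noncomputable def Lb3tB : L0.BT := (.node (.node (.node (.leaf Lb3tB_0) (.leaf Lb3tB_4)) (.node (.leaf Lb3tB_2) (.leaf Lb3tB_6))) (.node (.node (.leaf Lb3tB_1) (.leaf Lb3tB_5)) (.node (.leaf Lb3tB_3) (.leaf Lb3tB_7))))

noncomputable def Lb3t (c : ℕ) : ℕ := L0.rowOf Lb3tB (nat_lit 12) (nat_lit 4095) (nat_lit 6) (nat_lit 63) c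

noncomputable def Lb3p (c : ℕ) : ℕ := Nat.land (Nat.shiftRight Lb3pD (Nat.mul (nat_lit 15) c)) (nat_lit 32767)

noncomputable def Lb3 : SLv := ⟨⟨nat_lit 22466, Lb3t, nat_lit 280375465082880, nat_lit 7, nat_lit 2592, Lb3p⟩, false, [], [], nat_lit 0, []⟩

noncomputable def Lb4tB : L0.BT := (.node (.node (.node (.leaf Lb4tB_0) (.leaf Lb4tB_4)) (.node (.leaf Lb4tB_2) (.leaf Lb4tB_6))) (.node (.node (.leaf Lb4tB_1) (.leaf Lb4tB_5)) (.node (.leaf Lb4tB_3) (.leaf Lb4tB_7))))

noncomputable def Lb4t (c : ℕ) : ℕ := L0.rowOf Lb4tB (nat_lit 12) (nat_lit 4095) (nat_lit 6) (nat_lit 63) c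

noncomputable def Lb4p (c : ℕ) : ℕ := Nat.land (Nat.shiftRight Lb4pD (Nat.mul (nat_lit 15) c)) (nat_lit 32767)

noncomputable def Lb4 : SLv := ⟨⟨nat_lit 19583, Lb4t, nat_lit 272678883688448, nat_lit 8, nat_lit 1260, Lb4p⟩, false, [], [], nat_lit 0, []⟩

noncomputable def Lb5tB : L0.BT := (.node (.node (.node (.leaf (nat_lit 0)) (.leaf (nat_lit 0))) (.node (.leaf (nat_lit 0)) (.leaf Lb5tB_6))) (.node (.node (.leaf Lb5tB_1) (.leaf Lb5tB_5)) (.node (.leaf (nat_lit 0)) (.leaf (nat_lit 0)))))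

noncomputable def Lb5t (c : ℕ) : ℕ := L0.rowOf Lb5tB (nat_lit 12) (nat_lit 4095) (nat_lit 6) (nat_lit 63) c

noncomputable def Lb5p (c : ℕ) : ℕ := Nat.land (Nat.shiftRight Lb5pD (Nat.mul (nat_lit 15) c)) (nat_lit 32767)

noncomputable def Lb5 : SLv := ⟨⟨nat_lit 9793, Lb5t, nat_lit 211106232532992, nat_lit 3, nat_lit 4, Lb5p⟩, false, [], [], nat_lit 0, []⟩

noncomputable def Lbs : List SLv := [Lb1, Lb2, Lb3, Lb4, Lb5]

def B : List ℕ := [nat_lit 1978, nat_lit 7030, nat_lit 10090, nat_lit 7593, nat_lit 14430, nat_lit 29617, nat_lit 3762]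

def D : OD := ⟨nat_lit 30, nat_lit 31, nat_lit 32, nat_lit 17, nat_lit 3, nat_lit 1, nat_lit 11, [nat_lit 1],
  [(nat_lit 3797496590519888502485923680820, []), (nat_lit 108815909721038907853163696482, [nat_lit 31]), (nat_lit 10527607501374175869839977855943, [nat_lit 48]), (nat_lit 15305734057192489318636612154886, [nat_lit 31, nat_lit 31]), (nat_lit 17988934518388833441390766895105, [nat_lit 31, nat_lit 48]), (nat_lit 5208436912508553090492441758876, [nat_lit 48, nat_lit 48]), (nat_lit 2330418574384327553294995148595, [nat_lit 31, nat_lit 31, nat_lit 31]), (nat_lit 4525589318168971517509789981057, [nat_lit 31, nat_lit 31, nat_lit 48]), (nat_lit 31463747128520003447321340632068, [nat_lit 31, nat_lit 48, nat_lit 48]), (nat_lit 31771736042360919238300324246654, [nat_lit 48, nat_lit 48, nat_lit 48]), (nat_lit 13520169759714182592659153288728, [nat_lit 31, nat_lit 31, nat_lit 31, nat_lit 31]), (nat_lit 29116958770851114415974176656160, [nat_lit 31, nat_lit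 31, nat_lit 31, nat_lit 48]), (nat_lit 5126693036839131715807120545655, [nat_lit 31, nat_lit 48, nat_lit 48, nat_lit 48]), (nat_lit 8277511761349413924461581176226, [nat_lit 48, nat_lit 48, nat_lit 48, nat_lit 48]), (nat_lit 31771736038217386302172755097424, [nat_lit 31, nat_lit 31, nat_lit 31, nat_lit 31, nat_lit 31]), (nat_lit 10561417198728609530924270850027, [nat_lit 31, nat_lit 31, nat_lit 31, nat_lit 31, nat_lit 48]), (nat_lit 9598665192595767599304007890510, [nat_lit 31, nat_lit 48, nat_lit 48, nat_lit 48, nat_lit 48]), (nat_lit 2330418569768563415333034247592, [nat_lit 48, nat_lit 48, nat_lit 48, nat_lit 48, nat_lit 48]), (nat_lit 5126693015054367910189502210437, [nat_lit 31, nat_lit 31, nat_lit 31, nat_lit 31, nat_lit 31, nat_lit 31]), (nat_lit 8277511736341367217687121088037, [nat_lit 31, nat_lit 31, nat_lit 31, nat_lit 31, nat_lit 31, nat_lit 48]), (nat_lit 13520169763297811671398512852483, [nat_lit 31, nat_lit 48, nat_lit 48, nat_lit 48, nat_lit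 48, nat_lit 48]), (nat_lit 29116958779501987153242925173457, [nat_lit 48, nat_lit 48, nat_lit 48, nat_lit 48, nat_lit 48, nat_lit 48]), (nat_lit 10527607509491903860578279250518, [nat_lit 31, nat_lit 31, nat_lit 31, nat_lit 31, nat_lit 31, nat_lit 31, nat_lit 31]), (nat_lit 9598665197065077480931121901037, [nat_lit 31, nat_lit 31, nat_lit 31, nat_lit 31, nat_lit 31, nat_lit 31, nat_lit 48]), (nat_lit 10561417200348384258263388282615, [nat_lit 31, nat_lit 48, nat_lit 48, nat_lit 48, nat_lit 48, nat_lit 48, nat_lit 48]), (nat_lit 108815916591662145462922217142, [nat_lit 48, nat_lit 48, nat_lit 48, nat_lit 48, nat_lit 48, nat_lit 48, nat_lit 48]), (nat_lit 17988934527156286377742633386507, [nat_lit 31, nat_lit 31, nat_lit 31, nat_lit 31, nat_lit 31, nat_lit 31, nat_lit 31, nat_lit 31]), (nat_lit 5208436917523419946338024765622, [nat_lit 31, nat_lit 31, nat_lit 31, nat_lit 31, nat_lit 31, nat_lit 31, nat_lit 31, nat_lit 48]), (nat_lit 15305734056319432428849709794101,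 [nat_lit 31, nat_lit 48, nat_lit 48, nat_lit 48, nat_lit 48, nat_lit 48, nat_lit 48, nat_lit 48]), (nat_lit 4525589292948669019962698754347, [nat_lit 31, nat_lit 31, nat_lit 31, nat_lit 31, nat_lit 31, nat_lit 31, nat_lit 31, nat_lit 31, nat_lit 31]), (nat_lit 31463747134890146255216251747586, [nat_lit 31, nat_lit 31, nat_lit 31, nat_lit 31, nat_lit 31, nat_lit 31, nat_lit 31, nat_lit 31, nat_lit 48]), (nat_lit 3797496605809487572634471864671, [nat_lit 31, nat_lit 31, nat_lit 31, nat_lit 31, nat_lit 31, nat_lit 31, nat_lit 31, nat_lit 31, nat_lit 31, nat_lit 48])],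
  [[nat_lit 1, nat_lit 2, nat_lit 1, nat_lit 2, nat_lit 1, nat_lit 2, nat_lit 1, nat_lit 2], [nat_lit 2, nat_lit 0, nat_lit 2, nat_lit 0, nat_lit 2, nat_lit 0, nat_lit 2, nat_lit 0, nat_lit 2, nat_lit 0, nat_lit 2, nat_lit 0, nat_lit 2, nat_lit 0, nat_lit 2, nat_lit 0, nat_lit 2, nat_lit 0, nat_lit 2, nat_lit 0, nat_lit 2, nat_lit 0, nat_lit 2, nat_lit 0, nat_lit 2, nat_lit 0, nat_lit 2, nat_lit 0, nat_lit 2, nat_lit 0, nat_lit 2, nat_lit 0, nat_lit 2, nat_lit 0, nat_lit 2, nat_lit 0, nat_lit 2, nat_lit 0, nat_lit 2, nat_lit 0, nat_lit 2, nat_lit 0, nat_lit 2, nat_lit 0, nat_lit 2, nat_lit 0]],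
  [[]], [], [], []⟩

end Cfsg.Agent.H9.OutFi23
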