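import Cfsg.Agent.H9.OutFi24D

/-! The outer automorphism group of Fi24'. Checks. -/

set_option autoImplicit false
set_option maxRecDepth 100000

namespace Cfsg.Agent.H9.OutFi24

theorem orb_10 : allPow (below (nat_lit 306936) (orb2B TT (nat_lit 254) (nat_lit 16) (nat_lit 11423551284260107032265750573735043051028470782) inf2 U (nat_lit 31671))) 14 (10 * 2 ^ 14) = true := by decide +kernel

theorem orb_11 : allPow (below (nat_lit 306936) (orb2B TT (nat_lit 254) (nat_lit 16) (nat_lit 11423551284260107032265750573735043051028470782) inf2 U (nat_lit 31671))) 14 (11 * 2 ^ 14) = true := by decide +kernel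

theorem orb_12 : allPow (below (nat_lit 306936) (orb2B TT (nat_lit 254) (nat_lit 16) (nat_lit 11423551284260107032265750573735043051028470782) inf2 U (nat_lit 31671))) 14 (12 * 2 ^ 14) = true := by decide +kernel

theorem orb_13 : allPow (below (nat_lit 306936) (orb2B TT (nat_lit 254) (nat_lit 16) (nat_lit 11423551284260107032265750573735043051028470782) inf2 U (nat_lit 31671))) 14 (13 * 2 ^ 14) = true := by decide +kernel

theorem orb_14 : allPow (below (nat_lit 306936) (orb2B TT (nat_lit 254) (nat_lit 16) (nat_lit 11423551284260107032265750573735043051028470782) inf2 U (nat_lit 31671))) 14 (14 * 2 ^ 14) = true := by decide +kernel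

theorem orb_15 : allPow (below (nat_lit 306936) (orb2B TT (nat_lit 254) (nat_lit 16) (nat_lit 11423551284260107032265750573735043051028470782) inf2 U (nat_lit 31671))) 14 (15 * 2 ^ 14) = true := by decide +kernel

theorem orb_16 : allPow (below (nat_lit 306936) (orb2B TT (nat_lit 254) (nat_lit 16) (nat_lit 11423551284260107032265750573735043051028470782) inf2 U (nat_lit 31671))) 14 (16 * 2 ^ 14) = true := by decide +kernel

theorem orb_17 : allPow (below (nat_lit 306936) (orb2B TT (nat_lit 254) (nat_lit 16) (nat_lit 11423551284260107032265750573735043051028470782) inf2 U (nat_lit 31671))) 14 (17 * 2 ^ 14) = true := by decide +kernel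

theorem orb_18 : allPow (below (nat_lit 306936) (orb2B TT (nat_lit 254) (nat_lit 16) (nat_lit 11423551284260107032265750573735043051028470782) inf2 U (nat_lit 31671))) 14 (18 * 2 ^ 14) = true := by decide +kernel

theorem fau_0 : allPow (below (nat_lit 31671) (faU TH (nat_lit 254) (nat_lit 16) (nat_lit 0) U)) 15 (0 * 2 ^ 15) = true := by decide +kernel

theorem fb_0 : allPow (below (nat_lit 306936) (fixB (tr TT (List.replicate D.i D.ib)) (nat_lit 254 :: (lk.map Prod.fst ++ dead.map Prod.fst)))) 12 (0 * 2 ^ 12) = true := by decide +kernel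

theorem fb_1 : allPow (below (nat_lit 306936) (fixB (tr TT (List.replicate D.i D.ib)) (nat_lit 254 :: (lk.map Prod.fst ++ dead.map Prod.fst)))) 12 (1 * 2 ^ 12) = true := by decide +kernel

theorem fb_2 : allPow (below (nat_lit 306936) (fixB (tr TT (List.replicate D.i D.ib)) (nat_lit 254 :: (lk.map Prod.fst ++ dead.map Prod.fst)))) 12 (2 * 2 ^ 12) = true := by decide +kernel

theorem fb_3 : allPow (below (nat_lit 306936) (fixB (tr TT (List.replicate D.i D.ib)) (nat_lit 254 :: (lk.map Prod.fst ++ dead.map Prod.fst)))) 12 (3 * 2 ^ 12) = true := by decide +kernel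

theorem fb_4 : allPow (below (nat_lit 306936) (fixB (tr TT (List.replicate D.i D.ib)) (nat_lit 254 :: (lk.map Prod.fst ++ dead.map Prod.fst)))) 12 (4 * 2 ^ 12) = true := by decide +kernel

theorem fb_5 : allPow (below (nat_lit 306936) (fixB (tr TT (List.replicate D.i D.ib)) (nat_lit 254 :: (lk.map Prod.fst ++ dead.map Prod.fst)))) 12 (5 * 2 ^ 12) = true := by decide +kernel

theorem fb_6 : allPow (below (nat_lit 306936) (fixB (tr TT (List.replicate D.i D.ib)) (nat_lit 254 :: (lk.map Prod.fst ++ dead.map Prod.fst)))) 12 (6 * 2 ^ 12) = true := by decide +kernel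

theorem fb_7 : allPow (below (nat_lit 306936) (fixB (tr TT (List.replicate D.i D.ib)) (nat_lit 254 :: (lk.map Prod.fst ++ dead.map Prod.fst)))) 12 (7 * 2 ^ 12) = true := by decide +kernel

theorem fb_8 : allPow (below (nat_lit 306936) (fixB (tr TT (List.replicate D.i D.ib)) (nat_lit 254 :: (lk.map Prod.fst ++ dead.map Prod.fst)))) 12 (8 * 2 ^ 12) = true := by decide +kernel

theorem fb_9 : allPow (below (nat_lit 306936) (fixB (tr TT (List.replicate D.i D.ib)) (nat_lit 254 :: (lk.map Prod.fst ++ dead.map Prod.fst)))) 12 (9 * 2 ^ 12) = true := by decide +kernel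

theorem fb_10 : allPow (below (nat_lit 306936) (fixB (tr TT (List.replicate D.i D.ib)) (nat_lit 254 :: (lk.map Prod.fst ++ dead.map Prod.fst)))) 12 (10 * 2 ^ 12) = true := by decide +kernel

theorem fb_11 : allPow (below (nat_lit 306936) (fixB (tr TT (List.replicate D.i D.ib)) (nat_lit 254 :: (lk.map Prod.fst ++ dead.map Prod.fst)))) 12 (11 * 2 ^ 12) = true := by decide +kernel

theorem fb_12 : allPow (below (nat_lit 306936) (fixB (tr TT (List.replicate D.i D.ib)) (nat_lit 254 :: (lk.map Prod.fst ++ dead.map Prod.fst)))) 12 (12 * 2 ^ 12) = true := by decide +kernel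

theorem fb_13 : allPow (below (nat_lit 306936) (fixB (tr TT (List.replicate D.i D.ib)) (nat_lit 254 :: (lk.map Prod.fst ++ dead.map Prod.fst)))) 12 (13 * 2 ^ 12) = true := by decide +kernel

theorem fb_14 : allPow (below (nat_lit 306936) (fixB (tr TT (List.replicate D.i D.ib)) (nat_lit 254 :: (lk.map Prod.fst ++ dead.map Prod.fst)))) 12 (14 * 2 ^ 12) = true := by decide +kernel

theorem fb_15 : allPow (below (nat_lit 306936) (fixB (tr TT (List.replicate D.i D.ib)) (nat_lit 254 :: (lk.map Prod.fst ++ dead.map Prod.fst)))) 12 (15 * 2 ^ 12) = true := by decide +kernel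

theorem fb_16 : allPow (below (nat_lit 306936) (fixB (tr TT (List.replicate D.i D.ib)) (nat_lit 254 :: (lk.map Prod.fst ++ dead.map Prod.fst)))) 12 (16 * 2 ^ 12) = true := by decide +kernel

theorem fb_17 : allPow (below (nat_lit 306936) (fixB (tr TT (List.replicate D.i D.ib)) (nat_lit 254 :: (lk.map Prod.fst ++ dead.map Prod.fst)))) 12 (17 * 2 ^ 12) = true := by decide +kernel

theorem fb_18 : allPow (below (nat_lit 306936) (fixB (tr TT (List.replicate D.i D.ib)) (nat_lit 254 :: (lk.map Prod.fst ++ dead.map Prod.fst)))) 12 (18 * 2 ^ 12) = true := by decide +kernel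

theorem fb_19 : allPow (below (nat_lit 306936) (fixB (tr TT (List.replicate D.i D.ib)) (nat_lit 254 :: (lk.map Prod.fst ++ dead.map Prod.fst)))) 12 (19 * 2 ^ 12) = true := by decide +kernel

theorem fb_20 : allPow (below (nat_lit 306936) (fixB (tr TT (List.replicate D.i D.ib)) (nat_lit 254 :: (lk.map Prod.fst ++ dead.map Prod.fst)))) 12 (20 * 2 ^ 12) = true := by decide +kernel

theorem fb_21 : allPow (below (nat_lit 306936) (fixB (tr TT (List.replicate D.i D.ib)) (nat_lit 254 :: (lk.map Prod.fst ++ dead.map Prod.fst)))) 12 (21 * 2 ^ 12) = true := by decide +kernel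

theorem fb_22 : allPow (below (nat_lit 306936) (fixB (tr TT (List.replicate D.i D.ib)) (nat_lit 254 :: (lk.map Prod.fst ++ dead.map Prod.fst)))) 12 (22 * 2 ^ 12) = true := by decide +kernel

theorem fb_23 : allPow (below (nat_lit 306936) (fixB (tr TT (List.replicate D.i D.ib)) (nat_lit 254 :: (lk.map Prod.fst ++ dead.map Prod.fst)))) 12 (23 * 2 ^ 12) = true := by decide +kernel

theorem fb_24 : allPow (below (nat_lit 306936) (fixB (tr TT (List.replicate D.i D.ib)) (nat_lit 254 :: (lk.map Prod.fst ++ dead.map Prod.fst)))) 12 (24 * 2 ^ 12) = true := by decide +kernel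

theorem fb_25 : allPow (below (nat_lit 306936) (fixB (tr TT (List.replicate D.i D.ib)) (nat_lit 254 :: (lk.map Prod.fst ++ dead.map Prod.fst)))) 12 (25 * 2 ^ 12) = true := by decide +kernel

theorem fb_26 : allPow (below (nat_lit 306936) (fixB (tr TT (List.replicate D.i D.ib)) (nat_lit 254 :: (lk.map Prod.fst ++ dead.map Prod.fst)))) 12 (26 * 2 ^ 12) = true := by decide +kernel

theorem fb_27 : allPow (below (nat_lit 306936) (fixB (tr TT (List.replicate D.i D.ib)) (nat_lit 254 :: (lk.map Prod.fst ++ dead.map Prod.fst)))) 12 (27 * 2 ^ 12) = true := by decide +kernel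

theorem fb_28 : allPow (below (nat_lit 306936) (fixB (tr TT (List.replicate D.i D.ib)) (nat_lit 254 :: (lk.map Prod.fst ++ dead.map Prod.fst)))) 12 (28 * 2 ^ 12) = true := by decide +kernel

end Cfsg.Agent.H9.OutFi24
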