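import Cfsg.Agent.H9.OutFi24D

/-! The outer automorphism group of Fi24'. Checks. -/

set_option autoImplicit false
set_option maxRecDepth 100000

namespace Cfsg.Agent.H9.OutFi24

theorem slpH_51 : allPow (below (nat_lit 31671) (slpB TH WH Wh.length)) 8 (51 * 2 ^ 8) = true := by decide +kernel

theorem slpH_52 : allPow (below (nat_lit 31671) (slpB TH WH Wh.length)) 8 (52 * 2 ^ 8) = true := by decide +kernel

theorem slpH_53 : allPow (below (nat_lit 31671) (slpB TH WH Wh.length)) 8 (53 * 2 ^ 8) = true := by decide +kernel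

theorem slpH_54 : allPow (below (nat_lit 31671) (slpB TH WH Wh.length)) 8 (54 * 2 ^ 8) = true := by decide +kernel

theorem slpH_55 : allPow (below (nat_lit 31671) (slpB TH WH Wh.length)) 8 (55 * 2 ^ 8) = true := by decide +kernel

theorem slpH_56 : allPow (below (nat_lit 31671) (slpB TH WH Wh.length)) 8 (56 * 2 ^ 8) = true := by decide +kernel

theorem slpH_57 : allPow (below (nat_lit 31671) (slpB TH WH Wh.length)) 8 (57 * 2 ^ 8) = true := by decide +kernel

theorem slpH_58 : allPow (below (nat_lit 31671) (slpB TH WH Wh.length)) 8 (58 * 2 ^ 8) = true := by decide +kernel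

theorem slpH_59 : allPow (below (nat_lit 31671) (slpB TH WH Wh.length)) 8 (59 * 2 ^ 8) = true := by decide +kernel

theorem slpH_60 : allPow (below (nat_lit 31671) (slpB TH WH Wh.length)) 8 (60 * 2 ^ 8) = true := by decide +kernel

theorem slpH_61 : allPow (below (nat_lit 31671) (slpB TH WH Wh.length)) 8 (61 * 2 ^ 8) = true := by decide +kernel

theorem slpH_62 : allPow (below (nat_lit 31671) (slpB TH WH Wh.length)) 8 (62 * 2 ^ 8) = true := by decide +kernel

theorem slpH_63 : allPow (below (nat_lit 31671) (slpB TH WH Wh.length)) 8 (63 * 2 ^ 8) = true := by decide +kernel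

theorem slpH_64 : allPow (below (nat_lit 31671) (slpB TH WH Wh.length)) 8 (64 * 2 ^ 8) = true := by decide +kernel

theorem slpH_65 : allPow (below (nat_lit 31671) (slpB TH WH Wh.length)) 8 (65 * 2 ^ 8) = true := by decide +kernel

theorem slpH_66 : allPow (below (nat_lit 31671) (slpB TH WH Wh.length)) 8 (66 * 2 ^ 8) = true := by decide +kernel

theorem slpH_67 : allPow (below (nat_lit 31671) (slpB TH WH Wh.length)) 8 (67 * 2 ^ 8) = true := by decide +kernel

theorem slpH_68 : allPow (below (nat_lit 31671) (slpB TH WH Wh.length)) 8 (68 * 2 ^ 8) = true := by decide +kernel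

theorem slpH_69 : allPow (below (nat_lit 31671) (slpB TH WH Wh.length)) 8 (69 * 2 ^ 8) = true := by decide +kernel

theorem slpH_70 : allPow (below (nat_lit 31671) (slpB TH WH Wh.length)) 8 (70 * 2 ^ 8) = true := by decide +kernel

theorem slpH_71 : allPow (below (nat_lit 31671) (slpB TH WH Wh.length)) 8 (71 * 2 ^ 8) = true := by decide +kernel

theorem slpH_72 : allPow (below (nat_lit 31671) (slpB TH WH Wh.length)) 8 (72 * 2 ^ 8) = true := by decide +kernel

theorem slpH_73 : allPow (below (nat_lit 31671) (slpB TH WH Wh.length)) 8 (73 * 2 ^ 8) = true := by decide +kernel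

theorem slpH_74 : allPow (below (nat_lit 31671) (slpB TH WH Wh.length)) 8 (74 * 2 ^ 8) = true := by decide +kernel

theorem slpH_75 : allPow (below (nat_lit 31671) (slpB TH WH Wh.length)) 8 (75 * 2 ^ 8) = true := by decide +kernel

theorem slpH_76 : allPow (below (nat_lit 31671) (slpB TH WH Wh.length)) 8 (76 * 2 ^ 8) = true := by decide +kernel

theorem slpH_77 : allPow (below (nat_lit 31671) (slpB TH WH Wh.length)) 8 (77 * 2 ^ 8) = true := by decide +kernel

theorem slpH_78 : allPow (below (nat_lit 31671) (slpB TH WH Wh.length)) 8 (78 * 2 ^ 8) = true := by decide +kernel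

theorem slpH_79 : allPow (below (nat_lit 31671) (slpB TH WH Wh.length)) 8 (79 * 2 ^ 8) = true := by decide +kernel

theorem slpH_80 : allPow (below (nat_lit 31671) (slpB TH WH Wh.length)) 8 (80 * 2 ^ 8) = true := by decide +kernel

theorem slpH_81 : allPow (below (nat_lit 31671) (slpB TH WH Wh.length)) 8 (81 * 2 ^ 8) = true := by decide +kernel

theorem slpH_82 : allPow (below (nat_lit 31671) (slpB TH WH Wh.length)) 8 (82 * 2 ^ 8) = true := by decide +kernel

theorem slpH_83 : allPow (below (nat_lit 31671) (slpB TH WH Wh.length)) 8 (83 * 2 ^ 8) = true := by decide +kernel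

theorem slpH_84 : allPow (below (nat_lit 31671) (slpB TH WH Wh.length)) 8 (84 * 2 ^ 8) = true := by decide +kernel

theorem slpH_85 : allPow (below (nat_lit 31671) (slpB TH WH Wh.length)) 8 (85 * 2 ^ 8) = true := by decide +kernel

theorem slpH_86 : allPow (below (nat_lit 31671) (slpB TH WH Wh.length)) 8 (86 * 2 ^ 8) = true := by decide +kernel

theorem slpH_87 : allPow (below (nat_lit 31671) (slpB TH WH Wh.length)) 8 (87 * 2 ^ 8) = true := by decide +kernel

theorem slpH_88 : allPow (below (nat_lit 31671) (slpB TH WH Wh.length)) 8 (88 * 2 ^ 8) = true := by decide +kernel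

theorem slpH_89 : allPow (below (nat_lit 31671) (slpB TH WH Wh.length)) 8 (89 * 2 ^ 8) = true := by decide +kernel

theorem slpH_90 : allPow (below (nat_lit 31671) (slpB TH WH Wh.length)) 8 (90 * 2 ^ 8) = true := by decide +kernel

theorem slpH_91 : allPow (below (nat_lit 31671) (slpB TH WH Wh.length)) 8 (91 * 2 ^ 8) = true := by decide +kernel

theorem slpH_92 : allPow (below (nat_lit 31671) (slpB TH WH Wh.length)) 8 (92 * 2 ^ 8) = true := by decide +kernel

theorem slpH_93 : allPow (below (nat_lit 31671) (slpB TH WH Wh.length)) 8 (93 * 2 ^ 8) = true := by decide +kernel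

theorem slpH_94 : allPow (below (nat_lit 31671) (slpB TH WH Wh.length)) 8 (94 * 2 ^ 8) = true := by decide +kernel

theorem slpH_95 : allPow (below (nat_lit 31671) (slpB TH WH Wh.length)) 8 (95 * 2 ^ 8) = true := by decide +kernel

theorem slpH_96 : allPow (below (nat_lit 31671) (slpB TH WH Wh.length)) 8 (96 * 2 ^ 8) = true := by decide +kernel

theorem slpH_97 : allPow (below (nat_lit 31671) (slpB TH WH Wh.length)) 8 (97 * 2 ^ 8) = true := by decide +kernel

theorem slpH_98 : allPow (below (nat_lit 31671) (slpB TH WH Wh.length)) 8 (98 * 2 ^ 8) = true := by decide +kernel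

end Cfsg.Agent.H9.OutFi24
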