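import Cfsg.Agent.H9.OutFi24D

/-! The outer automorphism group of Fi24'. Checks. -/

set_option autoImplicit false
set_option maxRecDepth 100000

namespace Cfsg.Agent.H9.OutFi24

theorem slpH_99 : allPow (below (nat_lit 31671) (slpB TH WH Wh.length)) 8 (99 * 2 ^ 8) = true := by decide +kernel

theorem slpH_100 : allPow (below (nat_lit 31671) (slpB TH WH Wh.length)) 8 (100 * 2 ^ 8) = true := by decide +kernel

theorem slpH_101 : allPow (below (nat_lit 31671) (slpB TH WH Wh.length)) 8 (101 * 2 ^ 8) = true := by decide +kernel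

theorem slpH_102 : allPow (below (nat_lit 31671) (slpB TH WH Wh.length)) 8 (102 * 2 ^ 8) = true := by decide +kernel

theorem slpH_103 : allPow (below (nat_lit 31671) (slpB TH WH Wh.length)) 8 (103 * 2 ^ 8) = true := by decide +kernel

theorem slpH_104 : allPow (below (nat_lit 31671) (slpB TH WH Wh.length)) 8 (104 * 2 ^ 8) = true := by decide +kernel

theorem slpH_105 : allPow (below (nat_lit 31671) (slpB TH WH Wh.length)) 8 (105 * 2 ^ 8) = true := by decide +kernel

theorem slpH_106 : allPow (below (nat_lit 31671) (slpB TH WH Wh.length)) 8 (106 * 2 ^ 8) = true := by decide +kernel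

theorem slpH_107 : allPow (below (nat_lit 31671) (slpB TH WH Wh.length)) 8 (107 * 2 ^ 8) = true := by decide +kernel

theorem slpH_108 : allPow (below (nat_lit 31671) (slpB TH WH Wh.length)) 8 (108 * 2 ^ 8) = true := by decide +kernel

theorem slpH_109 : allPow (below (nat_lit 31671) (slpB TH WH Wh.length)) 8 (109 * 2 ^ 8) = true := by decide +kernel

theorem slpH_110 : allPow (below (nat_lit 31671) (slpB TH WH Wh.length)) 8 (110 * 2 ^ 8) = true := by decide +kernel

theorem slpH_111 : allPow (below (nat_lit 31671) (slpB TH WH Wh.length)) 8 (111 * 2 ^ 8) = true := by decide +kernel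

theorem slpH_112 : allPow (below (nat_lit 31671) (slpB TH WH Wh.length)) 8 (112 * 2 ^ 8) = true := by decide +kernel

theorem slpH_113 : allPow (below (nat_lit 31671) (slpB TH WH Wh.length)) 8 (113 * 2 ^ 8) = true := by decide +kernel

theorem slpH_114 : allPow (below (nat_lit 31671) (slpB TH WH Wh.length)) 8 (114 * 2 ^ 8) = true := by decide +kernel

theorem slpH_115 : allPow (below (nat_lit 31671) (slpB TH WH Wh.length)) 8 (115 * 2 ^ 8) = true := by decide +kernel

theorem slpH_116 : allPow (below (nat_lit 31671) (slpB TH WH Wh.length)) 8 (116 * 2 ^ 8) = true := by decide +kernel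

theorem slpH_117 : allPow (below (nat_lit 31671) (slpB TH WH Wh.length)) 8 (117 * 2 ^ 8) = true := by decide +kernel

theorem slpH_118 : allPow (below (nat_lit 31671) (slpB TH WH Wh.length)) 8 (118 * 2 ^ 8) = true := by decide +kernel

theorem slpH_119 : allPow (below (nat_lit 31671) (slpB TH WH Wh.length)) 8 (119 * 2 ^ 8) = true := by decide +kernel

theorem slpH_120 : allPow (below (nat_lit 31671) (slpB TH WH Wh.length)) 8 (120 * 2 ^ 8) = true := by decide +kernel

theorem slpH_121 : allPow (below (nat_lit 31671) (slpB TH WH Wh.length)) 8 (121 * 2 ^ 8) = true := by decide +kernel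

theorem slpH_122 : allPow (below (nat_lit 31671) (slpB TH WH Wh.length)) 8 (122 * 2 ^ 8) = true := by decide +kernel

theorem slpH_123 : allPow (below (nat_lit 31671) (slpB TH WH Wh.length)) 8 (123 * 2 ^ 8) = true := by decide +kernel

theorem ptLa_0 : allPow (below (nat_lit 31671) (La0.toLv.ptB TH (nat_lit 31671))) 13 (0 * 2 ^ 13) = true := by decide +kernel

theorem ptLa_1 : allPow (below (nat_lit 31671) (La0.toLv.ptB TH (nat_lit 31671))) 13 (1 * 2 ^ 13) = true := by decide +kernel

theorem ptLa_2 : allPow (below (nat_lit 31671) (La0.toLv.ptB TH (nat_lit 31671))) 13 (2 * 2 ^ 13) = true := by decide +kernel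

theorem ptLa_3 : allPow (below (nat_lit 31671) (La0.toLv.ptB TH (nat_lit 31671))) 13 (3 * 2 ^ 13) = true := by decide +kernel

theorem chLa1 : chainB TH 31671 60 (Las.map SLv.toLv) [La0.β] = true := by decide +kernel

theorem scLa_0 : allPow (below (nat_lit 31671) (scanB TH iv (tr TH [nat_lit 0]) La0 Las [])) 13 (0 * 2 ^ 13) = true := by decide +kernel

theorem scLa_1 : allPow (below (nat_lit 31671) (scanB TH iv (tr TH [nat_lit 0]) La0 Las [])) 13 (1 * 2 ^ 13) = true := by decide +kernel

theorem scLa_2 : allPow (below (nat_lit 31671) (scanB TH iv (tr TH [nat_lit 0]) La0 Las [])) 13 (2 * 2 ^ 13) = true := by decide +kernel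

theorem scLa_3 : allPow (below (nat_lit 31671) (scanB TH iv (tr TH [nat_lit 0]) La0 Las [])) 13 (3 * 2 ^ 13) = true := by decide +kernel

theorem ptLb_0 : allPow (below (nat_lit 31671) (Lb0.toLv.ptB TH (nat_lit 31671))) 13 (0 * 2 ^ 13) = true := by decide +kernel

theorem ptLb_1 : allPow (below (nat_lit 31671) (Lb0.toLv.ptB TH (nat_lit 31671))) 13 (1 * 2 ^ 13) = true := by decide +kernel

theorem ptLb_2 : allPow (below (nat_lit 31671) (Lb0.toLv.ptB TH (nat_lit 31671))) 13 (2 * 2 ^ 13) = true := by decide +kernel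

theorem ptLb_3 : allPow (below (nat_lit 31671) (Lb0.toLv.ptB TH (nat_lit 31671))) 13 (3 * 2 ^ 13) = true := by decide +kernel

theorem chLb1 : chainB TH 31671 60 (Lbs.map SLv.toLv) [Lb0.β] = true := by decide +kernel

theorem scLb_0 : allPow (below (nat_lit 31671) (scanB TH iv (tr TH (List.replicate D.i (nat_lit 2))) Lb0 Lbs [])) 13 (0 * 2 ^ 13) = true := by decide +kernel

theorem scLb_1 : allPow (below (nat_lit 31671) (scanB TH iv (tr TH (List.replicate D.i (nat_lit 2))) Lb0 Lbs [])) 13 (1 * 2 ^ 13) = true := by decide +kernel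

theorem scLb_2 : allPow (below (nat_lit 31671) (scanB TH iv (tr TH (List.replicate D.i (nat_lit 2))) Lb0 Lbs [])) 13 (2 * 2 ^ 13) = true := by decide +kernel

theorem scLb_3 : allPow (below (nat_lit 31671) (scanB TH iv (tr TH (List.replicate D.i (nat_lit 2))) Lb0 Lbs [])) 13 (3 * 2 ^ 13) = true := by decide +kernel

end Cfsg.Agent.H9.OutFi24
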