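import Cfsg.Agent.H9.OutFi24D

/-! The outer automorphism group of Fi24'. Checks. -/

set_option autoImplicit false
set_option maxRecDepth 100000

namespace Cfsg.Agent.H9.OutFi24

theorem bigS : RA.bigB TT 306936 154 (nat_lit 254) B D Wh (nat_lit 0) (nat_lit 2) (linkWs (Lb0 :: Lbs)) ys lk dead gl = true := by decide +kernel

end Cfsg.Agent.H9.OutFi24
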