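import Cfsg.Agent.H9.OutFi24D

/-! The outer automorphism group of Fi24'. Checks. -/

set_option autoImplicit false
set_option maxRecDepth 100000

namespace Cfsg.Agent.H9.OutFi24

theorem fb_29 : allPow (below (nat_lit 306936) (fixB (tr TT (List.replicate D.i D.ib)) (nat_lit 254 :: (lk.map Prod.fst ++ dead.map Prod.fst)))) 12 (29 * 2 ^ 12) = true := by decide +kernel

theorem fb_30 : allPow (below (nat_lit 306936) (fixB (tr TT (List.replicate D.i D.ib)) (nat_lit 254 :: (lk.map Prod.fst ++ dead.map Prod.fst)))) 12 (30 * 2 ^ 12) = true := by decide +kernel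

theorem fb_31 : allPow (below (nat_lit 306936) (fixB (tr TT (List.replicate D.i D.ib)) (nat_lit 254 :: (lk.map Prod.fst ++ dead.map Prod.fst)))) 12 (31 * 2 ^ 12) = true := by decide +kernel

theorem fb_32 : allPow (below (nat_lit 306936) (fixB (tr TT (List.replicate D.i D.ib)) (nat_lit 254 :: (lk.map Prod.fst ++ dead.map Prod.fst)))) 12 (32 * 2 ^ 12) = true := by decide +kernel

theorem fb_33 : allPow (below (nat_lit 306936) (fixB (tr TT (List.replicate D.i D.ib)) (nat_lit 254 :: (lk.map Prod.fst ++ dead.map Prod.fst)))) 12 (33 * 2 ^ 12) = true := by decide +kernel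

theorem fb_34 : allPow (below (nat_lit 306936) (fixB (tr TT (List.replicate D.i D.ib)) (nat_lit 254 :: (lk.map Prod.fst ++ dead.map Prod.fst)))) 12 (34 * 2 ^ 12) = true := by decide +kernel

theorem fb_35 : allPow (below (nat_lit 306936) (fixB (tr TT (List.replicate D.i D.ib)) (nat_lit 254 :: (lk.map Prod.fst ++ dead.map Prod.fst)))) 12 (35 * 2 ^ 12) = true := by decide +kernel

theorem fb_36 : allPow (below (nat_lit 306936) (fixB (tr TT (List.replicate D.i D.ib)) (nat_lit 254 :: (lk.map Prod.fst ++ dead.map Prod.fst)))) 12 (36 * 2 ^ 12) = true := by decide +kernel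

theorem fb_37 : allPow (below (nat_lit 306936) (fixB (tr TT (List.replicate D.i D.ib)) (nat_lit 254 :: (lk.map Prod.fst ++ dead.map Prod.fst)))) 12 (37 * 2 ^ 12) = true := by decide +kernel

theorem fb_38 : allPow (below (nat_lit 306936) (fixB (tr TT (List.replicate D.i D.ib)) (nat_lit 254 :: (lk.map Prod.fst ++ dead.map Prod.fst)))) 12 (38 * 2 ^ 12) = true := by decide +kernel

theorem fb_39 : allPow (below (nat_lit 306936) (fixB (tr TT (List.replicate D.i D.ib)) (nat_lit 254 :: (lk.map Prod.fst ++ dead.map Prod.fst)))) 12 (39 * 2 ^ 12) = true := by decide +kernel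

theorem fb_40 : allPow (below (nat_lit 306936) (fixB (tr TT (List.replicate D.i D.ib)) (nat_lit 254 :: (lk.map Prod.fst ++ dead.map Prod.fst)))) 12 (40 * 2 ^ 12) = true := by decide +kernel

theorem fb_41 : allPow (below (nat_lit 306936) (fixB (tr TT (List.replicate D.i D.ib)) (nat_lit 254 :: (lk.map Prod.fst ++ dead.map Prod.fst)))) 12 (41 * 2 ^ 12) = true := by decide +kernel

theorem fb_42 : allPow (below (nat_lit 306936) (fixB (tr TT (List.replicate D.i D.ib)) (nat_lit 254 :: (lk.map Prod.fst ++ dead.map Prod.fst)))) 12 (42 * 2 ^ 12) = true := by decide +kernel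

theorem fb_43 : allPow (below (nat_lit 306936) (fixB (tr TT (List.replicate D.i D.ib)) (nat_lit 254 :: (lk.map Prod.fst ++ dead.map Prod.fst)))) 12 (43 * 2 ^ 12) = true := by decide +kernel

theorem fb_44 : allPow (below (nat_lit 306936) (fixB (tr TT (List.replicate D.i D.ib)) (nat_lit 254 :: (lk.map Prod.fst ++ dead.map Prod.fst)))) 12 (44 * 2 ^ 12) = true := by decide +kernel

theorem fb_45 : allPow (below (nat_lit 306936) (fixB (tr TT (List.replicate D.i D.ib)) (nat_lit 254 :: (lk.map Prod.fst ++ dead.map Prod.fst)))) 12 (45 * 2 ^ 12) = true := by decide +kernel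

theorem fb_46 : allPow (below (nat_lit 306936) (fixB (tr TT (List.replicate D.i D.ib)) (nat_lit 254 :: (lk.map Prod.fst ++ dead.map Prod.fst)))) 12 (46 * 2 ^ 12) = true := by decide +kernel

theorem fb_47 : allPow (below (nat_lit 306936) (fixB (tr TT (List.replicate D.i D.ib)) (nat_lit 254 :: (lk.map Prod.fst ++ dead.map Prod.fst)))) 12 (47 * 2 ^ 12) = true := by decide +kernel

theorem fb_48 : allPow (below (nat_lit 306936) (fixB (tr TT (List.replicate D.i D.ib)) (nat_lit 254 :: (lk.map Prod.fst ++ dead.map Prod.fst)))) 12 (48 * 2 ^ 12) = true := by decide +kernel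

theorem fb_49 : allPow (below (nat_lit 306936) (fixB (tr TT (List.replicate D.i D.ib)) (nat_lit 254 :: (lk.map Prod.fst ++ dead.map Prod.fst)))) 12 (49 * 2 ^ 12) = true := by decide +kernel

theorem fb_50 : allPow (below (nat_lit 306936) (fixB (tr TT (List.replicate D.i D.ib)) (nat_lit 254 :: (lk.map Prod.fst ++ dead.map Prod.fst)))) 12 (50 * 2 ^ 12) = true := by decide +kernel

theorem fb_51 : allPow (below (nat_lit 306936) (fixB (tr TT (List.replicate D.i D.ib)) (nat_lit 254 :: (lk.map Prod.fst ++ dead.map Prod.fst)))) 12 (51 * 2 ^ 12) = true := by decide +kernel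

theorem fb_52 : allPow (below (nat_lit 306936) (fixB (tr TT (List.replicate D.i D.ib)) (nat_lit 254 :: (lk.map Prod.fst ++ dead.map Prod.fst)))) 12 (52 * 2 ^ 12) = true := by decide +kernel

theorem fb_53 : allPow (below (nat_lit 306936) (fixB (tr TT (List.replicate D.i D.ib)) (nat_lit 254 :: (lk.map Prod.fst ++ dead.map Prod.fst)))) 12 (53 * 2 ^ 12) = true := by decide +kernel

theorem fb_54 : allPow (below (nat_lit 306936) (fixB (tr TT (List.replicate D.i D.ib)) (nat_lit 254 :: (lk.map Prod.fst ++ dead.map Prod.fst)))) 12 (54 * 2 ^ 12) = true := by decide +kernel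

theorem fb_55 : allPow (below (nat_lit 306936) (fixB (tr TT (List.replicate D.i D.ib)) (nat_lit 254 :: (lk.map Prod.fst ++ dead.map Prod.fst)))) 12 (55 * 2 ^ 12) = true := by decide +kernel

theorem fb_56 : allPow (below (nat_lit 306936) (fixB (tr TT (List.replicate D.i D.ib)) (nat_lit 254 :: (lk.map Prod.fst ++ dead.map Prod.fst)))) 12 (56 * 2 ^ 12) = true := by decide +kernel

theorem fb_57 : allPow (below (nat_lit 306936) (fixB (tr TT (List.replicate D.i D.ib)) (nat_lit 254 :: (lk.map Prod.fst ++ dead.map Prod.fst)))) 12 (57 * 2 ^ 12) = true := by decide +kernel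

theorem fb_58 : allPow (below (nat_lit 306936) (fixB (tr TT (List.replicate D.i D.ib)) (nat_lit 254 :: (lk.map Prod.fst ++ dead.map Prod.fst)))) 12 (58 * 2 ^ 12) = true := by decide +kernel

theorem fb_59 : allPow (below (nat_lit 306936) (fixB (tr TT (List.replicate D.i D.ib)) (nat_lit 254 :: (lk.map Prod.fst ++ dead.map Prod.fst)))) 12 (59 * 2 ^ 12) = true := by decide +kernel

theorem fb_60 : allPow (below (nat_lit 306936) (fixB (tr TT (List.replicate D.i D.ib)) (nat_lit 254 :: (lk.map Prod.fst ++ dead.map Prod.fst)))) 12 (60 * 2 ^ 12) = true := by decide +kernel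

theorem fb_61 : allPow (below (nat_lit 306936) (fixB (tr TT (List.replicate D.i D.ib)) (nat_lit 254 :: (lk.map Prod.fst ++ dead.map Prod.fst)))) 12 (61 * 2 ^ 12) = true := by decide +kernel

theorem fb_62 : allPow (below (nat_lit 306936) (fixB (tr TT (List.replicate D.i D.ib)) (nat_lit 254 :: (lk.map Prod.fst ++ dead.map Prod.fst)))) 12 (62 * 2 ^ 12) = true := by decide +kernel

theorem fb_63 : allPow (below (nat_lit 306936) (fixB (tr TT (List.replicate D.i D.ib)) (nat_lit 254 :: (lk.map Prod.fst ++ dead.map Prod.fst)))) 12 (63 * 2 ^ 12) = true := by decide +kernel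

theorem fb_64 : allPow (below (nat_lit 306936) (fixB (tr TT (List.replicate D.i D.ib)) (nat_lit 254 :: (lk.map Prod.fst ++ dead.map Prod.fst)))) 12 (64 * 2 ^ 12) = true := by decide +kernel

theorem fb_65 : allPow (below (nat_lit 306936) (fixB (tr TT (List.replicate D.i D.ib)) (nat_lit 254 :: (lk.map Prod.fst ++ dead.map Prod.fst)))) 12 (65 * 2 ^ 12) = true := by decide +kernel

theorem fb_66 : allPow (below (nat_lit 306936) (fixB (tr TT (List.replicate D.i D.ib)) (nat_lit 254 :: (lk.map Prod.fst ++ dead.map Prod.fst)))) 12 (66 * 2 ^ 12) = true := by decide +kernel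

theorem fb_67 : allPow (below (nat_lit 306936) (fixB (tr TT (List.replicate D.i D.ib)) (nat_lit 254 :: (lk.map Prod.fst ++ dead.map Prod.fst)))) 12 (67 * 2 ^ 12) = true := by decide +kernel

theorem fb_68 : allPow (below (nat_lit 306936) (fixB (tr TT (List.replicate D.i D.ib)) (nat_lit 254 :: (lk.map Prod.fst ++ dead.map Prod.fst)))) 12 (68 * 2 ^ 12) = true := by decide +kernel

theorem fb_69 : allPow (below (nat_lit 306936) (fixB (tr TT (List.replicate D.i D.ib)) (nat_lit 254 :: (lk.map Prod.fst ++ dead.map Prod.fst)))) 12 (69 * 2 ^ 12) = true := by decide +kernel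

theorem fb_70 : allPow (below (nat_lit 306936) (fixB (tr TT (List.replicate D.i D.ib)) (nat_lit 254 :: (lk.map Prod.fst ++ dead.map Prod.fst)))) 12 (70 * 2 ^ 12) = true := by decide +kernel

theorem fb_71 : allPow (below (nat_lit 306936) (fixB (tr TT (List.replicate D.i D.ib)) (nat_lit 254 :: (lk.map Prod.fst ++ dead.map Prod.fst)))) 12 (71 * 2 ^ 12) = true := by decide +kernel

theorem fb_72 : allPow (below (nat_lit 306936) (fixB (tr TT (List.replicate D.i D.ib)) (nat_lit 254 :: (lk.map Prod.fst ++ dead.map Prod.fst)))) 12 (72 * 2 ^ 12) = true := by decide +kernel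

end Cfsg.Agent.H9.OutFi24
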