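import Cfsg.Agent.H9.OutFi24D

/-! The outer automorphism group of Fi24'. Checks. -/

set_option autoImplicit false
set_option maxRecDepth 100000

namespace Cfsg.Agent.H9.OutFi24

theorem fb_73 : allPow (below (nat_lit 306936) (fixB (tr TT (List.replicate D.i D.ib)) (nat_lit 254 :: (lk.map Prod.fst ++ dead.map Prod.fst)))) 12 (73 * 2 ^ 12) = true := by decide +kernel

theorem fb_74 : allPow (below (nat_lit 306936) (fixB (tr TT (List.replicate D.i D.ib)) (nat_lit 254 :: (lk.map Prod.fst ++ dead.map Prod.fst)))) 12 (74 * 2 ^ 12) = true := by decide +kernel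

theorem sub_0 : allPow (below (nat_lit 31671) (subB TT U TH Wh (nat_lit 306936) (nat_lit 31671))) 7 (0 * 2 ^ 7) = true := by decide +kernel

theorem sub_1 : allPow (below (nat_lit 31671) (subB TT U TH Wh (nat_lit 306936) (nat_lit 31671))) 7 (1 * 2 ^ 7) = true := by decide +kernel

theorem sub_2 : allPow (below (nat_lit 31671) (subB TT U TH Wh (nat_lit 306936) (nat_lit 31671))) 7 (2 * 2 ^ 7) = true := by decide +kernel

theorem sub_3 : allPow (below (nat_lit 31671) (subB TT U TH Wh (nat_lit 306936) (nat_lit 31671))) 7 (3 * 2 ^ 7) = true := by decide +kernel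

theorem sub_4 : allPow (below (nat_lit 31671) (subB TT U TH Wh (nat_lit 306936) (nat_lit 31671))) 7 (4 * 2 ^ 7) = true := by decide +kernel

theorem sub_5 : allPow (below (nat_lit 31671) (subB TT U TH Wh (nat_lit 306936) (nat_lit 31671))) 7 (5 * 2 ^ 7) = true := by decide +kernel

theorem sub_6 : allPow (below (nat_lit 31671) (subB TT U TH Wh (nat_lit 306936) (nat_lit 31671))) 7 (6 * 2 ^ 7) = true := by decide +kernel

theorem sub_7 : allPow (below (nat_lit 31671) (subB TT U TH Wh (nat_lit 306936) (nat_lit 31671))) 7 (7 * 2 ^ 7) = true := by decide +kernel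

theorem sub_8 : allPow (below (nat_lit 31671) (subB TT U TH Wh (nat_lit 306936) (nat_lit 31671))) 7 (8 * 2 ^ 7) = true := by decide +kernel

theorem sub_9 : allPow (below (nat_lit 31671) (subB TT U TH Wh (nat_lit 306936) (nat_lit 31671))) 7 (9 * 2 ^ 7) = true := by decide +kernel

theorem sub_10 : allPow (below (nat_lit 31671) (subB TT U TH Wh (nat_lit 306936) (nat_lit 31671))) 7 (10 * 2 ^ 7) = true := by decide +kernel

theorem sub_11 : allPow (below (nat_lit 31671) (subB TT U TH Wh (nat_lit 306936) (nat_lit 31671))) 7 (11 * 2 ^ 7) = true := by decide +kernel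

theorem sub_12 : allPow (below (nat_lit 31671) (subB TT U TH Wh (nat_lit 306936) (nat_lit 31671))) 7 (12 * 2 ^ 7) = true := by decide +kernel

theorem sub_13 : allPow (below (nat_lit 31671) (subB TT U TH Wh (nat_lit 306936) (nat_lit 31671))) 7 (13 * 2 ^ 7) = true := by decide +kernel

theorem sub_14 : allPow (below (nat_lit 31671) (subB TT U TH Wh (nat_lit 306936) (nat_lit 31671))) 7 (14 * 2 ^ 7) = true := by decide +kernel

theorem sub_15 : allPow (below (nat_lit 31671) (subB TT U TH Wh (nat_lit 306936) (nat_lit 31671))) 7 (15 * 2 ^ 7) = true := by decide +kernel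

theorem sub_16 : allPow (below (nat_lit 31671) (subB TT U TH Wh (nat_lit 306936) (nat_lit 31671))) 7 (16 * 2 ^ 7) = true := by decide +kernel

theorem sub_17 : allPow (below (nat_lit 31671) (subB TT U TH Wh (nat_lit 306936) (nat_lit 31671))) 7 (17 * 2 ^ 7) = true := by decide +kernel

theorem sub_18 : allPow (below (nat_lit 31671) (subB TT U TH Wh (nat_lit 306936) (nat_lit 31671))) 7 (18 * 2 ^ 7) = true := by decide +kernel

theorem sub_19 : allPow (below (nat_lit 31671) (subB TT U TH Wh (nat_lit 306936) (nat_lit 31671))) 7 (19 * 2 ^ 7) = true := by decide +kernel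

theorem sub_20 : allPow (below (nat_lit 31671) (subB TT U TH Wh (nat_lit 306936) (nat_lit 31671))) 7 (20 * 2 ^ 7) = true := by decide +kernel

theorem sub_21 : allPow (below (nat_lit 31671) (subB TT U TH Wh (nat_lit 306936) (nat_lit 31671))) 7 (21 * 2 ^ 7) = true := by decide +kernel

theorem sub_22 : allPow (below (nat_lit 31671) (subB TT U TH Wh (nat_lit 306936) (nat_lit 31671))) 7 (22 * 2 ^ 7) = true := by decide +kernel

theorem sub_23 : allPow (below (nat_lit 31671) (subB TT U TH Wh (nat_lit 306936) (nat_lit 31671))) 7 (23 * 2 ^ 7) = true := by decide +kernel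

theorem sub_24 : allPow (below (nat_lit 31671) (subB TT U TH Wh (nat_lit 306936) (nat_lit 31671))) 7 (24 * 2 ^ 7) = true := by decide +kernel

theorem sub_25 : allPow (below (nat_lit 31671) (subB TT U TH Wh (nat_lit 306936) (nat_lit 31671))) 7 (25 * 2 ^ 7) = true := by decide +kernel

theorem sub_26 : allPow (below (nat_lit 31671) (subB TT U TH Wh (nat_lit 306936) (nat_lit 31671))) 7 (26 * 2 ^ 7) = true := by decide +kernel

theorem sub_27 : allPow (below (nat_lit 31671) (subB TT U TH Wh (nat_lit 306936) (nat_lit 31671))) 7 (27 * 2 ^ 7) = true := by decide +kernel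

theorem sub_28 : allPow (below (nat_lit 31671) (subB TT U TH Wh (nat_lit 306936) (nat_lit 31671))) 7 (28 * 2 ^ 7) = true := by decide +kernel

theorem sub_29 : allPow (below (nat_lit 31671) (subB TT U TH Wh (nat_lit 306936) (nat_lit 31671))) 7 (29 * 2 ^ 7) = true := by decide +kernel

theorem sub_30 : allPow (below (nat_lit 31671) (subB TT U TH Wh (nat_lit 306936) (nat_lit 31671))) 7 (30 * 2 ^ 7) = true := by decide +kernel

theorem sub_31 : allPow (below (nat_lit 31671) (subB TT U TH Wh (nat_lit 306936) (nat_lit 31671))) 7 (31 * 2 ^ 7) = true := by decide +kernel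

theorem sub_32 : allPow (below (nat_lit 31671) (subB TT U TH Wh (nat_lit 306936) (nat_lit 31671))) 7 (32 * 2 ^ 7) = true := by decide +kernel

theorem sub_33 : allPow (below (nat_lit 31671) (subB TT U TH Wh (nat_lit 306936) (nat_lit 31671))) 7 (33 * 2 ^ 7) = true := by decide +kernel

theorem sub_34 : allPow (below (nat_lit 31671) (subB TT U TH Wh (nat_lit 306936) (nat_lit 31671))) 7 (34 * 2 ^ 7) = true := by decide +kernel

theorem sub_35 : allPow (below (nat_lit 31671) (subB TT U TH Wh (nat_lit 306936) (nat_lit 31671))) 7 (35 * 2 ^ 7) = true := by decide +kernel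

theorem sub_36 : allPow (below (nat_lit 31671) (subB TT U TH Wh (nat_lit 306936) (nat_lit 31671))) 7 (36 * 2 ^ 7) = true := by decide +kernel

theorem sub_37 : allPow (below (nat_lit 31671) (subB TT U TH Wh (nat_lit 306936) (nat_lit 31671))) 7 (37 * 2 ^ 7) = true := by decide +kernel

theorem sub_38 : allPow (below (nat_lit 31671) (subB TT U TH Wh (nat_lit 306936) (nat_lit 31671))) 7 (38 * 2 ^ 7) = true := by decide +kernel

theorem sub_39 : allPow (below (nat_lit 31671) (subB TT U TH Wh (nat_lit 306936) (nat_lit 31671))) 7 (39 * 2 ^ 7) = true := by decide +kernel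

end Cfsg.Agent.H9.OutFi24
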