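import Cfsg.Agent.H9.OutFi24D

/-! The outer automorphism group of Fi24'. Checks. -/

set_option autoImplicit false
set_option maxRecDepth 100000

namespace Cfsg.Agent.H9.OutFi24

theorem sub_40 : allPow (below (nat_lit 31671) (subB TT U TH Wh (nat_lit 306936) (nat_lit 31671))) 7 (40 * 2 ^ 7) = true := by decide +kernel

theorem sub_41 : allPow (below (nat_lit 31671) (subB TT U TH Wh (nat_lit 306936) (nat_lit 31671))) 7 (41 * 2 ^ 7) = true := by decide +kernel

theorem sub_42 : allPow (below (nat_lit 31671) (subB TT U TH Wh (nat_lit 306936) (nat_lit 31671))) 7 (42 * 2 ^ 7) = true := by decide +kernel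

theorem sub_43 : allPow (below (nat_lit 31671) (subB TT U TH Wh (nat_lit 306936) (nat_lit 31671))) 7 (43 * 2 ^ 7) = true := by decide +kernel

theorem sub_44 : allPow (below (nat_lit 31671) (subB TT U TH Wh (nat_lit 306936) (nat_lit 31671))) 7 (44 * 2 ^ 7) = true := by decide +kernel

theorem sub_45 : allPow (below (nat_lit 31671) (subB TT U TH Wh (nat_lit 306936) (nat_lit 31671))) 7 (45 * 2 ^ 7) = true := by decide +kernel

theorem sub_46 : allPow (below (nat_lit 31671) (subB TT U TH Wh (nat_lit 306936) (nat_lit 31671))) 7 (46 * 2 ^ 7) = true := by decide +kernel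

theorem sub_47 : allPow (below (nat_lit 31671) (subB TT U TH Wh (nat_lit 306936) (nat_lit 31671))) 7 (47 * 2 ^ 7) = true := by decide +kernel

theorem sub_48 : allPow (below (nat_lit 31671) (subB TT U TH Wh (nat_lit 306936) (nat_lit 31671))) 7 (48 * 2 ^ 7) = true := by decide +kernel

theorem sub_49 : allPow (below (nat_lit 31671) (subB TT U TH Wh (nat_lit 306936) (nat_lit 31671))) 7 (49 * 2 ^ 7) = true := by decide +kernel

theorem sub_50 : allPow (below (nat_lit 31671) (subB TT U TH Wh (nat_lit 306936) (nat_lit 31671))) 7 (50 * 2 ^ 7) = true := by decide +kernel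

theorem sub_51 : allPow (below (nat_lit 31671) (subB TT U TH Wh (nat_lit 306936) (nat_lit 31671))) 7 (51 * 2 ^ 7) = true := by decide +kernel

theorem sub_52 : allPow (below (nat_lit 31671) (subB TT U TH Wh (nat_lit 306936) (nat_lit 31671))) 7 (52 * 2 ^ 7) = true := by decide +kernel

theorem sub_53 : allPow (below (nat_lit 31671) (subB TT U TH Wh (nat_lit 306936) (nat_lit 31671))) 7 (53 * 2 ^ 7) = true := by decide +kernel

theorem sub_54 : allPow (below (nat_lit 31671) (subB TT U TH Wh (nat_lit 306936) (nat_lit 31671))) 7 (54 * 2 ^ 7) = true := by decide +kernel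

theorem sub_55 : allPow (below (nat_lit 31671) (subB TT U TH Wh (nat_lit 306936) (nat_lit 31671))) 7 (55 * 2 ^ 7) = true := by decide +kernel

theorem sub_56 : allPow (below (nat_lit 31671) (subB TT U TH Wh (nat_lit 306936) (nat_lit 31671))) 7 (56 * 2 ^ 7) = true := by decide +kernel

theorem sub_57 : allPow (below (nat_lit 31671) (subB TT U TH Wh (nat_lit 306936) (nat_lit 31671))) 7 (57 * 2 ^ 7) = true := by decide +kernel

theorem sub_58 : allPow (below (nat_lit 31671) (subB TT U TH Wh (nat_lit 306936) (nat_lit 31671))) 7 (58 * 2 ^ 7) = true := by decide +kernel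

theorem sub_59 : allPow (below (nat_lit 31671) (subB TT U TH Wh (nat_lit 306936) (nat_lit 31671))) 7 (59 * 2 ^ 7) = true := by decide +kernel

theorem sub_60 : allPow (below (nat_lit 31671) (subB TT U TH Wh (nat_lit 306936) (nat_lit 31671))) 7 (60 * 2 ^ 7) = true := by decide +kernel

theorem sub_61 : allPow (below (nat_lit 31671) (subB TT U TH Wh (nat_lit 306936) (nat_lit 31671))) 7 (61 * 2 ^ 7) = true := by decide +kernel

theorem sub_62 : allPow (below (nat_lit 31671) (subB TT U TH Wh (nat_lit 306936) (nat_lit 31671))) 7 (62 * 2 ^ 7) = true := by decide +kernel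

theorem sub_63 : allPow (below (nat_lit 31671) (subB TT U TH Wh (nat_lit 306936) (nat_lit 31671))) 7 (63 * 2 ^ 7) = true := by decide +kernel

theorem sub_64 : allPow (below (nat_lit 31671) (subB TT U TH Wh (nat_lit 306936) (nat_lit 31671))) 7 (64 * 2 ^ 7) = true := by decide +kernel

theorem sub_65 : allPow (below (nat_lit 31671) (subB TT U TH Wh (nat_lit 306936) (nat_lit 31671))) 7 (65 * 2 ^ 7) = true := by decide +kernel

theorem sub_66 : allPow (below (nat_lit 31671) (subB TT U TH Wh (nat_lit 306936) (nat_lit 31671))) 7 (66 * 2 ^ 7) = true := by decide +kernel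

theorem sub_67 : allPow (below (nat_lit 31671) (subB TT U TH Wh (nat_lit 306936) (nat_lit 31671))) 7 (67 * 2 ^ 7) = true := by decide +kernel

theorem sub_68 : allPow (below (nat_lit 31671) (subB TT U TH Wh (nat_lit 306936) (nat_lit 31671))) 7 (68 * 2 ^ 7) = true := by decide +kernel

theorem sub_69 : allPow (below (nat_lit 31671) (subB TT U TH Wh (nat_lit 306936) (nat_lit 31671))) 7 (69 * 2 ^ 7) = true := by decide +kernel

theorem sub_70 : allPow (below (nat_lit 31671) (subB TT U TH Wh (nat_lit 306936) (nat_lit 31671))) 7 (70 * 2 ^ 7) = true := by decide +kernel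

theorem sub_71 : allPow (below (nat_lit 31671) (subB TT U TH Wh (nat_lit 306936) (nat_lit 31671))) 7 (71 * 2 ^ 7) = true := by decide +kernel

theorem sub_72 : allPow (below (nat_lit 31671) (subB TT U TH Wh (nat_lit 306936) (nat_lit 31671))) 7 (72 * 2 ^ 7) = true := by decide +kernel

theorem sub_73 : allPow (below (nat_lit 31671) (subB TT U TH Wh (nat_lit 306936) (nat_lit 31671))) 7 (73 * 2 ^ 7) = true := by decide +kernel

theorem sub_74 : allPow (below (nat_lit 31671) (subB TT U TH Wh (nat_lit 306936) (nat_lit 31671))) 7 (74 * 2 ^ 7) = true := by decide +kernel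

theorem sub_75 : allPow (below (nat_lit 31671) (subB TT U TH Wh (nat_lit 306936) (nat_lit 31671))) 7 (75 * 2 ^ 7) = true := by decide +kernel

theorem sub_76 : allPow (below (nat_lit 31671) (subB TT U TH Wh (nat_lit 306936) (nat_lit 31671))) 7 (76 * 2 ^ 7) = true := by decide +kernel

theorem sub_77 : allPow (below (nat_lit 31671) (subB TT U TH Wh (nat_lit 306936) (nat_lit 31671))) 7 (77 * 2 ^ 7) = true := by decide +kernel

theorem sub_78 : allPow (below (nat_lit 31671) (subB TT U TH Wh (nat_lit 306936) (nat_lit 31671))) 7 (78 * 2 ^ 7) = true := by decide +kernel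

theorem sub_79 : allPow (below (nat_lit 31671) (subB TT U TH Wh (nat_lit 306936) (nat_lit 31671))) 7 (79 * 2 ^ 7) = true := by decide +kernel

theorem sub_80 : allPow (below (nat_lit 31671) (subB TT U TH Wh (nat_lit 306936) (nat_lit 31671))) 7 (80 * 2 ^ 7) = true := by decide +kernel

theorem sub_81 : allPow (below (nat_lit 31671) (subB TT U TH Wh (nat_lit 306936) (nat_lit 31671))) 7 (81 * 2 ^ 7) = true := by decide +kernel

end Cfsg.Agent.H9.OutFi24
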