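import Cfsg.Agent.H9.OutFi24D

/-! The outer automorphism group of Fi24'. Checks. -/

set_option autoImplicit false
set_option maxRecDepth 100000

namespace Cfsg.Agent.H9.OutFi24

theorem sub_82 : allPow (below (nat_lit 31671) (subB TT U TH Wh (nat_lit 306936) (nat_lit 31671))) 7 (82 * 2 ^ 7) = true := by decide +kernel

theorem sub_83 : allPow (below (nat_lit 31671) (subB TT U TH Wh (nat_lit 306936) (nat_lit 31671))) 7 (83 * 2 ^ 7) = true := by decide +kernel

theorem sub_84 : allPow (below (nat_lit 31671) (subB TT U TH Wh (nat_lit 306936) (nat_lit 31671))) 7 (84 * 2 ^ 7) = true := by decide +kernel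

theorem sub_85 : allPow (below (nat_lit 31671) (subB TT U TH Wh (nat_lit 306936) (nat_lit 31671))) 7 (85 * 2 ^ 7) = true := by decide +kernel

theorem sub_86 : allPow (below (nat_lit 31671) (subB TT U TH Wh (nat_lit 306936) (nat_lit 31671))) 7 (86 * 2 ^ 7) = true := by decide +kernel

theorem sub_87 : allPow (below (nat_lit 31671) (subB TT U TH Wh (nat_lit 306936) (nat_lit 31671))) 7 (87 * 2 ^ 7) = true := by decide +kernel

theorem sub_88 : allPow (below (nat_lit 31671) (subB TT U TH Wh (nat_lit 306936) (nat_lit 31671))) 7 (88 * 2 ^ 7) = true := by decide +kernel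

theorem sub_89 : allPow (below (nat_lit 31671) (subB TT U TH Wh (nat_lit 306936) (nat_lit 31671))) 7 (89 * 2 ^ 7) = true := by decide +kernel

theorem sub_90 : allPow (below (nat_lit 31671) (subB TT U TH Wh (nat_lit 306936) (nat_lit 31671))) 7 (90 * 2 ^ 7) = true := by decide +kernel

theorem sub_91 : allPow (below (nat_lit 31671) (subB TT U TH Wh (nat_lit 306936) (nat_lit 31671))) 7 (91 * 2 ^ 7) = true := by decide +kernel

theorem sub_92 : allPow (below (nat_lit 31671) (subB TT U TH Wh (nat_lit 306936) (nat_lit 31671))) 7 (92 * 2 ^ 7) = true := by decide +kernel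

theorem sub_93 : allPow (below (nat_lit 31671) (subB TT U TH Wh (nat_lit 306936) (nat_lit 31671))) 7 (93 * 2 ^ 7) = true := by decide +kernel

theorem sub_94 : allPow (below (nat_lit 31671) (subB TT U TH Wh (nat_lit 306936) (nat_lit 31671))) 7 (94 * 2 ^ 7) = true := by decide +kernel

theorem sub_95 : allPow (below (nat_lit 31671) (subB TT U TH Wh (nat_lit 306936) (nat_lit 31671))) 7 (95 * 2 ^ 7) = true := by decide +kernel

theorem sub_96 : allPow (below (nat_lit 31671) (subB TT U TH Wh (nat_lit 306936) (nat_lit 31671))) 7 (96 * 2 ^ 7) = true := by decide +kernel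

theorem sub_97 : allPow (below (nat_lit 31671) (subB TT U TH Wh (nat_lit 306936) (nat_lit 31671))) 7 (97 * 2 ^ 7) = true := by decide +kernel

theorem sub_98 : allPow (below (nat_lit 31671) (subB TT U TH Wh (nat_lit 306936) (nat_lit 31671))) 7 (98 * 2 ^ 7) = true := by decide +kernel

theorem sub_99 : allPow (below (nat_lit 31671) (subB TT U TH Wh (nat_lit 306936) (nat_lit 31671))) 7 (99 * 2 ^ 7) = true := by decide +kernel

theorem sub_100 : allPow (below (nat_lit 31671) (subB TT U TH Wh (nat_lit 306936) (nat_lit 31671))) 7 (100 * 2 ^ 7) = true := by decide +kernel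

theorem sub_101 : allPow (below (nat_lit 31671) (subB TT U TH Wh (nat_lit 306936) (nat_lit 31671))) 7 (101 * 2 ^ 7) = true := by decide +kernel

theorem sub_102 : allPow (below (nat_lit 31671) (subB TT U TH Wh (nat_lit 306936) (nat_lit 31671))) 7 (102 * 2 ^ 7) = true := by decide +kernel

theorem sub_103 : allPow (below (nat_lit 31671) (subB TT U TH Wh (nat_lit 306936) (nat_lit 31671))) 7 (103 * 2 ^ 7) = true := by decide +kernel

theorem sub_104 : allPow (below (nat_lit 31671) (subB TT U TH Wh (nat_lit 306936) (nat_lit 31671))) 7 (104 * 2 ^ 7) = true := by decide +kernel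

theorem sub_105 : allPow (below (nat_lit 31671) (subB TT U TH Wh (nat_lit 306936) (nat_lit 31671))) 7 (105 * 2 ^ 7) = true := by decide +kernel

theorem sub_106 : allPow (below (nat_lit 31671) (subB TT U TH Wh (nat_lit 306936) (nat_lit 31671))) 7 (106 * 2 ^ 7) = true := by decide +kernel

theorem sub_107 : allPow (below (nat_lit 31671) (subB TT U TH Wh (nat_lit 306936) (nat_lit 31671))) 7 (107 * 2 ^ 7) = true := by decide +kernel

theorem sub_108 : allPow (below (nat_lit 31671) (subB TT U TH Wh (nat_lit 306936) (nat_lit 31671))) 7 (108 * 2 ^ 7) = true := by decide +kernel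

theorem sub_109 : allPow (below (nat_lit 31671) (subB TT U TH Wh (nat_lit 306936) (nat_lit 31671))) 7 (109 * 2 ^ 7) = true := by decide +kernel

theorem sub_110 : allPow (below (nat_lit 31671) (subB TT U TH Wh (nat_lit 306936) (nat_lit 31671))) 7 (110 * 2 ^ 7) = true := by decide +kernel

theorem sub_111 : allPow (below (nat_lit 31671) (subB TT U TH Wh (nat_lit 306936) (nat_lit 31671))) 7 (111 * 2 ^ 7) = true := by decide +kernel

theorem sub_112 : allPow (below (nat_lit 31671) (subB TT U TH Wh (nat_lit 306936) (nat_lit 31671))) 7 (112 * 2 ^ 7) = true := by decide +kernel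

theorem sub_113 : allPow (below (nat_lit 31671) (subB TT U TH Wh (nat_lit 306936) (nat_lit 31671))) 7 (113 * 2 ^ 7) = true := by decide +kernel

theorem sub_114 : allPow (below (nat_lit 31671) (subB TT U TH Wh (nat_lit 306936) (nat_lit 31671))) 7 (114 * 2 ^ 7) = true := by decide +kernel

theorem sub_115 : allPow (below (nat_lit 31671) (subB TT U TH Wh (nat_lit 306936) (nat_lit 31671))) 7 (115 * 2 ^ 7) = true := by decide +kernel

theorem sub_116 : allPow (below (nat_lit 31671) (subB TT U TH Wh (nat_lit 306936) (nat_lit 31671))) 7 (116 * 2 ^ 7) = true := by decide +kernel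

theorem sub_117 : allPow (below (nat_lit 31671) (subB TT U TH Wh (nat_lit 306936) (nat_lit 31671))) 7 (117 * 2 ^ 7) = true := by decide +kernel

theorem sub_118 : allPow (below (nat_lit 31671) (subB TT U TH Wh (nat_lit 306936) (nat_lit 31671))) 7 (118 * 2 ^ 7) = true := by decide +kernel

theorem sub_119 : allPow (below (nat_lit 31671) (subB TT U TH Wh (nat_lit 306936) (nat_lit 31671))) 7 (119 * 2 ^ 7) = true := by decide +kernel

theorem sub_120 : allPow (below (nat_lit 31671) (subB TT U TH Wh (nat_lit 306936) (nat_lit 31671))) 7 (120 * 2 ^ 7) = true := by decide +kernel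

theorem sub_121 : allPow (below (nat_lit 31671) (subB TT U TH Wh (nat_lit 306936) (nat_lit 31671))) 7 (121 * 2 ^ 7) = true := by decide +kernel

theorem sub_122 : allPow (below (nat_lit 31671) (subB TT U TH Wh (nat_lit 306936) (nat_lit 31671))) 7 (122 * 2 ^ 7) = true := by decide +kernel

theorem sub_123 : allPow (below (nat_lit 31671) (subB TT U TH Wh (nat_lit 306936) (nat_lit 31671))) 7 (123 * 2 ^ 7) = true := by decide +kernel

end Cfsg.Agent.H9.OutFi24
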