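import Cfsg.Agent.H9.OutFi24D

/-! The outer automorphism group of Fi24'. Checks. -/

set_option autoImplicit false
set_option maxRecDepth 100000

namespace Cfsg.Agent.H9.OutFi24

theorem sub_124 : allPow (below (nat_lit 31671) (subB TT U TH Wh (nat_lit 306936) (nat_lit 31671))) 7 (124 * 2 ^ 7) = true := by decide +kernel

theorem sub_125 : allPow (below (nat_lit 31671) (subB TT U TH Wh (nat_lit 306936) (nat_lit 31671))) 7 (125 * 2 ^ 7) = true := by decide +kernel

theorem sub_126 : allPow (below (nat_lit 31671) (subB TT U TH Wh (nat_lit 306936) (nat_lit 31671))) 7 (126 * 2 ^ 7) = true := by decide +kernel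

theorem sub_127 : allPow (below (nat_lit 31671) (subB TT U TH Wh (nat_lit 306936) (nat_lit 31671))) 7 (127 * 2 ^ 7) = true := by decide +kernel

theorem sub_128 : allPow (below (nat_lit 31671) (subB TT U TH Wh (nat_lit 306936) (nat_lit 31671))) 7 (128 * 2 ^ 7) = true := by decide +kernel

theorem sub_129 : allPow (below (nat_lit 31671) (subB TT U TH Wh (nat_lit 306936) (nat_lit 31671))) 7 (129 * 2 ^ 7) = true := by decide +kernel

theorem sub_130 : allPow (below (nat_lit 31671) (subB TT U TH Wh (nat_lit 306936) (nat_lit 31671))) 7 (130 * 2 ^ 7) = true := by decide +kernel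

theorem sub_131 : allPow (below (nat_lit 31671) (subB TT U TH Wh (nat_lit 306936) (nat_lit 31671))) 7 (131 * 2 ^ 7) = true := by decide +kernel

theorem sub_132 : allPow (below (nat_lit 31671) (subB TT U TH Wh (nat_lit 306936) (nat_lit 31671))) 7 (132 * 2 ^ 7) = true := by decide +kernel

theorem sub_133 : allPow (below (nat_lit 31671) (subB TT U TH Wh (nat_lit 306936) (nat_lit 31671))) 7 (133 * 2 ^ 7) = true := by decide +kernel

theorem sub_134 : allPow (below (nat_lit 31671) (subB TT U TH Wh (nat_lit 306936) (nat_lit 31671))) 7 (134 * 2 ^ 7) = true := by decide +kernel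

theorem sub_135 : allPow (below (nat_lit 31671) (subB TT U TH Wh (nat_lit 306936) (nat_lit 31671))) 7 (135 * 2 ^ 7) = true := by decide +kernel

theorem sub_136 : allPow (below (nat_lit 31671) (subB TT U TH Wh (nat_lit 306936) (nat_lit 31671))) 7 (136 * 2 ^ 7) = true := by decide +kernel

theorem sub_137 : allPow (below (nat_lit 31671) (subB TT U TH Wh (nat_lit 306936) (nat_lit 31671))) 7 (137 * 2 ^ 7) = true := by decide +kernel

theorem sub_138 : allPow (below (nat_lit 31671) (subB TT U TH Wh (nat_lit 306936) (nat_lit 31671))) 7 (138 * 2 ^ 7) = true := by decide +kernel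

theorem sub_139 : allPow (below (nat_lit 31671) (subB TT U TH Wh (nat_lit 306936) (nat_lit 31671))) 7 (139 * 2 ^ 7) = true := by decide +kernel

theorem sub_140 : allPow (below (nat_lit 31671) (subB TT U TH Wh (nat_lit 306936) (nat_lit 31671))) 7 (140 * 2 ^ 7) = true := by decide +kernel

theorem sub_141 : allPow (below (nat_lit 31671) (subB TT U TH Wh (nat_lit 306936) (nat_lit 31671))) 7 (141 * 2 ^ 7) = true := by decide +kernel

theorem sub_142 : allPow (below (nat_lit 31671) (subB TT U TH Wh (nat_lit 306936) (nat_lit 31671))) 7 (142 * 2 ^ 7) = true := by decide +kernel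

theorem sub_143 : allPow (below (nat_lit 31671) (subB TT U TH Wh (nat_lit 306936) (nat_lit 31671))) 7 (143 * 2 ^ 7) = true := by decide +kernel

theorem sub_144 : allPow (below (nat_lit 31671) (subB TT U TH Wh (nat_lit 306936) (nat_lit 31671))) 7 (144 * 2 ^ 7) = true := by decide +kernel

theorem sub_145 : allPow (below (nat_lit 31671) (subB TT U TH Wh (nat_lit 306936) (nat_lit 31671))) 7 (145 * 2 ^ 7) = true := by decide +kernel

theorem sub_146 : allPow (below (nat_lit 31671) (subB TT U TH Wh (nat_lit 306936) (nat_lit 31671))) 7 (146 * 2 ^ 7) = true := by decide +kernel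

theorem sub_147 : allPow (below (nat_lit 31671) (subB TT U TH Wh (nat_lit 306936) (nat_lit 31671))) 7 (147 * 2 ^ 7) = true := by decide +kernel

theorem sub_148 : allPow (below (nat_lit 31671) (subB TT U TH Wh (nat_lit 306936) (nat_lit 31671))) 7 (148 * 2 ^ 7) = true := by decide +kernel

theorem sub_149 : allPow (below (nat_lit 31671) (subB TT U TH Wh (nat_lit 306936) (nat_lit 31671))) 7 (149 * 2 ^ 7) = true := by decide +kernel

theorem sub_150 : allPow (below (nat_lit 31671) (subB TT U TH Wh (nat_lit 306936) (nat_lit 31671))) 7 (150 * 2 ^ 7) = true := by decide +kernel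

theorem sub_151 : allPow (below (nat_lit 31671) (subB TT U TH Wh (nat_lit 306936) (nat_lit 31671))) 7 (151 * 2 ^ 7) = true := by decide +kernel

theorem sub_152 : allPow (below (nat_lit 31671) (subB TT U TH Wh (nat_lit 306936) (nat_lit 31671))) 7 (152 * 2 ^ 7) = true := by decide +kernel

theorem sub_153 : allPow (below (nat_lit 31671) (subB TT U TH Wh (nat_lit 306936) (nat_lit 31671))) 7 (153 * 2 ^ 7) = true := by decide +kernel

theorem sub_154 : allPow (below (nat_lit 31671) (subB TT U TH Wh (nat_lit 306936) (nat_lit 31671))) 7 (154 * 2 ^ 7) = true := by decide +kernel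

theorem sub_155 : allPow (below (nat_lit 31671) (subB TT U TH Wh (nat_lit 306936) (nat_lit 31671))) 7 (155 * 2 ^ 7) = true := by decide +kernel

theorem sub_156 : allPow (below (nat_lit 31671) (subB TT U TH Wh (nat_lit 306936) (nat_lit 31671))) 7 (156 * 2 ^ 7) = true := by decide +kernel

theorem sub_157 : allPow (below (nat_lit 31671) (subB TT U TH Wh (nat_lit 306936) (nat_lit 31671))) 7 (157 * 2 ^ 7) = true := by decide +kernel

theorem sub_158 : allPow (below (nat_lit 31671) (subB TT U TH Wh (nat_lit 306936) (nat_lit 31671))) 7 (158 * 2 ^ 7) = true := by decide +kernel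

theorem sub_159 : allPow (below (nat_lit 31671) (subB TT U TH Wh (nat_lit 306936) (nat_lit 31671))) 7 (159 * 2 ^ 7) = true := by decide +kernel

theorem sub_160 : allPow (below (nat_lit 31671) (subB TT U TH Wh (nat_lit 306936) (nat_lit 31671))) 7 (160 * 2 ^ 7) = true := by decide +kernel

theorem sub_161 : allPow (below (nat_lit 31671) (subB TT U TH Wh (nat_lit 306936) (nat_lit 31671))) 7 (161 * 2 ^ 7) = true := by decide +kernel

theorem sub_162 : allPow (below (nat_lit 31671) (subB TT U TH Wh (nat_lit 306936) (nat_lit 31671))) 7 (162 * 2 ^ 7) = true := by decide +kernel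

theorem sub_163 : allPow (below (nat_lit 31671) (subB TT U TH Wh (nat_lit 306936) (nat_lit 31671))) 7 (163 * 2 ^ 7) = true := by decide +kernel

theorem sub_164 : allPow (below (nat_lit 31671) (subB TT U TH Wh (nat_lit 306936) (nat_lit 31671))) 7 (164 * 2 ^ 7) = true := by decide +kernel

theorem sub_165 : allPow (below (nat_lit 31671) (subB TT U TH Wh (nat_lit 306936) (nat_lit 31671))) 7 (165 * 2 ^ 7) = true := by decide +kernel

end Cfsg.Agent.H9.OutFi24
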