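import Cfsg.Agent.H9.OutFi24D

/-! The outer automorphism group of Fi24'. Checks. -/

set_option autoImplicit false
set_option maxRecDepth 100000

namespace Cfsg.Agent.H9.OutFi24

theorem sub_166 : allPow (below (nat_lit 31671) (subB TT U TH Wh (nat_lit 306936) (nat_lit 31671))) 7 (166 * 2 ^ 7) = true := by decide +kernel

theorem sub_167 : allPow (below (nat_lit 31671) (subB TT U TH Wh (nat_lit 306936) (nat_lit 31671))) 7 (167 * 2 ^ 7) = true := by decide +kernel

theorem sub_168 : allPow (below (nat_lit 31671) (subB TT U TH Wh (nat_lit 306936) (nat_lit 31671))) 7 (168 * 2 ^ 7) = true := by decide +kernel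

theorem sub_169 : allPow (below (nat_lit 31671) (subB TT U TH Wh (nat_lit 306936) (nat_lit 31671))) 7 (169 * 2 ^ 7) = true := by decide +kernel

theorem sub_170 : allPow (below (nat_lit 31671) (subB TT U TH Wh (nat_lit 306936) (nat_lit 31671))) 7 (170 * 2 ^ 7) = true := by decide +kernel

theorem sub_171 : allPow (below (nat_lit 31671) (subB TT U TH Wh (nat_lit 306936) (nat_lit 31671))) 7 (171 * 2 ^ 7) = true := by decide +kernel

theorem sub_172 : allPow (below (nat_lit 31671) (subB TT U TH Wh (nat_lit 306936) (nat_lit 31671))) 7 (172 * 2 ^ 7) = true := by decide +kernel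

theorem sub_173 : allPow (below (nat_lit 31671) (subB TT U TH Wh (nat_lit 306936) (nat_lit 31671))) 7 (173 * 2 ^ 7) = true := by decide +kernel

theorem sub_174 : allPow (below (nat_lit 31671) (subB TT U TH Wh (nat_lit 306936) (nat_lit 31671))) 7 (174 * 2 ^ 7) = true := by decide +kernel

theorem sub_175 : allPow (below (nat_lit 31671) (subB TT U TH Wh (nat_lit 306936) (nat_lit 31671))) 7 (175 * 2 ^ 7) = true := by decide +kernel

theorem sub_176 : allPow (below (nat_lit 31671) (subB TT U TH Wh (nat_lit 306936) (nat_lit 31671))) 7 (176 * 2 ^ 7) = true := by decide +kernel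

theorem sub_177 : allPow (below (nat_lit 31671) (subB TT U TH Wh (nat_lit 306936) (nat_lit 31671))) 7 (177 * 2 ^ 7) = true := by decide +kernel

theorem sub_178 : allPow (below (nat_lit 31671) (subB TT U TH Wh (nat_lit 306936) (nat_lit 31671))) 7 (178 * 2 ^ 7) = true := by decide +kernel

theorem sub_179 : allPow (below (nat_lit 31671) (subB TT U TH Wh (nat_lit 306936) (nat_lit 31671))) 7 (179 * 2 ^ 7) = true := by decide +kernel

theorem sub_180 : allPow (below (nat_lit 31671) (subB TT U TH Wh (nat_lit 306936) (nat_lit 31671))) 7 (180 * 2 ^ 7) = true := by decide +kernel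

theorem sub_181 : allPow (below (nat_lit 31671) (subB TT U TH Wh (nat_lit 306936) (nat_lit 31671))) 7 (181 * 2 ^ 7) = true := by decide +kernel

theorem sub_182 : allPow (below (nat_lit 31671) (subB TT U TH Wh (nat_lit 306936) (nat_lit 31671))) 7 (182 * 2 ^ 7) = true := by decide +kernel

theorem sub_183 : allPow (below (nat_lit 31671) (subB TT U TH Wh (nat_lit 306936) (nat_lit 31671))) 7 (183 * 2 ^ 7) = true := by decide +kernel

theorem sub_184 : allPow (below (nat_lit 31671) (subB TT U TH Wh (nat_lit 306936) (nat_lit 31671))) 7 (184 * 2 ^ 7) = true := by decide +kernel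

theorem sub_185 : allPow (below (nat_lit 31671) (subB TT U TH Wh (nat_lit 306936) (nat_lit 31671))) 7 (185 * 2 ^ 7) = true := by decide +kernel

theorem sub_186 : allPow (below (nat_lit 31671) (subB TT U TH Wh (nat_lit 306936) (nat_lit 31671))) 7 (186 * 2 ^ 7) = true := by decide +kernel

theorem sub_187 : allPow (below (nat_lit 31671) (subB TT U TH Wh (nat_lit 306936) (nat_lit 31671))) 7 (187 * 2 ^ 7) = true := by decide +kernel

theorem sub_188 : allPow (below (nat_lit 31671) (subB TT U TH Wh (nat_lit 306936) (nat_lit 31671))) 7 (188 * 2 ^ 7) = true := by decide +kernel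

theorem sub_189 : allPow (below (nat_lit 31671) (subB TT U TH Wh (nat_lit 306936) (nat_lit 31671))) 7 (189 * 2 ^ 7) = true := by decide +kernel

theorem sub_190 : allPow (below (nat_lit 31671) (subB TT U TH Wh (nat_lit 306936) (nat_lit 31671))) 7 (190 * 2 ^ 7) = true := by decide +kernel

theorem sub_191 : allPow (below (nat_lit 31671) (subB TT U TH Wh (nat_lit 306936) (nat_lit 31671))) 7 (191 * 2 ^ 7) = true := by decide +kernel

theorem sub_192 : allPow (below (nat_lit 31671) (subB TT U TH Wh (nat_lit 306936) (nat_lit 31671))) 7 (192 * 2 ^ 7) = true := by decide +kernel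

theorem sub_193 : allPow (below (nat_lit 31671) (subB TT U TH Wh (nat_lit 306936) (nat_lit 31671))) 7 (193 * 2 ^ 7) = true := by decide +kernel

theorem sub_194 : allPow (below (nat_lit 31671) (subB TT U TH Wh (nat_lit 306936) (nat_lit 31671))) 7 (194 * 2 ^ 7) = true := by decide +kernel

theorem sub_195 : allPow (below (nat_lit 31671) (subB TT U TH Wh (nat_lit 306936) (nat_lit 31671))) 7 (195 * 2 ^ 7) = true := by decide +kernel

theorem sub_196 : allPow (below (nat_lit 31671) (subB TT U TH Wh (nat_lit 306936) (nat_lit 31671))) 7 (196 * 2 ^ 7) = true := by decide +kernel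

theorem sub_197 : allPow (below (nat_lit 31671) (subB TT U TH Wh (nat_lit 306936) (nat_lit 31671))) 7 (197 * 2 ^ 7) = true := by decide +kernel

theorem sub_198 : allPow (below (nat_lit 31671) (subB TT U TH Wh (nat_lit 306936) (nat_lit 31671))) 7 (198 * 2 ^ 7) = true := by decide +kernel

theorem sub_199 : allPow (below (nat_lit 31671) (subB TT U TH Wh (nat_lit 306936) (nat_lit 31671))) 7 (199 * 2 ^ 7) = true := by decide +kernel

theorem sub_200 : allPow (below (nat_lit 31671) (subB TT U TH Wh (nat_lit 306936) (nat_lit 31671))) 7 (200 * 2 ^ 7) = true := by decide +kernel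

theorem sub_201 : allPow (below (nat_lit 31671) (subB TT U TH Wh (nat_lit 306936) (nat_lit 31671))) 7 (201 * 2 ^ 7) = true := by decide +kernel

theorem sub_202 : allPow (below (nat_lit 31671) (subB TT U TH Wh (nat_lit 306936) (nat_lit 31671))) 7 (202 * 2 ^ 7) = true := by decide +kernel

theorem sub_203 : allPow (below (nat_lit 31671) (subB TT U TH Wh (nat_lit 306936) (nat_lit 31671))) 7 (203 * 2 ^ 7) = true := by decide +kernel

theorem sub_204 : allPow (below (nat_lit 31671) (subB TT U TH Wh (nat_lit 306936) (nat_lit 31671))) 7 (204 * 2 ^ 7) = true := by decide +kernel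

theorem sub_205 : allPow (below (nat_lit 31671) (subB TT U TH Wh (nat_lit 306936) (nat_lit 31671))) 7 (205 * 2 ^ 7) = true := by decide +kernel

theorem sub_206 : allPow (below (nat_lit 31671) (subB TT U TH Wh (nat_lit 306936) (nat_lit 31671))) 7 (206 * 2 ^ 7) = true := by decide +kernel

theorem sub_207 : allPow (below (nat_lit 31671) (subB TT U TH Wh (nat_lit 306936) (nat_lit 31671))) 7 (207 * 2 ^ 7) = true := by decide +kernel

end Cfsg.Agent.H9.OutFi24
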