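import Cfsg.Agent.H9.OutFi24D

/-! The outer automorphism group of Fi24'. Checks. -/

set_option autoImplicit false
set_option maxRecDepth 100000

namespace Cfsg.Agent.H9.OutFi24

theorem sub_208 : allPow (below (nat_lit 31671) (subB TT U TH Wh (nat_lit 306936) (nat_lit 31671))) 7 (208 * 2 ^ 7) = true := by decide +kernel

theorem sub_209 : allPow (below (nat_lit 31671) (subB TT U TH Wh (nat_lit 306936) (nat_lit 31671))) 7 (209 * 2 ^ 7) = true := by decide +kernel

theorem sub_210 : allPow (below (nat_lit 31671) (subB TT U TH Wh (nat_lit 306936) (nat_lit 31671))) 7 (210 * 2 ^ 7) = true := by decide +kernel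

theorem sub_211 : allPow (below (nat_lit 31671) (subB TT U TH Wh (nat_lit 306936) (nat_lit 31671))) 7 (211 * 2 ^ 7) = true := by decide +kernel

theorem sub_212 : allPow (below (nat_lit 31671) (subB TT U TH Wh (nat_lit 306936) (nat_lit 31671))) 7 (212 * 2 ^ 7) = true := by decide +kernel

theorem sub_213 : allPow (below (nat_lit 31671) (subB TT U TH Wh (nat_lit 306936) (nat_lit 31671))) 7 (213 * 2 ^ 7) = true := by decide +kernel

theorem sub_214 : allPow (below (nat_lit 31671) (subB TT U TH Wh (nat_lit 306936) (nat_lit 31671))) 7 (214 * 2 ^ 7) = true := by decide +kernel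

theorem sub_215 : allPow (below (nat_lit 31671) (subB TT U TH Wh (nat_lit 306936) (nat_lit 31671))) 7 (215 * 2 ^ 7) = true := by decide +kernel

theorem sub_216 : allPow (below (nat_lit 31671) (subB TT U TH Wh (nat_lit 306936) (nat_lit 31671))) 7 (216 * 2 ^ 7) = true := by decide +kernel

theorem sub_217 : allPow (below (nat_lit 31671) (subB TT U TH Wh (nat_lit 306936) (nat_lit 31671))) 7 (217 * 2 ^ 7) = true := by decide +kernel

theorem sub_218 : allPow (below (nat_lit 31671) (subB TT U TH Wh (nat_lit 306936) (nat_lit 31671))) 7 (218 * 2 ^ 7) = true := by decide +kernel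

theorem sub_219 : allPow (below (nat_lit 31671) (subB TT U TH Wh (nat_lit 306936) (nat_lit 31671))) 7 (219 * 2 ^ 7) = true := by decide +kernel

theorem sub_220 : allPow (below (nat_lit 31671) (subB TT U TH Wh (nat_lit 306936) (nat_lit 31671))) 7 (220 * 2 ^ 7) = true := by decide +kernel

theorem sub_221 : allPow (below (nat_lit 31671) (subB TT U TH Wh (nat_lit 306936) (nat_lit 31671))) 7 (221 * 2 ^ 7) = true := by decide +kernel

theorem sub_222 : allPow (below (nat_lit 31671) (subB TT U TH Wh (nat_lit 306936) (nat_lit 31671))) 7 (222 * 2 ^ 7) = true := by decide +kernel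

theorem sub_223 : allPow (below (nat_lit 31671) (subB TT U TH Wh (nat_lit 306936) (nat_lit 31671))) 7 (223 * 2 ^ 7) = true := by decide +kernel

theorem sub_224 : allPow (below (nat_lit 31671) (subB TT U TH Wh (nat_lit 306936) (nat_lit 31671))) 7 (224 * 2 ^ 7) = true := by decide +kernel

theorem sub_225 : allPow (below (nat_lit 31671) (subB TT U TH Wh (nat_lit 306936) (nat_lit 31671))) 7 (225 * 2 ^ 7) = true := by decide +kernel

theorem sub_226 : allPow (below (nat_lit 31671) (subB TT U TH Wh (nat_lit 306936) (nat_lit 31671))) 7 (226 * 2 ^ 7) = true := by decide +kernel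

theorem sub_227 : allPow (below (nat_lit 31671) (subB TT U TH Wh (nat_lit 306936) (nat_lit 31671))) 7 (227 * 2 ^ 7) = true := by decide +kernel

theorem sub_228 : allPow (below (nat_lit 31671) (subB TT U TH Wh (nat_lit 306936) (nat_lit 31671))) 7 (228 * 2 ^ 7) = true := by decide +kernel

theorem sub_229 : allPow (below (nat_lit 31671) (subB TT U TH Wh (nat_lit 306936) (nat_lit 31671))) 7 (229 * 2 ^ 7) = true := by decide +kernel

theorem sub_230 : allPow (below (nat_lit 31671) (subB TT U TH Wh (nat_lit 306936) (nat_lit 31671))) 7 (230 * 2 ^ 7) = true := by decide +kernel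

theorem sub_231 : allPow (below (nat_lit 31671) (subB TT U TH Wh (nat_lit 306936) (nat_lit 31671))) 7 (231 * 2 ^ 7) = true := by decide +kernel

theorem sub_232 : allPow (below (nat_lit 31671) (subB TT U TH Wh (nat_lit 306936) (nat_lit 31671))) 7 (232 * 2 ^ 7) = true := by decide +kernel

theorem sub_233 : allPow (below (nat_lit 31671) (subB TT U TH Wh (nat_lit 306936) (nat_lit 31671))) 7 (233 * 2 ^ 7) = true := by decide +kernel

theorem sub_234 : allPow (below (nat_lit 31671) (subB TT U TH Wh (nat_lit 306936) (nat_lit 31671))) 7 (234 * 2 ^ 7) = true := by decide +kernel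

theorem sub_235 : allPow (below (nat_lit 31671) (subB TT U TH Wh (nat_lit 306936) (nat_lit 31671))) 7 (235 * 2 ^ 7) = true := by decide +kernel

theorem sub_236 : allPow (below (nat_lit 31671) (subB TT U TH Wh (nat_lit 306936) (nat_lit 31671))) 7 (236 * 2 ^ 7) = true := by decide +kernel

theorem sub_237 : allPow (below (nat_lit 31671) (subB TT U TH Wh (nat_lit 306936) (nat_lit 31671))) 7 (237 * 2 ^ 7) = true := by decide +kernel

theorem sub_238 : allPow (below (nat_lit 31671) (subB TT U TH Wh (nat_lit 306936) (nat_lit 31671))) 7 (238 * 2 ^ 7) = true := by decide +kernel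

theorem sub_239 : allPow (below (nat_lit 31671) (subB TT U TH Wh (nat_lit 306936) (nat_lit 31671))) 7 (239 * 2 ^ 7) = true := by decide +kernel

theorem sub_240 : allPow (below (nat_lit 31671) (subB TT U TH Wh (nat_lit 306936) (nat_lit 31671))) 7 (240 * 2 ^ 7) = true := by decide +kernel

theorem sub_241 : allPow (below (nat_lit 31671) (subB TT U TH Wh (nat_lit 306936) (nat_lit 31671))) 7 (241 * 2 ^ 7) = true := by decide +kernel

theorem sub_242 : allPow (below (nat_lit 31671) (subB TT U TH Wh (nat_lit 306936) (nat_lit 31671))) 7 (242 * 2 ^ 7) = true := by decide +kernel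

theorem sub_243 : allPow (below (nat_lit 31671) (subB TT U TH Wh (nat_lit 306936) (nat_lit 31671))) 7 (243 * 2 ^ 7) = true := by decide +kernel

theorem sub_244 : allPow (below (nat_lit 31671) (subB TT U TH Wh (nat_lit 306936) (nat_lit 31671))) 7 (244 * 2 ^ 7) = true := by decide +kernel

theorem sub_245 : allPow (below (nat_lit 31671) (subB TT U TH Wh (nat_lit 306936) (nat_lit 31671))) 7 (245 * 2 ^ 7) = true := by decide +kernel

theorem sub_246 : allPow (below (nat_lit 31671) (subB TT U TH Wh (nat_lit 306936) (nat_lit 31671))) 7 (246 * 2 ^ 7) = true := by decide +kernel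

theorem sub_247 : allPow (below (nat_lit 31671) (subB TT U TH Wh (nat_lit 306936) (nat_lit 31671))) 7 (247 * 2 ^ 7) = true := by decide +kernel

theorem slpH_0 : allPow (below (nat_lit 31671) (slpB TH WH Wh.length)) 8 (0 * 2 ^ 8) = true := by decide +kernel

theorem slpH_1 : allPow (below (nat_lit 31671) (slpB TH WH Wh.length)) 8 (1 * 2 ^ 8) = true := by decide +kernel

theorem slpH_2 : allPow (below (nat_lit 31671) (slpB TH WH Wh.length)) 8 (2 * 2 ^ 8) = true := by decide +kernel

end Cfsg.Agent.H9.OutFi24
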