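import Cfsg.Agent.H9.OutFi24D

/-! The outer automorphism group of Fi24'. Checks. -/

set_option autoImplicit false
set_option maxRecDepth 100000

namespace Cfsg.Agent.H9.OutFi24

theorem slpH_3 : allPow (below (nat_lit 31671) (slpB TH WH Wh.length)) 8 (3 * 2 ^ 8) = true := by decide +kernel

theorem slpH_4 : allPow (below (nat_lit 31671) (slpB TH WH Wh.length)) 8 (4 * 2 ^ 8) = true := by decide +kernel

theorem slpH_5 : allPow (below (nat_lit 31671) (slpB TH WH Wh.length)) 8 (5 * 2 ^ 8) = true := by decide +kernel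

theorem slpH_6 : allPow (below (nat_lit 31671) (slpB TH WH Wh.length)) 8 (6 * 2 ^ 8) = true := by decide +kernel

theorem slpH_7 : allPow (below (nat_lit 31671) (slpB TH WH Wh.length)) 8 (7 * 2 ^ 8) = true := by decide +kernel

theorem slpH_8 : allPow (below (nat_lit 31671) (slpB TH WH Wh.length)) 8 (8 * 2 ^ 8) = true := by decide +kernel

theorem slpH_9 : allPow (below (nat_lit 31671) (slpB TH WH Wh.length)) 8 (9 * 2 ^ 8) = true := by decide +kernel

theorem slpH_10 : allPow (below (nat_lit 31671) (slpB TH WH Wh.length)) 8 (10 * 2 ^ 8) = true := by decide +kernel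

theorem slpH_11 : allPow (below (nat_lit 31671) (slpB TH WH Wh.length)) 8 (11 * 2 ^ 8) = true := by decide +kernel

theorem slpH_12 : allPow (below (nat_lit 31671) (slpB TH WH Wh.length)) 8 (12 * 2 ^ 8) = true := by decide +kernel

theorem slpH_13 : allPow (below (nat_lit 31671) (slpB TH WH Wh.length)) 8 (13 * 2 ^ 8) = true := by decide +kernel

theorem slpH_14 : allPow (below (nat_lit 31671) (slpB TH WH Wh.length)) 8 (14 * 2 ^ 8) = true := by decide +kernel

theorem slpH_15 : allPow (below (nat_lit 31671) (slpB TH WH Wh.length)) 8 (15 * 2 ^ 8) = true := by decide +kernel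

theorem slpH_16 : allPow (below (nat_lit 31671) (slpB TH WH Wh.length)) 8 (16 * 2 ^ 8) = true := by decide +kernel

theorem slpH_17 : allPow (below (nat_lit 31671) (slpB TH WH Wh.length)) 8 (17 * 2 ^ 8) = true := by decide +kernel

theorem slpH_18 : allPow (below (nat_lit 31671) (slpB TH WH Wh.length)) 8 (18 * 2 ^ 8) = true := by decide +kernel

theorem slpH_19 : allPow (below (nat_lit 31671) (slpB TH WH Wh.length)) 8 (19 * 2 ^ 8) = true := by decide +kernel

theorem slpH_20 : allPow (below (nat_lit 31671) (slpB TH WH Wh.length)) 8 (20 * 2 ^ 8) = true := by decide +kernel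

theorem slpH_21 : allPow (below (nat_lit 31671) (slpB TH WH Wh.length)) 8 (21 * 2 ^ 8) = true := by decide +kernel

theorem slpH_22 : allPow (below (nat_lit 31671) (slpB TH WH Wh.length)) 8 (22 * 2 ^ 8) = true := by decide +kernel

theorem slpH_23 : allPow (below (nat_lit 31671) (slpB TH WH Wh.length)) 8 (23 * 2 ^ 8) = true := by decide +kernel

theorem slpH_24 : allPow (below (nat_lit 31671) (slpB TH WH Wh.length)) 8 (24 * 2 ^ 8) = true := by decide +kernel

theorem slpH_25 : allPow (below (nat_lit 31671) (slpB TH WH Wh.length)) 8 (25 * 2 ^ 8) = true := by decide +kernel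

theorem slpH_26 : allPow (below (nat_lit 31671) (slpB TH WH Wh.length)) 8 (26 * 2 ^ 8) = true := by decide +kernel

theorem slpH_27 : allPow (below (nat_lit 31671) (slpB TH WH Wh.length)) 8 (27 * 2 ^ 8) = true := by decide +kernel

theorem slpH_28 : allPow (below (nat_lit 31671) (slpB TH WH Wh.length)) 8 (28 * 2 ^ 8) = true := by decide +kernel

theorem slpH_29 : allPow (below (nat_lit 31671) (slpB TH WH Wh.length)) 8 (29 * 2 ^ 8) = true := by decide +kernel

theorem slpH_30 : allPow (below (nat_lit 31671) (slpB TH WH Wh.length)) 8 (30 * 2 ^ 8) = true := by decide +kernel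

theorem slpH_31 : allPow (below (nat_lit 31671) (slpB TH WH Wh.length)) 8 (31 * 2 ^ 8) = true := by decide +kernel

theorem slpH_32 : allPow (below (nat_lit 31671) (slpB TH WH Wh.length)) 8 (32 * 2 ^ 8) = true := by decide +kernel

theorem slpH_33 : allPow (below (nat_lit 31671) (slpB TH WH Wh.length)) 8 (33 * 2 ^ 8) = true := by decide +kernel

theorem slpH_34 : allPow (below (nat_lit 31671) (slpB TH WH Wh.length)) 8 (34 * 2 ^ 8) = true := by decide +kernel

theorem slpH_35 : allPow (below (nat_lit 31671) (slpB TH WH Wh.length)) 8 (35 * 2 ^ 8) = true := by decide +kernel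

theorem slpH_36 : allPow (below (nat_lit 31671) (slpB TH WH Wh.length)) 8 (36 * 2 ^ 8) = true := by decide +kernel

theorem slpH_37 : allPow (below (nat_lit 31671) (slpB TH WH Wh.length)) 8 (37 * 2 ^ 8) = true := by decide +kernel

theorem slpH_38 : allPow (below (nat_lit 31671) (slpB TH WH Wh.length)) 8 (38 * 2 ^ 8) = true := by decide +kernel

theorem slpH_39 : allPow (below (nat_lit 31671) (slpB TH WH Wh.length)) 8 (39 * 2 ^ 8) = true := by decide +kernel

theorem slpH_40 : allPow (below (nat_lit 31671) (slpB TH WH Wh.length)) 8 (40 * 2 ^ 8) = true := by decide +kernel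

theorem slpH_41 : allPow (below (nat_lit 31671) (slpB TH WH Wh.length)) 8 (41 * 2 ^ 8) = true := by decide +kernel

theorem slpH_42 : allPow (below (nat_lit 31671) (slpB TH WH Wh.length)) 8 (42 * 2 ^ 8) = true := by decide +kernel

theorem slpH_43 : allPow (below (nat_lit 31671) (slpB TH WH Wh.length)) 8 (43 * 2 ^ 8) = true := by decide +kernel

theorem slpH_44 : allPow (below (nat_lit 31671) (slpB TH WH Wh.length)) 8 (44 * 2 ^ 8) = true := by decide +kernel

theorem slpH_45 : allPow (below (nat_lit 31671) (slpB TH WH Wh.length)) 8 (45 * 2 ^ 8) = true := by decide +kernel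

theorem slpH_46 : allPow (below (nat_lit 31671) (slpB TH WH Wh.length)) 8 (46 * 2 ^ 8) = true := by decide +kernel

theorem slpH_47 : allPow (below (nat_lit 31671) (slpB TH WH Wh.length)) 8 (47 * 2 ^ 8) = true := by decide +kernel

theorem slpH_48 : allPow (below (nat_lit 31671) (slpB TH WH Wh.length)) 8 (48 * 2 ^ 8) = true := by decide +kernel

theorem slpH_49 : allPow (below (nat_lit 31671) (slpB TH WH Wh.length)) 8 (49 * 2 ^ 8) = true := by decide +kernel

theorem slpH_50 : allPow (below (nat_lit 31671) (slpB TH WH Wh.length)) 8 (50 * 2 ^ 8) = true := by decide +kernel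

end Cfsg.Agent.H9.OutFi24
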