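import Cfsg.Agent.H9.OutFi24C0
import Cfsg.Agent.H9.OutFi24C1
import Cfsg.Agent.H9.OutFi24C2
import Cfsg.Agent.H9.OutFi24C3
import Cfsg.Agent.H9.OutFi24C4
import Cfsg.Agent.H9.OutFi24C5
import Cfsg.Agent.H9.OutFi24C6
import Cfsg.Agent.H9.OutFi24C7
import Cfsg.Agent.H9.OutFi24C8
import Cfsg.Agent.H9.OutFi24C9
import Cfsg.Agent.H9.OutFi24C10
import Cfsg.Agent.H9.OutFi24C11
import Cfsg.Agent.H9.OutFi24C12
import Cfsg.Agent.H9.OutFi24C13
import Cfsg.Agent.H9.OutFi24C14

/-! The outer automorphism group of Fi24'. -/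

set_option autoImplicit false
set_option maxRecDepth 100000

namespace Cfsg.Agent.H9.OutFi24

theorem trans : ∀ i < 306936, (transB TT (nat_lit 254) (nat_lit 154) inf (nat_lit 8) (nat_lit 255)) i = true :=
  all_of_blocks (d := 14) (m := 19) (by decide) (forall_lt_succ'' (forall_lt_succ'' (forall_lt_succ'' (forall_lt_succ'' (forall_lt_succ'' (forall_lt_succ'' (forall_lt_succ'' (forall_lt_succ'' (forall_lt_succ'' (forall_lt_succ'' (forall_lt_succ'' (forall_lt_succ'' (forall_lt_succ'' (forall_lt_succ'' (forall_lt_succ'' (forall_lt_succ'' (forall_lt_succ'' (forall_lt_succ'' (forall_lt_succ'' forall_lt_zero'' trans_0) trans_1) trans_2) trans_3) trans_4) trans_5) trans_6) trans_7) trans_8) trans_9) trans_10) trans_11) trans_12) trans_13) trans_14) trans_15) trans_16) trans_17) trans_18)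

theorem orb : ∀ i < 306936, (orb2B TT (nat_lit 254) (nat_lit 16) (nat_lit 11423551284260107032265750573735043051028470782) inf2 U (nat_lit 31671)) i = true :=
  all_of_blocks (d := 14) (m := 19) (by decide) (forall_lt_succ'' (forall_lt_succ'' (forall_lt_succ'' (forall_lt_succ'' (forall_lt_succ'' (forall_lt_succ'' (forall_lt_succ'' (forall_lt_succ'' (forall_lt_succ'' (forall_lt_succ'' (forall_lt_succ'' (forall_lt_succ'' (forall_lt_succ'' (forall_lt_succ'' (forall_lt_succ'' (forall_lt_succ'' (forall_lt_succ'' (forall_lt_succ'' (forall_lt_succ'' forall_lt_zero'' orb_0) orb_1) orb_2) orb_3) orb_4) orb_5) orb_6) orb_7) orb_8) orb_9) orb_10) orb_11) orb_12) orb_13) orb_14) orb_15) orb_16) orb_17) orb_18)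

theorem fau : ∀ i < 31671, (faU TH (nat_lit 254) (nat_lit 16) (nat_lit 0) U) i = true :=
  all_of_blocks (d := 15) (m := 1) (by decide) (forall_lt_succ'' forall_lt_zero'' fau_0)

theorem fb_a0 : ∀ j < 40, allPow (below (nat_lit 306936) (fixB (tr TT (List.replicate D.i D.ib)) (nat_lit 254 :: (lk.map Prod.fst ++ dead.map Prod.fst)))) 12 (j * 2 ^ 12) = true :=
  (forall_lt_succ'' (forall_lt_succ'' (forall_lt_succ'' (forall_lt_succ'' (forall_lt_succ'' (forall_lt_succ'' (forall_lt_succ'' (forall_lt_succ'' (forall_lt_succ'' (forall_lt_succ'' (forall_lt_succ'' (forall_lt_succ'' (forall_lt_succ'' (forall_lt_succ'' (forall_lt_succ'' (forall_lt_succ'' (forall_lt_succ'' (forall_lt_succ'' (forall_lt_succ'' (forall_lt_succ'' (forall_lt_succ'' (forall_lt_succ'' (forall_lt_succ'' (forall_lt_succ'' (forall_lt_succ'' (forall_lt_succ'' (forall_lt_succ'' (forall_lt_succ'' (forall_lt_succ'' (forall_lt_succ'' (forall_lt_succ'' (forall_lt_succ'' (forall_lt_succ'' (forall_lt_succ''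 (forall_lt_succ'' (forall_lt_succ'' (forall_lt_succ'' (forall_lt_succ'' (forall_lt_succ'' (forall_lt_succ'' forall_lt_zero'' fb_0) fb_1) fb_2) fb_3) fb_4) fb_5) fb_6) fb_7) fb_8) fb_9) fb_10) fb_11) fb_12) fb_13) fb_14) fb_15) fb_16) fb_17) fb_18) fb_19) fb_20) fb_21) fb_22) fb_23) fb_24) fb_25) fb_26) fb_27) fb_28) fb_29) fb_30) fb_31) fb_32) fb_33) fb_34) fb_35) fb_36) fb_37) fb_38) fb_39)

theorem fb : ∀ i < 306936, (fixB (tr TT (List.replicate D.i D.ib)) (nat_lit 254 :: (lk.map Prod.fst ++ dead.map Prod.fst))) i = true :=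
  all_of_blocks (d := 12) (m := 75) (by decide) (forall_lt_succ'' (forall_lt_succ'' (forall_lt_succ'' (forall_lt_succ'' (forall_lt_succ'' (forall_lt_succ'' (forall_lt_succ'' (forall_lt_succ'' (forall_lt_succ'' (forall_lt_succ'' (forall_lt_succ'' (forall_lt_succ'' (forall_lt_succ'' (forall_lt_succ'' (forall_lt_succ'' (forall_lt_succ'' (forall_lt_succ'' (forall_lt_succ'' (forall_lt_succ'' (forall_lt_succ'' (forall_lt_succ'' (forall_lt_succ'' (forall_lt_succ'' (forall_lt_succ'' (forall_lt_succ'' (forall_lt_succ'' (forall_lt_succ'' (forall_lt_succ'' (forall_lt_succ'' (forall_lt_succ'' (forall_lt_succ'' (forall_lt_succ'' (forall_lt_succ'' (forall_lt_succ'' (forall_lt_succ'' fb_a0 fb_40) fb_41) fb_42) fb_43) fb_44) fb_45) fb_46) fb_47) fb_48) fb_49) fb_50) fb_51) fb_52) fb_53) fb_54) fb_55) fb_56) fb_57) fb_58) fb_59) fb_60) fb_61) fb_62) fb_63) fb_64) fb_65) fb_66) fb_67) fb_68) fb_69) fb_70) fb_71) fb_72) fb_73) fb_74)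

theorem sub_a0 : ∀ j < 40, allPow (below (nat_lit 31671) (subB TT U TH Wh (nat_lit 306936) (nat_lit 31671))) 7 (j * 2 ^ 7) = true :=
  (forall_lt_succ'' (forall_lt_succ'' (forall_lt_succ'' (forall_lt_succ'' (forall_lt_succ'' (forall_lt_succ'' (forall_lt_succ'' (forall_lt_succ'' (forall_lt_succ'' (forall_lt_succ'' (forall_lt_succ'' (forall_lt_succ'' (forall_lt_succ'' (forall_lt_succ'' (forall_lt_succ'' (forall_lt_succ'' (forall_lt_succ'' (forall_lt_succ'' (forall_lt_succ'' (forall_lt_succ'' (forall_lt_succ'' (forall_lt_succ'' (forall_lt_succ'' (forall_lt_succ'' (forall_lt_succ'' (forall_lt_succ'' (forall_lt_succ'' (forall_lt_succ'' (forall_lt_succ'' (forall_lt_succ'' (forall_lt_succ'' (forall_lt_succ'' (forall_lt_succ'' (forall_lt_succ'' (forall_lt_succ'' (forall_lt_succ'' (forall_lt_succ'' (forall_lt_succ'' (forall_lt_succ'' (forall_lt_succ'' forall_lt_zero'' sub_0) sub_1) sub_2) sub_3) sub_4) sub_5) sub_6) sub_7) sub_8) sub_9) sub_10) sub_11) sub_12) sub_13)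 sub_14) sub_15) sub_16) sub_17) sub_18) sub_19) sub_20) sub_21) sub_22) sub_23) sub_24) sub_25) sub_26) sub_27) sub_28) sub_29) sub_30) sub_31) sub_32) sub_33) sub_34) sub_35) sub_36) sub_37) sub_38) sub_39)

theorem sub_a40 : ∀ j < 80, allPow (below (nat_lit 31671) (subB TT U TH Wh (nat_lit 306936) (nat_lit 31671))) 7 (j * 2 ^ 7) = true :=
  (forall_lt_succ'' (forall_lt_succ'' (forall_lt_succ'' (forall_lt_succ'' (forall_lt_succ'' (forall_lt_succ'' (forall_lt_succ'' (forall_lt_succ'' (forall_lt_succ'' (forall_lt_succ'' (forall_lt_succ'' (forall_lt_succ'' (forall_lt_succ'' (forall_lt_succ'' (forall_lt_succ'' (forall_lt_succ'' (forall_lt_succ'' (forall_lt_succ'' (forall_lt_succ'' (forall_lt_succ'' (forall_lt_succ'' (forall_lt_succ'' (forall_lt_succ'' (forall_lt_succ'' (forall_lt_succ'' (forall_lt_succ'' (forall_lt_succ'' (forall_lt_succ'' (forall_lt_succ'' (forall_lt_succ'' (forall_lt_succ'' (forall_lt_succ'' (forall_lt_succ'' (forall_lt_succ'' (forall_lt_succ''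 (forall_lt_succ'' (forall_lt_succ'' (forall_lt_succ'' (forall_lt_succ'' (forall_lt_succ'' sub_a0 sub_40) sub_41) sub_42) sub_43) sub_44) sub_45) sub_46) sub_47) sub_48) sub_49) sub_50) sub_51) sub_52) sub_53) sub_54) sub_55) sub_56) sub_57) sub_58) sub_59) sub_60) sub_61) sub_62) sub_63) sub_64) sub_65) sub_66) sub_67) sub_68) sub_69) sub_70) sub_71) sub_72) sub_73) sub_74) sub_75) sub_76) sub_77) sub_78) sub_79)

theorem sub_a80 : ∀ j < 120, allPow (below (nat_lit 31671) (subB TT U TH Wh (nat_lit 306936) (nat_lit 31671))) 7 (j * 2 ^ 7) = true :=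
  (forall_lt_succ'' (forall_lt_succ'' (forall_lt_succ'' (forall_lt_succ'' (forall_lt_succ'' (forall_lt_succ'' (forall_lt_succ'' (forall_lt_succ'' (forall_lt_succ'' (forall_lt_succ'' (forall_lt_succ'' (forall_lt_succ'' (forall_lt_succ'' (forall_lt_succ'' (forall_lt_succ'' (forall_lt_succ'' (forall_lt_succ'' (forall_lt_succ'' (forall_lt_succ'' (forall_lt_succ'' (forall_lt_succ'' (forall_lt_succ'' (forall_lt_succ'' (forall_lt_succ'' (forall_lt_succ'' (forall_lt_succ'' (forall_lt_succ'' (forall_lt_succ'' (forall_lt_succ'' (forall_lt_succ'' (forall_lt_succ'' (forall_lt_succ'' (forall_lt_succ'' (forall_lt_succ'' (forall_lt_succ'' (forall_lt_succ'' (forall_lt_succ'' (forall_lt_succ'' (forall_lt_succ'' (forall_lt_succ'' sub_a40 sub_80) sub_81) sub_82) sub_83) sub_84) sub_85) sub_86) sub_87) sub_88) sub_89) sub_90) sub_91) sub_92) sub_93) sub_94) sub_95) sub_96) sub_97) sub_98) sub_99) sub_100) sub_101) sub_102) sub_103) sub_104) sub_105) sub_106) sub_107) sub_108) sub_109)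 sub_110) sub_111) sub_112) sub_113) sub_114) sub_115) sub_116) sub_117) sub_118) sub_119)

theorem sub_a120 : ∀ j < 160, allPow (below (nat_lit 31671) (subB TT U TH Wh (nat_lit 306936) (nat_lit 31671))) 7 (j * 2 ^ 7) = true :=
  (forall_lt_succ'' (forall_lt_succ'' (forall_lt_succ'' (forall_lt_succ'' (forall_lt_succ'' (forall_lt_succ'' (forall_lt_succ'' (forall_lt_succ'' (forall_lt_succ'' (forall_lt_succ'' (forall_lt_succ'' (forall_lt_succ'' (forall_lt_succ'' (forall_lt_succ'' (forall_lt_succ'' (forall_lt_succ'' (forall_lt_succ'' (forall_lt_succ'' (forall_lt_succ'' (forall_lt_succ'' (forall_lt_succ'' (forall_lt_succ'' (forall_lt_succ'' (forall_lt_succ'' (forall_lt_succ'' (forall_lt_succ'' (forall_lt_succ'' (forall_lt_succ'' (forall_lt_succ'' (forall_lt_succ'' (forall_lt_succ'' (forall_lt_succ'' (forall_lt_succ'' (forall_lt_succ'' (forall_lt_succ'' (forall_lt_succ'' (forall_lt_succ'' (forall_lt_succ'' (forall_lt_succ'' (forall_lt_succ'' sub_a80 sub_120) sub_121)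 sub_122) sub_123) sub_124) sub_125) sub_126) sub_127) sub_128) sub_129) sub_130) sub_131) sub_132) sub_133) sub_134) sub_135) sub_136) sub_137) sub_138) sub_139) sub_140) sub_141) sub_142) sub_143) sub_144) sub_145) sub_146) sub_147) sub_148) sub_149) sub_150) sub_151) sub_152) sub_153) sub_154) sub_155) sub_156) sub_157) sub_158) sub_159)

theorem sub_a160 : ∀ j < 200, allPow (below (nat_lit 31671) (subB TT U TH Wh (nat_lit 306936) (nat_lit 31671))) 7 (j * 2 ^ 7) = true :=
  (forall_lt_succ'' (forall_lt_succ'' (forall_lt_succ'' (forall_lt_succ'' (forall_lt_succ'' (forall_lt_succ'' (forall_lt_succ'' (forall_lt_succ'' (forall_lt_succ'' (forall_lt_succ'' (forall_lt_succ'' (forall_lt_succ'' (forall_lt_succ'' (forall_lt_succ'' (forall_lt_succ'' (forall_lt_succ'' (forall_lt_succ'' (forall_lt_succ'' (forall_lt_succ'' (forall_lt_succ'' (forall_lt_succ'' (forall_lt_succ'' (forall_lt_succ'' (forall_lt_succ'' (forall_lt_succ'' (forall_lt_succ'' (forall_lt_succ'' (forall_lt_succ''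 (forall_lt_succ'' (forall_lt_succ'' (forall_lt_succ'' (forall_lt_succ'' (forall_lt_succ'' (forall_lt_succ'' (forall_lt_succ'' (forall_lt_succ'' (forall_lt_succ'' (forall_lt_succ'' (forall_lt_succ'' (forall_lt_succ'' sub_a120 sub_160) sub_161) sub_162) sub_163) sub_164) sub_165) sub_166) sub_167) sub_168) sub_169) sub_170) sub_171) sub_172) sub_173) sub_174) sub_175) sub_176) sub_177) sub_178) sub_179) sub_180) sub_181) sub_182) sub_183) sub_184) sub_185) sub_186) sub_187) sub_188) sub_189) sub_190) sub_191) sub_192) sub_193) sub_194) sub_195) sub_196) sub_197) sub_198) sub_199)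

theorem sub_a200 : ∀ j < 240, allPow (below (nat_lit 31671) (subB TT U TH Wh (nat_lit 306936) (nat_lit 31671))) 7 (j * 2 ^ 7) = true :=
  (forall_lt_succ'' (forall_lt_succ'' (forall_lt_succ'' (forall_lt_succ'' (forall_lt_succ'' (forall_lt_succ'' (forall_lt_succ'' (forall_lt_succ'' (forall_lt_succ'' (forall_lt_succ'' (forall_lt_succ'' (forall_lt_succ'' (forall_lt_succ'' (forall_lt_succ'' (forall_lt_succ'' (forall_lt_succ'' (forall_lt_succ'' (forall_lt_succ'' (forall_lt_succ'' (forall_lt_succ'' (forall_lt_succ'' (forall_lt_succ'' (forall_lt_succ'' (forall_lt_succ'' (forall_lt_succ'' (forall_lt_succ'' (forall_lt_succ'' (forall_lt_succ'' (forall_lt_succ'' (forall_lt_succ'' (forall_lt_succ'' (forall_lt_succ'' (forall_lt_succ'' (forall_lt_succ'' (forall_lt_succ'' (forall_lt_succ'' (forall_lt_succ'' (forall_lt_succ'' (forall_lt_succ'' (forall_lt_succ'' sub_a160 sub_200) sub_201) sub_202) sub_203) sub_204) sub_205) sub_206) sub_207) sub_208) sub_209) sub_210) sub_211)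 sub_212) sub_213) sub_214) sub_215) sub_216) sub_217) sub_218) sub_219) sub_220) sub_221) sub_222) sub_223) sub_224) sub_225) sub_226) sub_227) sub_228) sub_229) sub_230) sub_231) sub_232) sub_233) sub_234) sub_235) sub_236) sub_237) sub_238) sub_239)

theorem sub : ∀ i < 31671, (subB TT U TH Wh (nat_lit 306936) (nat_lit 31671)) i = true :=
  all_of_blocks (d := 7) (m := 248) (by decide) (forall_lt_succ'' (forall_lt_succ'' (forall_lt_succ'' (forall_lt_succ'' (forall_lt_succ'' (forall_lt_succ'' (forall_lt_succ'' (forall_lt_succ'' sub_a200 sub_240) sub_241) sub_242) sub_243) sub_244) sub_245) sub_246) sub_247)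

theorem slpH_a0 : ∀ j < 40, allPow (below (nat_lit 31671) (slpB TH WH Wh.length)) 8 (j * 2 ^ 8) = true :=
  (forall_lt_succ'' (forall_lt_succ'' (forall_lt_succ'' (forall_lt_succ'' (forall_lt_succ'' (forall_lt_succ'' (forall_lt_succ'' (forall_lt_succ'' (forall_lt_succ'' (forall_lt_succ'' (forall_lt_succ'' (forall_lt_succ'' (forall_lt_succ'' (forall_lt_succ'' (forall_lt_succ'' (forall_lt_succ'' (forall_lt_succ'' (forall_lt_succ'' (forall_lt_succ'' (forall_lt_succ'' (forall_lt_succ'' (forall_lt_succ'' (forall_lt_succ'' (forall_lt_succ'' (forall_lt_succ'' (forall_lt_succ'' (forall_lt_succ'' (forall_lt_succ'' (forall_lt_succ'' (forall_lt_succ'' (forall_lt_succ'' (forall_lt_succ'' (forall_lt_succ'' (forall_lt_succ'' (forall_lt_succ'' (forall_lt_succ'' (forall_lt_succ'' (forall_lt_succ'' (forall_lt_succ'' (forall_lt_succ'' forall_lt_zero'' slpH_0) slpH_1) slpH_2) slpH_3) slpH_4) slpH_5) slpH_6) slpH_7) slpH_8) slpH_9) slpH_10) slpH_11) slpH_12) slpH_13) slpH_14) slpH_15)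 slpH_16) slpH_17) slpH_18) slpH_19) slpH_20) slpH_21) slpH_22) slpH_23) slpH_24) slpH_25) slpH_26) slpH_27) slpH_28) slpH_29) slpH_30) slpH_31) slpH_32) slpH_33) slpH_34) slpH_35) slpH_36) slpH_37) slpH_38) slpH_39)

theorem slpH_a40 : ∀ j < 80, allPow (below (nat_lit 31671) (slpB TH WH Wh.length)) 8 (j * 2 ^ 8) = true :=
  (forall_lt_succ'' (forall_lt_succ'' (forall_lt_succ'' (forall_lt_succ'' (forall_lt_succ'' (forall_lt_succ'' (forall_lt_succ'' (forall_lt_succ'' (forall_lt_succ'' (forall_lt_succ'' (forall_lt_succ'' (forall_lt_succ'' (forall_lt_succ'' (forall_lt_succ'' (forall_lt_succ'' (forall_lt_succ'' (forall_lt_succ'' (forall_lt_succ'' (forall_lt_succ'' (forall_lt_succ'' (forall_lt_succ'' (forall_lt_succ'' (forall_lt_succ'' (forall_lt_succ'' (forall_lt_succ'' (forall_lt_succ'' (forall_lt_succ'' (forall_lt_succ'' (forall_lt_succ'' (forall_lt_succ'' (forall_lt_succ'' (forall_lt_succ'' (forall_lt_succ'' (forall_lt_succ'' (forall_lt_succ'' (forall_lt_succ''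 (forall_lt_succ'' (forall_lt_succ'' (forall_lt_succ'' (forall_lt_succ'' slpH_a0 slpH_40) slpH_41) slpH_42) slpH_43) slpH_44) slpH_45) slpH_46) slpH_47) slpH_48) slpH_49) slpH_50) slpH_51) slpH_52) slpH_53) slpH_54) slpH_55) slpH_56) slpH_57) slpH_58) slpH_59) slpH_60) slpH_61) slpH_62) slpH_63) slpH_64) slpH_65) slpH_66) slpH_67) slpH_68) slpH_69) slpH_70) slpH_71) slpH_72) slpH_73) slpH_74) slpH_75) slpH_76) slpH_77) slpH_78) slpH_79)

theorem slpH_a80 : ∀ j < 120, allPow (below (nat_lit 31671) (slpB TH WH Wh.length)) 8 (j * 2 ^ 8) = true :=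
  (forall_lt_succ'' (forall_lt_succ'' (forall_lt_succ'' (forall_lt_succ'' (forall_lt_succ'' (forall_lt_succ'' (forall_lt_succ'' (forall_lt_succ'' (forall_lt_succ'' (forall_lt_succ'' (forall_lt_succ'' (forall_lt_succ'' (forall_lt_succ'' (forall_lt_succ'' (forall_lt_succ'' (forall_lt_succ'' (forall_lt_succ'' (forall_lt_succ'' (forall_lt_succ'' (forall_lt_succ'' (forall_lt_succ'' (forall_lt_succ'' (forall_lt_succ'' (forall_lt_succ'' (forall_lt_succ'' (forall_lt_succ'' (forall_lt_succ'' (forall_lt_succ'' (forall_lt_succ'' (forall_lt_succ'' (forall_lt_succ'' (forall_lt_succ'' (forall_lt_succ'' (forall_lt_succ'' (forall_lt_succ'' (forall_lt_succ'' (forall_lt_succ'' (forall_lt_succ'' (forall_lt_succ'' (forall_lt_succ'' slpH_a40 slpH_80) slpH_81) slpH_82) slpH_83) slpH_84) slpH_85) slpH_86) slpH_87) slpH_88) slpH_89) slpH_90) slpH_91) slpH_92) slpH_93) slpH_94) slpH_95) slpH_96) slpH_97) slpH_98) slpH_99) slpH_100) slpH_101) slpH_102) slpH_103) slpH_104) slpH_105) slpH_106)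 slpH_107) slpH_108) slpH_109) slpH_110) slpH_111) slpH_112) slpH_113) slpH_114) slpH_115) slpH_116) slpH_117) slpH_118) slpH_119)

theorem slpH : ∀ i < 31671, (slpB TH WH Wh.length) i = true :=
  all_of_blocks (d := 8) (m := 124) (by decide) (forall_lt_succ'' (forall_lt_succ'' (forall_lt_succ'' (forall_lt_succ'' slpH_a80 slpH_120) slpH_121) slpH_122) slpH_123)

theorem ptLa : ∀ i < 31671, (La0.toLv.ptB TH (nat_lit 31671)) i = true :=
  all_of_blocks (d := 13) (m := 4) (by decide) (forall_lt_succ'' (forall_lt_succ'' (forall_lt_succ'' (forall_lt_succ'' forall_lt_zero'' ptLa_0) ptLa_1) ptLa_2) ptLa_3)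

theorem chLa : ChainChk TH 31671 60 ((La0 :: Las).map SLv.toLv) [] :=
  ⟨by decide +kernel, ptLa, chainChk_of chLa1⟩

theorem scLa : ∀ i < 31671, (scanB TH iv (tr TH [nat_lit 0]) La0 Las []) i = true :=
  all_of_blocks (d := 13) (m := 4) (by decide) (forall_lt_succ'' (forall_lt_succ'' (forall_lt_succ'' (forall_lt_succ'' forall_lt_zero'' scLa_0) scLa_1) scLa_2) scLa_3)

theorem ptLb : ∀ i < 31671, (Lb0.toLv.ptB TH (nat_lit 31671)) i = true :=
  all_of_blocks (d := 13) (m := 4) (by decide) (forall_lt_succ'' (forall_lt_succ'' (forall_lt_succ'' (forall_lt_succ'' forall_lt_zero'' ptLb_0) ptLb_1) ptLb_2) ptLb_3)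

theorem chLb : ChainChk TH 31671 60 ((Lb0 :: Lbs).map SLv.toLv) [] :=
  ⟨by decide +kernel, ptLb, chainChk_of chLb1⟩

theorem scLb : ∀ i < 31671, (scanB TH iv (tr TH (List.replicate D.i (nat_lit 2))) Lb0 Lbs []) i = true :=
  all_of_blocks (d := 13) (m := 4) (by decide) (forall_lt_succ'' (forall_lt_succ'' (forall_lt_succ'' (forall_lt_succ'' forall_lt_zero'' scLb_0) scLb_1) scLb_2) scLb_3)

theorem okH {K : Type*} [Group K] [Finite K] (A : RA K 31671) (g0 : ℕ → K) (hT : A.Tab g0 Wh.length TH)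
    (hle : Nat.card K ≤ 4089470473293004800) : RA.HOK A g0 Wh.length BH (nat_lit 0) (List.replicate D.i (nat_lit 2))
      (linkWs (Lb0 :: Lbs)) ys 4089470473293004800 :=
  RA.hOK_of hT (by decide +kernel) slpH (by decide +kernel) hle chLa (by decide +kernel) chLb
    (by decide +kernel) (by decide +kernel) (iv := iv) (by decide +kernel) scLa
    (by decide +kernel) scLb (by decide +kernel) (by decide +kernel)

theorem ok {G : Type*} [Group G] [Finite G] {A : RA G 306936} {g0 : ℕ → G} (hT : A.Tab g0 144 T)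
    (hle : Nat.card G ≤ 1255205709190661721292800) : ∃ g : ℕ → G, RA.OutOK A g 154 TT B D 1255205709190661721292800 := by
  have h2 := hT.derive2 (Wd := Wd) (by decide +kernel) 154
  have hW : RA.whB TT 154 (nat_lit 254) Wh = true := by decide +kernel
  exact ⟨_, bigOK_of h2 (n' := 4089470473293004800) hle trans hW sub (fun K _ _ A' g0 h h' => okH A' g0 h h')
    (by decide +kernel) bigS (fa_of h2 (n' := 4089470473293004800) hle trans hW sub
      (fun K _ _ A' g0 h h' => okH A' g0 h h') (p := 23) (by norm_num) (by decide +kernel) orb fau) fb⟩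

theorem out {Γ : Type*} [Group Γ] {S : Subgroup Γ} [S.Normal] [Finite S] {A0 : RA Γ 306936} {A : RA S 306936}
    (hA : ∀ c x, A.act c x = A0.act c x) {x : ℕ → Γ} (h0 : A0.Tab x 12 L0.Fi24G.T) (hx : x 11 * x 11 = 1)
    {g0 : ℕ → S} (hT : A.Tab g0 144 T) (hle : Nat.card S ≤ 1255205709190661721292800) : Nat.card (Cfsg.Out S) = 2 := by
  obtain ⟨g, h⟩ := ok hT hle
  exact h.out_two (by decide) chk outS (RA.exists_aut_conj hA h.tab h.base hx
    (Y := fun c => L0.Fi24G.T c 11) (fun c hc => h0 11 (by norm_num) c hc) (by decide +kernel))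

end Cfsg.Agent.H9.OutFi24
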