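import Cfsg.Agent.H9.OutFi24D

/-! The outer automorphism group of Fi24'. Checks. -/

set_option autoImplicit false
set_option maxRecDepth 100000

namespace Cfsg.Agent.H9.OutFi24

theorem trans_0 : allPow (below (nat_lit 306936) (transB TT (nat_lit 254) (nat_lit 154) inf (nat_lit 8) (nat_lit 255))) 14 (0 * 2 ^ 14) = true := by decide +kernel

theorem trans_1 : allPow (below (nat_lit 306936) (transB TT (nat_lit 254) (nat_lit 154) inf (nat_lit 8) (nat_lit 255))) 14 (1 * 2 ^ 14) = true := by decide +kernel

theorem trans_2 : allPow (below (nat_lit 306936) (transB TT (nat_lit 254) (nat_lit 154) inf (nat_lit 8) (nat_lit 255))) 14 (2 * 2 ^ 14) = true := by decide +kernel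

theorem trans_3 : allPow (below (nat_lit 306936) (transB TT (nat_lit 254) (nat_lit 154) inf (nat_lit 8) (nat_lit 255))) 14 (3 * 2 ^ 14) = true := by decide +kernel

theorem trans_4 : allPow (below (nat_lit 306936) (transB TT (nat_lit 254) (nat_lit 154) inf (nat_lit 8) (nat_lit 255))) 14 (4 * 2 ^ 14) = true := by decide +kernel

theorem trans_5 : allPow (below (nat_lit 306936) (transB TT (nat_lit 254) (nat_lit 154) inf (nat_lit 8) (nat_lit 255))) 14 (5 * 2 ^ 14) = true := by decide +kernel

theorem trans_6 : allPow (below (nat_lit 306936) (transB TT (nat_lit 254) (nat_lit 154) inf (nat_lit 8) (nat_lit 255))) 14 (6 * 2 ^ 14) = true := by decide +kernel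

theorem trans_7 : allPow (below (nat_lit 306936) (transB TT (nat_lit 254) (nat_lit 154) inf (nat_lit 8) (nat_lit 255))) 14 (7 * 2 ^ 14) = true := by decide +kernel

theorem trans_8 : allPow (below (nat_lit 306936) (transB TT (nat_lit 254) (nat_lit 154) inf (nat_lit 8) (nat_lit 255))) 14 (8 * 2 ^ 14) = true := by decide +kernel

theorem trans_9 : allPow (below (nat_lit 306936) (transB TT (nat_lit 254) (nat_lit 154) inf (nat_lit 8) (nat_lit 255))) 14 (9 * 2 ^ 14) = true := by decide +kernel

theorem trans_10 : allPow (below (nat_lit 306936) (transB TT (nat_lit 254) (nat_lit 154) inf (nat_lit 8) (nat_lit 255))) 14 (10 * 2 ^ 14) = true := by decide +kernel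

theorem trans_11 : allPow (below (nat_lit 306936) (transB TT (nat_lit 254) (nat_lit 154) inf (nat_lit 8) (nat_lit 255))) 14 (11 * 2 ^ 14) = true := by decide +kernel

theorem trans_12 : allPow (below (nat_lit 306936) (transB TT (nat_lit 254) (nat_lit 154) inf (nat_lit 8) (nat_lit 255))) 14 (12 * 2 ^ 14) = true := by decide +kernel

theorem trans_13 : allPow (below (nat_lit 306936) (transB TT (nat_lit 254) (nat_lit 154) inf (nat_lit 8) (nat_lit 255))) 14 (13 * 2 ^ 14) = true := by decide +kernel

theorem trans_14 : allPow (below (nat_lit 306936) (transB TT (nat_lit 254) (nat_lit 154) inf (nat_lit 8) (nat_lit 255))) 14 (14 * 2 ^ 14) = true := by decide +kernel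

theorem trans_15 : allPow (below (nat_lit 306936) (transB TT (nat_lit 254) (nat_lit 154) inf (nat_lit 8) (nat_lit 255))) 14 (15 * 2 ^ 14) = true := by decide +kernel

theorem trans_16 : allPow (below (nat_lit 306936) (transB TT (nat_lit 254) (nat_lit 154) inf (nat_lit 8) (nat_lit 255))) 14 (16 * 2 ^ 14) = true := by decide +kernel

theorem trans_17 : allPow (below (nat_lit 306936) (transB TT (nat_lit 254) (nat_lit 154) inf (nat_lit 8) (nat_lit 255))) 14 (17 * 2 ^ 14) = true := by decide +kernel

theorem trans_18 : allPow (below (nat_lit 306936) (transB TT (nat_lit 254) (nat_lit 154) inf (nat_lit 8) (nat_lit 255))) 14 (18 * 2 ^ 14) = true := by decide +kernel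

theorem orb_0 : allPow (below (nat_lit 306936) (orb2B TT (nat_lit 254) (nat_lit 16) (nat_lit 11423551284260107032265750573735043051028470782) inf2 U (nat_lit 31671))) 14 (0 * 2 ^ 14) = true := by decide +kernel

theorem orb_1 : allPow (below (nat_lit 306936) (orb2B TT (nat_lit 254) (nat_lit 16) (nat_lit 11423551284260107032265750573735043051028470782) inf2 U (nat_lit 31671))) 14 (1 * 2 ^ 14) = true := by decide +kernel

theorem orb_2 : allPow (below (nat_lit 306936) (orb2B TT (nat_lit 254) (nat_lit 16) (nat_lit 11423551284260107032265750573735043051028470782) inf2 U (nat_lit 31671))) 14 (2 * 2 ^ 14) = true := by decide +kernel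

theorem orb_3 : allPow (below (nat_lit 306936) (orb2B TT (nat_lit 254) (nat_lit 16) (nat_lit 11423551284260107032265750573735043051028470782) inf2 U (nat_lit 31671))) 14 (3 * 2 ^ 14) = true := by decide +kernel

theorem orb_4 : allPow (below (nat_lit 306936) (orb2B TT (nat_lit 254) (nat_lit 16) (nat_lit 11423551284260107032265750573735043051028470782) inf2 U (nat_lit 31671))) 14 (4 * 2 ^ 14) = true := by decide +kernel

theorem orb_5 : allPow (below (nat_lit 306936) (orb2B TT (nat_lit 254) (nat_lit 16) (nat_lit 11423551284260107032265750573735043051028470782) inf2 U (nat_lit 31671))) 14 (5 * 2 ^ 14) = true := by decide +kernel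

theorem orb_6 : allPow (below (nat_lit 306936) (orb2B TT (nat_lit 254) (nat_lit 16) (nat_lit 11423551284260107032265750573735043051028470782) inf2 U (nat_lit 31671))) 14 (6 * 2 ^ 14) = true := by decide +kernel

theorem orb_7 : allPow (below (nat_lit 306936) (orb2B TT (nat_lit 254) (nat_lit 16) (nat_lit 11423551284260107032265750573735043051028470782) inf2 U (nat_lit 31671))) 14 (7 * 2 ^ 14) = true := by decide +kernel

theorem orb_8 : allPow (below (nat_lit 306936) (orb2B TT (nat_lit 254) (nat_lit 16) (nat_lit 11423551284260107032265750573735043051028470782) inf2 U (nat_lit 31671))) 14 (8 * 2 ^ 14) = true := by decide +kernel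

theorem orb_9 : allPow (below (nat_lit 306936) (orb2B TT (nat_lit 254) (nat_lit 16) (nat_lit 11423551284260107032265750573735043051028470782) inf2 U (nat_lit 31671))) 14 (9 * 2 ^ 14) = true := by decide +kernel

end Cfsg.Agent.H9.OutFi24
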