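import Cfsg.Agent.L0.Fi24.Tab
import Cfsg.Agent.H9.Big3
import Cfsg.Agent.H9.OutFi24L0
import Cfsg.Agent.H9.OutFi24L1
import Cfsg.Agent.H9.OutFi24L2
import Cfsg.Agent.H9.OutFi24L3

/-! The outer automorphism group of Fi24'. Data. -/

set_option autoImplicit false
set_option maxRecDepth 100000

namespace Cfsg.Agent.H9.OutFi24

noncomputable def T : ℕ → ℕ → ℕ := L0.Fi24G.TP

def SW : List (ℕ × List ℕ) := []

def Wd : List (List ℕ) := [[nat_lit 38, nat_lit 41, nat_lit 94, nat_lit 64, nat_lit 142, nat_lit 66, nat_lit 70, nat_lit 136, nat_lit 70, nat_lit 90, nat_lit 64, nat_lit 38, nat_lit 17, nat_lit 51, nat_lit 90, nat_lit 66, nat_lit 103, nat_lit 82, nat_lit 64, nat_lit 142, nat_lit 66, nat_lit 70, nat_lit 136, nat_lit 70, nat_lit 51, nat_lit 24, nat_lit 43, nat_lit 77, nat_lit 116, nat_lit 94, nat_lit 64, nat_lit 142, nat_lit 66, nat_lit 125, nat_lit 51, nat_lit 131, nat_lit 70, nat_lit 116, nat_lit 90, nat_lit 64, nat_lit 66, nat_lit 94, nat_lit 64, nat_lit 142, nat_lit 66, nat_lit 70, nat_lit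 136, nat_lit 70, nat_lit 80, nat_lit 95], [nat_lit 1, nat_lit 27, nat_lit 53, nat_lit 79, nat_lit 105], [nat_lit 99, nat_lit 79, nat_lit 22, nat_lit 64, nat_lit 38, nat_lit 18, nat_lit 70, nat_lit 116, nat_lit 90, nat_lit 64, nat_lit 38, nat_lit 116, nat_lit 90, nat_lit 70, nat_lit 90, nat_lit 64, nat_lit 77, nat_lit 128, nat_lit 90, nat_lit 69, nat_lit 103, nat_lit 75, nat_lit 53, nat_lit 125, nat_lit 51, nat_lit 53, nat_lit 83, nat_lit 105], [nat_lit 139, nat_lit 102, nat_lit 125, nat_lit 59, nat_lit 125, nat_lit 77, nat_lit 131, nat_lit 53, nat_lit 127, nat_lit 77, nat_lit 53, nat_lit 79, nat_lit 105, nat_lit 125, nat_lit 142, nat_lit 40, nat_lit 70, nat_lit 77, nat_lit 131, nat_lit 53, nat_lit 127, nat_lit 105, nat_lit 66, nat_lit 87, nat_lit 2, nat_lit 40, nat_lit 125, nat_lit 59, nat_lit 125, nat_lit 77, nat_lit 131, nat_lit 53, nat_lit 126, nat_lit 92, nat_lit 77, nat_lit 79, nat_lit 40, nat_lit 61, nat_lit 27, nat_lit 53, nat_lit 79, nat_lit 125, nat_lit 59, nat_lit 125, nat_lit 77,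 nat_lit 131, nat_lit 53, nat_lit 127, nat_lit 63, nat_lit 27], [nat_lit 116, nat_lit 90, nat_lit 64, nat_lit 38, nat_lit 12], [nat_lit 116, nat_lit 138, nat_lit 64, nat_lit 40, nat_lit 70, nat_lit 64, nat_lit 42, nat_lit 92, nat_lit 113, nat_lit 79, nat_lit 106, nat_lit 66, nat_lit 53, nat_lit 79, nat_lit 125, nat_lit 79, nat_lit 105, nat_lit 27, nat_lit 53, nat_lit 79, nat_lit 105, nat_lit 125, nat_lit 73, nat_lit 27, nat_lit 53, nat_lit 121, nat_lit 90, nat_lit 44], [nat_lit 1, nat_lit 86, nat_lit 58, nat_lit 64, nat_lit 142, nat_lit 66, nat_lit 70, nat_lit 136, nat_lit 70, nat_lit 64, nat_lit 43, nat_lit 125, nat_lit 59, nat_lit 125, nat_lit 77, nat_lit 131, nat_lit 53, nat_lit 123, nat_lit 2, nat_lit 54, nat_lit 90, nat_lit 64, nat_lit 44, nat_lit 79, nat_lit 125, nat_lit 59, nat_lit 125, nat_lit 77, nat_lit 131, nat_lit 53, nat_lit 129, nat_lit 103, nat_lit 77, nat_lit 51, nat_lit 2, nat_lit 14, nat_lit 40, nat_lit 66, nat_lit 94, nat_lit 64, nat_lit 142, nat_lit 66, nat_lit 70, nat_lit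 136, nat_lit 70, nat_lit 38, nat_lit 41, nat_lit 103, nat_lit 81, nat_lit 103, nat_lit 125, nat_lit 59, nat_lit 125, nat_lit 82, nat_lit 64, nat_lit 46, nat_lit 137, nat_lit 127, nat_lit 125, nat_lit 59, nat_lit 125, nat_lit 77, nat_lit 131, nat_lit 53, nat_lit 126, nat_lit 71, nat_lit 105], [nat_lit 128, nat_lit 84, nat_lit 80, nat_lit 66, nat_lit 58, nat_lit 71, nat_lit 87, nat_lit 125, nat_lit 51, nat_lit 79, nat_lit 105, nat_lit 66, nat_lit 92, nat_lit 125, nat_lit 53, nat_lit 79, nat_lit 98, nat_lit 125, nat_lit 75, nat_lit 53, nat_lit 79, nat_lit 125, nat_lit 73, nat_lit 2, nat_lit 37, nat_lit 131, nat_lit 125, nat_lit 51, nat_lit 12, nat_lit 25, nat_lit 125, nat_lit 59, nat_lit 79, nat_lit 82, nat_lit 64, nat_lit 142, nat_lit 66, nat_lit 125, nat_lit 51, nat_lit 131, nat_lit 70, nat_lit 24, nat_lit 80, nat_lit 90, nat_lit 125, nat_lit 59, nat_lit 125, nat_lit 82, nat_lit 64, nat_lit 46, nat_lit 141, nat_lit 103, nat_lit 83, nat_lit 53, nat_lit 131, nat_lit 64, nat_lit 77, nat_lit 125,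 nat_lit 80, nat_lit 92], [nat_lit 116, nat_lit 108, nat_lit 126, nat_lit 64, nat_lit 38, nat_lit 53, nat_lit 126, nat_lit 64, nat_lit 90, nat_lit 70, nat_lit 103, nat_lit 51, nat_lit 25, nat_lit 64, nat_lit 38, nat_lit 77, nat_lit 51, nat_lit 128, nat_lit 90, nat_lit 69, nat_lit 103, nat_lit 76, nat_lit 70, nat_lit 64, nat_lit 36, nat_lit 25, nat_lit 40, nat_lit 67, nat_lit 81, nat_lit 103], [nat_lit 125, nat_lit 59, nat_lit 125, nat_lit 77, nat_lit 131, nat_lit 53, nat_lit 131]]

noncomputable def TT : ℕ → ℕ → ℕ := T2 T (nat_lit 144) Wd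

noncomputable def infB : L0.BT := (.node (.node (.node (.node (.node (.node (.node (.node (.leaf infB_0) (.leaf infB_128)) (.leaf infB_64)) (.node (.leaf infB_32) (.leaf infB_96))) (.node (.node (.node (.leaf infB_16) (.leaf infB_144)) (.leaf infB_80)) (.node (.leaf infB_48) (.leaf infB_112)))) (.node (.node (.node (.node (.leaf infB_8) (.leaf infB_136)) (.leaf infB_72)) (.node (.leaf infB_40) (.leaf infB_104))) (.node (.node (.leaf infB_24) (.leaf infB_88)) (.node (.leaf infB_56) (.leaf infB_120))))) (.node (.node (.node (.node (.node (.leaf infB_4) (.leaf infB_132)) (.leaf infB_68)) (.node (.leaf infB_36) (.leaf infB_100))) (.node (.node (.node (.leaf infB_20) (.leaf infB_148)) (.leaf infB_84)) (.node (.leaf infB_52) (.leaf infB_116)))) (.node (.node (.node (.node (.leaf infB_12) (.leaf infB_140)) (.leaf infB_76)) (.node (.leaf infB_44) (.leaf infB_108))) (.node (.node (.leaf infB_28) (.leaf infB_92)) (.node (.leaf infB_60) (.leaf infB_124)))))) (.node (.node (.node (.node (.node (.node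 (.leaf infB_2) (.leaf infB_130)) (.leaf infB_66)) (.node (.leaf infB_34) (.leaf infB_98))) (.node (.node (.node (.leaf infB_18) (.leaf infB_146)) (.leaf infB_82)) (.node (.leaf infB_50) (.leaf infB_114)))) (.node (.node (.node (.node (.leaf infB_10) (.leaf infB_138)) (.leaf infB_74)) (.node (.leaf infB_42) (.leaf infB_106))) (.node (.node (.leaf infB_26) (.leaf infB_90)) (.node (.leaf infB_58) (.leaf infB_122))))) (.node (.node (.node (.node (.node (.leaf infB_6) (.leaf infB_134)) (.leaf infB_70)) (.node (.leaf infB_38) (.leaf infB_102))) (.node (.node (.leaf infB_22) (.leaf infB_86)) (.node (.leaf infB_54) (.leaf infB_118)))) (.node (.node (.node (.node (.leaf infB_14) (.leaf infB_142)) (.leaf infB_78)) (.node (.leaf infB_46) (.leaf infB_110))) (.node (.node (.leaf infB_30) (.leaf infB_94)) (.node (.leaf infB_62) (.leaf infB_126))))))) (.node (.node (.node (.node (.node (.node (.node (.leaf infB_1) (.leaf infB_129)) (.leaf infB_65)) (.node (.leaf infB_33) (.leaf infB_97))) (.node (.node (.node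 (.leaf infB_17) (.leaf infB_145)) (.leaf infB_81)) (.node (.leaf infB_49) (.leaf infB_113)))) (.node (.node (.node (.node (.leaf infB_9) (.leaf infB_137)) (.leaf infB_73)) (.node (.leaf infB_41) (.leaf infB_105))) (.node (.node (.leaf infB_25) (.leaf infB_89)) (.node (.leaf infB_57) (.leaf infB_121))))) (.node (.node (.node (.node (.node (.leaf infB_5) (.leaf infB_133)) (.leaf infB_69)) (.node (.leaf infB_37) (.leaf infB_101))) (.node (.node (.node (.leaf infB_21) (.leaf infB_149)) (.leaf infB_85)) (.node (.leaf infB_53) (.leaf infB_117)))) (.node (.node (.node (.node (.leaf infB_13) (.leaf infB_141)) (.leaf infB_77)) (.node (.leaf infB_45) (.leaf infB_109))) (.node (.node (.leaf infB_29) (.leaf infB_93)) (.node (.leaf infB_61) (.leaf infB_125)))))) (.node (.node (.node (.node (.node (.node (.leaf infB_3) (.leaf infB_131)) (.leaf infB_67)) (.node (.leaf infB_35) (.leaf infB_99))) (.node (.node (.node (.leaf infB_19) (.leaf infB_147)) (.leaf infB_83)) (.node (.leaf infB_51) (.leaf infB_115))))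 (.node (.node (.node (.node (.leaf infB_11) (.leaf infB_139)) (.leaf infB_75)) (.node (.leaf infB_43) (.leaf infB_107))) (.node (.node (.leaf infB_27) (.leaf infB_91)) (.node (.leaf infB_59) (.leaf infB_123))))) (.node (.node (.node (.node (.node (.leaf infB_7) (.leaf infB_135)) (.leaf infB_71)) (.node (.leaf infB_39) (.leaf infB_103))) (.node (.node (.leaf infB_23) (.leaf infB_87)) (.node (.leaf infB_55) (.leaf infB_119)))) (.node (.node (.node (.node (.leaf infB_15) (.leaf infB_143)) (.leaf infB_79)) (.node (.leaf infB_47) (.leaf infB_111))) (.node (.node (.leaf infB_31) (.leaf infB_95)) (.node (.leaf infB_63) (.leaf infB_127))))))))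

noncomputable def inf (c : ℕ) : ℕ := L0.rowOf infB (nat_lit 11) (nat_lit 2047) (nat_lit 13) (nat_lit 8191) c

noncomputable def UB : L0.BT := (.node (.node (.node (.node (.leaf UB_0) (.leaf UB_8)) (.node (.leaf UB_4) (.leaf UB_12))) (.node (.node (.leaf UB_2) (.leaf UB_10)) (.node (.leaf UB_6) (.leaf UB_14)))) (.node (.node (.node (.leaf UB_1) (.leaf UB_9)) (.node (.leaf UB_5) (.leaf UB_13))) (.node (.node (.leaf UB_3) (.leaf UB_11)) (.node (.leaf UB_7) (.leaf UB_15)))))

noncomputable def U (c : ℕ) : ℕ := L0.rowOf UB (nat_lit 11) (nat_lit 2047) (nat_lit 19) (nat_lit 524287) c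

noncomputable def THB : L0.BT := (.node (.node (.node (.node (.node (.node (.node (.node (.node (.node (.node (.leaf THB_0) (.leaf THB_1024)) (.node (.leaf THB_512) (.leaf THB_1536))) (.node (.node (.leaf THB_256) (.leaf THB_1280)) (.node (.leaf THB_768) (.leaf THB_1792)))) (.node (.node (.node (.leaf THB_128) (.leaf THB_1152)) (.node (.leaf THB_640) (.leaf THB_1664))) (.node (.node (.leaf THB_384) (.leaf THB_1408)) (.leaf THB_896)))) (.node (.node (.node (.node (.leaf THB_64) (.leaf THB_1088)) (.node (.leaf THB_576) (.leaf THB_1600))) (.node (.node (.leaf THB_320) (.leaf THB_1344)) (.node (.leaf THB_832) (.leaf THB_1856)))) (.node (.node (.node (.leaf THB_192) (.leaf THB_1216)) (.node (.leaf THB_704) (.leaf THB_1728))) (.node (.node (.leaf THB_448) (.leaf THB_1472)) (.leaf THB_960))))) (.node (.node (.node (.node (.node (.leaf THB_32) (.leaf THB_1056)) (.node (.leaf THB_544) (.leaf THB_1568))) (.node (.node (.leaf THB_288) (.leaf THB_1312)) (.node (.leaf THB_800) (.leaf THB_1824)))) (.node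 (.node (.node (.leaf THB_160) (.leaf THB_1184)) (.node (.leaf THB_672) (.leaf THB_1696))) (.node (.node (.leaf THB_416) (.leaf THB_1440)) (.leaf THB_928)))) (.node (.node (.node (.node (.leaf THB_96) (.leaf THB_1120)) (.node (.leaf THB_608) (.leaf THB_1632))) (.node (.node (.leaf THB_352) (.leaf THB_1376)) (.node (.leaf THB_864) (.leaf THB_1888)))) (.node (.node (.node (.leaf THB_224) (.leaf THB_1248)) (.node (.leaf THB_736) (.leaf THB_1760))) (.node (.node (.leaf THB_480) (.leaf THB_1504)) (.leaf THB_992)))))) (.node (.node (.node (.node (.node (.node (.leaf THB_16) (.leaf THB_1040)) (.node (.leaf THB_528) (.leaf THB_1552))) (.node (.node (.leaf THB_272) (.leaf THB_1296)) (.node (.leaf THB_784) (.leaf THB_1808)))) (.node (.node (.node (.leaf THB_144) (.leaf THB_1168)) (.node (.leaf THB_656) (.leaf THB_1680))) (.node (.node (.leaf THB_400) (.leaf THB_1424)) (.leaf THB_912)))) (.node (.node (.node (.node (.leaf THB_80) (.leaf THB_1104)) (.node (.leaf THB_592) (.leaf THB_1616))) (.node (.node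 (.leaf THB_336) (.leaf THB_1360)) (.node (.leaf THB_848) (.leaf THB_1872)))) (.node (.node (.node (.leaf THB_208) (.leaf THB_1232)) (.node (.leaf THB_720) (.leaf THB_1744))) (.node (.node (.leaf THB_464) (.leaf THB_1488)) (.leaf THB_976))))) (.node (.node (.node (.node (.node (.leaf THB_48) (.leaf THB_1072)) (.node (.leaf THB_560) (.leaf THB_1584))) (.node (.node (.leaf THB_304) (.leaf THB_1328)) (.node (.leaf THB_816) (.leaf THB_1840)))) (.node (.node (.node (.leaf THB_176) (.leaf THB_1200)) (.node (.leaf THB_688) (.leaf THB_1712))) (.node (.node (.leaf THB_432) (.leaf THB_1456)) (.leaf THB_944)))) (.node (.node (.node (.node (.leaf THB_112) (.leaf THB_1136)) (.node (.leaf THB_624) (.leaf THB_1648))) (.node (.node (.leaf THB_368) (.leaf THB_1392)) (.node (.leaf THB_880) (.leaf THB_1904)))) (.node (.node (.node (.leaf THB_240) (.leaf THB_1264)) (.node (.leaf THB_752) (.leaf THB_1776))) (.node (.node (.leaf THB_496) (.leaf THB_1520)) (.leaf THB_1008))))))) (.node (.node (.node (.node (.node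 (.node (.node (.leaf THB_8) (.leaf THB_1032)) (.node (.leaf THB_520) (.leaf THB_1544))) (.node (.node (.leaf THB_264) (.leaf THB_1288)) (.node (.leaf THB_776) (.leaf THB_1800)))) (.node (.node (.node (.leaf THB_136) (.leaf THB_1160)) (.node (.leaf THB_648) (.leaf THB_1672))) (.node (.node (.leaf THB_392) (.leaf THB_1416)) (.leaf THB_904)))) (.node (.node (.node (.node (.leaf THB_72) (.leaf THB_1096)) (.node (.leaf THB_584) (.leaf THB_1608))) (.node (.node (.leaf THB_328) (.leaf THB_1352)) (.node (.leaf THB_840) (.leaf THB_1864)))) (.node (.node (.node (.leaf THB_200) (.leaf THB_1224)) (.node (.leaf THB_712) (.leaf THB_1736))) (.node (.node (.leaf THB_456) (.leaf THB_1480)) (.leaf THB_968))))) (.node (.node (.node (.node (.node (.leaf THB_40) (.leaf THB_1064)) (.node (.leaf THB_552) (.leaf THB_1576))) (.node (.node (.leaf THB_296) (.leaf THB_1320)) (.node (.leaf THB_808) (.leaf THB_1832)))) (.node (.node (.node (.leaf THB_168) (.leaf THB_1192)) (.node (.leaf THB_680) (.leaf THB_1704))) (.node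 (.node (.leaf THB_424) (.leaf THB_1448)) (.leaf THB_936)))) (.node (.node (.node (.node (.leaf THB_104) (.leaf THB_1128)) (.node (.leaf THB_616) (.leaf THB_1640))) (.node (.node (.leaf THB_360) (.leaf THB_1384)) (.node (.leaf THB_872) (.leaf THB_1896)))) (.node (.node (.node (.leaf THB_232) (.leaf THB_1256)) (.node (.leaf THB_744) (.leaf THB_1768))) (.node (.node (.leaf THB_488) (.leaf THB_1512)) (.leaf THB_1000)))))) (.node (.node (.node (.node (.node (.node (.leaf THB_24) (.leaf THB_1048)) (.node (.leaf THB_536) (.leaf THB_1560))) (.node (.node (.leaf THB_280) (.leaf THB_1304)) (.node (.leaf THB_792) (.leaf THB_1816)))) (.node (.node (.node (.leaf THB_152) (.leaf THB_1176)) (.node (.leaf THB_664) (.leaf THB_1688))) (.node (.node (.leaf THB_408) (.leaf THB_1432)) (.leaf THB_920)))) (.node (.node (.node (.node (.leaf THB_88) (.leaf THB_1112)) (.node (.leaf THB_600) (.leaf THB_1624))) (.node (.node (.leaf THB_344) (.leaf THB_1368)) (.node (.leaf THB_856) (.leaf THB_1880)))) (.node (.node (.node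 (.leaf THB_216) (.leaf THB_1240)) (.node (.leaf THB_728) (.leaf THB_1752))) (.node (.node (.leaf THB_472) (.leaf THB_1496)) (.leaf THB_984))))) (.node (.node (.node (.node (.node (.leaf THB_56) (.leaf THB_1080)) (.node (.leaf THB_568) (.leaf THB_1592))) (.node (.node (.leaf THB_312) (.leaf THB_1336)) (.node (.leaf THB_824) (.leaf THB_1848)))) (.node (.node (.node (.leaf THB_184) (.leaf THB_1208)) (.node (.leaf THB_696) (.leaf THB_1720))) (.node (.node (.leaf THB_440) (.leaf THB_1464)) (.leaf THB_952)))) (.node (.node (.node (.node (.leaf THB_120) (.leaf THB_1144)) (.node (.leaf THB_632) (.leaf THB_1656))) (.node (.node (.leaf THB_376) (.leaf THB_1400)) (.node (.leaf THB_888) (.leaf THB_1912)))) (.node (.node (.node (.leaf THB_248) (.leaf THB_1272)) (.node (.leaf THB_760) (.leaf THB_1784))) (.node (.node (.leaf THB_504) (.leaf THB_1528)) (.leaf THB_1016)))))))) (.node (.node (.node (.node (.node (.node (.node (.node (.leaf THB_4) (.leaf THB_1028)) (.node (.leaf THB_516) (.leaf THB_1540))) (.node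 (.node (.leaf THB_260) (.leaf THB_1284)) (.node (.leaf THB_772) (.leaf THB_1796)))) (.node (.node (.node (.leaf THB_132) (.leaf THB_1156)) (.node (.leaf THB_644) (.leaf THB_1668))) (.node (.node (.leaf THB_388) (.leaf THB_1412)) (.leaf THB_900)))) (.node (.node (.node (.node (.leaf THB_68) (.leaf THB_1092)) (.node (.leaf THB_580) (.leaf THB_1604))) (.node (.node (.leaf THB_324) (.leaf THB_1348)) (.node (.leaf THB_836) (.leaf THB_1860)))) (.node (.node (.node (.leaf THB_196) (.leaf THB_1220)) (.node (.leaf THB_708) (.leaf THB_1732))) (.node (.node (.leaf THB_452) (.leaf THB_1476)) (.leaf THB_964))))) (.node (.node (.node (.node (.node (.leaf THB_36) (.leaf THB_1060)) (.node (.leaf THB_548) (.leaf THB_1572))) (.node (.node (.leaf THB_292) (.leaf THB_1316)) (.node (.leaf THB_804) (.leaf THB_1828)))) (.node (.node (.node (.leaf THB_164) (.leaf THB_1188)) (.node (.leaf THB_676) (.leaf THB_1700))) (.node (.node (.leaf THB_420) (.leaf THB_1444)) (.leaf THB_932)))) (.node (.node (.node (.node (.leaf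 THB_100) (.leaf THB_1124)) (.node (.leaf THB_612) (.leaf THB_1636))) (.node (.node (.leaf THB_356) (.leaf THB_1380)) (.node (.leaf THB_868) (.leaf THB_1892)))) (.node (.node (.node (.leaf THB_228) (.leaf THB_1252)) (.node (.leaf THB_740) (.leaf THB_1764))) (.node (.node (.leaf THB_484) (.leaf THB_1508)) (.leaf THB_996)))))) (.node (.node (.node (.node (.node (.node (.leaf THB_20) (.leaf THB_1044)) (.node (.leaf THB_532) (.leaf THB_1556))) (.node (.node (.leaf THB_276) (.leaf THB_1300)) (.node (.leaf THB_788) (.leaf THB_1812)))) (.node (.node (.node (.leaf THB_148) (.leaf THB_1172)) (.node (.leaf THB_660) (.leaf THB_1684))) (.node (.node (.leaf THB_404) (.leaf THB_1428)) (.leaf THB_916)))) (.node (.node (.node (.node (.leaf THB_84) (.leaf THB_1108)) (.node (.leaf THB_596) (.leaf THB_1620))) (.node (.node (.leaf THB_340) (.leaf THB_1364)) (.node (.leaf THB_852) (.leaf THB_1876)))) (.node (.node (.node (.leaf THB_212) (.leaf THB_1236)) (.node (.leaf THB_724) (.leaf THB_1748))) (.node (.node (.leaf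 THB_468) (.leaf THB_1492)) (.leaf THB_980))))) (.node (.node (.node (.node (.node (.leaf THB_52) (.leaf THB_1076)) (.node (.leaf THB_564) (.leaf THB_1588))) (.node (.node (.leaf THB_308) (.leaf THB_1332)) (.node (.leaf THB_820) (.leaf THB_1844)))) (.node (.node (.node (.leaf THB_180) (.leaf THB_1204)) (.node (.leaf THB_692) (.leaf THB_1716))) (.node (.node (.leaf THB_436) (.leaf THB_1460)) (.leaf THB_948)))) (.node (.node (.node (.node (.leaf THB_116) (.leaf THB_1140)) (.node (.leaf THB_628) (.leaf THB_1652))) (.node (.node (.leaf THB_372) (.leaf THB_1396)) (.node (.leaf THB_884) (.leaf THB_1908)))) (.node (.node (.node (.leaf THB_244) (.leaf THB_1268)) (.node (.leaf THB_756) (.leaf THB_1780))) (.node (.node (.leaf THB_500) (.leaf THB_1524)) (.leaf THB_1012))))))) (.node (.node (.node (.node (.node (.node (.node (.leaf THB_12) (.leaf THB_1036)) (.node (.leaf THB_524) (.leaf THB_1548))) (.node (.node (.leaf THB_268) (.leaf THB_1292)) (.node (.leaf THB_780) (.leaf THB_1804)))) (.node (.node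 (.node (.leaf THB_140) (.leaf THB_1164)) (.node (.leaf THB_652) (.leaf THB_1676))) (.node (.node (.leaf THB_396) (.leaf THB_1420)) (.leaf THB_908)))) (.node (.node (.node (.node (.leaf THB_76) (.leaf THB_1100)) (.node (.leaf THB_588) (.leaf THB_1612))) (.node (.node (.leaf THB_332) (.leaf THB_1356)) (.node (.leaf THB_844) (.leaf THB_1868)))) (.node (.node (.node (.leaf THB_204) (.leaf THB_1228)) (.node (.leaf THB_716) (.leaf THB_1740))) (.node (.node (.leaf THB_460) (.leaf THB_1484)) (.leaf THB_972))))) (.node (.node (.node (.node (.node (.leaf THB_44) (.leaf THB_1068)) (.node (.leaf THB_556) (.leaf THB_1580))) (.node (.node (.leaf THB_300) (.leaf THB_1324)) (.node (.leaf THB_812) (.leaf THB_1836)))) (.node (.node (.node (.leaf THB_172) (.leaf THB_1196)) (.node (.leaf THB_684) (.leaf THB_1708))) (.node (.node (.leaf THB_428) (.leaf THB_1452)) (.leaf THB_940)))) (.node (.node (.node (.node (.leaf THB_108) (.leaf THB_1132)) (.node (.leaf THB_620) (.leaf THB_1644))) (.node (.node (.leaf THB_364)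 (.leaf THB_1388)) (.node (.leaf THB_876) (.leaf THB_1900)))) (.node (.node (.node (.leaf THB_236) (.leaf THB_1260)) (.node (.leaf THB_748) (.leaf THB_1772))) (.node (.node (.leaf THB_492) (.leaf THB_1516)) (.leaf THB_1004)))))) (.node (.node (.node (.node (.node (.node (.leaf THB_28) (.leaf THB_1052)) (.node (.leaf THB_540) (.leaf THB_1564))) (.node (.node (.leaf THB_284) (.leaf THB_1308)) (.node (.leaf THB_796) (.leaf THB_1820)))) (.node (.node (.node (.leaf THB_156) (.leaf THB_1180)) (.node (.leaf THB_668) (.leaf THB_1692))) (.node (.node (.leaf THB_412) (.leaf THB_1436)) (.leaf THB_924)))) (.node (.node (.node (.node (.leaf THB_92) (.leaf THB_1116)) (.node (.leaf THB_604) (.leaf THB_1628))) (.node (.node (.leaf THB_348) (.leaf THB_1372)) (.node (.leaf THB_860) (.leaf THB_1884)))) (.node (.node (.node (.leaf THB_220) (.leaf THB_1244)) (.node (.leaf THB_732) (.leaf THB_1756))) (.node (.node (.leaf THB_476) (.leaf THB_1500)) (.leaf THB_988))))) (.node (.node (.node (.node (.node (.leaf THB_60)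 (.leaf THB_1084)) (.node (.leaf THB_572) (.leaf THB_1596))) (.node (.node (.leaf THB_316) (.leaf THB_1340)) (.node (.leaf THB_828) (.leaf THB_1852)))) (.node (.node (.node (.leaf THB_188) (.leaf THB_1212)) (.node (.leaf THB_700) (.leaf THB_1724))) (.node (.node (.leaf THB_444) (.leaf THB_1468)) (.leaf THB_956)))) (.node (.node (.node (.node (.leaf THB_124) (.leaf THB_1148)) (.node (.leaf THB_636) (.leaf THB_1660))) (.node (.node (.leaf THB_380) (.leaf THB_1404)) (.node (.leaf THB_892) (.leaf THB_1916)))) (.node (.node (.node (.leaf THB_252) (.leaf THB_1276)) (.node (.leaf THB_764) (.leaf THB_1788))) (.node (.node (.leaf THB_508) (.leaf THB_1532)) (.leaf THB_1020))))))))) (.node (.node (.node (.node (.node (.node (.node (.node (.node (.leaf THB_2) (.leaf THB_1026)) (.node (.leaf THB_514) (.leaf THB_1538))) (.node (.node (.leaf THB_258) (.leaf THB_1282)) (.node (.leaf THB_770) (.leaf THB_1794)))) (.node (.node (.node (.leaf THB_130) (.leaf THB_1154)) (.node (.leaf THB_642) (.leaf THB_1666)))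 (.node (.node (.leaf THB_386) (.leaf THB_1410)) (.leaf THB_898)))) (.node (.node (.node (.node (.leaf THB_66) (.leaf THB_1090)) (.node (.leaf THB_578) (.leaf THB_1602))) (.node (.node (.leaf THB_322) (.leaf THB_1346)) (.node (.leaf THB_834) (.leaf THB_1858)))) (.node (.node (.node (.leaf THB_194) (.leaf THB_1218)) (.node (.leaf THB_706) (.leaf THB_1730))) (.node (.node (.leaf THB_450) (.leaf THB_1474)) (.leaf THB_962))))) (.node (.node (.node (.node (.node (.leaf THB_34) (.leaf THB_1058)) (.node (.leaf THB_546) (.leaf THB_1570))) (.node (.node (.leaf THB_290) (.leaf THB_1314)) (.node (.leaf THB_802) (.leaf THB_1826)))) (.node (.node (.node (.leaf THB_162) (.leaf THB_1186)) (.node (.leaf THB_674) (.leaf THB_1698))) (.node (.node (.leaf THB_418) (.leaf THB_1442)) (.leaf THB_930)))) (.node (.node (.node (.node (.leaf THB_98) (.leaf THB_1122)) (.node (.leaf THB_610) (.leaf THB_1634))) (.node (.node (.leaf THB_354) (.leaf THB_1378)) (.node (.leaf THB_866) (.leaf THB_1890)))) (.node (.node (.node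 (.leaf THB_226) (.leaf THB_1250)) (.node (.leaf THB_738) (.leaf THB_1762))) (.node (.node (.leaf THB_482) (.leaf THB_1506)) (.leaf THB_994)))))) (.node (.node (.node (.node (.node (.node (.leaf THB_18) (.leaf THB_1042)) (.node (.leaf THB_530) (.leaf THB_1554))) (.node (.node (.leaf THB_274) (.leaf THB_1298)) (.node (.leaf THB_786) (.leaf THB_1810)))) (.node (.node (.node (.leaf THB_146) (.leaf THB_1170)) (.node (.leaf THB_658) (.leaf THB_1682))) (.node (.node (.leaf THB_402) (.leaf THB_1426)) (.leaf THB_914)))) (.node (.node (.node (.node (.leaf THB_82) (.leaf THB_1106)) (.node (.leaf THB_594) (.leaf THB_1618))) (.node (.node (.leaf THB_338) (.leaf THB_1362)) (.node (.leaf THB_850) (.leaf THB_1874)))) (.node (.node (.node (.leaf THB_210) (.leaf THB_1234)) (.node (.leaf THB_722) (.leaf THB_1746))) (.node (.node (.leaf THB_466) (.leaf THB_1490)) (.leaf THB_978))))) (.node (.node (.node (.node (.node (.leaf THB_50) (.leaf THB_1074)) (.node (.leaf THB_562) (.leaf THB_1586))) (.node (.node (.leaf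 THB_306) (.leaf THB_1330)) (.node (.leaf THB_818) (.leaf THB_1842)))) (.node (.node (.node (.leaf THB_178) (.leaf THB_1202)) (.node (.leaf THB_690) (.leaf THB_1714))) (.node (.node (.leaf THB_434) (.leaf THB_1458)) (.leaf THB_946)))) (.node (.node (.node (.node (.leaf THB_114) (.leaf THB_1138)) (.node (.leaf THB_626) (.leaf THB_1650))) (.node (.node (.leaf THB_370) (.leaf THB_1394)) (.node (.leaf THB_882) (.leaf THB_1906)))) (.node (.node (.node (.leaf THB_242) (.leaf THB_1266)) (.node (.leaf THB_754) (.leaf THB_1778))) (.node (.node (.leaf THB_498) (.leaf THB_1522)) (.leaf THB_1010))))))) (.node (.node (.node (.node (.node (.node (.node (.leaf THB_10) (.leaf THB_1034)) (.node (.leaf THB_522) (.leaf THB_1546))) (.node (.node (.leaf THB_266) (.leaf THB_1290)) (.node (.leaf THB_778) (.leaf THB_1802)))) (.node (.node (.node (.leaf THB_138) (.leaf THB_1162)) (.node (.leaf THB_650) (.leaf THB_1674))) (.node (.node (.leaf THB_394) (.leaf THB_1418)) (.leaf THB_906)))) (.node (.node (.node (.node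 (.leaf THB_74) (.leaf THB_1098)) (.node (.leaf THB_586) (.leaf THB_1610))) (.node (.node (.leaf THB_330) (.leaf THB_1354)) (.node (.leaf THB_842) (.leaf THB_1866)))) (.node (.node (.node (.leaf THB_202) (.leaf THB_1226)) (.node (.leaf THB_714) (.leaf THB_1738))) (.node (.node (.leaf THB_458) (.leaf THB_1482)) (.leaf THB_970))))) (.node (.node (.node (.node (.node (.leaf THB_42) (.leaf THB_1066)) (.node (.leaf THB_554) (.leaf THB_1578))) (.node (.node (.leaf THB_298) (.leaf THB_1322)) (.node (.leaf THB_810) (.leaf THB_1834)))) (.node (.node (.node (.leaf THB_170) (.leaf THB_1194)) (.node (.leaf THB_682) (.leaf THB_1706))) (.node (.node (.leaf THB_426) (.leaf THB_1450)) (.leaf THB_938)))) (.node (.node (.node (.node (.leaf THB_106) (.leaf THB_1130)) (.node (.leaf THB_618) (.leaf THB_1642))) (.node (.node (.leaf THB_362) (.leaf THB_1386)) (.node (.leaf THB_874) (.leaf THB_1898)))) (.node (.node (.node (.leaf THB_234) (.leaf THB_1258)) (.node (.leaf THB_746) (.leaf THB_1770))) (.node (.node (.leaf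 THB_490) (.leaf THB_1514)) (.leaf THB_1002)))))) (.node (.node (.node (.node (.node (.node (.leaf THB_26) (.leaf THB_1050)) (.node (.leaf THB_538) (.leaf THB_1562))) (.node (.node (.leaf THB_282) (.leaf THB_1306)) (.node (.leaf THB_794) (.leaf THB_1818)))) (.node (.node (.node (.leaf THB_154) (.leaf THB_1178)) (.node (.leaf THB_666) (.leaf THB_1690))) (.node (.node (.leaf THB_410) (.leaf THB_1434)) (.leaf THB_922)))) (.node (.node (.node (.node (.leaf THB_90) (.leaf THB_1114)) (.node (.leaf THB_602) (.leaf THB_1626))) (.node (.node (.leaf THB_346) (.leaf THB_1370)) (.node (.leaf THB_858) (.leaf THB_1882)))) (.node (.node (.node (.leaf THB_218) (.leaf THB_1242)) (.node (.leaf THB_730) (.leaf THB_1754))) (.node (.node (.leaf THB_474) (.leaf THB_1498)) (.leaf THB_986))))) (.node (.node (.node (.node (.node (.leaf THB_58) (.leaf THB_1082)) (.node (.leaf THB_570) (.leaf THB_1594))) (.node (.node (.leaf THB_314) (.leaf THB_1338)) (.node (.leaf THB_826) (.leaf THB_1850)))) (.node (.node (.node (.leaf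 THB_186) (.leaf THB_1210)) (.node (.leaf THB_698) (.leaf THB_1722))) (.node (.node (.leaf THB_442) (.leaf THB_1466)) (.leaf THB_954)))) (.node (.node (.node (.node (.leaf THB_122) (.leaf THB_1146)) (.node (.leaf THB_634) (.leaf THB_1658))) (.node (.node (.leaf THB_378) (.leaf THB_1402)) (.node (.leaf THB_890) (.leaf THB_1914)))) (.node (.node (.node (.leaf THB_250) (.leaf THB_1274)) (.node (.leaf THB_762) (.leaf THB_1786))) (.node (.node (.leaf THB_506) (.leaf THB_1530)) (.leaf THB_1018)))))))) (.node (.node (.node (.node (.node (.node (.node (.node (.leaf THB_6) (.leaf THB_1030)) (.node (.leaf THB_518) (.leaf THB_1542))) (.node (.node (.leaf THB_262) (.leaf THB_1286)) (.node (.leaf THB_774) (.leaf THB_1798)))) (.node (.node (.node (.leaf THB_134) (.leaf THB_1158)) (.node (.leaf THB_646) (.leaf THB_1670))) (.node (.node (.leaf THB_390) (.leaf THB_1414)) (.leaf THB_902)))) (.node (.node (.node (.node (.leaf THB_70) (.leaf THB_1094)) (.node (.leaf THB_582) (.leaf THB_1606))) (.node (.node (.leaf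 THB_326) (.leaf THB_1350)) (.node (.leaf THB_838) (.leaf THB_1862)))) (.node (.node (.node (.leaf THB_198) (.leaf THB_1222)) (.node (.leaf THB_710) (.leaf THB_1734))) (.node (.node (.leaf THB_454) (.leaf THB_1478)) (.leaf THB_966))))) (.node (.node (.node (.node (.node (.leaf THB_38) (.leaf THB_1062)) (.node (.leaf THB_550) (.leaf THB_1574))) (.node (.node (.leaf THB_294) (.leaf THB_1318)) (.node (.leaf THB_806) (.leaf THB_1830)))) (.node (.node (.node (.leaf THB_166) (.leaf THB_1190)) (.node (.leaf THB_678) (.leaf THB_1702))) (.node (.node (.leaf THB_422) (.leaf THB_1446)) (.leaf THB_934)))) (.node (.node (.node (.node (.leaf THB_102) (.leaf THB_1126)) (.node (.leaf THB_614) (.leaf THB_1638))) (.node (.node (.leaf THB_358) (.leaf THB_1382)) (.node (.leaf THB_870) (.leaf THB_1894)))) (.node (.node (.node (.leaf THB_230) (.leaf THB_1254)) (.node (.leaf THB_742) (.leaf THB_1766))) (.node (.node (.leaf THB_486) (.leaf THB_1510)) (.leaf THB_998)))))) (.node (.node (.node (.node (.node (.node (.leaf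 THB_22) (.leaf THB_1046)) (.node (.leaf THB_534) (.leaf THB_1558))) (.node (.node (.leaf THB_278) (.leaf THB_1302)) (.node (.leaf THB_790) (.leaf THB_1814)))) (.node (.node (.node (.leaf THB_150) (.leaf THB_1174)) (.node (.leaf THB_662) (.leaf THB_1686))) (.node (.node (.leaf THB_406) (.leaf THB_1430)) (.leaf THB_918)))) (.node (.node (.node (.node (.leaf THB_86) (.leaf THB_1110)) (.node (.leaf THB_598) (.leaf THB_1622))) (.node (.node (.leaf THB_342) (.leaf THB_1366)) (.node (.leaf THB_854) (.leaf THB_1878)))) (.node (.node (.node (.leaf THB_214) (.leaf THB_1238)) (.node (.leaf THB_726) (.leaf THB_1750))) (.node (.node (.leaf THB_470) (.leaf THB_1494)) (.leaf THB_982))))) (.node (.node (.node (.node (.node (.leaf THB_54) (.leaf THB_1078)) (.node (.leaf THB_566) (.leaf THB_1590))) (.node (.node (.leaf THB_310) (.leaf THB_1334)) (.node (.leaf THB_822) (.leaf THB_1846)))) (.node (.node (.node (.leaf THB_182) (.leaf THB_1206)) (.node (.leaf THB_694) (.leaf THB_1718))) (.node (.node (.leaf THB_438)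 (.leaf THB_1462)) (.leaf THB_950)))) (.node (.node (.node (.node (.leaf THB_118) (.leaf THB_1142)) (.node (.leaf THB_630) (.leaf THB_1654))) (.node (.node (.leaf THB_374) (.leaf THB_1398)) (.node (.leaf THB_886) (.leaf THB_1910)))) (.node (.node (.node (.leaf THB_246) (.leaf THB_1270)) (.node (.leaf THB_758) (.leaf THB_1782))) (.node (.node (.leaf THB_502) (.leaf THB_1526)) (.leaf THB_1014))))))) (.node (.node (.node (.node (.node (.node (.node (.leaf THB_14) (.leaf THB_1038)) (.node (.leaf THB_526) (.leaf THB_1550))) (.node (.node (.leaf THB_270) (.leaf THB_1294)) (.node (.leaf THB_782) (.leaf THB_1806)))) (.node (.node (.node (.leaf THB_142) (.leaf THB_1166)) (.node (.leaf THB_654) (.leaf THB_1678))) (.node (.node (.leaf THB_398) (.leaf THB_1422)) (.leaf THB_910)))) (.node (.node (.node (.node (.leaf THB_78) (.leaf THB_1102)) (.node (.leaf THB_590) (.leaf THB_1614))) (.node (.node (.leaf THB_334) (.leaf THB_1358)) (.node (.leaf THB_846) (.leaf THB_1870)))) (.node (.node (.node (.leaf THB_206)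 (.leaf THB_1230)) (.node (.leaf THB_718) (.leaf THB_1742))) (.node (.node (.leaf THB_462) (.leaf THB_1486)) (.leaf THB_974))))) (.node (.node (.node (.node (.node (.leaf THB_46) (.leaf THB_1070)) (.node (.leaf THB_558) (.leaf THB_1582))) (.node (.node (.leaf THB_302) (.leaf THB_1326)) (.node (.leaf THB_814) (.leaf THB_1838)))) (.node (.node (.node (.leaf THB_174) (.leaf THB_1198)) (.node (.leaf THB_686) (.leaf THB_1710))) (.node (.node (.leaf THB_430) (.leaf THB_1454)) (.leaf THB_942)))) (.node (.node (.node (.node (.leaf THB_110) (.leaf THB_1134)) (.node (.leaf THB_622) (.leaf THB_1646))) (.node (.node (.leaf THB_366) (.leaf THB_1390)) (.node (.leaf THB_878) (.leaf THB_1902)))) (.node (.node (.node (.leaf THB_238) (.leaf THB_1262)) (.node (.leaf THB_750) (.leaf THB_1774))) (.node (.node (.leaf THB_494) (.leaf THB_1518)) (.leaf THB_1006)))))) (.node (.node (.node (.node (.node (.node (.leaf THB_30) (.leaf THB_1054)) (.node (.leaf THB_542) (.leaf THB_1566))) (.node (.node (.leaf THB_286) (.leaf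 THB_1310)) (.node (.leaf THB_798) (.leaf THB_1822)))) (.node (.node (.node (.leaf THB_158) (.leaf THB_1182)) (.node (.leaf THB_670) (.leaf THB_1694))) (.node (.node (.leaf THB_414) (.leaf THB_1438)) (.leaf THB_926)))) (.node (.node (.node (.node (.leaf THB_94) (.leaf THB_1118)) (.node (.leaf THB_606) (.leaf THB_1630))) (.node (.node (.leaf THB_350) (.leaf THB_1374)) (.node (.leaf THB_862) (.leaf THB_1886)))) (.node (.node (.node (.leaf THB_222) (.leaf THB_1246)) (.node (.leaf THB_734) (.leaf THB_1758))) (.node (.node (.leaf THB_478) (.leaf THB_1502)) (.leaf THB_990))))) (.node (.node (.node (.node (.node (.leaf THB_62) (.leaf THB_1086)) (.node (.leaf THB_574) (.leaf THB_1598))) (.node (.node (.leaf THB_318) (.leaf THB_1342)) (.node (.leaf THB_830) (.leaf THB_1854)))) (.node (.node (.node (.leaf THB_190) (.leaf THB_1214)) (.node (.leaf THB_702) (.leaf THB_1726))) (.node (.node (.leaf THB_446) (.leaf THB_1470)) (.leaf THB_958)))) (.node (.node (.node (.node (.leaf THB_126) (.leaf THB_1150))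 (.node (.leaf THB_638) (.leaf THB_1662))) (.node (.node (.leaf THB_382) (.leaf THB_1406)) (.node (.leaf THB_894) (.leaf THB_1918)))) (.node (.node (.node (.leaf THB_254) (.leaf THB_1278)) (.node (.leaf THB_766) (.leaf THB_1790))) (.node (.node (.leaf THB_510) (.leaf THB_1534)) (.leaf THB_1022)))))))))) (.node (.node (.node (.node (.node (.node (.node (.node (.node (.node (.leaf THB_1) (.leaf THB_1025)) (.node (.leaf THB_513) (.leaf THB_1537))) (.node (.node (.leaf THB_257) (.leaf THB_1281)) (.node (.leaf THB_769) (.leaf THB_1793)))) (.node (.node (.node (.leaf THB_129) (.leaf THB_1153)) (.node (.leaf THB_641) (.leaf THB_1665))) (.node (.node (.leaf THB_385) (.leaf THB_1409)) (.leaf THB_897)))) (.node (.node (.node (.node (.leaf THB_65) (.leaf THB_1089)) (.node (.leaf THB_577) (.leaf THB_1601))) (.node (.node (.leaf THB_321) (.leaf THB_1345)) (.node (.leaf THB_833) (.leaf THB_1857)))) (.node (.node (.node (.leaf THB_193) (.leaf THB_1217)) (.node (.leaf THB_705) (.leaf THB_1729))) (.node (.node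 (.leaf THB_449) (.leaf THB_1473)) (.leaf THB_961))))) (.node (.node (.node (.node (.node (.leaf THB_33) (.leaf THB_1057)) (.node (.leaf THB_545) (.leaf THB_1569))) (.node (.node (.leaf THB_289) (.leaf THB_1313)) (.node (.leaf THB_801) (.leaf THB_1825)))) (.node (.node (.node (.leaf THB_161) (.leaf THB_1185)) (.node (.leaf THB_673) (.leaf THB_1697))) (.node (.node (.leaf THB_417) (.leaf THB_1441)) (.leaf THB_929)))) (.node (.node (.node (.node (.leaf THB_97) (.leaf THB_1121)) (.node (.leaf THB_609) (.leaf THB_1633))) (.node (.node (.leaf THB_353) (.leaf THB_1377)) (.node (.leaf THB_865) (.leaf THB_1889)))) (.node (.node (.node (.leaf THB_225) (.leaf THB_1249)) (.node (.leaf THB_737) (.leaf THB_1761))) (.node (.node (.leaf THB_481) (.leaf THB_1505)) (.leaf THB_993)))))) (.node (.node (.node (.node (.node (.node (.leaf THB_17) (.leaf THB_1041)) (.node (.leaf THB_529) (.leaf THB_1553))) (.node (.node (.leaf THB_273) (.leaf THB_1297)) (.node (.leaf THB_785) (.leaf THB_1809)))) (.node (.node (.node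 (.leaf THB_145) (.leaf THB_1169)) (.node (.leaf THB_657) (.leaf THB_1681))) (.node (.node (.leaf THB_401) (.leaf THB_1425)) (.leaf THB_913)))) (.node (.node (.node (.node (.leaf THB_81) (.leaf THB_1105)) (.node (.leaf THB_593) (.leaf THB_1617))) (.node (.node (.leaf THB_337) (.leaf THB_1361)) (.node (.leaf THB_849) (.leaf THB_1873)))) (.node (.node (.node (.leaf THB_209) (.leaf THB_1233)) (.node (.leaf THB_721) (.leaf THB_1745))) (.node (.node (.leaf THB_465) (.leaf THB_1489)) (.leaf THB_977))))) (.node (.node (.node (.node (.node (.leaf THB_49) (.leaf THB_1073)) (.node (.leaf THB_561) (.leaf THB_1585))) (.node (.node (.leaf THB_305) (.leaf THB_1329)) (.node (.leaf THB_817) (.leaf THB_1841)))) (.node (.node (.node (.leaf THB_177) (.leaf THB_1201)) (.node (.leaf THB_689) (.leaf THB_1713))) (.node (.node (.leaf THB_433) (.leaf THB_1457)) (.leaf THB_945)))) (.node (.node (.node (.node (.leaf THB_113) (.leaf THB_1137)) (.node (.leaf THB_625) (.leaf THB_1649))) (.node (.node (.leaf THB_369) (.leaf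 THB_1393)) (.node (.leaf THB_881) (.leaf THB_1905)))) (.node (.node (.node (.leaf THB_241) (.leaf THB_1265)) (.node (.leaf THB_753) (.leaf THB_1777))) (.node (.node (.leaf THB_497) (.leaf THB_1521)) (.leaf THB_1009))))))) (.node (.node (.node (.node (.node (.node (.node (.leaf THB_9) (.leaf THB_1033)) (.node (.leaf THB_521) (.leaf THB_1545))) (.node (.node (.leaf THB_265) (.leaf THB_1289)) (.node (.leaf THB_777) (.leaf THB_1801)))) (.node (.node (.node (.leaf THB_137) (.leaf THB_1161)) (.node (.leaf THB_649) (.leaf THB_1673))) (.node (.node (.leaf THB_393) (.leaf THB_1417)) (.leaf THB_905)))) (.node (.node (.node (.node (.leaf THB_73) (.leaf THB_1097)) (.node (.leaf THB_585) (.leaf THB_1609))) (.node (.node (.leaf THB_329) (.leaf THB_1353)) (.node (.leaf THB_841) (.leaf THB_1865)))) (.node (.node (.node (.leaf THB_201) (.leaf THB_1225)) (.node (.leaf THB_713) (.leaf THB_1737))) (.node (.node (.leaf THB_457) (.leaf THB_1481)) (.leaf THB_969))))) (.node (.node (.node (.node (.node (.leaf THB_41)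 (.leaf THB_1065)) (.node (.leaf THB_553) (.leaf THB_1577))) (.node (.node (.leaf THB_297) (.leaf THB_1321)) (.node (.leaf THB_809) (.leaf THB_1833)))) (.node (.node (.node (.leaf THB_169) (.leaf THB_1193)) (.node (.leaf THB_681) (.leaf THB_1705))) (.node (.node (.leaf THB_425) (.leaf THB_1449)) (.leaf THB_937)))) (.node (.node (.node (.node (.leaf THB_105) (.leaf THB_1129)) (.node (.leaf THB_617) (.leaf THB_1641))) (.node (.node (.leaf THB_361) (.leaf THB_1385)) (.node (.leaf THB_873) (.leaf THB_1897)))) (.node (.node (.node (.leaf THB_233) (.leaf THB_1257)) (.node (.leaf THB_745) (.leaf THB_1769))) (.node (.node (.leaf THB_489) (.leaf THB_1513)) (.leaf THB_1001)))))) (.node (.node (.node (.node (.node (.node (.leaf THB_25) (.leaf THB_1049)) (.node (.leaf THB_537) (.leaf THB_1561))) (.node (.node (.leaf THB_281) (.leaf THB_1305)) (.node (.leaf THB_793) (.leaf THB_1817)))) (.node (.node (.node (.leaf THB_153) (.leaf THB_1177)) (.node (.leaf THB_665) (.leaf THB_1689))) (.node (.node (.leaf THB_409)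 (.leaf THB_1433)) (.leaf THB_921)))) (.node (.node (.node (.node (.leaf THB_89) (.leaf THB_1113)) (.node (.leaf THB_601) (.leaf THB_1625))) (.node (.node (.leaf THB_345) (.leaf THB_1369)) (.node (.leaf THB_857) (.leaf THB_1881)))) (.node (.node (.node (.leaf THB_217) (.leaf THB_1241)) (.node (.leaf THB_729) (.leaf THB_1753))) (.node (.node (.leaf THB_473) (.leaf THB_1497)) (.leaf THB_985))))) (.node (.node (.node (.node (.node (.leaf THB_57) (.leaf THB_1081)) (.node (.leaf THB_569) (.leaf THB_1593))) (.node (.node (.leaf THB_313) (.leaf THB_1337)) (.node (.leaf THB_825) (.leaf THB_1849)))) (.node (.node (.node (.leaf THB_185) (.leaf THB_1209)) (.node (.leaf THB_697) (.leaf THB_1721))) (.node (.node (.leaf THB_441) (.leaf THB_1465)) (.leaf THB_953)))) (.node (.node (.node (.node (.leaf THB_121) (.leaf THB_1145)) (.node (.leaf THB_633) (.leaf THB_1657))) (.node (.node (.leaf THB_377) (.leaf THB_1401)) (.node (.leaf THB_889) (.leaf THB_1913)))) (.node (.node (.node (.leaf THB_249) (.leaf THB_1273))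 (.node (.leaf THB_761) (.leaf THB_1785))) (.node (.node (.leaf THB_505) (.leaf THB_1529)) (.leaf THB_1017)))))))) (.node (.node (.node (.node (.node (.node (.node (.node (.leaf THB_5) (.leaf THB_1029)) (.node (.leaf THB_517) (.leaf THB_1541))) (.node (.node (.leaf THB_261) (.leaf THB_1285)) (.node (.leaf THB_773) (.leaf THB_1797)))) (.node (.node (.node (.leaf THB_133) (.leaf THB_1157)) (.node (.leaf THB_645) (.leaf THB_1669))) (.node (.node (.leaf THB_389) (.leaf THB_1413)) (.leaf THB_901)))) (.node (.node (.node (.node (.leaf THB_69) (.leaf THB_1093)) (.node (.leaf THB_581) (.leaf THB_1605))) (.node (.node (.leaf THB_325) (.leaf THB_1349)) (.node (.leaf THB_837) (.leaf THB_1861)))) (.node (.node (.node (.leaf THB_197) (.leaf THB_1221)) (.node (.leaf THB_709) (.leaf THB_1733))) (.node (.node (.leaf THB_453) (.leaf THB_1477)) (.leaf THB_965))))) (.node (.node (.node (.node (.node (.leaf THB_37) (.leaf THB_1061)) (.node (.leaf THB_549) (.leaf THB_1573))) (.node (.node (.leaf THB_293) (.leaf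 THB_1317)) (.node (.leaf THB_805) (.leaf THB_1829)))) (.node (.node (.node (.leaf THB_165) (.leaf THB_1189)) (.node (.leaf THB_677) (.leaf THB_1701))) (.node (.node (.leaf THB_421) (.leaf THB_1445)) (.leaf THB_933)))) (.node (.node (.node (.node (.leaf THB_101) (.leaf THB_1125)) (.node (.leaf THB_613) (.leaf THB_1637))) (.node (.node (.leaf THB_357) (.leaf THB_1381)) (.node (.leaf THB_869) (.leaf THB_1893)))) (.node (.node (.node (.leaf THB_229) (.leaf THB_1253)) (.node (.leaf THB_741) (.leaf THB_1765))) (.node (.node (.leaf THB_485) (.leaf THB_1509)) (.leaf THB_997)))))) (.node (.node (.node (.node (.node (.node (.leaf THB_21) (.leaf THB_1045)) (.node (.leaf THB_533) (.leaf THB_1557))) (.node (.node (.leaf THB_277) (.leaf THB_1301)) (.node (.leaf THB_789) (.leaf THB_1813)))) (.node (.node (.node (.leaf THB_149) (.leaf THB_1173)) (.node (.leaf THB_661) (.leaf THB_1685))) (.node (.node (.leaf THB_405) (.leaf THB_1429)) (.leaf THB_917)))) (.node (.node (.node (.node (.leaf THB_85) (.leaf THB_1109))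 (.node (.leaf THB_597) (.leaf THB_1621))) (.node (.node (.leaf THB_341) (.leaf THB_1365)) (.node (.leaf THB_853) (.leaf THB_1877)))) (.node (.node (.node (.leaf THB_213) (.leaf THB_1237)) (.node (.leaf THB_725) (.leaf THB_1749))) (.node (.node (.leaf THB_469) (.leaf THB_1493)) (.leaf THB_981))))) (.node (.node (.node (.node (.node (.leaf THB_53) (.leaf THB_1077)) (.node (.leaf THB_565) (.leaf THB_1589))) (.node (.node (.leaf THB_309) (.leaf THB_1333)) (.node (.leaf THB_821) (.leaf THB_1845)))) (.node (.node (.node (.leaf THB_181) (.leaf THB_1205)) (.node (.leaf THB_693) (.leaf THB_1717))) (.node (.node (.leaf THB_437) (.leaf THB_1461)) (.leaf THB_949)))) (.node (.node (.node (.node (.leaf THB_117) (.leaf THB_1141)) (.node (.leaf THB_629) (.leaf THB_1653))) (.node (.node (.leaf THB_373) (.leaf THB_1397)) (.node (.leaf THB_885) (.leaf THB_1909)))) (.node (.node (.node (.leaf THB_245) (.leaf THB_1269)) (.node (.leaf THB_757) (.leaf THB_1781))) (.node (.node (.leaf THB_501) (.leaf THB_1525)) (.leaf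 THB_1013))))))) (.node (.node (.node (.node (.node (.node (.node (.leaf THB_13) (.leaf THB_1037)) (.node (.leaf THB_525) (.leaf THB_1549))) (.node (.node (.leaf THB_269) (.leaf THB_1293)) (.node (.leaf THB_781) (.leaf THB_1805)))) (.node (.node (.node (.leaf THB_141) (.leaf THB_1165)) (.node (.leaf THB_653) (.leaf THB_1677))) (.node (.node (.leaf THB_397) (.leaf THB_1421)) (.leaf THB_909)))) (.node (.node (.node (.node (.leaf THB_77) (.leaf THB_1101)) (.node (.leaf THB_589) (.leaf THB_1613))) (.node (.node (.leaf THB_333) (.leaf THB_1357)) (.node (.leaf THB_845) (.leaf THB_1869)))) (.node (.node (.node (.leaf THB_205) (.leaf THB_1229)) (.node (.leaf THB_717) (.leaf THB_1741))) (.node (.node (.leaf THB_461) (.leaf THB_1485)) (.leaf THB_973))))) (.node (.node (.node (.node (.node (.leaf THB_45) (.leaf THB_1069)) (.node (.leaf THB_557) (.leaf THB_1581))) (.node (.node (.leaf THB_301) (.leaf THB_1325)) (.node (.leaf THB_813) (.leaf THB_1837)))) (.node (.node (.node (.leaf THB_173) (.leaf THB_1197))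 (.node (.leaf THB_685) (.leaf THB_1709))) (.node (.node (.leaf THB_429) (.leaf THB_1453)) (.leaf THB_941)))) (.node (.node (.node (.node (.leaf THB_109) (.leaf THB_1133)) (.node (.leaf THB_621) (.leaf THB_1645))) (.node (.node (.leaf THB_365) (.leaf THB_1389)) (.node (.leaf THB_877) (.leaf THB_1901)))) (.node (.node (.node (.leaf THB_237) (.leaf THB_1261)) (.node (.leaf THB_749) (.leaf THB_1773))) (.node (.node (.leaf THB_493) (.leaf THB_1517)) (.leaf THB_1005)))))) (.node (.node (.node (.node (.node (.node (.leaf THB_29) (.leaf THB_1053)) (.node (.leaf THB_541) (.leaf THB_1565))) (.node (.node (.leaf THB_285) (.leaf THB_1309)) (.node (.leaf THB_797) (.leaf THB_1821)))) (.node (.node (.node (.leaf THB_157) (.leaf THB_1181)) (.node (.leaf THB_669) (.leaf THB_1693))) (.node (.node (.leaf THB_413) (.leaf THB_1437)) (.leaf THB_925)))) (.node (.node (.node (.node (.leaf THB_93) (.leaf THB_1117)) (.node (.leaf THB_605) (.leaf THB_1629))) (.node (.node (.leaf THB_349) (.leaf THB_1373)) (.node (.leaf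 THB_861) (.leaf THB_1885)))) (.node (.node (.node (.leaf THB_221) (.leaf THB_1245)) (.node (.leaf THB_733) (.leaf THB_1757))) (.node (.node (.leaf THB_477) (.leaf THB_1501)) (.leaf THB_989))))) (.node (.node (.node (.node (.node (.leaf THB_61) (.leaf THB_1085)) (.node (.leaf THB_573) (.leaf THB_1597))) (.node (.node (.leaf THB_317) (.leaf THB_1341)) (.node (.leaf THB_829) (.leaf THB_1853)))) (.node (.node (.node (.leaf THB_189) (.leaf THB_1213)) (.node (.leaf THB_701) (.leaf THB_1725))) (.node (.node (.leaf THB_445) (.leaf THB_1469)) (.leaf THB_957)))) (.node (.node (.node (.node (.leaf THB_125) (.leaf THB_1149)) (.node (.leaf THB_637) (.leaf THB_1661))) (.node (.node (.leaf THB_381) (.leaf THB_1405)) (.node (.leaf THB_893) (.leaf THB_1917)))) (.node (.node (.node (.leaf THB_253) (.leaf THB_1277)) (.node (.leaf THB_765) (.leaf THB_1789))) (.node (.node (.leaf THB_509) (.leaf THB_1533)) (.leaf THB_1021))))))))) (.node (.node (.node (.node (.node (.node (.node (.node (.node (.leaf THB_3) (.leaf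 THB_1027)) (.node (.leaf THB_515) (.leaf THB_1539))) (.node (.node (.leaf THB_259) (.leaf THB_1283)) (.node (.leaf THB_771) (.leaf THB_1795)))) (.node (.node (.node (.leaf THB_131) (.leaf THB_1155)) (.node (.leaf THB_643) (.leaf THB_1667))) (.node (.node (.leaf THB_387) (.leaf THB_1411)) (.leaf THB_899)))) (.node (.node (.node (.node (.leaf THB_67) (.leaf THB_1091)) (.node (.leaf THB_579) (.leaf THB_1603))) (.node (.node (.leaf THB_323) (.leaf THB_1347)) (.node (.leaf THB_835) (.leaf THB_1859)))) (.node (.node (.node (.leaf THB_195) (.leaf THB_1219)) (.node (.leaf THB_707) (.leaf THB_1731))) (.node (.node (.leaf THB_451) (.leaf THB_1475)) (.leaf THB_963))))) (.node (.node (.node (.node (.node (.leaf THB_35) (.leaf THB_1059)) (.node (.leaf THB_547) (.leaf THB_1571))) (.node (.node (.leaf THB_291) (.leaf THB_1315)) (.node (.leaf THB_803) (.leaf THB_1827)))) (.node (.node (.node (.leaf THB_163) (.leaf THB_1187)) (.node (.leaf THB_675) (.leaf THB_1699))) (.node (.node (.leaf THB_419) (.leaf THB_1443))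 (.leaf THB_931)))) (.node (.node (.node (.node (.leaf THB_99) (.leaf THB_1123)) (.node (.leaf THB_611) (.leaf THB_1635))) (.node (.node (.leaf THB_355) (.leaf THB_1379)) (.node (.leaf THB_867) (.leaf THB_1891)))) (.node (.node (.node (.leaf THB_227) (.leaf THB_1251)) (.node (.leaf THB_739) (.leaf THB_1763))) (.node (.node (.leaf THB_483) (.leaf THB_1507)) (.leaf THB_995)))))) (.node (.node (.node (.node (.node (.node (.leaf THB_19) (.leaf THB_1043)) (.node (.leaf THB_531) (.leaf THB_1555))) (.node (.node (.leaf THB_275) (.leaf THB_1299)) (.node (.leaf THB_787) (.leaf THB_1811)))) (.node (.node (.node (.leaf THB_147) (.leaf THB_1171)) (.node (.leaf THB_659) (.leaf THB_1683))) (.node (.node (.leaf THB_403) (.leaf THB_1427)) (.leaf THB_915)))) (.node (.node (.node (.node (.leaf THB_83) (.leaf THB_1107)) (.node (.leaf THB_595) (.leaf THB_1619))) (.node (.node (.leaf THB_339) (.leaf THB_1363)) (.node (.leaf THB_851) (.leaf THB_1875)))) (.node (.node (.node (.leaf THB_211) (.leaf THB_1235)) (.node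 (.leaf THB_723) (.leaf THB_1747))) (.node (.node (.leaf THB_467) (.leaf THB_1491)) (.leaf THB_979))))) (.node (.node (.node (.node (.node (.leaf THB_51) (.leaf THB_1075)) (.node (.leaf THB_563) (.leaf THB_1587))) (.node (.node (.leaf THB_307) (.leaf THB_1331)) (.node (.leaf THB_819) (.leaf THB_1843)))) (.node (.node (.node (.leaf THB_179) (.leaf THB_1203)) (.node (.leaf THB_691) (.leaf THB_1715))) (.node (.node (.leaf THB_435) (.leaf THB_1459)) (.leaf THB_947)))) (.node (.node (.node (.node (.leaf THB_115) (.leaf THB_1139)) (.node (.leaf THB_627) (.leaf THB_1651))) (.node (.node (.leaf THB_371) (.leaf THB_1395)) (.node (.leaf THB_883) (.leaf THB_1907)))) (.node (.node (.node (.leaf THB_243) (.leaf THB_1267)) (.node (.leaf THB_755) (.leaf THB_1779))) (.node (.node (.leaf THB_499) (.leaf THB_1523)) (.leaf THB_1011))))))) (.node (.node (.node (.node (.node (.node (.node (.leaf THB_11) (.leaf THB_1035)) (.node (.leaf THB_523) (.leaf THB_1547))) (.node (.node (.leaf THB_267) (.leaf THB_1291)) (.node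 (.leaf THB_779) (.leaf THB_1803)))) (.node (.node (.node (.leaf THB_139) (.leaf THB_1163)) (.node (.leaf THB_651) (.leaf THB_1675))) (.node (.node (.leaf THB_395) (.leaf THB_1419)) (.leaf THB_907)))) (.node (.node (.node (.node (.leaf THB_75) (.leaf THB_1099)) (.node (.leaf THB_587) (.leaf THB_1611))) (.node (.node (.leaf THB_331) (.leaf THB_1355)) (.node (.leaf THB_843) (.leaf THB_1867)))) (.node (.node (.node (.leaf THB_203) (.leaf THB_1227)) (.node (.leaf THB_715) (.leaf THB_1739))) (.node (.node (.leaf THB_459) (.leaf THB_1483)) (.leaf THB_971))))) (.node (.node (.node (.node (.node (.leaf THB_43) (.leaf THB_1067)) (.node (.leaf THB_555) (.leaf THB_1579))) (.node (.node (.leaf THB_299) (.leaf THB_1323)) (.node (.leaf THB_811) (.leaf THB_1835)))) (.node (.node (.node (.leaf THB_171) (.leaf THB_1195)) (.node (.leaf THB_683) (.leaf THB_1707))) (.node (.node (.leaf THB_427) (.leaf THB_1451)) (.leaf THB_939)))) (.node (.node (.node (.node (.leaf THB_107) (.leaf THB_1131)) (.node (.leaf THB_619)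 (.leaf THB_1643))) (.node (.node (.leaf THB_363) (.leaf THB_1387)) (.node (.leaf THB_875) (.leaf THB_1899)))) (.node (.node (.node (.leaf THB_235) (.leaf THB_1259)) (.node (.leaf THB_747) (.leaf THB_1771))) (.node (.node (.leaf THB_491) (.leaf THB_1515)) (.leaf THB_1003)))))) (.node (.node (.node (.node (.node (.node (.leaf THB_27) (.leaf THB_1051)) (.node (.leaf THB_539) (.leaf THB_1563))) (.node (.node (.leaf THB_283) (.leaf THB_1307)) (.node (.leaf THB_795) (.leaf THB_1819)))) (.node (.node (.node (.leaf THB_155) (.leaf THB_1179)) (.node (.leaf THB_667) (.leaf THB_1691))) (.node (.node (.leaf THB_411) (.leaf THB_1435)) (.leaf THB_923)))) (.node (.node (.node (.node (.leaf THB_91) (.leaf THB_1115)) (.node (.leaf THB_603) (.leaf THB_1627))) (.node (.node (.leaf THB_347) (.leaf THB_1371)) (.node (.leaf THB_859) (.leaf THB_1883)))) (.node (.node (.node (.leaf THB_219) (.leaf THB_1243)) (.node (.leaf THB_731) (.leaf THB_1755))) (.node (.node (.leaf THB_475) (.leaf THB_1499)) (.leaf THB_987)))))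 (.node (.node (.node (.node (.node (.leaf THB_59) (.leaf THB_1083)) (.node (.leaf THB_571) (.leaf THB_1595))) (.node (.node (.leaf THB_315) (.leaf THB_1339)) (.node (.leaf THB_827) (.leaf THB_1851)))) (.node (.node (.node (.leaf THB_187) (.leaf THB_1211)) (.node (.leaf THB_699) (.leaf THB_1723))) (.node (.node (.leaf THB_443) (.leaf THB_1467)) (.leaf THB_955)))) (.node (.node (.node (.node (.leaf THB_123) (.leaf THB_1147)) (.node (.leaf THB_635) (.leaf THB_1659))) (.node (.node (.leaf THB_379) (.leaf THB_1403)) (.node (.leaf THB_891) (.leaf THB_1915)))) (.node (.node (.node (.leaf THB_251) (.leaf THB_1275)) (.node (.leaf THB_763) (.leaf THB_1787))) (.node (.node (.leaf THB_507) (.leaf THB_1531)) (.leaf THB_1019)))))))) (.node (.node (.node (.node (.node (.node (.node (.node (.leaf THB_7) (.leaf THB_1031)) (.node (.leaf THB_519) (.leaf THB_1543))) (.node (.node (.leaf THB_263) (.leaf THB_1287)) (.node (.leaf THB_775) (.leaf THB_1799)))) (.node (.node (.node (.leaf THB_135) (.leaf THB_1159))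 (.node (.leaf THB_647) (.leaf THB_1671))) (.node (.node (.leaf THB_391) (.leaf THB_1415)) (.leaf THB_903)))) (.node (.node (.node (.node (.leaf THB_71) (.leaf THB_1095)) (.node (.leaf THB_583) (.leaf THB_1607))) (.node (.node (.leaf THB_327) (.leaf THB_1351)) (.node (.leaf THB_839) (.leaf THB_1863)))) (.node (.node (.node (.leaf THB_199) (.leaf THB_1223)) (.node (.leaf THB_711) (.leaf THB_1735))) (.node (.node (.leaf THB_455) (.leaf THB_1479)) (.leaf THB_967))))) (.node (.node (.node (.node (.node (.leaf THB_39) (.leaf THB_1063)) (.node (.leaf THB_551) (.leaf THB_1575))) (.node (.node (.leaf THB_295) (.leaf THB_1319)) (.node (.leaf THB_807) (.leaf THB_1831)))) (.node (.node (.node (.leaf THB_167) (.leaf THB_1191)) (.node (.leaf THB_679) (.leaf THB_1703))) (.node (.node (.leaf THB_423) (.leaf THB_1447)) (.leaf THB_935)))) (.node (.node (.node (.node (.leaf THB_103) (.leaf THB_1127)) (.node (.leaf THB_615) (.leaf THB_1639))) (.node (.node (.leaf THB_359) (.leaf THB_1383)) (.node (.leaf THB_871)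 (.leaf THB_1895)))) (.node (.node (.node (.leaf THB_231) (.leaf THB_1255)) (.node (.leaf THB_743) (.leaf THB_1767))) (.node (.node (.leaf THB_487) (.leaf THB_1511)) (.leaf THB_999)))))) (.node (.node (.node (.node (.node (.node (.leaf THB_23) (.leaf THB_1047)) (.node (.leaf THB_535) (.leaf THB_1559))) (.node (.node (.leaf THB_279) (.leaf THB_1303)) (.node (.leaf THB_791) (.leaf THB_1815)))) (.node (.node (.node (.leaf THB_151) (.leaf THB_1175)) (.node (.leaf THB_663) (.leaf THB_1687))) (.node (.node (.leaf THB_407) (.leaf THB_1431)) (.leaf THB_919)))) (.node (.node (.node (.node (.leaf THB_87) (.leaf THB_1111)) (.node (.leaf THB_599) (.leaf THB_1623))) (.node (.node (.leaf THB_343) (.leaf THB_1367)) (.node (.leaf THB_855) (.leaf THB_1879)))) (.node (.node (.node (.leaf THB_215) (.leaf THB_1239)) (.node (.leaf THB_727) (.leaf THB_1751))) (.node (.node (.leaf THB_471) (.leaf THB_1495)) (.leaf THB_983))))) (.node (.node (.node (.node (.node (.leaf THB_55) (.leaf THB_1079)) (.node (.leaf THB_567)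 (.leaf THB_1591))) (.node (.node (.leaf THB_311) (.leaf THB_1335)) (.node (.leaf THB_823) (.leaf THB_1847)))) (.node (.node (.node (.leaf THB_183) (.leaf THB_1207)) (.node (.leaf THB_695) (.leaf THB_1719))) (.node (.node (.leaf THB_439) (.leaf THB_1463)) (.leaf THB_951)))) (.node (.node (.node (.node (.leaf THB_119) (.leaf THB_1143)) (.node (.leaf THB_631) (.leaf THB_1655))) (.node (.node (.leaf THB_375) (.leaf THB_1399)) (.node (.leaf THB_887) (.leaf THB_1911)))) (.node (.node (.node (.leaf THB_247) (.leaf THB_1271)) (.node (.leaf THB_759) (.leaf THB_1783))) (.node (.node (.leaf THB_503) (.leaf THB_1527)) (.leaf THB_1015))))))) (.node (.node (.node (.node (.node (.node (.node (.leaf THB_15) (.leaf THB_1039)) (.node (.leaf THB_527) (.leaf THB_1551))) (.node (.node (.leaf THB_271) (.leaf THB_1295)) (.node (.leaf THB_783) (.leaf THB_1807)))) (.node (.node (.node (.leaf THB_143) (.leaf THB_1167)) (.node (.leaf THB_655) (.leaf THB_1679))) (.node (.node (.leaf THB_399) (.leaf THB_1423)) (.leaf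 THB_911)))) (.node (.node (.node (.node (.leaf THB_79) (.leaf THB_1103)) (.node (.leaf THB_591) (.leaf THB_1615))) (.node (.node (.leaf THB_335) (.leaf THB_1359)) (.node (.leaf THB_847) (.leaf THB_1871)))) (.node (.node (.node (.leaf THB_207) (.leaf THB_1231)) (.node (.leaf THB_719) (.leaf THB_1743))) (.node (.node (.leaf THB_463) (.leaf THB_1487)) (.leaf THB_975))))) (.node (.node (.node (.node (.node (.leaf THB_47) (.leaf THB_1071)) (.node (.leaf THB_559) (.leaf THB_1583))) (.node (.node (.leaf THB_303) (.leaf THB_1327)) (.node (.leaf THB_815) (.leaf THB_1839)))) (.node (.node (.node (.leaf THB_175) (.leaf THB_1199)) (.node (.leaf THB_687) (.leaf THB_1711))) (.node (.node (.leaf THB_431) (.leaf THB_1455)) (.leaf THB_943)))) (.node (.node (.node (.node (.leaf THB_111) (.leaf THB_1135)) (.node (.leaf THB_623) (.leaf THB_1647))) (.node (.node (.leaf THB_367) (.leaf THB_1391)) (.node (.leaf THB_879) (.leaf THB_1903)))) (.node (.node (.node (.leaf THB_239) (.leaf THB_1263)) (.node (.leaf THB_751)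 (.leaf THB_1775))) (.node (.node (.leaf THB_495) (.leaf THB_1519)) (.leaf THB_1007)))))) (.node (.node (.node (.node (.node (.node (.leaf (nat_lit 0)) (.leaf (nat_lit 0))) (.node (.leaf (nat_lit 0)) (.leaf (nat_lit 0)))) (.node (.node (.leaf (nat_lit 0)) (.leaf (nat_lit 0))) (.node (.leaf (nat_lit 0)) (.leaf (nat_lit 0))))) (.node (.node (.node (.leaf (nat_lit 0)) (.leaf (nat_lit 0))) (.node (.leaf (nat_lit 0)) (.leaf (nat_lit 0)))) (.node (.node (.leaf (nat_lit 0)) (.leaf (nat_lit 0))) (.leaf (nat_lit 0))))) (.node (.node (.node (.node (.leaf (nat_lit 0)) (.leaf (nat_lit 0))) (.node (.leaf (nat_lit 0)) (.leaf (nat_lit 0)))) (.node (.node (.leaf (nat_lit 0)) (.leaf (nat_lit 0))) (.node (.leaf (nat_lit 0)) (.leaf (nat_lit 0))))) (.node (.node (.node (.leaf (nat_lit 0)) (.leaf (nat_lit 0))) (.node (.leaf (nat_lit 0)) (.leaf (nat_lit 0)))) (.node (.node (.leaf (nat_lit 0)) (.leaf (nat_lit 0))) (.leaf (nat_lit 0)))))) (.node (.node (.node (.node (.node (.leaf (nat_lit 0)) (.leaf (nat_lit 0)))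 (.node (.leaf (nat_lit 0)) (.leaf (nat_lit 0)))) (.node (.node (.leaf (nat_lit 0)) (.leaf (nat_lit 0))) (.node (.leaf (nat_lit 0)) (.leaf (nat_lit 0))))) (.node (.node (.node (.leaf (nat_lit 0)) (.leaf (nat_lit 0))) (.node (.leaf (nat_lit 0)) (.leaf (nat_lit 0)))) (.node (.node (.leaf (nat_lit 0)) (.leaf (nat_lit 0))) (.leaf (nat_lit 0))))) (.node (.node (.node (.node (.leaf (nat_lit 0)) (.leaf (nat_lit 0))) (.node (.leaf (nat_lit 0)) (.leaf (nat_lit 0)))) (.node (.node (.leaf (nat_lit 0)) (.leaf (nat_lit 0))) (.node (.leaf (nat_lit 0)) (.leaf (nat_lit 0))))) (.node (.node (.node (.leaf (nat_lit 0)) (.leaf (nat_lit 0))) (.node (.leaf (nat_lit 0)) (.leaf (nat_lit 0)))) (.node (.node (.leaf (nat_lit 0)) (.leaf (nat_lit 0))) (.leaf (nat_lit 0))))))))))))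

noncomputable def THG (s j : ℕ) : ℕ := L0.BT.get THB (Nat.add (Nat.mul s (nat_lit 32)) j)

noncomputable def TH (c s : ℕ) : ℕ := Nat.rec (motive := fun _ => ℕ) 0 (fun j _ => Nat.land (Nat.shiftRight (THG s j) (Nat.mul (nat_lit 15) (Nat.land c (nat_lit 1023)))) (nat_lit 32767)) (Nat.succ (Nat.shiftRight c (nat_lit 10)))

def Wh : List (List ℕ) := [[nat_lit 144], [nat_lit 150], [nat_lit 145], [nat_lit 151]]

def WH : List (List ℕ) := [[nat_lit 0, nat_lit 0, nat_lit 3], [nat_lit 4, nat_lit 4, nat_lit 0], [nat_lit 2, nat_lit 1, nat_lit 4], [nat_lit 6, nat_lit 1, nat_lit 5], [nat_lit 1, nat_lit 6, nat_lit 5], [nat_lit 8, nat_lit 6, nat_lit 3, nat_lit 5, nat_lit 4, nat_lit 5, nat_lit 2, nat_lit 1, nat_lit 1, nat_lit 1], [nat_lit 6, nat_lit 2, nat_lit 8, nat_lit 1, nat_lit 6, nat_lit 6, nat_lit 1], [nat_lit 10, nat_lit 9, nat_lit 10], [nat_lit 10, nat_lit 11, nat_lit 9], [nat_lit 10, nat_lit 11, nat_lit 10], [nat_lit 11, nat_lit 11, nat_lit 9], [nat_lit 14, nat_lit 10, nat_lit 14, nat_lit 11, nat_lit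 9, nat_lit 14, nat_lit 11], [nat_lit 11, nat_lit 9, nat_lit 13, nat_lit 9, nat_lit 10, nat_lit 10], [nat_lit 16, nat_lit 15, nat_lit 15], [nat_lit 17, nat_lit 16, nat_lit 16], [nat_lit 15, nat_lit 18, nat_lit 18], [nat_lit 19, nat_lit 17, nat_lit 15], [nat_lit 19, nat_lit 20, nat_lit 20, nat_lit 16, nat_lit 16, nat_lit 16], [nat_lit 16, nat_lit 18, nat_lit 17, nat_lit 18, nat_lit 20], [nat_lit 22, nat_lit 21, nat_lit 22], [nat_lit 21, nat_lit 23, nat_lit 21], [nat_lit 24, nat_lit 24, nat_lit 24, nat_lit 23, nat_lit 24, nat_lit 23], [nat_lit 22, nat_lit 22, nat_lit 23, nat_lit 24, nat_lit 24, nat_lit 23, nat_lit 23], [nat_lit 23, nat_lit 23, nat_lit 24, nat_lit 23, nat_lit 23, nat_lit 21, nat_lit 21, nat_lit 22], [nat_lit 27, nat_lit 27, nat_lit 27, nat_lit 25, nat_lit 26, nat_lit 25, nat_lit 26, nat_lit 25], [nat_lit 25, nat_lit 27, nat_lit 26, nat_lit 25, nat_lit 26, nat_lit 25], [nat_lit 26, nat_lit 26, nat_lit 25, nat_lit 26, nat_lit 25, nat_lit 27, nat_lit 25], [nat_lit 30, nat_lit 28,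 nat_lit 29, nat_lit 30, nat_lit 29, nat_lit 29, nat_lit 28, nat_lit 28], [nat_lit 28, nat_lit 30, nat_lit 30, nat_lit 29, nat_lit 30, nat_lit 30, nat_lit 29], [nat_lit 32, nat_lit 31, nat_lit 31, nat_lit 32, nat_lit 32, nat_lit 32, nat_lit 31], [nat_lit 32, nat_lit 31, nat_lit 32, nat_lit 31, nat_lit 32, nat_lit 31], [nat_lit 3, nat_lit 0, nat_lit 15, nat_lit 30, nat_lit 31, nat_lit 34, nat_lit 2], [nat_lit 19, nat_lit 24, nat_lit 21, nat_lit 17, nat_lit 2], [nat_lit 35, nat_lit 36, nat_lit 36], [nat_lit 35, nat_lit 36, nat_lit 37], [nat_lit 35, nat_lit 37, nat_lit 36], [nat_lit 39, nat_lit 36, nat_lit 38], [nat_lit 35, nat_lit 36, nat_lit 38, nat_lit 39, nat_lit 35, nat_lit 35], [nat_lit 35, nat_lit 35, nat_lit 36, nat_lit 35, nat_lit 36, nat_lit 35, nat_lit 37], [nat_lit 42, nat_lit 41, nat_lit 42], [nat_lit 42, nat_lit 41, nat_lit 41], [nat_lit 44, nat_lit 43, nat_lit 41], [nat_lit 45, nat_lit 43, nat_lit 41], [nat_lit 44, nat_lit 43, nat_lit 44, nat_lit 42, nat_lit 45, nat_lit 44], [nat_lit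 45, nat_lit 42, nat_lit 41, nat_lit 45, nat_lit 43, nat_lit 42, nat_lit 45, nat_lit 42], [nat_lit 47, nat_lit 48, nat_lit 47], [nat_lit 49, nat_lit 47, nat_lit 47], [nat_lit 50, nat_lit 49, nat_lit 49], [nat_lit 48, nat_lit 50, nat_lit 50], [nat_lit 52, nat_lit 51, nat_lit 52, nat_lit 48, nat_lit 47, nat_lit 47, nat_lit 49], [nat_lit 49, nat_lit 51, nat_lit 47, nat_lit 50], [nat_lit 53, nat_lit 54, nat_lit 54], [nat_lit 55, nat_lit 55, nat_lit 53], [nat_lit 56, nat_lit 55, nat_lit 53, nat_lit 53, nat_lit 54, nat_lit 53, nat_lit 53, nat_lit 53], [nat_lit 56, nat_lit 55, nat_lit 54, nat_lit 54, nat_lit 56, nat_lit 56, nat_lit 53], [nat_lit 58, nat_lit 57, nat_lit 58]]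

noncomputable def ordT (c : ℕ) : ℕ := Nat.land (Nat.shiftRight ordTD (Nat.mul (nat_lit 6) c)) (nat_lit 63)

noncomputable def iv (s : ℕ) : List ℕ := List.replicate (ordT s) s

noncomputable def La0tB : L0.BT := (.node (.node (.node (.leaf La0tB_0) (.leaf La0tB_4)) (.node (.leaf La0tB_2) (.leaf La0tB_6))) (.node (.node (.leaf La0tB_1) (.leaf La0tB_5)) (.node (.leaf La0tB_3) (.leaf La0tB_7))))

noncomputable def La0t (c : ℕ) : ℕ := L0.rowOf La0tB (nat_lit 12) (nat_lit 4095) (nat_lit 6) (nat_lit 63) c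

noncomputable def La0 : SLv := ⟨⟨nat_lit 3328, La0t, nat_lit 34359738367, nat_lit 6, nat_lit 31671, fun i => i⟩, true, [nat_lit 13329, nat_lit 27632, nat_lit 4040, nat_lit 27112, nat_lit 29899, nat_lit 19268, nat_lit 8961, nat_lit 7054, nat_lit 4617, nat_lit 7708, nat_lit 19111, nat_lit 10734, nat_lit 13189, nat_lit 27463, nat_lit 26019, nat_lit 17374, nat_lit 21403, nat_lit 22979, nat_lit 10217, nat_lit 3416, nat_lit 21858, nat_lit 27662, nat_lit 3328], [nat_lit 0], nat_lit 22, []⟩

noncomputable def La1tB : L0.BT := (.node (.node (.node (.leaf La1tB_0) (.leaf La1tB_4)) (.node (.leaf La1tB_2) (.leaf La1tB_6))) (.node (.node (.leaf La1tB_1) (.leaf La1tB_5)) (.node (.leaf La1tB_3) (.leaf La1tB_7))))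

noncomputable def La1t (c : ℕ) : ℕ := L0.rowOf La1tB (nat_lit 12) (nat_lit 4095) (nat_lit 6) (nat_lit 63) c

noncomputable def La1pB : L0.BT := (.node (.leaf La1pB_0) (.leaf La1pB_1))

noncomputable def La1p (c : ℕ) : ℕ := L0.rowOf La1pB (nat_lit 11) (nat_lit 2047) (nat_lit 15) (nat_lit 32767) c

noncomputable def La1 : SLv := ⟨⟨nat_lit 13329, La1t, nat_lit 34359737856, nat_lit 5, nat_lit 3510, La1p⟩, false, [], [], nat_lit 0, []⟩

noncomputable def La2tB : L0.BT := (.node (.node (.node (.leaf La2tB_0) (.leaf La2tB_4)) (.node (.leaf La2tB_2) (.leaf La2tB_6))) (.node (.node (.leaf La2tB_1) (.leaf La2tB_5)) (.node (.leaf La2tB_3) (.leaf La2tB_7))))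

noncomputable def La2t (c : ℕ) : ℕ := L0.rowOf La2tB (nat_lit 12) (nat_lit 4095) (nat_lit 6) (nat_lit 63) c

noncomputable def La2pB : L0.BT := (.node (.leaf La2pB_0) (.leaf La2pB_1))

noncomputable def La2p (c : ℕ) : ℕ := L0.rowOf La2pB (nat_lit 11) (nat_lit 2047) (nat_lit 15) (nat_lit 32767) c

noncomputable def La2 : SLv := ⟨⟨nat_lit 27632, La2t, nat_lit 34359705600, nat_lit 5, nat_lit 2816, La2p⟩, false, [], [], nat_lit 0, []⟩

noncomputable def La3tB : L0.BT := (.node (.node (.node (.leaf La3tB_0) (.leaf La3tB_4)) (.node (.leaf La3tB_2) (.leaf La3tB_6))) (.node (.node (.leaf La3tB_1) (.leaf La3tB_5)) (.node (.leaf La3tB_3) (.leaf La3tB_7))))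

noncomputable def La3t (c : ℕ) : ℕ := L0.rowOf La3tB (nat_lit 12) (nat_lit 4095) (nat_lit 6) (nat_lit 63) c

noncomputable def La3p (c : ℕ) : ℕ := Nat.land (Nat.shiftRight La3pD (Nat.mul (nat_lit 15) c)) (nat_lit 32767)

noncomputable def La3 : SLv := ⟨⟨nat_lit 4040, La3t, nat_lit 34357641216, nat_lit 5, nat_lit 224, La3p⟩, false, [], [], nat_lit 0, []⟩

noncomputable def La4tB : L0.BT := (.node (.node (.node (.leaf La4tB_0) (.leaf La4tB_4)) (.node (.leaf La4tB_2) (.leaf La4tB_6))) (.node (.node (.leaf La4tB_1) (.leaf La4tB_5)) (.node (.leaf La4tB_3) (.leaf La4tB_7))))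

noncomputable def La4t (c : ℕ) : ℕ := L0.rowOf La4tB (nat_lit 12) (nat_lit 4095) (nat_lit 6) (nat_lit 63) c

noncomputable def La4p (c : ℕ) : ℕ := Nat.land (Nat.shiftRight La4pD (Nat.mul (nat_lit 15) c)) (nat_lit 32767)

noncomputable def La4 : SLv := ⟨⟨nat_lit 27112, La4t, nat_lit 34326183936, nat_lit 5, nat_lit 60, La4p⟩, false, [], [], nat_lit 0, []⟩

noncomputable def La5tB : L0.BT := (.node (.node (.node (.leaf (nat_lit 0)) (.leaf La5tB_4)) (.node (.leaf La5tB_2) (.leaf La5tB_6))) (.node (.node (.leaf La5tB_1) (.leaf La5tB_5)) (.node (.leaf La5tB_3) (.leaf La5tB_7))))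

noncomputable def La5t (c : ℕ) : ℕ := L0.rowOf La5tB (nat_lit 12) (nat_lit 4095) (nat_lit 6) (nat_lit 63) c

noncomputable def La5p (c : ℕ) : ℕ := Nat.land (Nat.shiftRight La5pD (Nat.mul (nat_lit 15) c)) (nat_lit 32767)

noncomputable def La5 : SLv := ⟨⟨nat_lit 29899, La5t, nat_lit 34091302912, nat_lit 5, nat_lit 27, La5p⟩, false, [], [], nat_lit 0, []⟩

noncomputable def La6tB : L0.BT := (.node (.node (.node (.leaf La6tB_0) (.leaf La6tB_4)) (.node (.leaf La6tB_2) (.leaf (nat_lit 0)))) (.node (.node (.leaf La6tB_1) (.leaf La6tB_5)) (.node (.leaf La6tB_3) (.leaf (nat_lit 0)))))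

noncomputable def La6t (c : ℕ) : ℕ := L0.rowOf La6tB (nat_lit 12) (nat_lit 4095) (nat_lit 6) (nat_lit 63) c

noncomputable def La6p (c : ℕ) : ℕ := Nat.land (Nat.shiftRight La6pD (Nat.mul (nat_lit 15) c)) (nat_lit 32767)

noncomputable def La6 : SLv := ⟨⟨nat_lit 19268, La6t, nat_lit 32212254720, nat_lit 4, nat_lit 9, La6p⟩, false, [], [], nat_lit 0, []⟩

noncomputable def La7tB : L0.BT := (.node (.node (.node (.leaf (nat_lit 0)) (.leaf (nat_lit 0))) (.node (.leaf (nat_lit 0)) (.leaf (nat_lit 0)))) (.node (.node (.leaf (nat_lit 0)) (.leaf La7tB_5)) (.node (.leaf (nat_lit 0)) (.leaf La7tB_7))))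

noncomputable def La7t (c : ℕ) : ℕ := L0.rowOf La7tB (nat_lit 12) (nat_lit 4095) (nat_lit 6) (nat_lit 63) c

noncomputable def La7p (c : ℕ) : ℕ := Nat.land (Nat.shiftRight La7pD (Nat.mul (nat_lit 15) c)) (nat_lit 32767)

noncomputable def La7 : SLv := ⟨⟨nat_lit 8961, La7t, nat_lit 25769803776, nat_lit 3, nat_lit 4, La7p⟩, false, [], [], nat_lit 0, []⟩

noncomputable def Las : List SLv := [La1, La2, La3, La4, La5, La6, La7]

noncomputable def Lb0tB : L0.BT := (.node (.node (.node (.leaf Lb0tB_0) (.leaf Lb0tB_4)) (.node (.leaf Lb0tB_2) (.leaf Lb0tB_6))) (.node (.node (.leaf Lb0tB_1) (.leaf Lb0tB_5)) (.node (.leaf Lb0tB_3) (.leaf Lb0tB_7))))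

noncomputable def Lb0t (c : ℕ) : ℕ := L0.rowOf Lb0tB (nat_lit 12) (nat_lit 4095) (nat_lit 6) (nat_lit 63) c

noncomputable def Lb0 : SLv := ⟨⟨nat_lit 329, Lb0t, nat_lit 1152921504606846975, nat_lit 5, nat_lit 31671, fun i => i⟩, true, [nat_lit 1721, nat_lit 3062, nat_lit 558, nat_lit 1572, nat_lit 1244, nat_lit 3153, nat_lit 5573, nat_lit 5435, nat_lit 4656, nat_lit 2911, nat_lit 329], [nat_lit 1], nat_lit 21, [(nat_lit 451, [nat_lit 1, nat_lit 1, nat_lit 1, nat_lit 1, nat_lit 1, nat_lit 2, nat_lit 3])]⟩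

noncomputable def Lb1tB : L0.BT := (.node (.node (.node (.leaf Lb1tB_0) (.leaf Lb1tB_4)) (.node (.leaf Lb1tB_2) (.leaf Lb1tB_6))) (.node (.node (.leaf Lb1tB_1) (.leaf Lb1tB_5)) (.node (.leaf Lb1tB_3) (.leaf Lb1tB_7))))

noncomputable def Lb1t (c : ℕ) : ℕ := L0.rowOf Lb1tB (nat_lit 12) (nat_lit 4095) (nat_lit 6) (nat_lit 63) c

noncomputable def Lb1pB : L0.BT := (.node (.leaf Lb1pB_0) (.leaf Lb1pB_1))

noncomputable def Lb1p (c : ℕ) : ℕ := L0.rowOf Lb1pB (nat_lit 11) (nat_lit 2047) (nat_lit 15) (nat_lit 32767) c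

noncomputable def Lb1 : SLv := ⟨⟨nat_lit 1721, Lb1t, nat_lit 1152921470247108608, nat_lit 5, nat_lit 3510, Lb1p⟩, false, [], [], nat_lit 0, []⟩

noncomputable def Lb2tB : L0.BT := (.node (.node (.node (.leaf Lb2tB_0) (.leaf Lb2tB_4)) (.node (.leaf Lb2tB_2) (.leaf Lb2tB_6))) (.node (.node (.leaf Lb2tB_1) (.leaf Lb2tB_5)) (.node (.leaf Lb2tB_3) (.leaf Lb2tB_7))))

noncomputable def Lb2t (c : ℕ) : ℕ := L0.rowOf Lb2tB (nat_lit 12) (nat_lit 4095) (nat_lit 6) (nat_lit 63) c

noncomputable def Lb2pB : L0.BT := (.node (.leaf Lb2pB_0) (.leaf Lb2pB_1))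

noncomputable def Lb2p (c : ℕ) : ℕ := L0.rowOf Lb2pB (nat_lit 11) (nat_lit 2047) (nat_lit 15) (nat_lit 32767) c

noncomputable def Lb2 : SLv := ⟨⟨nat_lit 3062, Lb2t, nat_lit 1152919305583591424, nat_lit 5, nat_lit 2816, Lb2p⟩, false, [], [], nat_lit 0, []⟩

noncomputable def Lb3tB : L0.BT := (.node (.node (.node (.leaf Lb3tB_0) (.leaf Lb3tB_4)) (.node (.leaf Lb3tB_2) (.leaf Lb3tB_6))) (.node (.node (.leaf Lb3tB_1) (.leaf Lb3tB_5)) (.node (.leaf Lb3tB_3) (.leaf Lb3tB_7))))

noncomputable def Lb3t (c : ℕ) : ℕ := L0.rowOf Lb3tB (nat_lit 12) (nat_lit 4095) (nat_lit 6) (nat_lit 63) c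

noncomputable def Lb3p (c : ℕ) : ℕ := Nat.land (Nat.shiftRight Lb3pD (Nat.mul (nat_lit 15) c)) (nat_lit 32767)

noncomputable def Lb3 : SLv := ⟨⟨nat_lit 558, Lb3t, nat_lit 1152780767118491648, nat_lit 6, nat_lit 2592, Lb3p⟩, false, [], [], nat_lit 0, []⟩

noncomputable def Lb4tB : L0.BT := (.node (.node (.node (.leaf Lb4tB_0) (.leaf Lb4tB_4)) (.node (.leaf Lb4tB_2) (.leaf Lb4tB_6))) (.node (.node (.leaf Lb4tB_1) (.leaf Lb4tB_5)) (.node (.leaf Lb4tB_3) (.leaf Lb4tB_7))))

noncomputable def Lb4t (c : ℕ) : ℕ := L0.rowOf Lb4tB (nat_lit 12) (nat_lit 4095) (nat_lit 6) (nat_lit 63) c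

noncomputable def Lb4p (c : ℕ) : ℕ := Nat.land (Nat.shiftRight Lb4pD (Nat.mul (nat_lit 15) c)) (nat_lit 32767)

noncomputable def Lb4 : SLv := ⟨⟨nat_lit 1572, Lb4t, nat_lit 1143914305352105984, nat_lit 5, nat_lit 210, Lb4p⟩, false, [], [], nat_lit 0, []⟩

noncomputable def Lb5tB : L0.BT := (.node (.node (.node (.leaf Lb5tB_0) (.leaf Lb5tB_4)) (.node (.leaf Lb5tB_2) (.leaf Lb5tB_6))) (.node (.node (.leaf Lb5tB_1) (.leaf Lb5tB_5)) (.node (.leaf Lb5tB_3) (.leaf Lb5tB_7))))

noncomputable def Lb5t (c : ℕ) : ℕ := L0.rowOf Lb5tB (nat_lit 12) (nat_lit 4095) (nat_lit 6) (nat_lit 63) c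

noncomputable def Lb5p (c : ℕ) : ℕ := Nat.land (Nat.shiftRight Lb5pD (Nat.mul (nat_lit 15) c)) (nat_lit 32767)

noncomputable def Lb5 : SLv := ⟨⟨nat_lit 1244, Lb5t, nat_lit 1008806316530991104, nat_lit 5, nat_lit 24, Lb5p⟩, false, [], [], nat_lit 0, []⟩

noncomputable def Lbs : List SLv := [Lb1, Lb2, Lb3, Lb4, Lb5]

def B : List ℕ := [nat_lit 254, nat_lit 11408, nat_lit 114857, nat_lit 270172, nat_lit 16370, nat_lit 264084, nat_lit 291118, nat_lit 172917, nat_lit 75253]

def BH : List ℕ := [nat_lit 3328, nat_lit 13329, nat_lit 27632, nat_lit 4040, nat_lit 27112, nat_lit 29899, nat_lit 19268, nat_lit 8961]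

def D : OD := ⟨nat_lit 144, nat_lit 145, nat_lit 146, nat_lit 23, nat_lit 4, nat_lit 1, nat_lit 7, [nat_lit 1, nat_lit 5],
  [(nat_lit 5928020568778324124688733288215167877514283396798, []), (nat_lit 4985071501739176495075660397880920370254151018686, [nat_lit 145]), (nat_lit 10845384187847472592416698131215615698532329794886, [nat_lit 151]), (nat_lit 6824837182735045644771783734548670640568864455398, [nat_lit 150]), (nat_lit 11701787519500971766534373977152886611175918488201, [nat_lit 152]), (nat_lit 9865851955372242910359773739520654129930302739814, [nat_lit 150, nat_lit 150]), (nat_lit 15536776192602436795294891007055538851498095094302, [nat_lit 145, nat_lit 151]), (nat_lit 676276663734211713990528908445485208149810391950, [nat_lit 150, nat_lit 151]), (nat_lit 5191564928476831202216456383752431730844445416430, [nat_lit 150, nat_lit 145]), (nat_lit 13501773966130032656846863149294225624325067222265, [nat_lit 152, nat_lit 151]), (nat_lit 9118128063660852966226187965604447054330793595089,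 [nat_lit 145, nat_lit 152]), (nat_lit 10727328498230815472286247728271732482116954318385, [nat_lit 150, nat_lit 152]), (nat_lit 4940342408099150017726077644197322540071800098841, [nat_lit 151, nat_lit 152]), (nat_lit 10289724754135926196915050838703883082203817179057, [nat_lit 152, nat_lit 150]), (nat_lit 19171024804913040380885215337306931813257602051885, [nat_lit 152, nat_lit 152]), (nat_lit 5139242810210946308247884523526872909945696314318, [nat_lit 150, nat_lit 150, nat_lit 145]), (nat_lit 7225062807705298676835111841419600942813459933566, [nat_lit 152, nat_lit 152, nat_lit 152]), (nat_lit 13861956074850634158439428064613873674512546881102, [nat_lit 150, nat_lit 150, nat_lit 151]), (nat_lit 1408408352403706111827236021969020026512152543742, [nat_lit 150, nat_lit 145, nat_lit 151]), (nat_lit 8755054567269958742250888790834648513467861884270, [nat_lit 150, nat_lit 150, nat_lit 150]), (nat_lit 3939986796895760634077180943323585270046421151913, [nat_lit 151, nat_lit 152, nat_lit 151]), (nat_lit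 21074935184150994672822948462427591168316394741321, [nat_lit 150, nat_lit 150, nat_lit 152]), (nat_lit 21838565212349481964381873035788548929408016955073, [nat_lit 150, nat_lit 145, nat_lit 152]), (nat_lit 11977147206898096311204349508756350002131494682073, [nat_lit 145, nat_lit 151, nat_lit 152]), (nat_lit 17838577859566153950581499419387643144407041091697, [nat_lit 150, nat_lit 152, nat_lit 150]), (nat_lit 15819594897433854646325555618479918447250730451161, [nat_lit 145, nat_lit 152, nat_lit 150]), (nat_lit 11476468664262131713843323660042853206144909044533, [nat_lit 145, nat_lit 152, nat_lit 152]), (nat_lit 9784713050506646830347509699751757666080049525333, [nat_lit 152, nat_lit 152, nat_lit 150]), (nat_lit 21729749706540655743496936699543030269766801630237, [nat_lit 152, nat_lit 151, nat_lit 152]), (nat_lit 20090458575116309159394730987142337294870311908933, [nat_lit 152, nat_lit 152, nat_lit 151]), (nat_lit 19907931775553232292790398849933273580097849813421, [nat_lit 150, nat_lit 152,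 nat_lit 152]), (nat_lit 17936845958722283459980693397605412842627327690621, [nat_lit 152, nat_lit 150, nat_lit 152]), (nat_lit 20590537642455507298941894325234454978762827960261, [nat_lit 151, nat_lit 152, nat_lit 152]), (nat_lit 5818068221471674517582067697855998213269599514678, [nat_lit 145, nat_lit 152, nat_lit 152, nat_lit 152]), (nat_lit 12433804919581838857971507552437917047324104779622, [nat_lit 150, nat_lit 150, nat_lit 150, nat_lit 150]), (nat_lit 492736264350798248228647905090334857659615018654, [nat_lit 152, nat_lit 152, nat_lit 151, nat_lit 152]), (nat_lit 1924999636968219474119258618893653289903300848278, [nat_lit 152, nat_lit 150, nat_lit 152, nat_lit 152]), (nat_lit 11503024658318876090054329814257015938835932177902, [nat_lit 152, nat_lit 152, nat_lit 150, nat_lit 152]), (nat_lit 23186841079453012134289307038123132378449234783086, [nat_lit 150, nat_lit 150, nat_lit 145, nat_lit 151]), (nat_lit 17078536360636489064793758486318940875942454035222, [nat_lit 151, nat_lit 152, nat_lit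 152, nat_lit 152]), (nat_lit 11020298056699386718792790190622787491996539949766, [nat_lit 150, nat_lit 152, nat_lit 152, nat_lit 152]), (nat_lit 16443786970112329961600291762044941691383512446742, [nat_lit 152, nat_lit 151, nat_lit 152, nat_lit 152]), (nat_lit 14481751060209786986097355265218136402296752898622, [nat_lit 150, nat_lit 150, nat_lit 150, nat_lit 145]), (nat_lit 2122648989996888360435646568815330798496595294398, [nat_lit 150, nat_lit 150, nat_lit 150, nat_lit 151]), (nat_lit 16908151703051310546454626770136150574738547203041, [nat_lit 152, nat_lit 152, nat_lit 152, nat_lit 152]), (nat_lit 21225293538344193619118052945434935866908206504641, [nat_lit 150, nat_lit 150, nat_lit 150, nat_lit 152]), (nat_lit 19935757965999402993778426078228133362322799063177, [nat_lit 150, nat_lit 150, nat_lit 145, nat_lit 152]), (nat_lit 16297896407846710365947785076616444577495557070089, [nat_lit 150, nat_lit 145, nat_lit 152, nat_lit 150]), (nat_lit 14343666770995099216675841413109104670795353649697,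 [nat_lit 150, nat_lit 150, nat_lit 152, nat_lit 150]), (nat_lit 18177935394616901351626665495978301621052666748925, [nat_lit 150, nat_lit 150, nat_lit 152, nat_lit 152]), (nat_lit 20117435060376494190296374605414879133785344495509, [nat_lit 150, nat_lit 152, nat_lit 150, nat_lit 152]), (nat_lit 13654692074409619549581400516781312838694871381869, [nat_lit 150, nat_lit 145, nat_lit 152, nat_lit 152]), (nat_lit 11852813612115229218822391886986627997994217519045, [nat_lit 150, nat_lit 152, nat_lit 152, nat_lit 150]), (nat_lit 15112585015798644026189760865587050643673423100654, [nat_lit 150, nat_lit 150, nat_lit 152, nat_lit 152, nat_lit 152]), (nat_lit 245146721465966950626025673618627733507777889142, [nat_lit 150, nat_lit 150, nat_lit 150, nat_lit 145, nat_lit 151]), (nat_lit 1598166629075895881548709650946607939209803229414, [nat_lit 150, nat_lit 152, nat_lit 152, nat_lit 150, nat_lit 152]), (nat_lit 5080365581601705505047562974050089921705988554622, [nat_lit 150, nat_lit 152, nat_lit 150, nat_lit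 152, nat_lit 152]), (nat_lit 18110470120972987482263991201332670133270922941742, [nat_lit 150, nat_lit 150, nat_lit 150, nat_lit 150, nat_lit 151]), (nat_lit 9173529850836022632733446321613509829785672790550, [nat_lit 150, nat_lit 145, nat_lit 152, nat_lit 152, nat_lit 152]), (nat_lit 17637442115452701132880670705328862434917165842785, [nat_lit 152, nat_lit 151, nat_lit 152, nat_lit 152, nat_lit 152]), (nat_lit 15959078859855894339129677918516187331731601195017, [nat_lit 145, nat_lit 152, nat_lit 152, nat_lit 152, nat_lit 152]), (nat_lit 17959932679765418492561265498391526971883244606849, [nat_lit 150, nat_lit 152, nat_lit 152, nat_lit 152, nat_lit 152]), (nat_lit 16870795817328515681333001976773756411144367086081, [nat_lit 150, nat_lit 150, nat_lit 150, nat_lit 150, nat_lit 152]), (nat_lit 18871106380697703969109838967226129262442483101865, [nat_lit 150, nat_lit 150, nat_lit 150, nat_lit 145, nat_lit 152]), (nat_lit 15898569431799616938483149330410349649692257205889, [nat_lit 152, nat_lit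 150, nat_lit 152, nat_lit 152, nat_lit 152]), (nat_lit 14477176134581579479335611844623170484340318821721, [nat_lit 152, nat_lit 152, nat_lit 150, nat_lit 152, nat_lit 152]), (nat_lit 15560168927923824491912621460271860294755480441865, [nat_lit 150, nat_lit 150, nat_lit 145, nat_lit 152, nat_lit 150]), (nat_lit 17559772132556171826674545982791652007469789702737, [nat_lit 150, nat_lit 150, nat_lit 150, nat_lit 152, nat_lit 150]), (nat_lit 16454061337947622646726596409539516667890513770969, [nat_lit 151, nat_lit 152, nat_lit 152, nat_lit 152, nat_lit 152]), (nat_lit 14490222379735045021435163357507609470731918073593, [nat_lit 152, nat_lit 152, nat_lit 151, nat_lit 152, nat_lit 152]), (nat_lit 5697945537060695112657189341077750161791157887221, [nat_lit 150, nat_lit 150, nat_lit 145, nat_lit 152, nat_lit 152]), (nat_lit 6979522420015538351330876024092625820752813072317, [nat_lit 150, nat_lit 150, nat_lit 152, nat_lit 152, nat_lit 150]), (nat_lit 14308968305245276630336179726799230199375503395389,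 [nat_lit 152, nat_lit 152, nat_lit 152, nat_lit 152, nat_lit 152]), (nat_lit 12875495856951224530012567311693789947848190255725, [nat_lit 150, nat_lit 150, nat_lit 150, nat_lit 152, nat_lit 152]), (nat_lit 11110874306789614332083872950664558716880963904005, [nat_lit 150, nat_lit 150, nat_lit 152, nat_lit 150, nat_lit 152]), (nat_lit 3604322683031255049108120463133146963028106950798, [nat_lit 152, nat_lit 152, nat_lit 152, nat_lit 152, nat_lit 152, nat_lit 152]), (nat_lit 8500689009440658658210827023951125056041257422806, [nat_lit 150, nat_lit 150, nat_lit 145, nat_lit 152, nat_lit 152, nat_lit 152]), (nat_lit 9059360072540107970707922072222464347147658676294, [nat_lit 150, nat_lit 150, nat_lit 152, nat_lit 152, nat_lit 150, nat_lit 152]), (nat_lit 4603789300429204856718603750598631295088017221654, [nat_lit 150, nat_lit 150, nat_lit 152, nat_lit 150, nat_lit 152, nat_lit 152]), (nat_lit 19244679131963584259651054714145426569623682674910, [nat_lit 150, nat_lit 150, nat_lit 150, nat_lit 152,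 nat_lit 152, nat_lit 152]), (nat_lit 12443725435933354364242258965531277379790885560769, [nat_lit 150, nat_lit 150, nat_lit 152, nat_lit 152, nat_lit 152, nat_lit 152]), (nat_lit 11613284833886507461061093686741228415091369640545, [nat_lit 150, nat_lit 145, nat_lit 152, nat_lit 152, nat_lit 152, nat_lit 152]), (nat_lit 17215828340004404489119080315438693650368608895353, [nat_lit 150, nat_lit 152, nat_lit 150, nat_lit 152, nat_lit 152, nat_lit 152]), (nat_lit 15208979633116372606069828642007286861764732809401, [nat_lit 150, nat_lit 152, nat_lit 152, nat_lit 150, nat_lit 152, nat_lit 152]), (nat_lit 12462502865147565057543378053870398264841200070893, [nat_lit 151, nat_lit 152, nat_lit 152, nat_lit 152, nat_lit 152, nat_lit 152]), (nat_lit 7054183448655656978623488282461932647212253100141, [nat_lit 150, nat_lit 150, nat_lit 150, nat_lit 150, nat_lit 152, nat_lit 152]), (nat_lit 5767417326991074345023867967940156082988516970117, [nat_lit 150, nat_lit 150, nat_lit 150, nat_lit 152, nat_lit 150,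 nat_lit 152]), (nat_lit 12815796848887458981196655944768384726195458836725, [nat_lit 150, nat_lit 152, nat_lit 152, nat_lit 152, nat_lit 152, nat_lit 152]), (nat_lit 11054877458099643194113654687593463774662158433085, [nat_lit 152, nat_lit 150, nat_lit 152, nat_lit 152, nat_lit 152, nat_lit 152]), (nat_lit 23787273009489969567557055064734015362779333047085, [nat_lit 145, nat_lit 152, nat_lit 152, nat_lit 152, nat_lit 152, nat_lit 152]), (nat_lit 23297843881047384534850183995830282159550072254341, [nat_lit 152, nat_lit 152, nat_lit 150, nat_lit 152, nat_lit 152, nat_lit 152]), (nat_lit 4673775424868791740973706861534879473430144320549, [nat_lit 152, nat_lit 151, nat_lit 152, nat_lit 152, nat_lit 152, nat_lit 152]), (nat_lit 3726749499508848933353722383788520366068949749845, [nat_lit 152, nat_lit 152, nat_lit 151, nat_lit 152, nat_lit 152, nat_lit 152]), (nat_lit 2831704580705775651296632212203507234170968387613, [nat_lit 150, nat_lit 150, nat_lit 150, nat_lit 145, nat_lit 152, nat_lit 152]),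 (nat_lit 2214113337466427327643084825360971107747666803541, [nat_lit 150, nat_lit 150, nat_lit 150, nat_lit 152, nat_lit 152, nat_lit 150]), (nat_lit 15322297128639333887317274840508005355969863650358, [nat_lit 150, nat_lit 150, nat_lit 150, nat_lit 150, nat_lit 152, nat_lit 152, nat_lit 152]), (nat_lit 13703927683774546490024306844652868375398447310534, [nat_lit 150, nat_lit 150, nat_lit 150, nat_lit 152, nat_lit 150, nat_lit 152, nat_lit 152]), (nat_lit 9213499463232021056584010404342162117787199591398, [nat_lit 151, nat_lit 152, nat_lit 152, nat_lit 152, nat_lit 152, nat_lit 152, nat_lit 152]), (nat_lit 157549735083673942544568716445681301761189825806, [nat_lit 152, nat_lit 150, nat_lit 152, nat_lit 152, nat_lit 152, nat_lit 152, nat_lit 152]), (nat_lit 121942739381680949921921606727996630692845590638, [nat_lit 152, nat_lit 152, nat_lit 151, nat_lit 152, nat_lit 152, nat_lit 152, nat_lit 152]), (nat_lit 8333475091808257430683723991983027920239341924742, [nat_lit 152, nat_lit 151, nat_lit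 152, nat_lit 152, nat_lit 152, nat_lit 152, nat_lit 152]), (nat_lit 1214383456328339578036011089476230031037880980990, [nat_lit 150, nat_lit 150, nat_lit 150, nat_lit 152, nat_lit 152, nat_lit 150, nat_lit 152]), (nat_lit 4726928241675873233675271816620754906399866087630, [nat_lit 150, nat_lit 152, nat_lit 152, nat_lit 152, nat_lit 152, nat_lit 152, nat_lit 152]), (nat_lit 6685522155549955889536321595735274338125688145782, [nat_lit 150, nat_lit 150, nat_lit 150, nat_lit 145, nat_lit 152, nat_lit 152, nat_lit 152]), (nat_lit 9439853620426780223926344259568319374182200362553, [nat_lit 152, nat_lit 152, nat_lit 152, nat_lit 152, nat_lit 152, nat_lit 152, nat_lit 152]), (nat_lit 9902190807762943203659174977781967556428139092657, [nat_lit 150, nat_lit 150, nat_lit 145, nat_lit 152, nat_lit 152, nat_lit 152, nat_lit 152]), (nat_lit 8328291621484529505959137368414650133388562550969, [nat_lit 150, nat_lit 150, nat_lit 150, nat_lit 152, nat_lit 152, nat_lit 152, nat_lit 152]), (nat_lit 7635647515301866132766435549045883943427036252673,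 [nat_lit 150, nat_lit 150, nat_lit 152, nat_lit 150, nat_lit 152, nat_lit 152, nat_lit 152]), (nat_lit 9127471162538866795557444360517932342451405872777, [nat_lit 150, nat_lit 150, nat_lit 152, nat_lit 152, nat_lit 150, nat_lit 152, nat_lit 152]), (nat_lit 23645062978253586049615430723053121552288563472653, [nat_lit 150, nat_lit 150, nat_lit 152, nat_lit 152, nat_lit 152, nat_lit 152, nat_lit 152]), (nat_lit 23977337379500484421246913282040585342805633294453, [nat_lit 150, nat_lit 152, nat_lit 150, nat_lit 152, nat_lit 152, nat_lit 152, nat_lit 152]), (nat_lit 4866831427829774310117364735484949968033644128493, [nat_lit 150, nat_lit 145, nat_lit 152, nat_lit 152, nat_lit 152, nat_lit 152, nat_lit 152]), (nat_lit 3884831672337842553509705286311057203738124836093, [nat_lit 150, nat_lit 152, nat_lit 152, nat_lit 150, nat_lit 152, nat_lit 152, nat_lit 152]), (nat_lit 11080721541357566327514527534241943458708996865209, [nat_lit 152, nat_lit 151, nat_lit 152, nat_lit 152, nat_lit 152, nat_lit 152,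 nat_lit 152, nat_lit 152]), (nat_lit 9438930365459800229351706196644352109536498360401, [nat_lit 150, nat_lit 150, nat_lit 150, nat_lit 150, nat_lit 152, nat_lit 152, nat_lit 152, nat_lit 152]), (nat_lit 11080499911363628325902973616415531198150354190561, [nat_lit 150, nat_lit 150, nat_lit 150, nat_lit 145, nat_lit 152, nat_lit 152, nat_lit 152, nat_lit 152]), (nat_lit 6748671392217199517025844070847142561087203338409, [nat_lit 151, nat_lit 152, nat_lit 152, nat_lit 152, nat_lit 152, nat_lit 152, nat_lit 152, nat_lit 152]), (nat_lit 5465517772418000232710489750867712961987913823921, [nat_lit 152, nat_lit 152, nat_lit 151, nat_lit 152, nat_lit 152, nat_lit 152, nat_lit 152, nat_lit 152]), (nat_lit 7471508640304311043156466059034468599949429529681, [nat_lit 150, nat_lit 150, nat_lit 150, nat_lit 152, nat_lit 150, nat_lit 152, nat_lit 152, nat_lit 152]), (nat_lit 6113046573152292125263525282534246642390578070089, [nat_lit 150, nat_lit 150, nat_lit 150, nat_lit 152, nat_lit 152, nat_lit 150, nat_lit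 152, nat_lit 152]), (nat_lit 21553870709560909490229677829329276311236650856397, [nat_lit 150, nat_lit 150, nat_lit 145, nat_lit 152, nat_lit 152, nat_lit 152, nat_lit 152, nat_lit 152]), (nat_lit 19846123707451045181736935622010464830785602970549, [nat_lit 150, nat_lit 150, nat_lit 152, nat_lit 152, nat_lit 150, nat_lit 152, nat_lit 152, nat_lit 152]), (nat_lit 9845260423756626758556988486673568302476693037581, [nat_lit 150, nat_lit 150, nat_lit 150, nat_lit 152, nat_lit 152, nat_lit 152, nat_lit 152, nat_lit 152]), (nat_lit 8263004095141191061376709864119807688305074575085, [nat_lit 150, nat_lit 150, nat_lit 152, nat_lit 150, nat_lit 152, nat_lit 152, nat_lit 152, nat_lit 152]), (nat_lit 17617362626327994150697785913713885327026747015269, [nat_lit 152, nat_lit 152, nat_lit 152, nat_lit 152, nat_lit 152, nat_lit 152, nat_lit 152, nat_lit 152]), (nat_lit 15676115693010656200976755567733829813886587994909, [nat_lit 152, nat_lit 151, nat_lit 152, nat_lit 152, nat_lit 152, nat_lit 152, nat_lit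 152, nat_lit 152, nat_lit 152]), (nat_lit 13757808543912381160540185610197592159427632942909, [nat_lit 152, nat_lit 152, nat_lit 151, nat_lit 152, nat_lit 152, nat_lit 152, nat_lit 152, nat_lit 152, nat_lit 152]), (nat_lit 11090123484859299286883283233810364204206883926581, [nat_lit 150, nat_lit 150, nat_lit 150, nat_lit 145, nat_lit 152, nat_lit 152, nat_lit 152, nat_lit 152, nat_lit 152]), (nat_lit 9442642590048672509823057826458538957556643434293, [nat_lit 150, nat_lit 150, nat_lit 150, nat_lit 152, nat_lit 152, nat_lit 150, nat_lit 152, nat_lit 152, nat_lit 152]), (nat_lit 22107111894324548415355512319653255101229098916829, [nat_lit 150, nat_lit 150, nat_lit 150, nat_lit 150, nat_lit 152, nat_lit 152, nat_lit 152, nat_lit 152, nat_lit 152]), (nat_lit 23137085687288326077032274557614666473458912499877, [nat_lit 150, nat_lit 150, nat_lit 150, nat_lit 152, nat_lit 150, nat_lit 152, nat_lit 152, nat_lit 152, nat_lit 152]), (nat_lit 15616116406188871278680738804654516554113947591437, [nat_lit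 151, nat_lit 152, nat_lit 152, nat_lit 152, nat_lit 152, nat_lit 152, nat_lit 152, nat_lit 152, nat_lit 152])],
  [[nat_lit 0, nat_lit 2, nat_lit 2, nat_lit 1, nat_lit 0, nat_lit 1, nat_lit 0, nat_lit 2, nat_lit 2, nat_lit 1, nat_lit 0, nat_lit 1, nat_lit 0, nat_lit 2, nat_lit 2, nat_lit 1, nat_lit 0, nat_lit 1, nat_lit 0, nat_lit 2, nat_lit 2, nat_lit 1, nat_lit 0, nat_lit 1]],
  [[]], [[]], [nat_lit 144], [nat_lit 150, nat_lit 152, nat_lit 152, nat_lit 152, nat_lit 152, nat_lit 152, nat_lit 152, nat_lit 146]⟩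

def lk : List (ℕ × List ℕ) := [(nat_lit 237369, [nat_lit 152, nat_lit 152]), (nat_lit 289837, [nat_lit 152])]

def gl : List (ℕ × List ℕ) := [(nat_lit 147, [nat_lit 144, nat_lit 144, nat_lit 144, nat_lit 144, nat_lit 144, nat_lit 144, nat_lit 144, nat_lit 144, nat_lit 144, nat_lit 144, nat_lit 144, nat_lit 144, nat_lit 144, nat_lit 144, nat_lit 144, nat_lit 144, nat_lit 144, nat_lit 144, nat_lit 144, nat_lit 144, nat_lit 144, nat_lit 144]), (nat_lit 148, [nat_lit 145, nat_lit 145, nat_lit 145, nat_lit 145, nat_lit 145, nat_lit 145, nat_lit 145, nat_lit 145, nat_lit 145, nat_lit 145]), (nat_lit 149, [nat_lit 146, nat_lit 146, nat_lit 146, nat_lit 146, nat_lit 146, nat_lit 146, nat_lit 146, nat_lit 146, nat_lit 146, nat_lit 146, nat_lit 146, nat_lit 146, nat_lit 146, nat_lit 146, nat_lit 146, nat_lit 146, nat_lit 146, nat_lit 146, nat_lit 146]), (nat_lit 1, [nat_lit 144, nat_lit 149, nat_lit 145, nat_lit 144, nat_lit 149, nat_lit 145, nat_lit 145, nat_lit 149, nat_lit 147, nat_lit 146, nat_lit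 148, nat_lit 144, nat_lit 149, nat_lit 149, nat_lit 147, nat_lit 148, nat_lit 147, nat_lit 149, nat_lit 149, nat_lit 145, nat_lit 144, nat_lit 146, nat_lit 146, nat_lit 146, nat_lit 148, nat_lit 146, nat_lit 144, nat_lit 144, nat_lit 145, nat_lit 146, nat_lit 146, nat_lit 147, nat_lit 146, nat_lit 146, nat_lit 148, nat_lit 144, nat_lit 146, nat_lit 146, nat_lit 146, nat_lit 147, nat_lit 149, nat_lit 145, nat_lit 149, nat_lit 144, nat_lit 146, nat_lit 146, nat_lit 147, nat_lit 147, nat_lit 148, nat_lit 146, nat_lit 144, nat_lit 146, nat_lit 148, nat_lit 146, nat_lit 146, nat_lit 146, nat_lit 148, nat_lit 146, nat_lit 144, nat_lit 149, nat_lit 149, nat_lit 147, nat_lit 147, nat_lit 145, nat_lit 149, nat_lit 147, nat_lit 146, nat_lit 148, nat_lit 146, nat_lit 145, nat_lit 147, nat_lit 146, nat_lit 146, nat_lit 145, nat_lit 144, nat_lit 145, nat_lit 146, nat_lit 146, nat_lit 144, nat_lit 146, nat_lit 146, nat_lit 148, nat_lit 147, nat_lit 145, nat_lit 147, nat_lit 149, nat_lit 149, nat_lit 148,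 nat_lit 147, nat_lit 145, nat_lit 144, nat_lit 144, nat_lit 149, nat_lit 148, nat_lit 144, nat_lit 144, nat_lit 146, nat_lit 146, nat_lit 147, nat_lit 146, nat_lit 144, nat_lit 148, nat_lit 146, nat_lit 146, nat_lit 144, nat_lit 149, nat_lit 145, nat_lit 146, nat_lit 144, nat_lit 149, nat_lit 149, nat_lit 147, nat_lit 147, nat_lit 146, nat_lit 148, nat_lit 146, nat_lit 147, nat_lit 147, nat_lit 145, nat_lit 147, nat_lit 149, nat_lit 149, nat_lit 147, nat_lit 149, nat_lit 149, nat_lit 145, nat_lit 146, nat_lit 144, nat_lit 149, nat_lit 145, nat_lit 149, nat_lit 149, nat_lit 149, nat_lit 147, nat_lit 146, nat_lit 147, nat_lit 147, nat_lit 149, nat_lit 149, nat_lit 145, nat_lit 144, nat_lit 145, nat_lit 147]), (nat_lit 12, [nat_lit 1, nat_lit 1]), (nat_lit 14, [nat_lit 147, nat_lit 148, nat_lit 147, nat_lit 147, nat_lit 146, nat_lit 145, nat_lit 146, nat_lit 147, nat_lit 149, nat_lit 149, nat_lit 145, nat_lit 144, nat_lit 148, nat_lit 149, nat_lit 149, nat_lit 148, nat_lit 147, nat_lit 148, nat_lit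 147, nat_lit 149, nat_lit 147, nat_lit 146, nat_lit 146, nat_lit 147, nat_lit 148, nat_lit 144, nat_lit 146, nat_lit 146, nat_lit 146, nat_lit 147, nat_lit 149, nat_lit 149, nat_lit 148, nat_lit 147, nat_lit 147, nat_lit 149, nat_lit 148, nat_lit 147, nat_lit 149, nat_lit 148, nat_lit 149, nat_lit 144, nat_lit 146, nat_lit 147, nat_lit 149, nat_lit 149, nat_lit 147, nat_lit 149, nat_lit 149, nat_lit 145, nat_lit 145, nat_lit 147, nat_lit 146, nat_lit 146, nat_lit 146, nat_lit 146, nat_lit 145, nat_lit 147, nat_lit 149, nat_lit 149, nat_lit 147, nat_lit 146, nat_lit 146, nat_lit 144, nat_lit 145, nat_lit 149, nat_lit 149, nat_lit 145, nat_lit 144, nat_lit 146, nat_lit 147, nat_lit 147, nat_lit 145, nat_lit 146, nat_lit 146, nat_lit 144, nat_lit 144, nat_lit 146, nat_lit 147, nat_lit 148, nat_lit 146, nat_lit 146, nat_lit 147, nat_lit 148, nat_lit 149, nat_lit 149, nat_lit 147, nat_lit 145, nat_lit 145, nat_lit 145, nat_lit 144, nat_lit 149, nat_lit 149, nat_lit 149, nat_lit 144, nat_lit 149,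 nat_lit 149, nat_lit 147, nat_lit 147, nat_lit 149, nat_lit 144, nat_lit 146, nat_lit 146, nat_lit 145, nat_lit 147, nat_lit 148, nat_lit 146, nat_lit 146, nat_lit 147, nat_lit 145, nat_lit 149, nat_lit 149, nat_lit 144, nat_lit 146, nat_lit 146, nat_lit 144, nat_lit 144, nat_lit 144, nat_lit 149, nat_lit 149, nat_lit 144, nat_lit 144, nat_lit 148, nat_lit 144, nat_lit 146, nat_lit 144, nat_lit 149, nat_lit 149, nat_lit 147, nat_lit 147, nat_lit 149, nat_lit 145, nat_lit 145, nat_lit 149, nat_lit 145, nat_lit 146, nat_lit 147, nat_lit 149, nat_lit 149, nat_lit 147, nat_lit 149, nat_lit 145, nat_lit 149, nat_lit 147, nat_lit 149, nat_lit 149, nat_lit 147, nat_lit 147, nat_lit 147, nat_lit 147, nat_lit 145, nat_lit 144, nat_lit 149, nat_lit 144, nat_lit 149, nat_lit 149, nat_lit 147, nat_lit 147, nat_lit 146, nat_lit 148, nat_lit 147, nat_lit 145]), (nat_lit 25, [nat_lit 14, nat_lit 14]), (nat_lit 27, [nat_lit 149, nat_lit 144, nat_lit 149, nat_lit 145, nat_lit 149, nat_lit 149, nat_lit 149,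 nat_lit 147, nat_lit 149, nat_lit 144, nat_lit 144, nat_lit 149, nat_lit 145, nat_lit 145, nat_lit 146, nat_lit 147, nat_lit 149, nat_lit 149, nat_lit 147, nat_lit 146, nat_lit 148, nat_lit 147, nat_lit 148, nat_lit 144, nat_lit 149, nat_lit 149, nat_lit 147, nat_lit 149, nat_lit 148, nat_lit 144, nat_lit 149, nat_lit 149, nat_lit 148, nat_lit 148, nat_lit 144, nat_lit 144, nat_lit 146, nat_lit 147, nat_lit 149, nat_lit 148, nat_lit 149, nat_lit 144, nat_lit 146, nat_lit 147, nat_lit 145, nat_lit 147, nat_lit 148, nat_lit 146, nat_lit 147, nat_lit 149, nat_lit 148, nat_lit 149, nat_lit 144, nat_lit 146, nat_lit 144, nat_lit 148, nat_lit 144, nat_lit 144, nat_lit 145, nat_lit 144, nat_lit 144, nat_lit 149, nat_lit 149, nat_lit 144, nat_lit 148, nat_lit 144, nat_lit 148, nat_lit 149, nat_lit 149, nat_lit 147, nat_lit 146, nat_lit 144, nat_lit 144, nat_lit 146, nat_lit 146, nat_lit 147, nat_lit 149, nat_lit 144, nat_lit 148, nat_lit 147, nat_lit 147, nat_lit 146, nat_lit 146, nat_lit 147, nat_lit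 147, nat_lit 147, nat_lit 146, nat_lit 147, nat_lit 146, nat_lit 145, nat_lit 146, nat_lit 144, nat_lit 146, nat_lit 148, nat_lit 148, nat_lit 147, nat_lit 148, nat_lit 147, nat_lit 146, nat_lit 146, nat_lit 148, nat_lit 144, nat_lit 149, nat_lit 149, nat_lit 145, nat_lit 144, nat_lit 144, nat_lit 149, nat_lit 144, nat_lit 146, nat_lit 146, nat_lit 147, nat_lit 145, nat_lit 144, nat_lit 146, nat_lit 145, nat_lit 147, nat_lit 147, nat_lit 147, nat_lit 149, nat_lit 149, nat_lit 147, nat_lit 146, nat_lit 146, nat_lit 148, nat_lit 147, nat_lit 149, nat_lit 149, nat_lit 144, nat_lit 145, nat_lit 147, nat_lit 145, nat_lit 146, nat_lit 146, nat_lit 144, nat_lit 146, nat_lit 146, nat_lit 144, nat_lit 144, nat_lit 149, nat_lit 149, nat_lit 144, nat_lit 149, nat_lit 149, nat_lit 147, nat_lit 147, nat_lit 149, nat_lit 149, nat_lit 147, nat_lit 149, nat_lit 149, nat_lit 148, nat_lit 144, nat_lit 144, nat_lit 145, nat_lit 149, nat_lit 147, nat_lit 147, nat_lit 149, nat_lit 149, nat_lit 147, nat_lit 146,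 nat_lit 146, nat_lit 144, nat_lit 146, nat_lit 147, nat_lit 146, nat_lit 146, nat_lit 147, nat_lit 145, nat_lit 149, nat_lit 149, nat_lit 147, nat_lit 146, nat_lit 146, nat_lit 148, nat_lit 148, nat_lit 144, nat_lit 146, nat_lit 146, nat_lit 145, nat_lit 144, nat_lit 149, nat_lit 149, nat_lit 144, nat_lit 148, nat_lit 146, nat_lit 146, nat_lit 147]), (nat_lit 38, [nat_lit 27, nat_lit 27]), (nat_lit 40, [nat_lit 144, nat_lit 149, nat_lit 144, nat_lit 144, nat_lit 144, nat_lit 146, nat_lit 146, nat_lit 148, nat_lit 147, nat_lit 146, nat_lit 146, nat_lit 147, nat_lit 149, nat_lit 148, nat_lit 149, nat_lit 144, nat_lit 145, nat_lit 145, nat_lit 149, nat_lit 145, nat_lit 147, nat_lit 146, nat_lit 146, nat_lit 148, nat_lit 146, nat_lit 146, nat_lit 146, nat_lit 146, nat_lit 146, nat_lit 146, nat_lit 147, nat_lit 146, nat_lit 145, nat_lit 146, nat_lit 147, nat_lit 148, nat_lit 144, nat_lit 144, nat_lit 149, nat_lit 148, nat_lit 149, nat_lit 144, nat_lit 146, nat_lit 147, nat_lit 149, nat_lit 148,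 nat_lit 149, nat_lit 144, nat_lit 149, nat_lit 147, nat_lit 149, nat_lit 149, nat_lit 148, nat_lit 147, nat_lit 146, nat_lit 146, nat_lit 146, nat_lit 146, nat_lit 148, nat_lit 144, nat_lit 145, nat_lit 146, nat_lit 146, nat_lit 144, nat_lit 145, nat_lit 147, nat_lit 147, nat_lit 149, nat_lit 149, nat_lit 147, nat_lit 145, nat_lit 147, nat_lit 146, nat_lit 146, nat_lit 144, nat_lit 146, nat_lit 146, nat_lit 148, nat_lit 147, nat_lit 147, nat_lit 149, nat_lit 149, nat_lit 145, nat_lit 144, nat_lit 149, nat_lit 147, nat_lit 145, nat_lit 149, nat_lit 144, nat_lit 146, nat_lit 145, nat_lit 147, nat_lit 147, nat_lit 149, nat_lit 144, nat_lit 144, nat_lit 146, nat_lit 144, nat_lit 149, nat_lit 149, nat_lit 149, nat_lit 149, nat_lit 149, nat_lit 144, nat_lit 146, nat_lit 146, nat_lit 147, nat_lit 145, nat_lit 149, nat_lit 149, nat_lit 144, nat_lit 146, nat_lit 146, nat_lit 144, nat_lit 144, nat_lit 144, nat_lit 149, nat_lit 149, nat_lit 144, nat_lit 144, nat_lit 148, nat_lit 144, nat_lit 146, nat_lit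 144, nat_lit 149, nat_lit 149, nat_lit 147, nat_lit 147, nat_lit 149, nat_lit 145, nat_lit 145, nat_lit 149, nat_lit 145, nat_lit 146, nat_lit 147, nat_lit 149, nat_lit 149, nat_lit 147, nat_lit 149, nat_lit 145, nat_lit 149, nat_lit 147, nat_lit 149, nat_lit 149, nat_lit 147, nat_lit 147, nat_lit 147, nat_lit 147, nat_lit 145, nat_lit 144, nat_lit 149, nat_lit 144, nat_lit 149, nat_lit 149, nat_lit 147, nat_lit 147, nat_lit 146, nat_lit 148, nat_lit 147, nat_lit 145, nat_lit 144, nat_lit 144, nat_lit 146, nat_lit 146, nat_lit 144, nat_lit 144, nat_lit 149, nat_lit 149, nat_lit 144, nat_lit 149, nat_lit 149, nat_lit 147, nat_lit 147, nat_lit 149, nat_lit 149, nat_lit 147, nat_lit 149, nat_lit 149, nat_lit 148, nat_lit 144, nat_lit 144, nat_lit 145, nat_lit 149, nat_lit 147, nat_lit 147, nat_lit 149, nat_lit 149, nat_lit 147, nat_lit 146, nat_lit 146, nat_lit 144, nat_lit 146, nat_lit 147, nat_lit 146, nat_lit 146, nat_lit 147, nat_lit 145, nat_lit 149, nat_lit 149, nat_lit 147, nat_lit 146,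 nat_lit 146, nat_lit 148, nat_lit 148, nat_lit 144, nat_lit 146, nat_lit 146, nat_lit 145, nat_lit 144, nat_lit 149, nat_lit 149, nat_lit 144, nat_lit 148, nat_lit 146, nat_lit 146, nat_lit 147]), (nat_lit 51, [nat_lit 40, nat_lit 40]), (nat_lit 53, [nat_lit 144, nat_lit 146, nat_lit 147, nat_lit 145, nat_lit 144, nat_lit 146, nat_lit 146, nat_lit 147, nat_lit 145, nat_lit 147, nat_lit 149, nat_lit 145, nat_lit 146, nat_lit 144, nat_lit 144, nat_lit 146, nat_lit 146, nat_lit 147, nat_lit 148, nat_lit 149, nat_lit 144, nat_lit 145, nat_lit 147, nat_lit 149, nat_lit 149, nat_lit 147, nat_lit 147, nat_lit 145, nat_lit 149, nat_lit 147, nat_lit 148, nat_lit 149, nat_lit 149, nat_lit 144, nat_lit 149, nat_lit 149, nat_lit 147, nat_lit 146, nat_lit 145, nat_lit 147, nat_lit 146, nat_lit 145, nat_lit 146, nat_lit 147, nat_lit 146, nat_lit 146, nat_lit 145, nat_lit 146, nat_lit 146, nat_lit 146, nat_lit 144, nat_lit 144, nat_lit 146, nat_lit 146, nat_lit 147, nat_lit 149, nat_lit 147, nat_lit 147,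 nat_lit 147, nat_lit 146, nat_lit 148, nat_lit 146, nat_lit 145, nat_lit 144, nat_lit 144, nat_lit 149, nat_lit 147, nat_lit 146, nat_lit 145, nat_lit 146, nat_lit 144, nat_lit 149, nat_lit 147, nat_lit 146, nat_lit 146, nat_lit 144, nat_lit 144, nat_lit 144, nat_lit 148, nat_lit 146, nat_lit 146, nat_lit 147, nat_lit 149, nat_lit 149, nat_lit 145, nat_lit 149, nat_lit 149, nat_lit 149, nat_lit 149, nat_lit 144, nat_lit 149, nat_lit 147, nat_lit 145, nat_lit 146, nat_lit 146, nat_lit 147, nat_lit 146, nat_lit 146, nat_lit 145, nat_lit 144, nat_lit 146, nat_lit 146, nat_lit 147, nat_lit 146, nat_lit 148, nat_lit 144, nat_lit 146, nat_lit 146, nat_lit 148, nat_lit 146, nat_lit 146, nat_lit 144, nat_lit 149, nat_lit 144, nat_lit 146, nat_lit 146, nat_lit 148, nat_lit 147, nat_lit 145, nat_lit 146, nat_lit 146, nat_lit 144, nat_lit 146, nat_lit 145, nat_lit 147, nat_lit 145, nat_lit 149, nat_lit 149, nat_lit 147, nat_lit 146, nat_lit 146, nat_lit 145, nat_lit 149, nat_lit 149, nat_lit 147, nat_lit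 147, nat_lit 147, nat_lit 146, nat_lit 144, nat_lit 145, nat_lit 149, nat_lit 149, nat_lit 147, nat_lit 146, nat_lit 146, nat_lit 147, nat_lit 146, nat_lit 144, nat_lit 144, nat_lit 145, nat_lit 144, nat_lit 144, nat_lit 148, nat_lit 146, nat_lit 146, nat_lit 146, nat_lit 146, nat_lit 147, nat_lit 147, nat_lit 146, nat_lit 144, nat_lit 149, nat_lit 145, nat_lit 145, nat_lit 149, nat_lit 147, nat_lit 146, nat_lit 144, nat_lit 145, nat_lit 146, nat_lit 148, nat_lit 149, nat_lit 144, nat_lit 149, nat_lit 149, nat_lit 147, nat_lit 149, nat_lit 149, nat_lit 145, nat_lit 147, nat_lit 147, nat_lit 149, nat_lit 149, nat_lit 147, nat_lit 145, nat_lit 149, nat_lit 149, nat_lit 148, nat_lit 147, nat_lit 148, nat_lit 144, nat_lit 149, nat_lit 149, nat_lit 144, nat_lit 146, nat_lit 146, nat_lit 146, nat_lit 144, nat_lit 149, nat_lit 145, nat_lit 149, nat_lit 149, nat_lit 149, nat_lit 147, nat_lit 149]), (nat_lit 64, [nat_lit 53, nat_lit 53]), (nat_lit 66, [nat_lit 149, nat_lit 145, nat_lit 147, nat_lit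 146, nat_lit 148, nat_lit 146, nat_lit 146, nat_lit 146, nat_lit 144, nat_lit 146, nat_lit 145, nat_lit 144, nat_lit 149, nat_lit 145, nat_lit 149, nat_lit 144, nat_lit 148, nat_lit 147, nat_lit 146, nat_lit 146, nat_lit 144, nat_lit 149, nat_lit 149, nat_lit 145, nat_lit 144, nat_lit 146, nat_lit 147, nat_lit 146, nat_lit 148, nat_lit 146, nat_lit 146, nat_lit 146, nat_lit 144, nat_lit 149, nat_lit 147, nat_lit 148, nat_lit 149, nat_lit 149, nat_lit 144, nat_lit 144, nat_lit 144, nat_lit 145, nat_lit 144, nat_lit 146, nat_lit 146, nat_lit 144, nat_lit 149, nat_lit 149, nat_lit 144, nat_lit 145, nat_lit 149, nat_lit 149, nat_lit 148, nat_lit 144, nat_lit 149, nat_lit 149, nat_lit 145, nat_lit 149, nat_lit 149, nat_lit 145, nat_lit 144, nat_lit 146, nat_lit 145, nat_lit 147, nat_lit 146, nat_lit 145, nat_lit 146, nat_lit 144, nat_lit 149, nat_lit 149, nat_lit 147, nat_lit 148, nat_lit 144, nat_lit 149, nat_lit 149, nat_lit 147, nat_lit 146, nat_lit 147, nat_lit 145, nat_lit 146, nat_lit 146,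 nat_lit 147, nat_lit 145, nat_lit 145, nat_lit 149, nat_lit 144, nat_lit 146, nat_lit 146, nat_lit 147, nat_lit 145, nat_lit 144, nat_lit 145, nat_lit 146, nat_lit 144, nat_lit 149, nat_lit 145, nat_lit 149, nat_lit 144, nat_lit 145, nat_lit 146, nat_lit 144, nat_lit 149, nat_lit 149, nat_lit 147, nat_lit 147, nat_lit 146, nat_lit 145, nat_lit 144, nat_lit 144, nat_lit 146, nat_lit 147, nat_lit 146, nat_lit 148, nat_lit 148, nat_lit 146, nat_lit 144, nat_lit 149, nat_lit 149, nat_lit 144, nat_lit 146, nat_lit 145, nat_lit 145, nat_lit 147, nat_lit 146, nat_lit 146, nat_lit 144, nat_lit 146, nat_lit 148, nat_lit 146, nat_lit 146, nat_lit 146, nat_lit 144, nat_lit 146, nat_lit 148, nat_lit 146, nat_lit 144, nat_lit 149, nat_lit 149, nat_lit 144, nat_lit 146, nat_lit 148, nat_lit 147, nat_lit 146, nat_lit 146, nat_lit 147, nat_lit 149, nat_lit 149, nat_lit 144, nat_lit 144, nat_lit 145, nat_lit 146, nat_lit 147, nat_lit 146, nat_lit 146, nat_lit 147, nat_lit 147, nat_lit 147, nat_lit 147, nat_lit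 146, nat_lit 146, nat_lit 146, nat_lit 147, nat_lit 146, nat_lit 145, nat_lit 146, nat_lit 144, nat_lit 145, nat_lit 149, nat_lit 144, nat_lit 146, nat_lit 146, nat_lit 147, nat_lit 146, nat_lit 146, nat_lit 148, nat_lit 148, nat_lit 149, nat_lit 149, nat_lit 145, nat_lit 144, nat_lit 149, nat_lit 149, nat_lit 144, nat_lit 146, nat_lit 146, nat_lit 144, nat_lit 146, nat_lit 146, nat_lit 146, nat_lit 146, nat_lit 147, nat_lit 146, nat_lit 146, nat_lit 145, nat_lit 144, nat_lit 145, nat_lit 147, nat_lit 146, nat_lit 146, nat_lit 146, nat_lit 147, nat_lit 148, nat_lit 149, nat_lit 148, nat_lit 149, nat_lit 147, nat_lit 145, nat_lit 144, nat_lit 146, nat_lit 146, nat_lit 147, nat_lit 149]), (nat_lit 77, [nat_lit 66, nat_lit 66]), (nat_lit 79, [nat_lit 146, nat_lit 145, nat_lit 144, nat_lit 146, nat_lit 146, nat_lit 148, nat_lit 144, nat_lit 145, nat_lit 144, nat_lit 149, nat_lit 145, nat_lit 145, nat_lit 147, nat_lit 149, nat_lit 149, nat_lit 144, nat_lit 146, nat_lit 146, nat_lit 147, nat_lit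 147, nat_lit 147, nat_lit 149, nat_lit 149, nat_lit 149, nat_lit 149, nat_lit 147, nat_lit 149, nat_lit 145, nat_lit 149, nat_lit 147, nat_lit 145, nat_lit 146, nat_lit 146, nat_lit 147, nat_lit 148, nat_lit 148, nat_lit 144, nat_lit 148, nat_lit 146, nat_lit 146, nat_lit 146, nat_lit 146, nat_lit 146, nat_lit 146, nat_lit 148, nat_lit 144, nat_lit 145, nat_lit 144, nat_lit 145, nat_lit 149, nat_lit 149, nat_lit 147, nat_lit 146, nat_lit 146, nat_lit 147, nat_lit 147, nat_lit 149, nat_lit 144, nat_lit 149, nat_lit 149, nat_lit 147, nat_lit 147, nat_lit 149, nat_lit 148, nat_lit 149, nat_lit 149, nat_lit 148, nat_lit 147, nat_lit 148, nat_lit 148, nat_lit 149, nat_lit 145, nat_lit 144, nat_lit 149, nat_lit 148, nat_lit 149, nat_lit 147, nat_lit 145, nat_lit 146, nat_lit 146, nat_lit 147, nat_lit 149, nat_lit 144, nat_lit 146, nat_lit 144, nat_lit 144, nat_lit 146, nat_lit 146, nat_lit 147, nat_lit 146, nat_lit 147, nat_lit 146, nat_lit 146, nat_lit 144, nat_lit 146, nat_lit 146, nat_lit 144,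 nat_lit 145, nat_lit 144, nat_lit 149, nat_lit 149, nat_lit 147, nat_lit 147, nat_lit 149, nat_lit 145, nat_lit 149, nat_lit 147, nat_lit 147, nat_lit 145, nat_lit 147, nat_lit 149, nat_lit 148, nat_lit 149, nat_lit 145, nat_lit 147, nat_lit 149, nat_lit 148, nat_lit 144, nat_lit 149, nat_lit 149, nat_lit 147, nat_lit 147, nat_lit 149, nat_lit 147, nat_lit 145, nat_lit 144, nat_lit 146, nat_lit 146, nat_lit 148, nat_lit 144, nat_lit 148, nat_lit 148, nat_lit 146, nat_lit 146, nat_lit 144, nat_lit 148, nat_lit 149, nat_lit 149, nat_lit 144, nat_lit 146, nat_lit 145, nat_lit 146, nat_lit 147, nat_lit 147, nat_lit 145, nat_lit 149, nat_lit 148, nat_lit 147, nat_lit 149, nat_lit 148, nat_lit 149, nat_lit 144, nat_lit 148, nat_lit 146, nat_lit 144, nat_lit 145, nat_lit 149, nat_lit 147, nat_lit 149, nat_lit 148, nat_lit 149, nat_lit 144, nat_lit 149, nat_lit 147, nat_lit 149, nat_lit 148, nat_lit 148, nat_lit 149, nat_lit 147, nat_lit 147]), (nat_lit 90, [nat_lit 79, nat_lit 79]), (nat_lit 92,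 [nat_lit 145, nat_lit 147, nat_lit 149, nat_lit 148, nat_lit 149, nat_lit 145, nat_lit 147, nat_lit 149, nat_lit 148, nat_lit 144, nat_lit 149, nat_lit 149, nat_lit 147, nat_lit 147, nat_lit 149, nat_lit 147, nat_lit 145, nat_lit 144, nat_lit 146, nat_lit 146, nat_lit 148, nat_lit 144, nat_lit 148, nat_lit 148, nat_lit 146, nat_lit 146, nat_lit 144, nat_lit 148, nat_lit 149, nat_lit 149, nat_lit 144, nat_lit 146, nat_lit 145, nat_lit 146, nat_lit 147, nat_lit 147, nat_lit 145, nat_lit 149, nat_lit 148, nat_lit 147, nat_lit 149, nat_lit 148, nat_lit 149, nat_lit 144, nat_lit 148, nat_lit 146, nat_lit 144, nat_lit 145, nat_lit 149, nat_lit 147, nat_lit 149, nat_lit 148, nat_lit 149, nat_lit 144, nat_lit 149, nat_lit 147, nat_lit 149, nat_lit 148, nat_lit 148, nat_lit 146, nat_lit 144, nat_lit 144, nat_lit 149, nat_lit 149, nat_lit 144, nat_lit 149, nat_lit 149, nat_lit 147, nat_lit 147, nat_lit 149, nat_lit 149, nat_lit 147, nat_lit 149, nat_lit 149, nat_lit 148, nat_lit 144, nat_lit 144, nat_lit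 145, nat_lit 149, nat_lit 147, nat_lit 147, nat_lit 149, nat_lit 149, nat_lit 147, nat_lit 146, nat_lit 146, nat_lit 144, nat_lit 146, nat_lit 147, nat_lit 146, nat_lit 146, nat_lit 147, nat_lit 145, nat_lit 149, nat_lit 149, nat_lit 147, nat_lit 146, nat_lit 146, nat_lit 148, nat_lit 148, nat_lit 144, nat_lit 146, nat_lit 146, nat_lit 145, nat_lit 144, nat_lit 149, nat_lit 149, nat_lit 144, nat_lit 148, nat_lit 146, nat_lit 146, nat_lit 147, nat_lit 145, nat_lit 147, nat_lit 146, nat_lit 148, nat_lit 147, nat_lit 146, nat_lit 145, nat_lit 146, nat_lit 144, nat_lit 145, nat_lit 149, nat_lit 144, nat_lit 144, nat_lit 144, nat_lit 148, nat_lit 146, nat_lit 146, nat_lit 144, nat_lit 148, nat_lit 148, nat_lit 148, nat_lit 147, nat_lit 149, nat_lit 145, nat_lit 149, nat_lit 147, nat_lit 146, nat_lit 146, nat_lit 145, nat_lit 144, nat_lit 146, nat_lit 144, nat_lit 149, nat_lit 149, nat_lit 144, nat_lit 149, nat_lit 149, nat_lit 149, nat_lit 149, nat_lit 145, nat_lit 147, nat_lit 146, nat_lit 146,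 nat_lit 148, nat_lit 146, nat_lit 144, nat_lit 144, nat_lit 145, nat_lit 149, nat_lit 147, nat_lit 145, nat_lit 144, nat_lit 146, nat_lit 148, nat_lit 146, nat_lit 144, nat_lit 144, nat_lit 149, nat_lit 149, nat_lit 144, nat_lit 146, nat_lit 146, nat_lit 147, nat_lit 146, nat_lit 146, nat_lit 145, nat_lit 144, nat_lit 146, nat_lit 148, nat_lit 147, nat_lit 149, nat_lit 149, nat_lit 147, nat_lit 145, nat_lit 149, nat_lit 149]), (nat_lit 103, [nat_lit 92, nat_lit 92]), (nat_lit 105, [nat_lit 144, nat_lit 144, nat_lit 146, nat_lit 146, nat_lit 144, nat_lit 144, nat_lit 149, nat_lit 149, nat_lit 144, nat_lit 149, nat_lit 149, nat_lit 147, nat_lit 147, nat_lit 149, nat_lit 149, nat_lit 147, nat_lit 149, nat_lit 149, nat_lit 148, nat_lit 144, nat_lit 144, nat_lit 145, nat_lit 149, nat_lit 147, nat_lit 147, nat_lit 149, nat_lit 149, nat_lit 147, nat_lit 146, nat_lit 146, nat_lit 144, nat_lit 146, nat_lit 147, nat_lit 146, nat_lit 146, nat_lit 147, nat_lit 145, nat_lit 149, nat_lit 149, nat_lit 147,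 nat_lit 146, nat_lit 146, nat_lit 148, nat_lit 148, nat_lit 144, nat_lit 146, nat_lit 146, nat_lit 145, nat_lit 144, nat_lit 149, nat_lit 149, nat_lit 144, nat_lit 148, nat_lit 146, nat_lit 146, nat_lit 147, nat_lit 146, nat_lit 146, nat_lit 148, nat_lit 144, nat_lit 146, nat_lit 146, nat_lit 144, nat_lit 145, nat_lit 149, nat_lit 147, nat_lit 148, nat_lit 149, nat_lit 149, nat_lit 144, nat_lit 149, nat_lit 149, nat_lit 147, nat_lit 146, nat_lit 146, nat_lit 147, nat_lit 147, nat_lit 149, nat_lit 145, nat_lit 149, nat_lit 147, nat_lit 148, nat_lit 144, nat_lit 146, nat_lit 148, nat_lit 147, nat_lit 147, nat_lit 149, nat_lit 145, nat_lit 149, nat_lit 149, nat_lit 144, nat_lit 148, nat_lit 146, nat_lit 146, nat_lit 146, nat_lit 146, nat_lit 147, nat_lit 146, nat_lit 146, nat_lit 147, nat_lit 149, nat_lit 147, nat_lit 148, nat_lit 149, nat_lit 149, nat_lit 144, nat_lit 146, nat_lit 148, nat_lit 146, nat_lit 144, nat_lit 145, nat_lit 145, nat_lit 145, nat_lit 147, nat_lit 149, nat_lit 149, nat_lit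 145, nat_lit 147, nat_lit 147, nat_lit 147, nat_lit 146, nat_lit 148, nat_lit 147, nat_lit 149, nat_lit 148, nat_lit 149, nat_lit 144, nat_lit 145, nat_lit 149, nat_lit 144, nat_lit 148]), (nat_lit 116, [nat_lit 105, nat_lit 105]), (nat_lit 70, [nat_lit 146, nat_lit 148, nat_lit 147, nat_lit 146, nat_lit 146, nat_lit 146, nat_lit 145, nat_lit 146, nat_lit 147, nat_lit 148, nat_lit 144, nat_lit 146, nat_lit 148, nat_lit 146, nat_lit 144, nat_lit 149, nat_lit 145, nat_lit 144, nat_lit 146, nat_lit 145, nat_lit 144, nat_lit 146, nat_lit 146, nat_lit 148, nat_lit 147, nat_lit 146, nat_lit 146, nat_lit 147, nat_lit 145, nat_lit 144, nat_lit 146, nat_lit 146, nat_lit 147, nat_lit 145, nat_lit 144, nat_lit 149, nat_lit 149, nat_lit 144, nat_lit 146, nat_lit 148, nat_lit 147, nat_lit 146, nat_lit 145, nat_lit 146, nat_lit 144, nat_lit 149, nat_lit 149, nat_lit 145, nat_lit 146, nat_lit 147, nat_lit 149, nat_lit 147, nat_lit 146, nat_lit 145, nat_lit 146, nat_lit 144, nat_lit 146, nat_lit 146, nat_lit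 146, nat_lit 147, nat_lit 145, nat_lit 147, nat_lit 146, nat_lit 148, nat_lit 146, nat_lit 144, nat_lit 149, nat_lit 149, nat_lit 145, nat_lit 149, nat_lit 148, nat_lit 149, nat_lit 147, nat_lit 147, nat_lit 146, nat_lit 146, nat_lit 145, nat_lit 145, nat_lit 149, nat_lit 149, nat_lit 144, nat_lit 149, nat_lit 149, nat_lit 149, nat_lit 147, nat_lit 146, nat_lit 146, nat_lit 144, nat_lit 144, nat_lit 144, nat_lit 146, nat_lit 144, nat_lit 146, nat_lit 145, nat_lit 146, nat_lit 144, nat_lit 148, nat_lit 147, nat_lit 146, nat_lit 146, nat_lit 146, nat_lit 145, nat_lit 146, nat_lit 144, nat_lit 145, nat_lit 146, nat_lit 147, nat_lit 146, nat_lit 145, nat_lit 146, nat_lit 147, nat_lit 147, nat_lit 149, nat_lit 149, nat_lit 144, nat_lit 146, nat_lit 147]), (nat_lit 125, [nat_lit 70, nat_lit 70]), (nat_lit 131, [nat_lit 149, nat_lit 147, nat_lit 146, nat_lit 144, nat_lit 148, nat_lit 147, nat_lit 146, nat_lit 148, nat_lit 146, nat_lit 146, nat_lit 147, nat_lit 145, nat_lit 149, nat_lit 147, nat_lit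 146, nat_lit 148, nat_lit 147, nat_lit 148, nat_lit 147, nat_lit 149, nat_lit 147, nat_lit 145, nat_lit 144, nat_lit 146, nat_lit 146, nat_lit 148, nat_lit 147, nat_lit 149, nat_lit 149, nat_lit 145, nat_lit 144, nat_lit 149, nat_lit 149, nat_lit 148, nat_lit 149, nat_lit 144, nat_lit 149, nat_lit 149, nat_lit 147, nat_lit 147, nat_lit 146, nat_lit 144, nat_lit 149, nat_lit 149, nat_lit 148, nat_lit 147, nat_lit 147, nat_lit 147, nat_lit 149, nat_lit 149, nat_lit 145, nat_lit 149, nat_lit 145, nat_lit 147, nat_lit 149, nat_lit 149, nat_lit 149, nat_lit 148, nat_lit 149, nat_lit 144, nat_lit 144, nat_lit 148, nat_lit 149, nat_lit 147, nat_lit 147, nat_lit 147, nat_lit 147, nat_lit 149, nat_lit 148, nat_lit 144, nat_lit 144, nat_lit 146, nat_lit 146, nat_lit 147, nat_lit 146, nat_lit 144, nat_lit 149, nat_lit 149, nat_lit 145, nat_lit 149, nat_lit 149, nat_lit 147, nat_lit 148, nat_lit 147, nat_lit 149, nat_lit 149, nat_lit 147, nat_lit 145, nat_lit 149, nat_lit 149, nat_lit 147, nat_lit 148,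 nat_lit 144, nat_lit 149, nat_lit 149, nat_lit 144, nat_lit 146, nat_lit 145, nat_lit 144, nat_lit 144, nat_lit 146, nat_lit 146, nat_lit 147, nat_lit 146, nat_lit 148, nat_lit 144, nat_lit 149, nat_lit 149, nat_lit 144, nat_lit 146, nat_lit 146, nat_lit 147, nat_lit 148, nat_lit 146, nat_lit 146, nat_lit 144, nat_lit 149, nat_lit 148, nat_lit 149, nat_lit 147, nat_lit 145]), (nat_lit 142, [nat_lit 131, nat_lit 131]), (nat_lit 0, []), (nat_lit 13, []), (nat_lit 26, []), (nat_lit 39, []), (nat_lit 52, []), (nat_lit 65, []), (nat_lit 78, []), (nat_lit 91, []), (nat_lit 104, []), (nat_lit 117, []), (nat_lit 130, []), (nat_lit 143, []), (nat_lit 2, [nat_lit 1, nat_lit 14]), (nat_lit 3, [nat_lit 2, nat_lit 27]), (nat_lit 4, [nat_lit 3, nat_lit 40]), (nat_lit 5, [nat_lit 4, nat_lit 53]), (nat_lit 6, [nat_lit 5, nat_lit 66]), (nat_lit 7, [nat_lit 6, nat_lit 79]), (nat_lit 8, [nat_lit 7, nat_lit 92]), (nat_lit 9, [nat_lit 8, nat_lit 105]), (nat_lit 10, [nat_lit 5, nat_lit 70]), (nat_lit 11, [nat_lit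 10, nat_lit 131]), (nat_lit 15, [nat_lit 12, nat_lit 3]), (nat_lit 16, [nat_lit 12, nat_lit 4]), (nat_lit 17, [nat_lit 12, nat_lit 5]), (nat_lit 18, [nat_lit 12, nat_lit 6]), (nat_lit 19, [nat_lit 12, nat_lit 7]), (nat_lit 20, [nat_lit 12, nat_lit 8]), (nat_lit 21, [nat_lit 12, nat_lit 9]), (nat_lit 22, [nat_lit 12, nat_lit 10]), (nat_lit 23, [nat_lit 12, nat_lit 11]), (nat_lit 24, [nat_lit 25, nat_lit 12]), (nat_lit 28, [nat_lit 24, nat_lit 4]), (nat_lit 29, [nat_lit 24, nat_lit 5]), (nat_lit 30, [nat_lit 24, nat_lit 6]), (nat_lit 31, [nat_lit 24, nat_lit 7]), (nat_lit 32, [nat_lit 24, nat_lit 8]), (nat_lit 33, [nat_lit 24, nat_lit 9]), (nat_lit 34, [nat_lit 24, nat_lit 10]), (nat_lit 35, [nat_lit 24, nat_lit 11]), (nat_lit 36, [nat_lit 38, nat_lit 24]), (nat_lit 37, [nat_lit 36, nat_lit 1]), (nat_lit 41, [nat_lit 36, nat_lit 5]), (nat_lit 42, [nat_lit 36, nat_lit 6]), (nat_lit 43, [nat_lit 36, nat_lit 7]), (nat_lit 44, [nat_lit 36, nat_lit 8]), (nat_lit 45, [nat_lit 36, nat_lit 9]), (nat_lit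 46, [nat_lit 36, nat_lit 10]), (nat_lit 47, [nat_lit 36, nat_lit 11]), (nat_lit 48, [nat_lit 51, nat_lit 36]), (nat_lit 49, [nat_lit 48, nat_lit 1]), (nat_lit 50, [nat_lit 48, nat_lit 2]), (nat_lit 54, [nat_lit 48, nat_lit 6]), (nat_lit 55, [nat_lit 48, nat_lit 7]), (nat_lit 56, [nat_lit 48, nat_lit 8]), (nat_lit 57, [nat_lit 48, nat_lit 9]), (nat_lit 58, [nat_lit 48, nat_lit 10]), (nat_lit 59, [nat_lit 48, nat_lit 11]), (nat_lit 60, [nat_lit 64, nat_lit 48]), (nat_lit 61, [nat_lit 60, nat_lit 1]), (nat_lit 62, [nat_lit 60, nat_lit 2]), (nat_lit 63, [nat_lit 60, nat_lit 3]), (nat_lit 67, [nat_lit 60, nat_lit 7]), (nat_lit 68, [nat_lit 60, nat_lit 8]), (nat_lit 69, [nat_lit 60, nat_lit 9]), (nat_lit 71, [nat_lit 60, nat_lit 11]), (nat_lit 72, [nat_lit 77, nat_lit 60]), (nat_lit 73, [nat_lit 72, nat_lit 1]), (nat_lit 74, [nat_lit 72, nat_lit 2]), (nat_lit 75, [nat_lit 72, nat_lit 3]), (nat_lit 76, [nat_lit 72, nat_lit 4]), (nat_lit 80, [nat_lit 72, nat_lit 8]), (nat_lit 81, [nat_lit 72, nat_lit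 9]), (nat_lit 82, [nat_lit 72, nat_lit 10]), (nat_lit 83, [nat_lit 72, nat_lit 11]), (nat_lit 84, [nat_lit 90, nat_lit 72]), (nat_lit 85, [nat_lit 84, nat_lit 1]), (nat_lit 86, [nat_lit 84, nat_lit 2]), (nat_lit 87, [nat_lit 84, nat_lit 3]), (nat_lit 88, [nat_lit 84, nat_lit 4]), (nat_lit 89, [nat_lit 84, nat_lit 5]), (nat_lit 93, [nat_lit 84, nat_lit 9]), (nat_lit 94, [nat_lit 84, nat_lit 10]), (nat_lit 95, [nat_lit 84, nat_lit 11]), (nat_lit 96, [nat_lit 103, nat_lit 84]), (nat_lit 97, [nat_lit 96, nat_lit 1]), (nat_lit 98, [nat_lit 96, nat_lit 2]), (nat_lit 99, [nat_lit 96, nat_lit 3]), (nat_lit 100, [nat_lit 96, nat_lit 4]), (nat_lit 101, [nat_lit 96, nat_lit 5]), (nat_lit 102, [nat_lit 96, nat_lit 6]), (nat_lit 106, [nat_lit 96, nat_lit 10]), (nat_lit 107, [nat_lit 96, nat_lit 11]), (nat_lit 108, [nat_lit 116, nat_lit 96]), (nat_lit 109, [nat_lit 108, nat_lit 1]), (nat_lit 110, [nat_lit 108, nat_lit 2]), (nat_lit 111, [nat_lit 108, nat_lit 3]), (nat_lit 112, [nat_lit 108, nat_lit 4]),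 (nat_lit 113, [nat_lit 108, nat_lit 5]), (nat_lit 114, [nat_lit 108, nat_lit 6]), (nat_lit 115, [nat_lit 108, nat_lit 7]), (nat_lit 118, [nat_lit 108, nat_lit 10]), (nat_lit 119, [nat_lit 108, nat_lit 11]), (nat_lit 120, [nat_lit 125, nat_lit 60]), (nat_lit 121, [nat_lit 120, nat_lit 1]), (nat_lit 122, [nat_lit 120, nat_lit 2]), (nat_lit 123, [nat_lit 120, nat_lit 3]), (nat_lit 124, [nat_lit 120, nat_lit 4]), (nat_lit 126, [nat_lit 120, nat_lit 6]), (nat_lit 127, [nat_lit 120, nat_lit 7]), (nat_lit 128, [nat_lit 120, nat_lit 8]), (nat_lit 129, [nat_lit 120, nat_lit 9]), (nat_lit 132, [nat_lit 142, nat_lit 120]), (nat_lit 133, [nat_lit 132, nat_lit 1]), (nat_lit 134, [nat_lit 132, nat_lit 2]), (nat_lit 135, [nat_lit 132, nat_lit 3]), (nat_lit 136, [nat_lit 132, nat_lit 4]), (nat_lit 137, [nat_lit 132, nat_lit 5]), (nat_lit 138, [nat_lit 132, nat_lit 6]), (nat_lit 139, [nat_lit 132, nat_lit 7]), (nat_lit 140, [nat_lit 132, nat_lit 8]), (nat_lit 141, [nat_lit 132, nat_lit 9]), (nat_lit 150, [nat_lit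 1, nat_lit 86, nat_lit 58, nat_lit 64, nat_lit 142, nat_lit 66, nat_lit 70, nat_lit 136, nat_lit 70, nat_lit 64, nat_lit 43, nat_lit 125, nat_lit 59, nat_lit 125, nat_lit 77, nat_lit 131, nat_lit 53, nat_lit 123, nat_lit 2, nat_lit 54, nat_lit 90, nat_lit 64, nat_lit 44, nat_lit 79, nat_lit 125, nat_lit 59, nat_lit 125, nat_lit 77, nat_lit 131, nat_lit 53, nat_lit 129, nat_lit 103, nat_lit 77, nat_lit 51, nat_lit 2, nat_lit 14, nat_lit 40, nat_lit 66, nat_lit 94, nat_lit 64, nat_lit 142, nat_lit 66, nat_lit 70, nat_lit 136, nat_lit 70, nat_lit 38, nat_lit 41, nat_lit 103, nat_lit 81, nat_lit 103, nat_lit 125, nat_lit 59, nat_lit 125, nat_lit 82, nat_lit 64, nat_lit 46, nat_lit 137, nat_lit 127, nat_lit 125, nat_lit 59, nat_lit 125, nat_lit 77, nat_lit 131, nat_lit 53, nat_lit 126, nat_lit 71, nat_lit 105]), (nat_lit 151, [nat_lit 128, nat_lit 84, nat_lit 80, nat_lit 66, nat_lit 58, nat_lit 71, nat_lit 87, nat_lit 125, nat_lit 51, nat_lit 79, nat_lit 105, nat_lit 66, nat_lit 92, nat_lit 125,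 nat_lit 53, nat_lit 79, nat_lit 98, nat_lit 125, nat_lit 75, nat_lit 53, nat_lit 79, nat_lit 125, nat_lit 73, nat_lit 2, nat_lit 37, nat_lit 131, nat_lit 125, nat_lit 51, nat_lit 12, nat_lit 25, nat_lit 125, nat_lit 59, nat_lit 79, nat_lit 82, nat_lit 64, nat_lit 142, nat_lit 66, nat_lit 125, nat_lit 51, nat_lit 131, nat_lit 70, nat_lit 24, nat_lit 80, nat_lit 90, nat_lit 125, nat_lit 59, nat_lit 125, nat_lit 82, nat_lit 64, nat_lit 46, nat_lit 141, nat_lit 103, nat_lit 83, nat_lit 53, nat_lit 131, nat_lit 64, nat_lit 77, nat_lit 125, nat_lit 80, nat_lit 92]), (nat_lit 152, [nat_lit 116, nat_lit 108, nat_lit 126, nat_lit 64, nat_lit 38, nat_lit 53, nat_lit 126, nat_lit 64, nat_lit 90, nat_lit 70, nat_lit 103, nat_lit 51, nat_lit 25, nat_lit 64, nat_lit 38, nat_lit 77, nat_lit 51, nat_lit 128, nat_lit 90, nat_lit 69, nat_lit 103, nat_lit 76, nat_lit 70, nat_lit 64, nat_lit 36, nat_lit 25, nat_lit 40, nat_lit 67, nat_lit 81, nat_lit 103]), (nat_lit 153, [nat_lit 125, nat_lit 59, nat_lit 125,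 nat_lit 77, nat_lit 131, nat_lit 53, nat_lit 131])]

def dead : List (ℕ × List ℕ × ℕ) := []

def ys : List ℕ := []

noncomputable def inf2B : L0.BT := (.node (.node (.node (.node (.node (.node (.node (.node (.leaf inf2B_0) (.leaf inf2B_128)) (.leaf inf2B_64)) (.node (.leaf inf2B_32) (.leaf inf2B_96))) (.node (.node (.node (.leaf inf2B_16) (.leaf inf2B_144)) (.leaf inf2B_80)) (.node (.leaf inf2B_48) (.leaf inf2B_112)))) (.node (.node (.node (.node (.leaf inf2B_8) (.leaf inf2B_136)) (.leaf inf2B_72)) (.node (.leaf inf2B_40) (.leaf inf2B_104))) (.node (.node (.leaf inf2B_24) (.leaf inf2B_88)) (.node (.leaf inf2B_56) (.leaf inf2B_120))))) (.node (.node (.node (.node (.node (.leaf inf2B_4) (.leaf inf2B_132)) (.leaf inf2B_68)) (.node (.leaf inf2B_36) (.leaf inf2B_100))) (.node (.node (.node (.leaf inf2B_20) (.leaf inf2B_148)) (.leaf inf2B_84)) (.node (.leaf inf2B_52) (.leaf inf2B_116)))) (.node (.node (.node (.node (.leaf inf2B_12) (.leaf inf2B_140)) (.leaf inf2B_76)) (.node (.leaf inf2B_44) (.leaf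 inf2B_108))) (.node (.node (.leaf inf2B_28) (.leaf inf2B_92)) (.node (.leaf inf2B_60) (.leaf inf2B_124)))))) (.node (.node (.node (.node (.node (.node (.leaf inf2B_2) (.leaf inf2B_130)) (.leaf inf2B_66)) (.node (.leaf inf2B_34) (.leaf inf2B_98))) (.node (.node (.node (.leaf inf2B_18) (.leaf inf2B_146)) (.leaf inf2B_82)) (.node (.leaf inf2B_50) (.leaf inf2B_114)))) (.node (.node (.node (.node (.leaf inf2B_10) (.leaf inf2B_138)) (.leaf inf2B_74)) (.node (.leaf inf2B_42) (.leaf inf2B_106))) (.node (.node (.leaf inf2B_26) (.leaf inf2B_90)) (.node (.leaf inf2B_58) (.leaf inf2B_122))))) (.node (.node (.node (.node (.node (.leaf inf2B_6) (.leaf inf2B_134)) (.leaf inf2B_70)) (.node (.leaf inf2B_38) (.leaf inf2B_102))) (.node (.node (.leaf inf2B_22) (.leaf inf2B_86)) (.node (.leaf inf2B_54) (.leaf inf2B_118)))) (.node (.node (.node (.node (.leaf inf2B_14) (.leaf inf2B_142)) (.leaf inf2B_78)) (.node (.leaf inf2B_46) (.leaf inf2B_110))) (.node (.node (.leaf inf2B_30) (.leaf inf2B_94)) (.node (.leaf inf2B_62)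 (.leaf inf2B_126))))))) (.node (.node (.node (.node (.node (.node (.node (.leaf inf2B_1) (.leaf inf2B_129)) (.leaf inf2B_65)) (.node (.leaf inf2B_33) (.leaf inf2B_97))) (.node (.node (.node (.leaf inf2B_17) (.leaf inf2B_145)) (.leaf inf2B_81)) (.node (.leaf inf2B_49) (.leaf inf2B_113)))) (.node (.node (.node (.node (.leaf inf2B_9) (.leaf inf2B_137)) (.leaf inf2B_73)) (.node (.leaf inf2B_41) (.leaf inf2B_105))) (.node (.node (.leaf inf2B_25) (.leaf inf2B_89)) (.node (.leaf inf2B_57) (.leaf inf2B_121))))) (.node (.node (.node (.node (.node (.leaf inf2B_5) (.leaf inf2B_133)) (.leaf inf2B_69)) (.node (.leaf inf2B_37) (.leaf inf2B_101))) (.node (.node (.node (.leaf inf2B_21) (.leaf inf2B_149)) (.leaf inf2B_85)) (.node (.leaf inf2B_53) (.leaf inf2B_117)))) (.node (.node (.node (.node (.leaf inf2B_13) (.leaf inf2B_141)) (.leaf inf2B_77)) (.node (.leaf inf2B_45) (.leaf inf2B_109))) (.node (.node (.leaf inf2B_29) (.leaf inf2B_93)) (.node (.leaf inf2B_61) (.leaf inf2B_125)))))) (.node (.node (.node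 (.node (.node (.node (.leaf inf2B_3) (.leaf inf2B_131)) (.leaf inf2B_67)) (.node (.leaf inf2B_35) (.leaf inf2B_99))) (.node (.node (.node (.leaf inf2B_19) (.leaf inf2B_147)) (.leaf inf2B_83)) (.node (.leaf inf2B_51) (.leaf inf2B_115)))) (.node (.node (.node (.node (.leaf inf2B_11) (.leaf inf2B_139)) (.leaf inf2B_75)) (.node (.leaf inf2B_43) (.leaf inf2B_107))) (.node (.node (.leaf inf2B_27) (.leaf inf2B_91)) (.node (.leaf inf2B_59) (.leaf inf2B_123))))) (.node (.node (.node (.node (.node (.leaf inf2B_7) (.leaf inf2B_135)) (.leaf inf2B_71)) (.node (.leaf inf2B_39) (.leaf inf2B_103))) (.node (.node (.leaf inf2B_23) (.leaf inf2B_87)) (.node (.leaf inf2B_55) (.leaf inf2B_119)))) (.node (.node (.node (.node (.leaf inf2B_15) (.leaf inf2B_143)) (.leaf inf2B_79)) (.node (.leaf inf2B_47) (.leaf inf2B_111))) (.node (.node (.leaf inf2B_31) (.leaf inf2B_95)) (.node (.leaf inf2B_63) (.leaf inf2B_127))))))))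

noncomputable def inf2 (c : ℕ) : ℕ := L0.rowOf inf2B (nat_lit 11) (nat_lit 2047) (nat_lit 16) (nat_lit 65535) c

end Cfsg.Agent.H9.OutFi24
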