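import Cfsg.Agent.H9.OutFi24
import Cfsg.Agent.L0.Fi24.Pair

/-! The outer automorphism group of Fi24'. -/

set_option autoImplicit false
set_option maxRecDepth 100000

namespace Cfsg.Agent.H9.OutFi24

theorem card_out : Nat.card (Cfsg.Out Cfsg.Spor.Fi24') = 2 := by
  obtain ⟨A, h1, h2, -, h3⟩ := L0.Fi24G.exists_act'
  exact out (A0 := RA.ofRAct A) (A := RA.ofRAct (A.comap (commutator Cfsg.Spor.Fi24).subtype))
    (fun _ _ => rfl) (RA.Tab.ofRAct h1) (L0.Fi24G.sq (by norm_num)) (RA.Tab.ofRAct h2) h3.le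

end Cfsg.Agent.H9.OutFi24
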