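import Cfsg.Agent.H9.OutJ2D

/-! The outer automorphism group of J2. Checks. -/

set_option autoImplicit false
set_option maxRecDepth 100000

namespace Cfsg.Agent.H9.OutJ2

theorem pts_15 : allPow (below (nat_lit 315) (icoPtB RC PC T par ord (nat_lit 315) (nat_lit 4))) 4 (15 * 2 ^ 4) = true := by decide +kernel

theorem pts_16 : allPow (below (nat_lit 315) (icoPtB RC PC T par ord (nat_lit 315) (nat_lit 4))) 4 (16 * 2 ^ 4) = true := by decide +kernel

theorem pts_17 : allPow (below (nat_lit 315) (icoPtB RC PC T par ord (nat_lit 315) (nat_lit 4))) 4 (17 * 2 ^ 4) = true := by decide +kernel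

theorem pts_18 : allPow (below (nat_lit 315) (icoPtB RC PC T par ord (nat_lit 315) (nat_lit 4))) 4 (18 * 2 ^ 4) = true := by decide +kernel

theorem pts_19 : allPow (below (nat_lit 315) (icoPtB RC PC T par ord (nat_lit 315) (nat_lit 4))) 4 (19 * 2 ^ 4) = true := by decide +kernel

theorem c1_0 : allQ (cls1 315 PC F1) (⟨0, 0⟩, 0) = true := by decide +kernel

theorem c1_1 : allQ (cls1 315 PC F1) (⟨-1, 0⟩, 2) = true := by decide +kernel

theorem c1_2 : allQ (cls1 315 PC F1) (⟨1, 0⟩, 2) = true := by decide +kernel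

theorem c1_3 : allQ (cls1 315 PC F1) (⟨-1, 1⟩, 3) = true := by decide +kernel

theorem c1_4 : allQ (cls1 315 PC F1) (⟨0, -1⟩, 3) = true := by decide +kernel

theorem c1_5 : allQ (cls1 315 PC F1) (⟨0, 1⟩, 3) = true := by decide +kernel

theorem c1_6 : allQ (cls1 315 PC F1) (⟨1, -1⟩, 3) = true := by decide +kernel

theorem c1_7 : allQ (cls1 315 PC F1) (⟨-2, 1⟩, 7) = true := by decide +kernel

theorem c1_8 : allQ (cls1 315 PC F1) (⟨-1, -1⟩, 7) = true := by decide +kernel

theorem c1_9 : allQ (cls1 315 PC F1) (⟨1, 1⟩, 7) = true := by decide +kernel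

theorem c1_10 : allQ (cls1 315 PC F1) (⟨2, -1⟩, 7) = true := by decide +kernel

theorem c1_11 : allQ (cls1 315 PC F1) (⟨-2, 0⟩, 8) = true := by decide +kernel

theorem c1_12 : allQ (cls1 315 PC F1) (⟨2, 0⟩, 8) = true := by decide +kernel

theorem c1_13 : allQ (cls1 315 PC F1) (⟨-1, 2⟩, 10) = true := by decide +kernel

theorem c1_14 : allQ (cls1 315 PC F1) (⟨1, -2⟩, 10) = true := by decide +kernel

theorem c1_15 : allQ (cls1 315 PC F1) (⟨-2, 2⟩, 12) = true := by decide +kernel

theorem c1_16 : allQ (cls1 315 PC F1) (⟨0, -2⟩, 12) = true := by decide +kernel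

end Cfsg.Agent.H9.OutJ2
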