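import Cfsg.Agent.H9.OutJ2D

/-! The outer automorphism group of J2. Checks. -/

set_option autoImplicit false
set_option maxRecDepth 100000

namespace Cfsg.Agent.H9.OutJ2

theorem c1_17 : allQ (cls1 315 PC F1) (⟨0, 2⟩, 12) = true := by decide +kernel

theorem c1_18 : allQ (cls1 315 PC F1) (⟨2, -2⟩, 12) = true := by decide +kernel

theorem c1_19 : allQ (cls1 315 PC F1) (⟨-3, 1⟩, 15) = true := by decide +kernel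

theorem c1_20 : allQ (cls1 315 PC F1) (⟨-2, -1⟩, 15) = true := by decide +kernel

theorem c1_21 : allQ (cls1 315 PC F1) (⟨2, 1⟩, 15) = true := by decide +kernel

theorem c1_22 : allQ (cls1 315 PC F1) (⟨3, -1⟩, 15) = true := by decide +kernel

theorem c2_0 : cls2 315 PC F1 ⟨⟨-2, 0⟩, ⟨0, 0⟩, ⟨0, 0⟩, ⟨0, 0⟩⟩ = true := by decide +kernel

theorem c2_1 : cls2 315 PC F1 ⟨⟨-1, 0⟩, ⟨-1, 0⟩, ⟨-1, 0⟩, ⟨1, -2⟩⟩ = true := by decide +kernel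

theorem c2_2 : cls2 315 PC F1 ⟨⟨-1, 0⟩, ⟨-1, 0⟩, ⟨-1, 2⟩, ⟨1, 0⟩⟩ = true := by decide +kernel

theorem c2_3 : cls2 315 PC F1 ⟨⟨-1, 0⟩, ⟨-1, 0⟩, ⟨1, -2⟩, ⟨-1, 0⟩⟩ = true := by decide +kernel

theorem c2_4 : cls2 315 PC F1 ⟨⟨-1, 0⟩, ⟨-1, 0⟩, ⟨1, 0⟩, ⟨-1, 2⟩⟩ = true := by decide +kernel

theorem c2_5 : cls2 315 PC F1 ⟨⟨-1, 0⟩, ⟨-1, 2⟩, ⟨-1, 0⟩, ⟨1, 0⟩⟩ = true := by decide +kernel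

theorem c2_6 : cls2 315 PC F1 ⟨⟨-1, 0⟩, ⟨-1, 2⟩, ⟨1, 0⟩, ⟨-1, 0⟩⟩ = true := by decide +kernel

theorem c2_7 : cls2 315 PC F1 ⟨⟨-1, 0⟩, ⟨1, -2⟩, ⟨-1, 0⟩, ⟨-1, 0⟩⟩ = true := by decide +kernel

theorem c2_8 : cls2 315 PC F1 ⟨⟨-1, 0⟩, ⟨1, -2⟩, ⟨1, 0⟩, ⟨1, 0⟩⟩ = true := by decide +kernel

theorem c2_9 : cls2 315 PC F1 ⟨⟨-1, 0⟩, ⟨1, 0⟩, ⟨-1, 0⟩, ⟨-1, 2⟩⟩ = true := by decide +kernel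

theorem c2_10 : cls2 315 PC F1 ⟨⟨-1, 0⟩, ⟨1, 0⟩, ⟨-1, 2⟩, ⟨-1, 0⟩⟩ = true := by decide +kernel

theorem c2_11 : cls2 315 PC F1 ⟨⟨-1, 0⟩, ⟨1, 0⟩, ⟨1, -2⟩, ⟨1, 0⟩⟩ = true := by decide +kernel

theorem c2_12 : cls2 315 PC F1 ⟨⟨-1, 0⟩, ⟨1, 0⟩, ⟨1, 0⟩, ⟨1, -2⟩⟩ = true := by decide +kernel

theorem c2_13 : cls2 315 PC F1 ⟨⟨-1, 1⟩, ⟨-1, 1⟩, ⟨-1, 1⟩, ⟨-1, 1⟩⟩ = true := by decide +kernel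

theorem c2_14 : cls2 315 PC F1 ⟨⟨-1, 1⟩, ⟨-1, 1⟩, ⟨1, -1⟩, ⟨1, -1⟩⟩ = true := by decide +kernel

theorem c2_15 : cls2 315 PC F1 ⟨⟨-1, 1⟩, ⟨1, -1⟩, ⟨-1, 1⟩, ⟨1, -1⟩⟩ = true := by decide +kernel

theorem c2_16 : cls2 315 PC F1 ⟨⟨-1, 1⟩, ⟨1, -1⟩, ⟨1, -1⟩, ⟨-1, 1⟩⟩ = true := by decide +kernel

theorem c2_17 : cls2 315 PC F1 ⟨⟨-1, 2⟩, ⟨-1, 0⟩, ⟨-1, 0⟩, ⟨1, 0⟩⟩ = true := by decide +kernel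

theorem c2_18 : cls2 315 PC F1 ⟨⟨-1, 2⟩, ⟨-1, 0⟩, ⟨1, 0⟩, ⟨-1, 0⟩⟩ = true := by decide +kernel

theorem c2_19 : cls2 315 PC F1 ⟨⟨-1, 2⟩, ⟨1, 0⟩, ⟨-1, 0⟩, ⟨-1, 0⟩⟩ = true := by decide +kernel

theorem c2_20 : cls2 315 PC F1 ⟨⟨-1, 2⟩, ⟨1, 0⟩, ⟨1, 0⟩, ⟨1, 0⟩⟩ = true := by decide +kernel

theorem c2_21 : cls2 315 PC F1 ⟨⟨0, -1⟩, ⟨0, -1⟩, ⟨0, -1⟩, ⟨0, 1⟩⟩ = true := by decide +kernel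

theorem c2_22 : cls2 315 PC F1 ⟨⟨0, -1⟩, ⟨0, -1⟩, ⟨0, 1⟩, ⟨0, -1⟩⟩ = true := by decide +kernel

theorem c2_23 : cls2 315 PC F1 ⟨⟨0, -1⟩, ⟨0, 1⟩, ⟨0, -1⟩, ⟨0, -1⟩⟩ = true := by decide +kernel

theorem c2_24 : cls2 315 PC F1 ⟨⟨0, -1⟩, ⟨0, 1⟩, ⟨0, 1⟩, ⟨0, 1⟩⟩ = true := by decide +kernel

theorem c2_25 : cls2 315 PC F1 ⟨⟨0, 0⟩, ⟨-2, 0⟩, ⟨0, 0⟩, ⟨0, 0⟩⟩ = true := by decide +kernel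

theorem c2_26 : cls2 315 PC F1 ⟨⟨0, 0⟩, ⟨0, 0⟩, ⟨-2, 0⟩, ⟨0, 0⟩⟩ = true := by decide +kernel

theorem c2_27 : cls2 315 PC F1 ⟨⟨0, 0⟩, ⟨0, 0⟩, ⟨0, 0⟩, ⟨-2, 0⟩⟩ = true := by decide +kernel

theorem c2_28 : cls2 315 PC F1 ⟨⟨0, 0⟩, ⟨0, 0⟩, ⟨0, 0⟩, ⟨2, 0⟩⟩ = true := by decide +kernel

theorem c2_29 : cls2 315 PC F1 ⟨⟨0, 0⟩, ⟨0, 0⟩, ⟨2, 0⟩, ⟨0, 0⟩⟩ = true := by decide +kernel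

theorem c2_30 : cls2 315 PC F1 ⟨⟨0, 0⟩, ⟨2, 0⟩, ⟨0, 0⟩, ⟨0, 0⟩⟩ = true := by decide +kernel

theorem c2_31 : cls2 315 PC F1 ⟨⟨0, 1⟩, ⟨0, -1⟩, ⟨0, -1⟩, ⟨0, -1⟩⟩ = true := by decide +kernel

theorem c2_32 : cls2 315 PC F1 ⟨⟨0, 1⟩, ⟨0, -1⟩, ⟨0, 1⟩, ⟨0, 1⟩⟩ = true := by decide +kernel

theorem c2_33 : cls2 315 PC F1 ⟨⟨0, 1⟩, ⟨0, 1⟩, ⟨0, -1⟩, ⟨0, 1⟩⟩ = true := by decide +kernel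

theorem c2_34 : cls2 315 PC F1 ⟨⟨0, 1⟩, ⟨0, 1⟩, ⟨0, 1⟩, ⟨0, -1⟩⟩ = true := by decide +kernel

theorem c2_35 : cls2 315 PC F1 ⟨⟨1, -2⟩, ⟨-1, 0⟩, ⟨-1, 0⟩, ⟨-1, 0⟩⟩ = true := by decide +kernel

theorem c2_36 : cls2 315 PC F1 ⟨⟨1, -2⟩, ⟨-1, 0⟩, ⟨1, 0⟩, ⟨1, 0⟩⟩ = true := by decide +kernel

theorem c2_37 : cls2 315 PC F1 ⟨⟨1, -2⟩, ⟨1, 0⟩, ⟨-1, 0⟩, ⟨1, 0⟩⟩ = true := by decide +kernel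

theorem c2_38 : cls2 315 PC F1 ⟨⟨1, -2⟩, ⟨1, 0⟩, ⟨1, 0⟩, ⟨-1, 0⟩⟩ = true := by decide +kernel

theorem c2_39 : cls2 315 PC F1 ⟨⟨1, -1⟩, ⟨-1, 1⟩, ⟨-1, 1⟩, ⟨1, -1⟩⟩ = true := by decide +kernel

theorem c2_40 : cls2 315 PC F1 ⟨⟨1, -1⟩, ⟨-1, 1⟩, ⟨1, -1⟩, ⟨-1, 1⟩⟩ = true := by decide +kernel

theorem c2_41 : cls2 315 PC F1 ⟨⟨1, -1⟩, ⟨1, -1⟩, ⟨-1, 1⟩, ⟨-1, 1⟩⟩ = true := by decide +kernel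

theorem c2_42 : cls2 315 PC F1 ⟨⟨1, -1⟩, ⟨1, -1⟩, ⟨1, -1⟩, ⟨1, -1⟩⟩ = true := by decide +kernel

theorem c2_43 : cls2 315 PC F1 ⟨⟨1, 0⟩, ⟨-1, 0⟩, ⟨-1, 0⟩, ⟨-1, 2⟩⟩ = true := by decide +kernel

theorem c2_44 : cls2 315 PC F1 ⟨⟨1, 0⟩, ⟨-1, 0⟩, ⟨-1, 2⟩, ⟨-1, 0⟩⟩ = true := by decide +kernel

theorem c2_45 : cls2 315 PC F1 ⟨⟨1, 0⟩, ⟨-1, 0⟩, ⟨1, -2⟩, ⟨1, 0⟩⟩ = true := by decide +kernel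

theorem c2_46 : cls2 315 PC F1 ⟨⟨1, 0⟩, ⟨-1, 0⟩, ⟨1, 0⟩, ⟨1, -2⟩⟩ = true := by decide +kernel

theorem c2_47 : cls2 315 PC F1 ⟨⟨1, 0⟩, ⟨-1, 2⟩, ⟨-1, 0⟩, ⟨-1, 0⟩⟩ = true := by decide +kernel

theorem c2_48 : cls2 315 PC F1 ⟨⟨1, 0⟩, ⟨-1, 2⟩, ⟨1, 0⟩, ⟨1, 0⟩⟩ = true := by decide +kernel

theorem c2_49 : cls2 315 PC F1 ⟨⟨1, 0⟩, ⟨1, -2⟩, ⟨-1, 0⟩, ⟨1, 0⟩⟩ = true := by decide +kernel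

theorem c2_50 : cls2 315 PC F1 ⟨⟨1, 0⟩, ⟨1, -2⟩, ⟨1, 0⟩, ⟨-1, 0⟩⟩ = true := by decide +kernel

theorem c2_51 : cls2 315 PC F1 ⟨⟨1, 0⟩, ⟨1, 0⟩, ⟨-1, 0⟩, ⟨1, -2⟩⟩ = true := by decide +kernel

theorem c2_52 : cls2 315 PC F1 ⟨⟨1, 0⟩, ⟨1, 0⟩, ⟨-1, 2⟩, ⟨1, 0⟩⟩ = true := by decide +kernel

theorem c2_53 : cls2 315 PC F1 ⟨⟨1, 0⟩, ⟨1, 0⟩, ⟨1, -2⟩, ⟨-1, 0⟩⟩ = true := by decide +kernel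

theorem c2_54 : cls2 315 PC F1 ⟨⟨1, 0⟩, ⟨1, 0⟩, ⟨1, 0⟩, ⟨-1, 2⟩⟩ = true := by decide +kernel

theorem c2_55 : cls2 315 PC F1 ⟨⟨2, 0⟩, ⟨0, 0⟩, ⟨0, 0⟩, ⟨0, 0⟩⟩ = true := by decide +kernel

theorem slpS_0 : allPow (below (nat_lit 315) (slp2B T SW (nat_lit 4))) 9 (0 * 2 ^ 9) = true := by decide +kernel

theorem ss2_0 : allPow (below (nat_lit 315) (ssB T (nat_lit 23) B0 ivS S2 [])) 9 (0 * 2 ^ 9) = true := by decide +kernel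

theorem cnt2 : (Nat.ble 315 (2 ^ 9) && Nat.ble (S2.cntP 9 0) S2.n) = true := by decide +kernel

theorem ss1_0 : allPow (below (nat_lit 315) (ssB T (nat_lit 23) B0 ivS S1 [S2])) 8 (0 * 2 ^ 8) = true := by decide +kernel

theorem ss1_1 : allPow (below (nat_lit 315) (ssB T (nat_lit 23) B0 ivS S1 [S2])) 8 (1 * 2 ^ 8) = true := by decide +kernel

theorem cnt1 : (Nat.ble 315 (2 ^ 9) && Nat.ble (S1.cntP 9 0) S1.n) = true := by decide +kernel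

end Cfsg.Agent.H9.OutJ2
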