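import Cfsg.Agent.H9.OutJ2D

/-! The outer automorphism group of J2. Checks. -/

set_option autoImplicit false
set_option maxRecDepth 100000

namespace Cfsg.Agent.H9.OutJ2

theorem ss0_0 : allPow (below (nat_lit 315) (ssB T (nat_lit 23) B0 ivS S0 [S1, S2])) 8 (0 * 2 ^ 8) = true := by decide +kernel

theorem ss0_1 : allPow (below (nat_lit 315) (ssB T (nat_lit 23) B0 ivS S0 [S1, S2])) 8 (1 * 2 ^ 8) = true := by decide +kernel

theorem slp_0 : allPow (below (nat_lit 315) (slpB T Ws (nat_lit 23))) 9 (0 * 2 ^ 9) = true := by decide +kernel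

theorem ptLa_0 : allPow (below (nat_lit 315) (La0.toLv.ptB T (nat_lit 315))) 9 (0 * 2 ^ 9) = true := by decide +kernel

theorem scLa_0 : allPow (below (nat_lit 315) (scanB T iv (tr T [D.ia]) La0 Las [])) 9 (0 * 2 ^ 9) = true := by decide +kernel

theorem ptLb_0 : allPow (below (nat_lit 315) (Lb0.toLv.ptB T (nat_lit 315))) 9 (0 * 2 ^ 9) = true := by decide +kernel

theorem scLb_0 : allPow (below (nat_lit 315) (scanB T iv (tr T (List.replicate D.i D.ib)) Lb0 Lbs [])) 9 (0 * 2 ^ 9) = true := by decide +kernel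

theorem perm_0 : allPow (below (nat_lit 315) (D.permB T (nat_lit 315) piT piI)) 9 (0 * 2 ^ 9) = true := by decide +kernel

end Cfsg.Agent.H9.OutJ2
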