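import Cfsg.Agent.H9.OutJ2C0
import Cfsg.Agent.H9.OutJ2C1
import Cfsg.Agent.H9.OutJ2C2
import Cfsg.Agent.H9.OutJ2C3

/-! The outer automorphism group of J2. -/

set_option autoImplicit false
set_option maxRecDepth 100000

namespace Cfsg.Agent.H9.OutJ2

theorem pts : ∀ i < 315, (icoPtB RC PC T par ord (nat_lit 315) (nat_lit 4)) i = true :=
  all_of_blocks (d := 4) (m := 20) (by decide) (forall_lt_succ'' (forall_lt_succ'' (forall_lt_succ'' (forall_lt_succ'' (forall_lt_succ'' (forall_lt_succ'' (forall_lt_succ'' (forall_lt_succ'' (forall_lt_succ'' (forall_lt_succ'' (forall_lt_succ'' (forall_lt_succ'' (forall_lt_succ'' (forall_lt_succ'' (forall_lt_succ'' (forall_lt_succ'' (forall_lt_succ'' (forall_lt_succ'' (forall_lt_succ'' (forall_lt_succ'' forall_lt_zero'' pts_0) pts_1) pts_2) pts_3) pts_4) pts_5) pts_6) pts_7) pts_8) pts_9) pts_10) pts_11) pts_12) pts_13) pts_14) pts_15) pts_16) pts_17) pts_18) pts_19)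

theorem c1 : ∀ x ∈ PL, allQ (cls1 315 PC F1) x = true := by
  simp only [PL, List.forall_mem_cons]
  exact ⟨c1_0, c1_1, c1_2, c1_3, c1_4, c1_5, c1_6, c1_7, c1_8, c1_9, c1_10, c1_11, c1_12, c1_13, c1_14, c1_15, c1_16, c1_17, c1_18, c1_19, c1_20, c1_21, c1_22, fun _ h => absurd h List.not_mem_nil⟩

theorem c2 : ∀ x ∈ F1, cls2 315 PC F1 x = true := by
  simp only [F1, List.forall_mem_cons]
  exact ⟨c2_0, c2_1, c2_2, c2_3, c2_4, c2_5, c2_6, c2_7, c2_8, c2_9, c2_10, c2_11, c2_12, c2_13, c2_14, c2_15, c2_16, c2_17, c2_18, c2_19, c2_20, c2_21, c2_22, c2_23, c2_24, c2_25, c2_26, c2_27, c2_28, c2_29, c2_30, c2_31, c2_32, c2_33, c2_34, c2_35, c2_36, c2_37, c2_38, c2_39, c2_40, c2_41, c2_42, c2_43, c2_44, c2_45, c2_46, c2_47, c2_48, c2_49, c2_50, c2_51, c2_52, c2_53, c2_54, c2_55, fun _ h => absurd h List.not_mem_nil⟩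

theorem slpS : ∀ i < 315, (slp2B T SW (nat_lit 4)) i = true :=
  all_of_blocks (d := 9) (m := 1) (by decide) (forall_lt_succ'' forall_lt_zero'' slpS_0)

theorem ss2 : ∀ i < 315, (ssB T (nat_lit 23) B0 ivS S2 []) i = true :=
  all_of_blocks (d := 9) (m := 1) (by decide) (forall_lt_succ'' forall_lt_zero'' ss2_0)

theorem ss1 : ∀ i < 315, (ssB T (nat_lit 23) B0 ivS S1 [S2]) i = true :=
  all_of_blocks (d := 8) (m := 2) (by decide) (forall_lt_succ'' (forall_lt_succ'' forall_lt_zero'' ss1_0) ss1_1)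

theorem ss0 : ∀ i < 315, (ssB T (nat_lit 23) B0 ivS S0 [S1, S2]) i = true :=
  all_of_blocks (d := 8) (m := 2) (by decide) (forall_lt_succ'' (forall_lt_succ'' forall_lt_zero'' ss0_0) ss0_1)

theorem ssChk : SSChk T 315 23 B0 ivS [S0, S1, S2] :=
  ⟨⟨by decide +kernel, SS.cnt_le_self _ (by decide +kernel)⟩, ss0, ⟨⟨by decide +kernel, SS.cnt_le_of _ cnt1⟩, ss1, ⟨⟨by decide +kernel, SS.cnt_le_of _ cnt2⟩, ss2, trivial⟩⟩⟩

theorem bound {G : Type*} [Group G] {A : RA G 315} {g0 : ℕ → G} (hT : A.Tab g0 4 T)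
    (hB : A.IsBase B0) (hgen : ∀ S : Subgroup G, (∀ s < 4, g0 s ∈ S) → S = ⊤) :
    Nat.card G ≤ 604800 ∧ ∃ g : ℕ → G, A.Tab g 23 T ∧ ∀ s < 4, g s = g0 s :=
  RA.card_le_ss hT hB hgen (SW := SW) (by decide +kernel) slpS ssChk

theorem slp : ∀ i < 315, (slpB T Ws (nat_lit 23)) i = true :=
  all_of_blocks (d := 9) (m := 1) (by decide) (forall_lt_succ'' forall_lt_zero'' slp_0)

theorem ptLa : ∀ i < 315, (La0.toLv.ptB T (nat_lit 315)) i = true :=
  all_of_blocks (d := 9) (m := 1) (by decide) (forall_lt_succ'' forall_lt_zero'' ptLa_0)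

theorem chLa : ChainChk T 315 44 ((La0 :: Las).map SLv.toLv) [] :=
  ⟨by decide +kernel, ptLa, chainChk_of (by decide +kernel)⟩

theorem scLa : ∀ i < 315, (scanB T iv (tr T [D.ia]) La0 Las []) i = true :=
  all_of_blocks (d := 9) (m := 1) (by decide) (forall_lt_succ'' forall_lt_zero'' scLa_0)

theorem ptLb : ∀ i < 315, (Lb0.toLv.ptB T (nat_lit 315)) i = true :=
  all_of_blocks (d := 9) (m := 1) (by decide) (forall_lt_succ'' forall_lt_zero'' ptLb_0)

theorem chLb : ChainChk T 315 44 ((Lb0 :: Lbs).map SLv.toLv) [] :=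
  ⟨by decide +kernel, ptLb, chainChk_of (by decide +kernel)⟩

theorem scLb : ∀ i < 315, (scanB T iv (tr T (List.replicate D.i D.ib)) Lb0 Lbs []) i = true :=
  all_of_blocks (d := 9) (m := 1) (by decide) (forall_lt_succ'' forall_lt_zero'' scLb_0)

theorem perm : ∀ i < 315, (D.permB T (nat_lit 315) piT piI) i = true :=
  all_of_blocks (d := 9) (m := 1) (by decide) (forall_lt_succ'' forall_lt_zero'' perm_0)

theorem chk : D.chk T 44 604800 B = true := by decide +kernel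

theorem ok {G : Type*} [Group G] [Finite G] {A : RA G 315} {g0 : ℕ → G} (hT : A.Tab g0 23 T)
    (hle : Nat.card G ≤ 604800) : ∃ g : ℕ → G, (∀ s < 23, g s = g0 s) ∧ RA.OutOK A g 44 T B D 604800 :=
  RA.outOK_of hT (by decide +kernel) slp (by decide +kernel) hle chLa (by decide +kernel) chLb
    (by decide +kernel) (by decide +kernel) (m := 17591649173504) (iv := iv) (by decide +kernel) scLa
    (by decide +kernel) scLb (by decide +kernel)

theorem out {G : Type*} [Group G] [Finite G] {A : RA G 315} {g0 : ℕ → G} (hT : A.Tab g0 23 T)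
    (hle : Nat.card G ≤ 604800) : Nat.card (Cfsg.Out G) = 2 := by
  obtain ⟨g, -, h⟩ := ok hT hle
  exact h.out_two (by decide) chk (by decide +kernel) (RA.exists_aut_perm h.tab h.base chk h.gen perm)

open Cfsg.Spor

theorem exists_ra : ∃ (A : RA J2 315) (v : ℕ → twoJ2),
    (∀ c < 315, ∃ h : IsMin4 (vecOf (RC c)), v c = reflP h) ∧
    (∀ S : Subgroup twoJ2, (∀ s < 4, v s ∈ S) → S = ⊤) ∧
    A.Tab (fun s => QuotientGroup.mk (v s)) 4 T ∧ A.IsBase B0 ∧
    ∀ x : twoJ2, ∀ c < 315, v (A.act c (QuotientGroup.mk x)) = x⁻¹ * v c * x :=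
  exists_ra_J2 (by norm_num) pts c1 c2

instance instFinite : Finite J2 := by
  obtain ⟨A, v, -, -, -, h, -⟩ := exists_ra
  exact h.finite

/-- all facts on the action on the reflections -/
theorem exists_ok : ∃ (A : RA J2 315) (v : ℕ → twoJ2) (g : ℕ → J2),
    (∀ s < 4, g s = QuotientGroup.mk (v s)) ∧ RA.OutOK A g 44 T B D 604800 ∧
    (∀ c < 315, ∃ h : IsMin4 (vecOf (RC c)), v c = reflP h) ∧
    (∀ S : Subgroup twoJ2, (∀ s < 4, v s ∈ S) → S = ⊤) ∧
    ∀ x : twoJ2, ∀ c < 315, v (A.act c (QuotientGroup.mk x)) = x⁻¹ * v c * x := by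
  obtain ⟨A, v, h0, hg, h1, h2, h3⟩ := exists_ra
  obtain ⟨h4, g1, h5, h6⟩ := bound h1 h2
    (gen_map hg (QuotientGroup.mk' _) (QuotientGroup.mk'_surjective _))
  obtain ⟨g, h7, h8⟩ := ok h5 h4
  exact ⟨A, v, g, fun s hs => by rw [h7 s (by omega), h6 s hs], h8, h0, hg, h3⟩

theorem card_out : Nat.card (Cfsg.Out J2) = 2 := by
  obtain ⟨A, v, g, -, h, -⟩ := exists_ok
  exact h.out_two (by decide) chk (by decide +kernel) (RA.exists_aut_perm h.tab h.base chk h.gen perm)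

theorem pub : ∃ (A : L0.RAct J2 315) (g : ℕ → J2), A.Tab g 44 T ∧ A.IsBase B ∧
    Nat.card J2 = 604800 ∧ Subgroup.closure {g D.ia, g D.ib, g D.it} = ⊤ := by
  obtain ⟨A, v, g, -, h, -⟩ := exists_ok
  exact ⟨_, g, h.pub⟩


end Cfsg.Agent.H9.OutJ2
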