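import Cfsg.Agent.H9.OutJ2D

/-! The outer automorphism group of J2. Checks. -/

set_option autoImplicit false
set_option maxRecDepth 100000

namespace Cfsg.Agent.H9.OutJ2

theorem pts_0 : allPow (below (nat_lit 315) (icoPtB RC PC T par ord (nat_lit 315) (nat_lit 4))) 4 (0 * 2 ^ 4) = true := by decide +kernel

theorem pts_1 : allPow (below (nat_lit 315) (icoPtB RC PC T par ord (nat_lit 315) (nat_lit 4))) 4 (1 * 2 ^ 4) = true := by decide +kernel

theorem pts_2 : allPow (below (nat_lit 315) (icoPtB RC PC T par ord (nat_lit 315) (nat_lit 4))) 4 (2 * 2 ^ 4) = true := by decide +kernel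

theorem pts_3 : allPow (below (nat_lit 315) (icoPtB RC PC T par ord (nat_lit 315) (nat_lit 4))) 4 (3 * 2 ^ 4) = true := by decide +kernel

theorem pts_4 : allPow (below (nat_lit 315) (icoPtB RC PC T par ord (nat_lit 315) (nat_lit 4))) 4 (4 * 2 ^ 4) = true := by decide +kernel

theorem pts_5 : allPow (below (nat_lit 315) (icoPtB RC PC T par ord (nat_lit 315) (nat_lit 4))) 4 (5 * 2 ^ 4) = true := by decide +kernel

theorem pts_6 : allPow (below (nat_lit 315) (icoPtB RC PC T par ord (nat_lit 315) (nat_lit 4))) 4 (6 * 2 ^ 4) = true := by decide +kernel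

theorem pts_7 : allPow (below (nat_lit 315) (icoPtB RC PC T par ord (nat_lit 315) (nat_lit 4))) 4 (7 * 2 ^ 4) = true := by decide +kernel

theorem pts_8 : allPow (below (nat_lit 315) (icoPtB RC PC T par ord (nat_lit 315) (nat_lit 4))) 4 (8 * 2 ^ 4) = true := by decide +kernel

theorem pts_9 : allPow (below (nat_lit 315) (icoPtB RC PC T par ord (nat_lit 315) (nat_lit 4))) 4 (9 * 2 ^ 4) = true := by decide +kernel

theorem pts_10 : allPow (below (nat_lit 315) (icoPtB RC PC T par ord (nat_lit 315) (nat_lit 4))) 4 (10 * 2 ^ 4) = true := by decide +kernel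

theorem pts_11 : allPow (below (nat_lit 315) (icoPtB RC PC T par ord (nat_lit 315) (nat_lit 4))) 4 (11 * 2 ^ 4) = true := by decide +kernel

theorem pts_12 : allPow (below (nat_lit 315) (icoPtB RC PC T par ord (nat_lit 315) (nat_lit 4))) 4 (12 * 2 ^ 4) = true := by decide +kernel

theorem pts_13 : allPow (below (nat_lit 315) (icoPtB RC PC T par ord (nat_lit 315) (nat_lit 4))) 4 (13 * 2 ^ 4) = true := by decide +kernel

theorem pts_14 : allPow (below (nat_lit 315) (icoPtB RC PC T par ord (nat_lit 315) (nat_lit 4))) 4 (14 * 2 ^ 4) = true := by decide +kernel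

end Cfsg.Agent.H9.OutJ2
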