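import Cfsg.Agent.H9.IcoRA
import Cfsg.Agent.H9.OutJ2L0

/-! The outer automorphism group of J2. Data. -/

set_option autoImplicit false
set_option maxRecDepth 100000

namespace Cfsg.Agent.H9.OutJ2

noncomputable def TB : L0.BT := (.node (.node (.node (.node (.node (.node (.leaf TB_0) (.leaf TB_32)) (.leaf TB_16)) (.node (.node (.leaf TB_8) (.leaf TB_40)) (.leaf TB_24))) (.node (.node (.node (.leaf TB_4) (.leaf TB_36)) (.leaf TB_20)) (.node (.leaf TB_12) (.leaf TB_28)))) (.node (.node (.node (.node (.leaf TB_2) (.leaf TB_34)) (.leaf TB_18)) (.node (.node (.leaf TB_10) (.leaf TB_42)) (.leaf TB_26))) (.node (.node (.node (.leaf TB_6) (.leaf TB_38)) (.leaf TB_22)) (.node (.leaf TB_14) (.leaf TB_30))))) (.node (.node (.node (.node (.node (.leaf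 TB_1) (.leaf TB_33)) (.leaf TB_17)) (.node (.node (.leaf TB_9) (.leaf TB_41)) (.leaf TB_25))) (.node (.node (.node (.leaf TB_5) (.leaf TB_37)) (.leaf TB_21)) (.node (.leaf TB_13) (.leaf TB_29)))) (.node (.node (.node (.node (.leaf TB_3) (.leaf TB_35)) (.leaf TB_19)) (.node (.node (.leaf TB_11) (.leaf TB_43)) (.leaf TB_27))) (.node (.node (.node (.leaf TB_7) (.leaf TB_39)) (.leaf TB_23)) (.node (.leaf TB_15) (.leaf TB_31))))))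

noncomputable def T (c s : ℕ) : ℕ := Nat.land (Nat.shiftRight (L0.BT.get TB s) (Nat.mul (nat_lit 9) c)) (nat_lit 511)

def Ws : List (List ℕ) := [[nat_lit 9, nat_lit 2, nat_lit 9, nat_lit 2], [nat_lit 8, nat_lit 11, nat_lit 13, nat_lit 3, nat_lit 5], [nat_lit 24, nat_lit 19, nat_lit 24, nat_lit 21, nat_lit 18], [nat_lit 19, nat_lit 24, nat_lit 18, nat_lit 20, nat_lit 24, nat_lit 16], [nat_lit 25, nat_lit 26, nat_lit 26], [nat_lit 27, nat_lit 25, nat_lit 27, nat_lit 25, nat_lit 25], [nat_lit 0, nat_lit 2, nat_lit 25, nat_lit 18, nat_lit 25, nat_lit 21, nat_lit 27, nat_lit 28, nat_lit 28], [nat_lit 22, nat_lit 25, nat_lit 0, nat_lit 24, nat_lit 16, nat_lit 28, nat_lit 21, nat_lit 27, nat_lit 28, nat_lit 28], [nat_lit 10, nat_lit 2, nat_lit 0,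 nat_lit 24, nat_lit 28, nat_lit 21], [nat_lit 29, nat_lit 31, nat_lit 30], [nat_lit 32, nat_lit 30], [nat_lit 33, nat_lit 32, nat_lit 33], [nat_lit 32, nat_lit 30, nat_lit 30, nat_lit 31], [nat_lit 32, nat_lit 31, nat_lit 32, nat_lit 34, nat_lit 34, nat_lit 32], [nat_lit 36, nat_lit 35, nat_lit 36, nat_lit 35], [nat_lit 36, nat_lit 36, nat_lit 35, nat_lit 36, nat_lit 36], [nat_lit 35, nat_lit 36, nat_lit 35, nat_lit 36, nat_lit 36, nat_lit 36, nat_lit 35], [nat_lit 37, nat_lit 39, nat_lit 39, nat_lit 37], [nat_lit 38, nat_lit 39, nat_lit 39, nat_lit 37, nat_lit 38, nat_lit 39, nat_lit 39], [nat_lit 41, nat_lit 41, nat_lit 40], [nat_lit 30, nat_lit 31, nat_lit 37, nat_lit 36, nat_lit 38, nat_lit 37, nat_lit 40, nat_lit 40, nat_lit 40]]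

noncomputable def ordT (c : ℕ) : ℕ := Nat.land (Nat.shiftRight ordTD (Nat.mul (nat_lit 4) c)) (nat_lit 15)

noncomputable def iv (s : ℕ) : List ℕ := List.replicate (ordT s) s

noncomputable def La0t (c : ℕ) : ℕ := Nat.land (Nat.shiftRight La0tD (Nat.mul (nat_lit 6) c)) (nat_lit 63)

noncomputable def La0 : SLv := ⟨⟨nat_lit 21, La0t, nat_lit 4294967295, nat_lit 4, nat_lit 315, fun i => i⟩, true, [nat_lit 217, nat_lit 69, nat_lit 50, nat_lit 93, nat_lit 294, nat_lit 61, nat_lit 21], [nat_lit 29], nat_lit 6, []⟩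

noncomputable def La1t (c : ℕ) : ℕ := Nat.land (Nat.shiftRight La1tD (Nat.mul (nat_lit 5) c)) (nat_lit 31)

noncomputable def La1p (c : ℕ) : ℕ := Nat.land (Nat.shiftRight La1pD (Nat.mul (nat_lit 9) c)) (nat_lit 511)

noncomputable def La1 : SLv := ⟨⟨nat_lit 217, La1t, nat_lit 193396736, nat_lit 3, nat_lit 10, La1p⟩, false, [], [], nat_lit 0, []⟩

noncomputable def La2t (c : ℕ) : ℕ := Nat.land (Nat.shiftRight La2tD (Nat.mul (nat_lit 5) c)) (nat_lit 31)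

noncomputable def La2p (c : ℕ) : ℕ := Nat.land (Nat.shiftRight La2pD (Nat.mul (nat_lit 9) c)) (nat_lit 511)

noncomputable def La2 : SLv := ⟨⟨nat_lit 69, La2t, nat_lit 506462208, nat_lit 3, nat_lit 8, La2p⟩, false, [], [], nat_lit 0, []⟩

noncomputable def La3t (c : ℕ) : ℕ := Nat.land (Nat.shiftRight La3tD (Nat.mul (nat_lit 5) c)) (nat_lit 31)

noncomputable def La3p (c : ℕ) : ℕ := Nat.land (Nat.shiftRight La3pD (Nat.mul (nat_lit 8) c)) (nat_lit 255)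

noncomputable def La3 : SLv := ⟨⟨nat_lit 50, La3t, nat_lit 436207616, nat_lit 4, nat_lit 8, La3p⟩, false, [], [], nat_lit 0, []⟩

noncomputable def La4t (c : ℕ) : ℕ := Nat.land (Nat.shiftRight La4tD (Nat.mul (nat_lit 5) c)) (nat_lit 31)

noncomputable def La4p (c : ℕ) : ℕ := Nat.land (Nat.shiftRight La4pD (Nat.mul (nat_lit 9) c)) (nat_lit 511)

noncomputable def La4 : SLv := ⟨⟨nat_lit 93, La4t, nat_lit 268435456, nat_lit 3, nat_lit 3, La4p⟩, false, [], [], nat_lit 0, []⟩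

noncomputable def Las : List SLv := [La1, La2, La3, La4]

noncomputable def Lb0t (c : ℕ) : ℕ := Nat.land (Nat.shiftRight Lb0tD (Nat.mul (nat_lit 6) c)) (nat_lit 63)

noncomputable def Lb0 : SLv := ⟨⟨nat_lit 96, Lb0t, nat_lit 8795556151296, nat_lit 5, nat_lit 315, fun i => i⟩, true, [nat_lit 243, nat_lit 297, nat_lit 283, nat_lit 296, nat_lit 137, nat_lit 96], [nat_lit 30], nat_lit 5, [(nat_lit 117, [nat_lit 30, nat_lit 30, nat_lit 43])]⟩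

noncomputable def Lb1t (c : ℕ) : ℕ := Nat.land (Nat.shiftRight Lb1tD (Nat.mul (nat_lit 6) c)) (nat_lit 63)

noncomputable def Lb1p (c : ℕ) : ℕ := Nat.land (Nat.shiftRight Lb1pD (Nat.mul (nat_lit 9) c)) (nat_lit 511)

noncomputable def Lb1 : SLv := ⟨⟨nat_lit 243, Lb1t, nat_lit 3813930958848, nat_lit 4, nat_lit 10, Lb1p⟩, false, [], [], nat_lit 0, []⟩

noncomputable def Lb2t (c : ℕ) : ℕ := Nat.land (Nat.shiftRight Lb2tD (Nat.mul (nat_lit 6) c)) (nat_lit 63)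

noncomputable def Lb2p (c : ℕ) : ℕ := Nat.land (Nat.shiftRight Lb2pD (Nat.mul (nat_lit 9) c)) (nat_lit 511)

noncomputable def Lb2 : SLv := ⟨⟨nat_lit 297, Lb2t, nat_lit 6459630813184, nat_lit 4, nat_lit 8, Lb2p⟩, false, [], [], nat_lit 0, []⟩

noncomputable def Lb3t (c : ℕ) : ℕ := Nat.land (Nat.shiftRight Lb3tD (Nat.mul (nat_lit 6) c)) (nat_lit 63)

noncomputable def Lb3p (c : ℕ) : ℕ := Nat.land (Nat.shiftRight Lb3pD (Nat.mul (nat_lit 9) c)) (nat_lit 511)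

noncomputable def Lb3 : SLv := ⟨⟨nat_lit 283, Lb3t, nat_lit 7696581394432, nat_lit 4, nat_lit 8, Lb3p⟩, false, [], [], nat_lit 0, []⟩

noncomputable def Lb4t (c : ℕ) : ℕ := Nat.land (Nat.shiftRight Lb4tD (Nat.mul (nat_lit 6) c)) (nat_lit 63)

noncomputable def Lb4p (c : ℕ) : ℕ := Nat.land (Nat.shiftRight Lb4pD (Nat.mul (nat_lit 9) c)) (nat_lit 511)

noncomputable def Lb4 : SLv := ⟨⟨nat_lit 296, Lb4t, nat_lit 4398046511104, nat_lit 3, nat_lit 3, Lb4p⟩, false, [], [], nat_lit 0, []⟩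

noncomputable def Lbs : List SLv := [Lb1, Lb2, Lb3, Lb4]

def B : List ℕ := [nat_lit 21, nat_lit 217, nat_lit 69, nat_lit 50, nat_lit 93]

def D : OD := ⟨nat_lit 29, nat_lit 30, nat_lit 31, nat_lit 7, nat_lit 3, nat_lit 1, nat_lit 5, [nat_lit 1],
  [(nat_lit 917210566776, []), (nat_lit 1921880231331, [nat_lit 30]), (nat_lit 2278226752045, [nat_lit 43]), (nat_lit 1523999904348, [nat_lit 30, nat_lit 30]), (nat_lit 1399419752236, [nat_lit 30, nat_lit 43]), (nat_lit 2488927874302, [nat_lit 43, nat_lit 43]), (nat_lit 907615268807, [nat_lit 30, nat_lit 30, nat_lit 30]), (nat_lit 455424892261, [nat_lit 30, nat_lit 30, nat_lit 43]), (nat_lit 2326823492797, [nat_lit 30, nat_lit 43, nat_lit 43]), (nat_lit 2803521118808, [nat_lit 43, nat_lit 43, nat_lit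 43]), (nat_lit 3101327740372, [nat_lit 30, nat_lit 30, nat_lit 30, nat_lit 43]), (nat_lit 2750166695543, [nat_lit 30, nat_lit 43, nat_lit 43, nat_lit 43])],
  [[nat_lit 2, nat_lit 1, nat_lit 0, nat_lit 2, nat_lit 1, nat_lit 0, nat_lit 2, nat_lit 1, nat_lit 0, nat_lit 2, nat_lit 1, nat_lit 0, nat_lit 2, nat_lit 1, nat_lit 0, nat_lit 2, nat_lit 1, nat_lit 0, nat_lit 2, nat_lit 1, nat_lit 0], [nat_lit 0, nat_lit 2, nat_lit 0, nat_lit 2, nat_lit 0, nat_lit 2, nat_lit 0, nat_lit 2, nat_lit 0, nat_lit 2, nat_lit 0, nat_lit 2, nat_lit 0, nat_lit 2, nat_lit 0, nat_lit 2, nat_lit 0, nat_lit 2, nat_lit 0, nat_lit 2, nat_lit 0, nat_lit 2, nat_lit 0, nat_lit 2]],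
  [[]], [[]], [nat_lit 29], [nat_lit 30, nat_lit 30, nat_lit 30, nat_lit 31]⟩

noncomputable def piT (c : ℕ) : ℕ := Nat.land (Nat.shiftRight piTD (Nat.mul (nat_lit 9) c)) (nat_lit 511)

noncomputable def piI (c : ℕ) : ℕ := piT c

def SW : List (ℕ × List ℕ) := [(nat_lit 0, [nat_lit 3, nat_lit 1, nat_lit 0]), (nat_lit 4, []), (nat_lit 0, [nat_lit 3, nat_lit 2, nat_lit 0]), (nat_lit 6, []), (nat_lit 0, [nat_lit 6, nat_lit 2, nat_lit 1, nat_lit 7, nat_lit 5, nat_lit 6]), (nat_lit 8, []), (nat_lit 0, [nat_lit 6, nat_lit 2, nat_lit 6, nat_lit 3, nat_lit 7]), (nat_lit 10, []), (nat_lit 0, [nat_lit 10, nat_lit 9, nat_lit 11]), (nat_lit 12, []), (nat_lit 0, [nat_lit 9, nat_lit 12]), (nat_lit 14, []), (nat_lit 0, [nat_lit 10, nat_lit 14, nat_lit 10,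 nat_lit 11, nat_lit 8]), (nat_lit 16, []), (nat_lit 0, [nat_lit 14, nat_lit 12, nat_lit 10, nat_lit 10, nat_lit 14, nat_lit 0]), (nat_lit 18, []), (nat_lit 0, [nat_lit 16, nat_lit 19]), (nat_lit 20, []), (nat_lit 0, [nat_lit 19, nat_lit 20])]

noncomputable def ivT (c : ℕ) : ℕ := Nat.land (Nat.shiftRight ivTD (Nat.mul (nat_lit 5) c)) (nat_lit 31)

noncomputable def ivS (s : ℕ) : List ℕ := [ivT s]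

def B0 : List ℕ := [nat_lit 0, nat_lit 1, nat_lit 2, nat_lit 3]

noncomputable def S0t (c : ℕ) : ℕ := Nat.land (Nat.shiftRight S0tD (Nat.mul (nat_lit 5) c)) (nat_lit 31)

noncomputable def S0 : SS := ⟨nat_lit 0, S0t, nat_lit 4, nat_lit 315, nat_lit 15⟩

noncomputable def S1t (c : ℕ) : ℕ := Nat.land (Nat.shiftRight S1tD (Nat.mul (nat_lit 5) c)) (nat_lit 31)

noncomputable def S1 : SS := ⟨nat_lit 2, S1t, nat_lit 4, nat_lit 160, nat_lit 8388353⟩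

noncomputable def S2t (c : ℕ) : ℕ := Nat.land (Nat.shiftRight S2tD (Nat.mul (nat_lit 5) c)) (nat_lit 31)

noncomputable def S2 : SS := ⟨nat_lit 1, S2t, nat_lit 3, nat_lit 12, nat_lit 8323072⟩

noncomputable def RCB : L0.BT := (.node (.leaf RCB_0) (.leaf RCB_1))

noncomputable def RC (c : ℕ) : ℕ := L0.rowOf RCB (nat_lit 8) (nat_lit 255) (nat_lit 144) (nat_lit 22300745198530623141535718272648361505980415) c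

noncomputable def PCB : L0.BT := (.node (.node (.leaf PCB_0) (.leaf PCB_2)) (.leaf PCB_1))

noncomputable def PC (c : ℕ) : ℕ := L0.rowOf PCB (nat_lit 7) (nat_lit 127) (nat_lit 180) (nat_lit 1532495540865888858358347027150309183618739122183602175) c

noncomputable def par (c : ℕ) : ℕ := Nat.land (Nat.shiftRight parD (Nat.mul (nat_lit 12) c)) (nat_lit 4095)

noncomputable def ord (c : ℕ) : ℕ := Nat.land (Nat.shiftRight ordD (Nat.mul (nat_lit 9) c)) (nat_lit 511)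

def F1 : List Q8 := [⟨⟨-2, 0⟩, ⟨0, 0⟩, ⟨0, 0⟩, ⟨0, 0⟩⟩,
  ⟨⟨-1, 0⟩, ⟨-1, 0⟩, ⟨-1, 0⟩, ⟨1, -2⟩⟩,
  ⟨⟨-1, 0⟩, ⟨-1, 0⟩, ⟨-1, 2⟩, ⟨1, 0⟩⟩,
  ⟨⟨-1, 0⟩, ⟨-1, 0⟩, ⟨1, -2⟩, ⟨-1, 0⟩⟩,
  ⟨⟨-1, 0⟩, ⟨-1, 0⟩, ⟨1, 0⟩, ⟨-1, 2⟩⟩,
  ⟨⟨-1, 0⟩, ⟨-1, 2⟩, ⟨-1, 0⟩, ⟨1, 0⟩⟩,
  ⟨⟨-1, 0⟩, ⟨-1, 2⟩, ⟨1, 0⟩, ⟨-1, 0⟩⟩,
  ⟨⟨-1, 0⟩, ⟨1, -2⟩, ⟨-1, 0⟩, ⟨-1, 0⟩⟩,
  ⟨⟨-1, 0⟩, ⟨1, -2⟩, ⟨1, 0⟩, ⟨1, 0⟩⟩,
  ⟨⟨-1, 0⟩, ⟨1, 0⟩, ⟨-1, 0⟩, ⟨-1, 2⟩⟩,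
  ⟨⟨-1, 0⟩, ⟨1, 0⟩, ⟨-1, 2⟩, ⟨-1, 0⟩⟩,
  ⟨⟨-1, 0⟩, ⟨1, 0⟩, ⟨1, -2⟩, ⟨1, 0⟩⟩,
  ⟨⟨-1, 0⟩, ⟨1, 0⟩, ⟨1, 0⟩, ⟨1, -2⟩⟩,
  ⟨⟨-1, 1⟩, ⟨-1, 1⟩, ⟨-1, 1⟩, ⟨-1, 1⟩⟩,
  ⟨⟨-1, 1⟩, ⟨-1, 1⟩, ⟨1, -1⟩, ⟨1, -1⟩⟩,
  ⟨⟨-1, 1⟩, ⟨1, -1⟩, ⟨-1, 1⟩, ⟨1, -1⟩⟩,
  ⟨⟨-1, 1⟩, ⟨1, -1⟩, ⟨1, -1⟩, ⟨-1, 1⟩⟩,
  ⟨⟨-1, 2⟩, ⟨-1, 0⟩, ⟨-1, 0⟩, ⟨1, 0⟩⟩,
  ⟨⟨-1, 2⟩, ⟨-1, 0⟩, ⟨1, 0⟩, ⟨-1, 0⟩⟩,
  ⟨⟨-1, 2⟩, ⟨1, 0⟩, ⟨-1, 0⟩, ⟨-1, 0⟩⟩,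
  ⟨⟨-1, 2⟩, ⟨1, 0⟩, ⟨1, 0⟩, ⟨1, 0⟩⟩,
  ⟨⟨0, -1⟩, ⟨0, -1⟩, ⟨0, -1⟩, ⟨0, 1⟩⟩,
  ⟨⟨0, -1⟩, ⟨0, -1⟩, ⟨0, 1⟩, ⟨0, -1⟩⟩,
  ⟨⟨0, -1⟩, ⟨0, 1⟩, ⟨0, -1⟩, ⟨0, -1⟩⟩,
  ⟨⟨0, -1⟩, ⟨0, 1⟩, ⟨0, 1⟩, ⟨0, 1⟩⟩,
  ⟨⟨0, 0⟩, ⟨-2, 0⟩, ⟨0, 0⟩, ⟨0, 0⟩⟩,
  ⟨⟨0, 0⟩, ⟨0, 0⟩, ⟨-2, 0⟩, ⟨0, 0⟩⟩,
  ⟨⟨0, 0⟩, ⟨0, 0⟩, ⟨0, 0⟩, ⟨-2, 0⟩⟩,
  ⟨⟨0, 0⟩, ⟨0, 0⟩, ⟨0, 0⟩, ⟨2, 0⟩⟩,
  ⟨⟨0, 0⟩, ⟨0, 0⟩, ⟨2, 0⟩, ⟨0, 0⟩⟩,
  ⟨⟨0, 0⟩, ⟨2, 0⟩, ⟨0, 0⟩, ⟨0, 0⟩⟩,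
  ⟨⟨0, 1⟩, ⟨0, -1⟩, ⟨0, -1⟩, ⟨0, -1⟩⟩,
  ⟨⟨0, 1⟩, ⟨0, -1⟩, ⟨0, 1⟩, ⟨0, 1⟩⟩,
  ⟨⟨0, 1⟩, ⟨0, 1⟩, ⟨0, -1⟩, ⟨0, 1⟩⟩,
  ⟨⟨0, 1⟩, ⟨0, 1⟩, ⟨0, 1⟩, ⟨0, -1⟩⟩,
  ⟨⟨1, -2⟩, ⟨-1, 0⟩, ⟨-1, 0⟩, ⟨-1, 0⟩⟩,
  ⟨⟨1, -2⟩, ⟨-1, 0⟩, ⟨1, 0⟩, ⟨1, 0⟩⟩,
  ⟨⟨1, -2⟩, ⟨1, 0⟩, ⟨-1, 0⟩, ⟨1, 0⟩⟩,
  ⟨⟨1, -2⟩, ⟨1, 0⟩, ⟨1, 0⟩, ⟨-1, 0⟩⟩,
  ⟨⟨1, -1⟩, ⟨-1, 1⟩, ⟨-1, 1⟩, ⟨1, -1⟩⟩,
  ⟨⟨1, -1⟩, ⟨-1, 1⟩, ⟨1, -1⟩, ⟨-1, 1⟩⟩,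
  ⟨⟨1, -1⟩, ⟨1, -1⟩, ⟨-1, 1⟩, ⟨-1, 1⟩⟩,
  ⟨⟨1, -1⟩, ⟨1, -1⟩, ⟨1, -1⟩, ⟨1, -1⟩⟩,
  ⟨⟨1, 0⟩, ⟨-1, 0⟩, ⟨-1, 0⟩, ⟨-1, 2⟩⟩,
  ⟨⟨1, 0⟩, ⟨-1, 0⟩, ⟨-1, 2⟩, ⟨-1, 0⟩⟩,
  ⟨⟨1, 0⟩, ⟨-1, 0⟩, ⟨1, -2⟩, ⟨1, 0⟩⟩,
  ⟨⟨1, 0⟩, ⟨-1, 0⟩, ⟨1, 0⟩, ⟨1, -2⟩⟩,
  ⟨⟨1, 0⟩, ⟨-1, 2⟩, ⟨-1, 0⟩, ⟨-1, 0⟩⟩,
  ⟨⟨1, 0⟩, ⟨-1, 2⟩, ⟨1, 0⟩, ⟨1, 0⟩⟩,
  ⟨⟨1, 0⟩, ⟨1, -2⟩, ⟨-1, 0⟩, ⟨1, 0⟩⟩,
  ⟨⟨1, 0⟩, ⟨1, -2⟩, ⟨1, 0⟩, ⟨-1, 0⟩⟩,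
  ⟨⟨1, 0⟩, ⟨1, 0⟩, ⟨-1, 0⟩, ⟨1, -2⟩⟩,
  ⟨⟨1, 0⟩, ⟨1, 0⟩, ⟨-1, 2⟩, ⟨1, 0⟩⟩,
  ⟨⟨1, 0⟩, ⟨1, 0⟩, ⟨1, -2⟩, ⟨-1, 0⟩⟩,
  ⟨⟨1, 0⟩, ⟨1, 0⟩, ⟨1, 0⟩, ⟨-1, 2⟩⟩,
  ⟨⟨2, 0⟩, ⟨0, 0⟩, ⟨0, 0⟩, ⟨0, 0⟩⟩]

end Cfsg.Agent.H9.OutJ2
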