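import Cfsg.Agent.H9.OutJ3D

/-! The outer automorphism group of J3. Checks. -/

set_option autoImplicit false
set_option maxRecDepth 100000

namespace Cfsg.Agent.H9.OutJ3

theorem slpS_20 : allPow (below (nat_lit 26163) (slp2B T SW (nat_lit 3))) 10 (20 * 2 ^ 10) = true := by decide +kernel

theorem slpS_21 : allPow (below (nat_lit 26163) (slp2B T SW (nat_lit 3))) 10 (21 * 2 ^ 10) = true := by decide +kernel

theorem slpS_22 : allPow (below (nat_lit 26163) (slp2B T SW (nat_lit 3))) 10 (22 * 2 ^ 10) = true := by decide +kernel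

theorem slpS_23 : allPow (below (nat_lit 26163) (slp2B T SW (nat_lit 3))) 10 (23 * 2 ^ 10) = true := by decide +kernel

theorem slpS_24 : allPow (below (nat_lit 26163) (slp2B T SW (nat_lit 3))) 10 (24 * 2 ^ 10) = true := by decide +kernel

theorem slpS_25 : allPow (below (nat_lit 26163) (slp2B T SW (nat_lit 3))) 10 (25 * 2 ^ 10) = true := by decide +kernel

theorem ss1_0 : allPow (below (nat_lit 26163) (ssB T (nat_lit 26) B0 ivS S1 [])) 12 (0 * 2 ^ 12) = true := by decide +kernel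

theorem ss1_1 : allPow (below (nat_lit 26163) (ssB T (nat_lit 26) B0 ivS S1 [])) 12 (1 * 2 ^ 12) = true := by decide +kernel

theorem ss1_2 : allPow (below (nat_lit 26163) (ssB T (nat_lit 26) B0 ivS S1 [])) 12 (2 * 2 ^ 12) = true := by decide +kernel

theorem ss1_3 : allPow (below (nat_lit 26163) (ssB T (nat_lit 26) B0 ivS S1 [])) 12 (3 * 2 ^ 12) = true := by decide +kernel

theorem ss1_4 : allPow (below (nat_lit 26163) (ssB T (nat_lit 26) B0 ivS S1 [])) 12 (4 * 2 ^ 12) = true := by decide +kernel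

theorem ss1_5 : allPow (below (nat_lit 26163) (ssB T (nat_lit 26) B0 ivS S1 [])) 12 (5 * 2 ^ 12) = true := by decide +kernel

theorem ss1_6 : allPow (below (nat_lit 26163) (ssB T (nat_lit 26) B0 ivS S1 [])) 12 (6 * 2 ^ 12) = true := by decide +kernel

theorem cnt1 : (Nat.ble 26163 (2 ^ 15) && Nat.ble (S1.cntP 15 0) S1.n) = true := by decide +kernel

theorem ss0_0 : allPow (below (nat_lit 26163) (ssB T (nat_lit 26) B0 ivS S0 [S1])) 9 (0 * 2 ^ 9) = true := by decide +kernel

theorem ss0_1 : allPow (below (nat_lit 26163) (ssB T (nat_lit 26) B0 ivS S0 [S1])) 9 (1 * 2 ^ 9) = true := by decide +kernel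

theorem ss0_2 : allPow (below (nat_lit 26163) (ssB T (nat_lit 26) B0 ivS S0 [S1])) 9 (2 * 2 ^ 9) = true := by decide +kernel

theorem ss0_3 : allPow (below (nat_lit 26163) (ssB T (nat_lit 26) B0 ivS S0 [S1])) 9 (3 * 2 ^ 9) = true := by decide +kernel

theorem ss0_4 : allPow (below (nat_lit 26163) (ssB T (nat_lit 26) B0 ivS S0 [S1])) 9 (4 * 2 ^ 9) = true := by decide +kernel

theorem ss0_5 : allPow (below (nat_lit 26163) (ssB T (nat_lit 26) B0 ivS S0 [S1])) 9 (5 * 2 ^ 9) = true := by decide +kernel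

theorem ss0_6 : allPow (below (nat_lit 26163) (ssB T (nat_lit 26) B0 ivS S0 [S1])) 9 (6 * 2 ^ 9) = true := by decide +kernel

theorem ss0_7 : allPow (below (nat_lit 26163) (ssB T (nat_lit 26) B0 ivS S0 [S1])) 9 (7 * 2 ^ 9) = true := by decide +kernel

theorem ss0_8 : allPow (below (nat_lit 26163) (ssB T (nat_lit 26) B0 ivS S0 [S1])) 9 (8 * 2 ^ 9) = true := by decide +kernel

theorem ss0_9 : allPow (below (nat_lit 26163) (ssB T (nat_lit 26) B0 ivS S0 [S1])) 9 (9 * 2 ^ 9) = true := by decide +kernel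

theorem ss0_10 : allPow (below (nat_lit 26163) (ssB T (nat_lit 26) B0 ivS S0 [S1])) 9 (10 * 2 ^ 9) = true := by decide +kernel

theorem ss0_11 : allPow (below (nat_lit 26163) (ssB T (nat_lit 26) B0 ivS S0 [S1])) 9 (11 * 2 ^ 9) = true := by decide +kernel

theorem ss0_12 : allPow (below (nat_lit 26163) (ssB T (nat_lit 26) B0 ivS S0 [S1])) 9 (12 * 2 ^ 9) = true := by decide +kernel

theorem ss0_13 : allPow (below (nat_lit 26163) (ssB T (nat_lit 26) B0 ivS S0 [S1])) 9 (13 * 2 ^ 9) = true := by decide +kernel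

theorem ss0_14 : allPow (below (nat_lit 26163) (ssB T (nat_lit 26) B0 ivS S0 [S1])) 9 (14 * 2 ^ 9) = true := by decide +kernel

theorem ss0_15 : allPow (below (nat_lit 26163) (ssB T (nat_lit 26) B0 ivS S0 [S1])) 9 (15 * 2 ^ 9) = true := by decide +kernel

theorem ss0_16 : allPow (below (nat_lit 26163) (ssB T (nat_lit 26) B0 ivS S0 [S1])) 9 (16 * 2 ^ 9) = true := by decide +kernel

theorem ss0_17 : allPow (below (nat_lit 26163) (ssB T (nat_lit 26) B0 ivS S0 [S1])) 9 (17 * 2 ^ 9) = true := by decide +kernel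

theorem ss0_18 : allPow (below (nat_lit 26163) (ssB T (nat_lit 26) B0 ivS S0 [S1])) 9 (18 * 2 ^ 9) = true := by decide +kernel

theorem ss0_19 : allPow (below (nat_lit 26163) (ssB T (nat_lit 26) B0 ivS S0 [S1])) 9 (19 * 2 ^ 9) = true := by decide +kernel

theorem ss0_20 : allPow (below (nat_lit 26163) (ssB T (nat_lit 26) B0 ivS S0 [S1])) 9 (20 * 2 ^ 9) = true := by decide +kernel

theorem ss0_21 : allPow (below (nat_lit 26163) (ssB T (nat_lit 26) B0 ivS S0 [S1])) 9 (21 * 2 ^ 9) = true := by decide +kernel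

theorem ss0_22 : allPow (below (nat_lit 26163) (ssB T (nat_lit 26) B0 ivS S0 [S1])) 9 (22 * 2 ^ 9) = true := by decide +kernel

theorem ss0_23 : allPow (below (nat_lit 26163) (ssB T (nat_lit 26) B0 ivS S0 [S1])) 9 (23 * 2 ^ 9) = true := by decide +kernel

theorem ss0_24 : allPow (below (nat_lit 26163) (ssB T (nat_lit 26) B0 ivS S0 [S1])) 9 (24 * 2 ^ 9) = true := by decide +kernel

theorem ss0_25 : allPow (below (nat_lit 26163) (ssB T (nat_lit 26) B0 ivS S0 [S1])) 9 (25 * 2 ^ 9) = true := by decide +kernel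

theorem ss0_26 : allPow (below (nat_lit 26163) (ssB T (nat_lit 26) B0 ivS S0 [S1])) 9 (26 * 2 ^ 9) = true := by decide +kernel

theorem ss0_27 : allPow (below (nat_lit 26163) (ssB T (nat_lit 26) B0 ivS S0 [S1])) 9 (27 * 2 ^ 9) = true := by decide +kernel

theorem ss0_28 : allPow (below (nat_lit 26163) (ssB T (nat_lit 26) B0 ivS S0 [S1])) 9 (28 * 2 ^ 9) = true := by decide +kernel

theorem ss0_29 : allPow (below (nat_lit 26163) (ssB T (nat_lit 26) B0 ivS S0 [S1])) 9 (29 * 2 ^ 9) = true := by decide +kernel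

theorem ss0_30 : allPow (below (nat_lit 26163) (ssB T (nat_lit 26) B0 ivS S0 [S1])) 9 (30 * 2 ^ 9) = true := by decide +kernel

theorem ss0_31 : allPow (below (nat_lit 26163) (ssB T (nat_lit 26) B0 ivS S0 [S1])) 9 (31 * 2 ^ 9) = true := by decide +kernel

end Cfsg.Agent.H9.OutJ3
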