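import Cfsg.Agent.H9.OutJ3D

/-! The outer automorphism group of J3. Checks. -/

set_option autoImplicit false
set_option maxRecDepth 100000

namespace Cfsg.Agent.H9.OutJ3

theorem ss0_32 : allPow (below (nat_lit 26163) (ssB T (nat_lit 26) B0 ivS S0 [S1])) 9 (32 * 2 ^ 9) = true := by decide +kernel

theorem ss0_33 : allPow (below (nat_lit 26163) (ssB T (nat_lit 26) B0 ivS S0 [S1])) 9 (33 * 2 ^ 9) = true := by decide +kernel

theorem ss0_34 : allPow (below (nat_lit 26163) (ssB T (nat_lit 26) B0 ivS S0 [S1])) 9 (34 * 2 ^ 9) = true := by decide +kernel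

theorem ss0_35 : allPow (below (nat_lit 26163) (ssB T (nat_lit 26) B0 ivS S0 [S1])) 9 (35 * 2 ^ 9) = true := by decide +kernel

theorem ss0_36 : allPow (below (nat_lit 26163) (ssB T (nat_lit 26) B0 ivS S0 [S1])) 9 (36 * 2 ^ 9) = true := by decide +kernel

theorem ss0_37 : allPow (below (nat_lit 26163) (ssB T (nat_lit 26) B0 ivS S0 [S1])) 9 (37 * 2 ^ 9) = true := by decide +kernel

theorem ss0_38 : allPow (below (nat_lit 26163) (ssB T (nat_lit 26) B0 ivS S0 [S1])) 9 (38 * 2 ^ 9) = true := by decide +kernel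

theorem ss0_39 : allPow (below (nat_lit 26163) (ssB T (nat_lit 26) B0 ivS S0 [S1])) 9 (39 * 2 ^ 9) = true := by decide +kernel

theorem ss0_40 : allPow (below (nat_lit 26163) (ssB T (nat_lit 26) B0 ivS S0 [S1])) 9 (40 * 2 ^ 9) = true := by decide +kernel

theorem ss0_41 : allPow (below (nat_lit 26163) (ssB T (nat_lit 26) B0 ivS S0 [S1])) 9 (41 * 2 ^ 9) = true := by decide +kernel

theorem ss0_42 : allPow (below (nat_lit 26163) (ssB T (nat_lit 26) B0 ivS S0 [S1])) 9 (42 * 2 ^ 9) = true := by decide +kernel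

theorem ss0_43 : allPow (below (nat_lit 26163) (ssB T (nat_lit 26) B0 ivS S0 [S1])) 9 (43 * 2 ^ 9) = true := by decide +kernel

theorem ss0_44 : allPow (below (nat_lit 26163) (ssB T (nat_lit 26) B0 ivS S0 [S1])) 9 (44 * 2 ^ 9) = true := by decide +kernel

theorem ss0_45 : allPow (below (nat_lit 26163) (ssB T (nat_lit 26) B0 ivS S0 [S1])) 9 (45 * 2 ^ 9) = true := by decide +kernel

theorem ss0_46 : allPow (below (nat_lit 26163) (ssB T (nat_lit 26) B0 ivS S0 [S1])) 9 (46 * 2 ^ 9) = true := by decide +kernel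

theorem ss0_47 : allPow (below (nat_lit 26163) (ssB T (nat_lit 26) B0 ivS S0 [S1])) 9 (47 * 2 ^ 9) = true := by decide +kernel

theorem ss0_48 : allPow (below (nat_lit 26163) (ssB T (nat_lit 26) B0 ivS S0 [S1])) 9 (48 * 2 ^ 9) = true := by decide +kernel

theorem ss0_49 : allPow (below (nat_lit 26163) (ssB T (nat_lit 26) B0 ivS S0 [S1])) 9 (49 * 2 ^ 9) = true := by decide +kernel

theorem ss0_50 : allPow (below (nat_lit 26163) (ssB T (nat_lit 26) B0 ivS S0 [S1])) 9 (50 * 2 ^ 9) = true := by decide +kernel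

theorem ss0_51 : allPow (below (nat_lit 26163) (ssB T (nat_lit 26) B0 ivS S0 [S1])) 9 (51 * 2 ^ 9) = true := by decide +kernel

theorem slp_0 : allPow (below (nat_lit 26163) (slpB T Ws (nat_lit 26))) 9 (0 * 2 ^ 9) = true := by decide +kernel

theorem slp_1 : allPow (below (nat_lit 26163) (slpB T Ws (nat_lit 26))) 9 (1 * 2 ^ 9) = true := by decide +kernel

theorem slp_2 : allPow (below (nat_lit 26163) (slpB T Ws (nat_lit 26))) 9 (2 * 2 ^ 9) = true := by decide +kernel

theorem slp_3 : allPow (below (nat_lit 26163) (slpB T Ws (nat_lit 26))) 9 (3 * 2 ^ 9) = true := by decide +kernel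

theorem slp_4 : allPow (below (nat_lit 26163) (slpB T Ws (nat_lit 26))) 9 (4 * 2 ^ 9) = true := by decide +kernel

theorem slp_5 : allPow (below (nat_lit 26163) (slpB T Ws (nat_lit 26))) 9 (5 * 2 ^ 9) = true := by decide +kernel

theorem slp_6 : allPow (below (nat_lit 26163) (slpB T Ws (nat_lit 26))) 9 (6 * 2 ^ 9) = true := by decide +kernel

theorem slp_7 : allPow (below (nat_lit 26163) (slpB T Ws (nat_lit 26))) 9 (7 * 2 ^ 9) = true := by decide +kernel

theorem slp_8 : allPow (below (nat_lit 26163) (slpB T Ws (nat_lit 26))) 9 (8 * 2 ^ 9) = true := by decide +kernel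

theorem slp_9 : allPow (below (nat_lit 26163) (slpB T Ws (nat_lit 26))) 9 (9 * 2 ^ 9) = true := by decide +kernel

theorem slp_10 : allPow (below (nat_lit 26163) (slpB T Ws (nat_lit 26))) 9 (10 * 2 ^ 9) = true := by decide +kernel

theorem slp_11 : allPow (below (nat_lit 26163) (slpB T Ws (nat_lit 26))) 9 (11 * 2 ^ 9) = true := by decide +kernel

theorem slp_12 : allPow (below (nat_lit 26163) (slpB T Ws (nat_lit 26))) 9 (12 * 2 ^ 9) = true := by decide +kernel

theorem slp_13 : allPow (below (nat_lit 26163) (slpB T Ws (nat_lit 26))) 9 (13 * 2 ^ 9) = true := by decide +kernel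

theorem slp_14 : allPow (below (nat_lit 26163) (slpB T Ws (nat_lit 26))) 9 (14 * 2 ^ 9) = true := by decide +kernel

theorem slp_15 : allPow (below (nat_lit 26163) (slpB T Ws (nat_lit 26))) 9 (15 * 2 ^ 9) = true := by decide +kernel

theorem slp_16 : allPow (below (nat_lit 26163) (slpB T Ws (nat_lit 26))) 9 (16 * 2 ^ 9) = true := by decide +kernel

theorem slp_17 : allPow (below (nat_lit 26163) (slpB T Ws (nat_lit 26))) 9 (17 * 2 ^ 9) = true := by decide +kernel

theorem slp_18 : allPow (below (nat_lit 26163) (slpB T Ws (nat_lit 26))) 9 (18 * 2 ^ 9) = true := by decide +kernel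

theorem slp_19 : allPow (below (nat_lit 26163) (slpB T Ws (nat_lit 26))) 9 (19 * 2 ^ 9) = true := by decide +kernel

theorem slp_20 : allPow (below (nat_lit 26163) (slpB T Ws (nat_lit 26))) 9 (20 * 2 ^ 9) = true := by decide +kernel

theorem slp_21 : allPow (below (nat_lit 26163) (slpB T Ws (nat_lit 26))) 9 (21 * 2 ^ 9) = true := by decide +kernel

theorem slp_22 : allPow (below (nat_lit 26163) (slpB T Ws (nat_lit 26))) 9 (22 * 2 ^ 9) = true := by decide +kernel

theorem slp_23 : allPow (below (nat_lit 26163) (slpB T Ws (nat_lit 26))) 9 (23 * 2 ^ 9) = true := by decide +kernel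

theorem slp_24 : allPow (below (nat_lit 26163) (slpB T Ws (nat_lit 26))) 9 (24 * 2 ^ 9) = true := by decide +kernel

theorem slp_25 : allPow (below (nat_lit 26163) (slpB T Ws (nat_lit 26))) 9 (25 * 2 ^ 9) = true := by decide +kernel

theorem slp_26 : allPow (below (nat_lit 26163) (slpB T Ws (nat_lit 26))) 9 (26 * 2 ^ 9) = true := by decide +kernel

theorem slp_27 : allPow (below (nat_lit 26163) (slpB T Ws (nat_lit 26))) 9 (27 * 2 ^ 9) = true := by decide +kernel

theorem slp_28 : allPow (below (nat_lit 26163) (slpB T Ws (nat_lit 26))) 9 (28 * 2 ^ 9) = true := by decide +kernel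

theorem slp_29 : allPow (below (nat_lit 26163) (slpB T Ws (nat_lit 26))) 9 (29 * 2 ^ 9) = true := by decide +kernel

theorem slp_30 : allPow (below (nat_lit 26163) (slpB T Ws (nat_lit 26))) 9 (30 * 2 ^ 9) = true := by decide +kernel

theorem slp_31 : allPow (below (nat_lit 26163) (slpB T Ws (nat_lit 26))) 9 (31 * 2 ^ 9) = true := by decide +kernel

theorem slp_32 : allPow (below (nat_lit 26163) (slpB T Ws (nat_lit 26))) 9 (32 * 2 ^ 9) = true := by decide +kernel

theorem slp_33 : allPow (below (nat_lit 26163) (slpB T Ws (nat_lit 26))) 9 (33 * 2 ^ 9) = true := by decide +kernel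

theorem slp_34 : allPow (below (nat_lit 26163) (slpB T Ws (nat_lit 26))) 9 (34 * 2 ^ 9) = true := by decide +kernel

theorem slp_35 : allPow (below (nat_lit 26163) (slpB T Ws (nat_lit 26))) 9 (35 * 2 ^ 9) = true := by decide +kernel

theorem slp_36 : allPow (below (nat_lit 26163) (slpB T Ws (nat_lit 26))) 9 (36 * 2 ^ 9) = true := by decide +kernel

theorem slp_37 : allPow (below (nat_lit 26163) (slpB T Ws (nat_lit 26))) 9 (37 * 2 ^ 9) = true := by decide +kernel

end Cfsg.Agent.H9.OutJ3
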