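import Cfsg.Agent.H9.OutJ3D

/-! The outer automorphism group of J3. Checks. -/

set_option autoImplicit false
set_option maxRecDepth 100000

namespace Cfsg.Agent.H9.OutJ3

theorem slp_38 : allPow (below (nat_lit 26163) (slpB T Ws (nat_lit 26))) 9 (38 * 2 ^ 9) = true := by decide +kernel

theorem slp_39 : allPow (below (nat_lit 26163) (slpB T Ws (nat_lit 26))) 9 (39 * 2 ^ 9) = true := by decide +kernel

theorem slp_40 : allPow (below (nat_lit 26163) (slpB T Ws (nat_lit 26))) 9 (40 * 2 ^ 9) = true := by decide +kernel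

theorem slp_41 : allPow (below (nat_lit 26163) (slpB T Ws (nat_lit 26))) 9 (41 * 2 ^ 9) = true := by decide +kernel

theorem slp_42 : allPow (below (nat_lit 26163) (slpB T Ws (nat_lit 26))) 9 (42 * 2 ^ 9) = true := by decide +kernel

theorem slp_43 : allPow (below (nat_lit 26163) (slpB T Ws (nat_lit 26))) 9 (43 * 2 ^ 9) = true := by decide +kernel

theorem slp_44 : allPow (below (nat_lit 26163) (slpB T Ws (nat_lit 26))) 9 (44 * 2 ^ 9) = true := by decide +kernel

theorem slp_45 : allPow (below (nat_lit 26163) (slpB T Ws (nat_lit 26))) 9 (45 * 2 ^ 9) = true := by decide +kernel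

theorem slp_46 : allPow (below (nat_lit 26163) (slpB T Ws (nat_lit 26))) 9 (46 * 2 ^ 9) = true := by decide +kernel

theorem slp_47 : allPow (below (nat_lit 26163) (slpB T Ws (nat_lit 26))) 9 (47 * 2 ^ 9) = true := by decide +kernel

theorem slp_48 : allPow (below (nat_lit 26163) (slpB T Ws (nat_lit 26))) 9 (48 * 2 ^ 9) = true := by decide +kernel

theorem slp_49 : allPow (below (nat_lit 26163) (slpB T Ws (nat_lit 26))) 9 (49 * 2 ^ 9) = true := by decide +kernel

theorem slp_50 : allPow (below (nat_lit 26163) (slpB T Ws (nat_lit 26))) 9 (50 * 2 ^ 9) = true := by decide +kernel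

theorem slp_51 : allPow (below (nat_lit 26163) (slpB T Ws (nat_lit 26))) 9 (51 * 2 ^ 9) = true := by decide +kernel

theorem ptLa_0 : allPow (below (nat_lit 26163) (La0.toLv.ptB T (nat_lit 26163))) 13 (0 * 2 ^ 13) = true := by decide +kernel

theorem ptLa_1 : allPow (below (nat_lit 26163) (La0.toLv.ptB T (nat_lit 26163))) 13 (1 * 2 ^ 13) = true := by decide +kernel

theorem ptLa_2 : allPow (below (nat_lit 26163) (La0.toLv.ptB T (nat_lit 26163))) 13 (2 * 2 ^ 13) = true := by decide +kernel

theorem ptLa_3 : allPow (below (nat_lit 26163) (La0.toLv.ptB T (nat_lit 26163))) 13 (3 * 2 ^ 13) = true := by decide +kernel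

theorem scLa_0 : allPow (below (nat_lit 26163) (scanB T iv (tr T [D.ia]) La0 Las [])) 13 (0 * 2 ^ 13) = true := by decide +kernel

theorem scLa_1 : allPow (below (nat_lit 26163) (scanB T iv (tr T [D.ia]) La0 Las [])) 13 (1 * 2 ^ 13) = true := by decide +kernel

theorem scLa_2 : allPow (below (nat_lit 26163) (scanB T iv (tr T [D.ia]) La0 Las [])) 13 (2 * 2 ^ 13) = true := by decide +kernel

theorem scLa_3 : allPow (below (nat_lit 26163) (scanB T iv (tr T [D.ia]) La0 Las [])) 13 (3 * 2 ^ 13) = true := by decide +kernel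

theorem ptLb_0 : allPow (below (nat_lit 26163) (Lb0.toLv.ptB T (nat_lit 26163))) 13 (0 * 2 ^ 13) = true := by decide +kernel

theorem ptLb_1 : allPow (below (nat_lit 26163) (Lb0.toLv.ptB T (nat_lit 26163))) 13 (1 * 2 ^ 13) = true := by decide +kernel

theorem ptLb_2 : allPow (below (nat_lit 26163) (Lb0.toLv.ptB T (nat_lit 26163))) 13 (2 * 2 ^ 13) = true := by decide +kernel

theorem ptLb_3 : allPow (below (nat_lit 26163) (Lb0.toLv.ptB T (nat_lit 26163))) 13 (3 * 2 ^ 13) = true := by decide +kernel

theorem scLb_0 : allPow (below (nat_lit 26163) (scanB T iv (tr T (List.replicate D.i D.ib)) Lb0 Lbs [])) 13 (0 * 2 ^ 13) = true := by decide +kernel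

theorem scLb_1 : allPow (below (nat_lit 26163) (scanB T iv (tr T (List.replicate D.i D.ib)) Lb0 Lbs [])) 13 (1 * 2 ^ 13) = true := by decide +kernel

theorem scLb_2 : allPow (below (nat_lit 26163) (scanB T iv (tr T (List.replicate D.i D.ib)) Lb0 Lbs [])) 13 (2 * 2 ^ 13) = true := by decide +kernel

theorem scLb_3 : allPow (below (nat_lit 26163) (scanB T iv (tr T (List.replicate D.i D.ib)) Lb0 Lbs [])) 13 (3 * 2 ^ 13) = true := by decide +kernel

theorem perm_0 : allPow (below (nat_lit 26163) (D.permB T (nat_lit 26163) piT piI)) 13 (0 * 2 ^ 13) = true := by decide +kernel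

theorem perm_1 : allPow (below (nat_lit 26163) (D.permB T (nat_lit 26163) piT piI)) 13 (1 * 2 ^ 13) = true := by decide +kernel

theorem perm_2 : allPow (below (nat_lit 26163) (D.permB T (nat_lit 26163) piT piI)) 13 (2 * 2 ^ 13) = true := by decide +kernel

theorem perm_3 : allPow (below (nat_lit 26163) (D.permB T (nat_lit 26163) piT piI)) 13 (3 * 2 ^ 13) = true := by decide +kernel

theorem regen : regenB P18.mul P18.one j3Code 45 V 3 ws tw = true := by decide +kernel

end Cfsg.Agent.H9.OutJ3
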