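import Cfsg.Agent.H9.OutJ3C0
import Cfsg.Agent.H9.OutJ3C1
import Cfsg.Agent.H9.OutJ3C2
import Cfsg.Agent.H9.OutJ3C3

/-! The outer automorphism group of J3. -/

set_option autoImplicit false
set_option maxRecDepth 100000

namespace Cfsg.Agent.H9.OutJ3

theorem orb : ∀ i < 26163, (orbB (conjStep P18.mul V) V T par ord (nat_lit 26163) (nat_lit 3) (nat_lit 3)) i = true :=
  all_of_blocks (d := 10) (m := 26) (by decide) (forall_lt_succ'' (forall_lt_succ'' (forall_lt_succ'' (forall_lt_succ'' (forall_lt_succ'' (forall_lt_succ'' (forall_lt_succ'' (forall_lt_succ'' (forall_lt_succ'' (forall_lt_succ'' (forall_lt_succ'' (forall_lt_succ'' (forall_lt_succ'' (forall_lt_succ'' (forall_lt_succ'' (forall_lt_succ'' (forall_lt_succ'' (forall_lt_succ'' (forall_lt_succ'' (forall_lt_succ'' (forall_lt_succ'' (forall_lt_succ'' (forall_lt_succ'' (forall_lt_succ'' (forall_lt_succ'' (forall_lt_succ'' forall_lt_zero'' orb_0) orb_1) orb_2) orb_3) orb_4) orb_5)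 orb_6) orb_7) orb_8) orb_9) orb_10) orb_11) orb_12) orb_13) orb_14) orb_15) orb_16) orb_17) orb_18) orb_19) orb_20) orb_21) orb_22) orb_23) orb_24) orb_25)

theorem slpS : ∀ i < 26163, (slp2B T SW (nat_lit 3)) i = true :=
  all_of_blocks (d := 10) (m := 26) (by decide) (forall_lt_succ'' (forall_lt_succ'' (forall_lt_succ'' (forall_lt_succ'' (forall_lt_succ'' (forall_lt_succ'' (forall_lt_succ'' (forall_lt_succ'' (forall_lt_succ'' (forall_lt_succ'' (forall_lt_succ'' (forall_lt_succ'' (forall_lt_succ'' (forall_lt_succ'' (forall_lt_succ'' (forall_lt_succ'' (forall_lt_succ'' (forall_lt_succ'' (forall_lt_succ'' (forall_lt_succ'' (forall_lt_succ'' (forall_lt_succ'' (forall_lt_succ'' (forall_lt_succ'' (forall_lt_succ'' (forall_lt_succ'' forall_lt_zero'' slpS_0) slpS_1) slpS_2) slpS_3) slpS_4) slpS_5) slpS_6) slpS_7) slpS_8) slpS_9) slpS_10) slpS_11) slpS_12) slpS_13) slpS_14) slpS_15) slpS_16) slpS_17) slpS_18) slpS_19) slpS_20) slpS_21)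 slpS_22) slpS_23) slpS_24) slpS_25)

theorem ss1 : ∀ i < 26163, (ssB T (nat_lit 26) B0 ivS S1 []) i = true :=
  all_of_blocks (d := 12) (m := 7) (by decide) (forall_lt_succ'' (forall_lt_succ'' (forall_lt_succ'' (forall_lt_succ'' (forall_lt_succ'' (forall_lt_succ'' (forall_lt_succ'' forall_lt_zero'' ss1_0) ss1_1) ss1_2) ss1_3) ss1_4) ss1_5) ss1_6)

theorem ss0_a0 : ∀ j < 40, allPow (below (nat_lit 26163) (ssB T (nat_lit 26) B0 ivS S0 [S1])) 9 (j * 2 ^ 9) = true :=
  (forall_lt_succ'' (forall_lt_succ'' (forall_lt_succ'' (forall_lt_succ'' (forall_lt_succ'' (forall_lt_succ'' (forall_lt_succ'' (forall_lt_succ'' (forall_lt_succ'' (forall_lt_succ'' (forall_lt_succ'' (forall_lt_succ'' (forall_lt_succ'' (forall_lt_succ'' (forall_lt_succ'' (forall_lt_succ'' (forall_lt_succ'' (forall_lt_succ'' (forall_lt_succ'' (forall_lt_succ'' (forall_lt_succ'' (forall_lt_succ'' (forall_lt_succ'' (forall_lt_succ'' (forall_lt_succ'' (forall_lt_succ'' (forall_lt_succ''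 (forall_lt_succ'' (forall_lt_succ'' (forall_lt_succ'' (forall_lt_succ'' (forall_lt_succ'' (forall_lt_succ'' (forall_lt_succ'' (forall_lt_succ'' (forall_lt_succ'' (forall_lt_succ'' (forall_lt_succ'' (forall_lt_succ'' (forall_lt_succ'' forall_lt_zero'' ss0_0) ss0_1) ss0_2) ss0_3) ss0_4) ss0_5) ss0_6) ss0_7) ss0_8) ss0_9) ss0_10) ss0_11) ss0_12) ss0_13) ss0_14) ss0_15) ss0_16) ss0_17) ss0_18) ss0_19) ss0_20) ss0_21) ss0_22) ss0_23) ss0_24) ss0_25) ss0_26) ss0_27) ss0_28) ss0_29) ss0_30) ss0_31) ss0_32) ss0_33) ss0_34) ss0_35) ss0_36) ss0_37) ss0_38) ss0_39)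

theorem ss0 : ∀ i < 26163, (ssB T (nat_lit 26) B0 ivS S0 [S1]) i = true :=
  all_of_blocks (d := 9) (m := 52) (by decide) (forall_lt_succ'' (forall_lt_succ'' (forall_lt_succ'' (forall_lt_succ'' (forall_lt_succ'' (forall_lt_succ'' (forall_lt_succ'' (forall_lt_succ'' (forall_lt_succ'' (forall_lt_succ'' (forall_lt_succ'' (forall_lt_succ'' ss0_a0 ss0_40) ss0_41) ss0_42) ss0_43) ss0_44) ss0_45) ss0_46) ss0_47) ss0_48) ss0_49) ss0_50) ss0_51)

theorem ssChk : SSChk T 26163 26 B0 ivS [S0, S1] :=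
  ⟨⟨by decide +kernel, SS.cnt_le_self _ (by decide +kernel)⟩, ss0, ⟨⟨by decide +kernel, SS.cnt_le_of _ cnt1⟩, ss1, trivial⟩⟩

theorem bound {G : Type*} [Group G] {A : RA G 26163} {g0 : ℕ → G} (hT : A.Tab g0 3 T)
    (hB : A.IsBase B0) (hgen : ∀ S : Subgroup G, (∀ s < 3, g0 s ∈ S) → S = ⊤) :
    Nat.card G ≤ 50232960 ∧ ∃ g : ℕ → G, A.Tab g 26 T ∧ ∀ s < 3, g s = g0 s :=
  RA.card_le_ss hT hB hgen (SW := SW) (by decide +kernel) slpS ssChk

theorem slp_a0 : ∀ j < 40, allPow (below (nat_lit 26163) (slpB T Ws (nat_lit 26))) 9 (j * 2 ^ 9) = true :=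
  (forall_lt_succ'' (forall_lt_succ'' (forall_lt_succ'' (forall_lt_succ'' (forall_lt_succ'' (forall_lt_succ'' (forall_lt_succ'' (forall_lt_succ'' (forall_lt_succ'' (forall_lt_succ'' (forall_lt_succ'' (forall_lt_succ'' (forall_lt_succ'' (forall_lt_succ'' (forall_lt_succ'' (forall_lt_succ'' (forall_lt_succ'' (forall_lt_succ'' (forall_lt_succ'' (forall_lt_succ'' (forall_lt_succ'' (forall_lt_succ'' (forall_lt_succ'' (forall_lt_succ'' (forall_lt_succ'' (forall_lt_succ'' (forall_lt_succ'' (forall_lt_succ'' (forall_lt_succ'' (forall_lt_succ'' (forall_lt_succ'' (forall_lt_succ'' (forall_lt_succ'' (forall_lt_succ'' (forall_lt_succ'' (forall_lt_succ'' (forall_lt_succ'' (forall_lt_succ'' (forall_lt_succ'' (forall_lt_succ'' forall_lt_zero'' slp_0) slp_1) slp_2) slp_3) slp_4) slp_5) slp_6) slp_7) slp_8) slp_9) slp_10) slp_11) slp_12) slp_13) slp_14) slp_15) slp_16) slp_17) slp_18) slp_19) slp_20) slp_21) slp_22) slp_23) slp_24) slp_25) slp_26)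 slp_27) slp_28) slp_29) slp_30) slp_31) slp_32) slp_33) slp_34) slp_35) slp_36) slp_37) slp_38) slp_39)

theorem slp : ∀ i < 26163, (slpB T Ws (nat_lit 26)) i = true :=
  all_of_blocks (d := 9) (m := 52) (by decide) (forall_lt_succ'' (forall_lt_succ'' (forall_lt_succ'' (forall_lt_succ'' (forall_lt_succ'' (forall_lt_succ'' (forall_lt_succ'' (forall_lt_succ'' (forall_lt_succ'' (forall_lt_succ'' (forall_lt_succ'' (forall_lt_succ'' slp_a0 slp_40) slp_41) slp_42) slp_43) slp_44) slp_45) slp_46) slp_47) slp_48) slp_49) slp_50) slp_51)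

theorem ptLa : ∀ i < 26163, (La0.toLv.ptB T (nat_lit 26163)) i = true :=
  all_of_blocks (d := 13) (m := 4) (by decide) (forall_lt_succ'' (forall_lt_succ'' (forall_lt_succ'' (forall_lt_succ'' forall_lt_zero'' ptLa_0) ptLa_1) ptLa_2) ptLa_3)

theorem chLa : ChainChk T 26163 51 ((La0 :: Las).map SLv.toLv) [] :=
  ⟨by decide +kernel, ptLa, chainChk_of (by decide +kernel)⟩

theorem scLa : ∀ i < 26163, (scanB T iv (tr T [D.ia]) La0 Las []) i = true :=
  all_of_blocks (d := 13) (m := 4) (by decide) (forall_lt_succ'' (forall_lt_succ'' (forall_lt_succ'' (forall_lt_succ'' forall_lt_zero'' scLa_0) scLa_1) scLa_2) scLa_3)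

theorem ptLb : ∀ i < 26163, (Lb0.toLv.ptB T (nat_lit 26163)) i = true :=
  all_of_blocks (d := 13) (m := 4) (by decide) (forall_lt_succ'' (forall_lt_succ'' (forall_lt_succ'' (forall_lt_succ'' forall_lt_zero'' ptLb_0) ptLb_1) ptLb_2) ptLb_3)

theorem chLb : ChainChk T 26163 51 ((Lb0 :: Lbs).map SLv.toLv) [] :=
  ⟨by decide +kernel, ptLb, chainChk_of (by decide +kernel)⟩

theorem scLb : ∀ i < 26163, (scanB T iv (tr T (List.replicate D.i D.ib)) Lb0 Lbs []) i = true :=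
  all_of_blocks (d := 13) (m := 4) (by decide) (forall_lt_succ'' (forall_lt_succ'' (forall_lt_succ'' (forall_lt_succ'' forall_lt_zero'' scLb_0) scLb_1) scLb_2) scLb_3)

theorem perm : ∀ i < 26163, (D.permB T (nat_lit 26163) piT piI) i = true :=
  all_of_blocks (d := 13) (m := 4) (by decide) (forall_lt_succ'' (forall_lt_succ'' (forall_lt_succ'' (forall_lt_succ'' forall_lt_zero'' perm_0) perm_1) perm_2) perm_3)

theorem chk : D.chk T 51 50232960 B = true := by decide +kernel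

theorem ok {G : Type*} [Group G] [Finite G] {A : RA G 26163} {g0 : ℕ → G} (hT : A.Tab g0 26 T)
    (hle : Nat.card G ≤ 50232960) : ∃ g : ℕ → G, (∀ s < 26, g s = g0 s) ∧ RA.OutOK A g 51 T B D 50232960 :=
  RA.outOK_of hT (by decide +kernel) slp (by decide +kernel) hle chLa (by decide +kernel) chLb
    (by decide +kernel) (by decide +kernel) (m := 2251782633816064) (iv := iv) (by decide +kernel) scLa
    (by decide +kernel) scLb (by decide +kernel)

theorem out {G : Type*} [Group G] [Finite G] {A : RA G 26163} {g0 : ℕ → G} (hT : A.Tab g0 26 T)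
    (hle : Nat.card G ≤ 50232960) : Nat.card (Cfsg.Out G) = 2 := by
  obtain ⟨g, -, h⟩ := ok hT hle
  exact h.out_two (by decide) chk (by decide +kernel) (RA.exists_aut_perm h.tab h.base chk h.gen perm)

open Cfsg.Spor

section
variable {F : Type*} [Field F] [CharP F 2] {ω : F} (hω : ω ^ 2 + ω + 1 = 0)

/-- three generating involutions of the triple cover -/
noncomputable def tg (s : ℕ) : threeJ3 F ω := L0.ev (j3Gen hω) (L0.nthW ws s)

theorem tg_spec : (∀ s < 3, (threeJ3Model ω).Rep (V s) (tg hω s)) ∧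
    ∀ S : Subgroup (threeJ3 F ω), (∀ s < 3, tg hω s ∈ S) → S = ⊤ :=
  (threeJ3Model ω).regen (fun _ hj => j3Gen_rep hω hj) (fun _ h => threeJ3_eq_top hω h) regen

theorem exists_ra : ∃ (A : RA (J3 F ω) 26163) (v : ℕ → threeJ3 F ω),
    A.Tab (fun s => QuotientGroup.mk (tg hω s)) 3 T ∧ A.IsBase B0 ∧
    (∀ c < 26163, (threeJ3Model ω).Rep (V c) (v c)) ∧ (∀ c < 26163, ∀ d < 26163, v c = v d → c = d) ∧
    ∀ x : threeJ3 F ω, ∀ c < 26163, v (A.act c (QuotientGroup.mk x)) = x⁻¹ * v c * x :=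
  (threeJ3Model ω).exists_ra_inv (threeJ3_code_unique hω) (tg_spec hω).1 (tg_spec hω).2
    (show (Nat.ble 3 26163 && allLt 3 fun s => Nat.beq (P18.mul (V s) (V s)) P18.one) = true by
      decide +kernel) orb

/-- all facts on the action on the involutions -/
theorem exists_ok : ∃ (A : RA (J3 F ω) 26163) (v : ℕ → threeJ3 F ω) (g : ℕ → J3 F ω),
    (∀ s < 3, g s = QuotientGroup.mk (tg hω s)) ∧ RA.OutOK A g 51 T B D 50232960 ∧ A.IsBase B0 ∧
    (∀ c < 26163, (threeJ3Model ω).Rep (V c) (v c)) ∧ (∀ c < 26163, ∀ d < 26163, v c = v d → c = d) ∧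
    ∀ x : threeJ3 F ω, ∀ c < 26163, v (A.act c (QuotientGroup.mk x)) = x⁻¹ * v c * x := by
  obtain ⟨A, v, h1, h2, h3⟩ := exists_ra hω
  haveI := h2.finite
  obtain ⟨h4, g1, h5, h6⟩ := bound h1 h2
    (gen_map (tg_spec hω).2 (QuotientGroup.mk' _) (QuotientGroup.mk'_surjective _))
  obtain ⟨g, h7, h8⟩ := ok h5 h4
  exact ⟨A, v, g, fun s hs => by rw [h7 s (by omega), h6 s hs], h8, h2, h3⟩

include hω in
theorem finite : Finite (J3 F ω) := by
  obtain ⟨A, v, h1, h2, h3⟩ := exists_ra hω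
  exact h2.finite

include hω in
theorem card_out : Nat.card (Cfsg.Out (J3 F ω)) = 2 := by
  obtain ⟨A, v, g, -, h, -⟩ := exists_ok hω
  haveI := finite hω
  exact h.out_two (by decide) chk (by decide +kernel) (RA.exists_aut_perm h.tab h.base chk h.gen perm)

theorem pub : ∃ (A : L0.RAct (J3 F ω) 26163) (g : ℕ → J3 F ω),
    (∀ s < 3, g s = QuotientGroup.mk (tg hω s)) ∧ A.Tab g 51 T ∧ A.IsBase B ∧
    Nat.card (J3 F ω) = 50232960 ∧ Subgroup.closure {g D.ia, g D.ib, g D.it} = ⊤ := by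
  obtain ⟨A, v, g, h0, h, -⟩ := exists_ok hω
  exact ⟨_, g, h0, h.pub⟩

end


end Cfsg.Agent.H9.OutJ3
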