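import Cfsg.Agent.H9.OutJ3D

/-! The outer automorphism group of J3. Checks. -/

set_option autoImplicit false
set_option maxRecDepth 100000

namespace Cfsg.Agent.H9.OutJ3

theorem orb_0 : allPow (below (nat_lit 26163) (orbB (conjStep P18.mul V) V T par ord (nat_lit 26163) (nat_lit 3) (nat_lit 3))) 10 (0 * 2 ^ 10) = true := by decide +kernel

theorem orb_1 : allPow (below (nat_lit 26163) (orbB (conjStep P18.mul V) V T par ord (nat_lit 26163) (nat_lit 3) (nat_lit 3))) 10 (1 * 2 ^ 10) = true := by decide +kernel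

theorem orb_2 : allPow (below (nat_lit 26163) (orbB (conjStep P18.mul V) V T par ord (nat_lit 26163) (nat_lit 3) (nat_lit 3))) 10 (2 * 2 ^ 10) = true := by decide +kernel

theorem orb_3 : allPow (below (nat_lit 26163) (orbB (conjStep P18.mul V) V T par ord (nat_lit 26163) (nat_lit 3) (nat_lit 3))) 10 (3 * 2 ^ 10) = true := by decide +kernel

theorem orb_4 : allPow (below (nat_lit 26163) (orbB (conjStep P18.mul V) V T par ord (nat_lit 26163) (nat_lit 3) (nat_lit 3))) 10 (4 * 2 ^ 10) = true := by decide +kernel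

theorem orb_5 : allPow (below (nat_lit 26163) (orbB (conjStep P18.mul V) V T par ord (nat_lit 26163) (nat_lit 3) (nat_lit 3))) 10 (5 * 2 ^ 10) = true := by decide +kernel

theorem orb_6 : allPow (below (nat_lit 26163) (orbB (conjStep P18.mul V) V T par ord (nat_lit 26163) (nat_lit 3) (nat_lit 3))) 10 (6 * 2 ^ 10) = true := by decide +kernel

theorem orb_7 : allPow (below (nat_lit 26163) (orbB (conjStep P18.mul V) V T par ord (nat_lit 26163) (nat_lit 3) (nat_lit 3))) 10 (7 * 2 ^ 10) = true := by decide +kernel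

theorem orb_8 : allPow (below (nat_lit 26163) (orbB (conjStep P18.mul V) V T par ord (nat_lit 26163) (nat_lit 3) (nat_lit 3))) 10 (8 * 2 ^ 10) = true := by decide +kernel

theorem orb_9 : allPow (below (nat_lit 26163) (orbB (conjStep P18.mul V) V T par ord (nat_lit 26163) (nat_lit 3) (nat_lit 3))) 10 (9 * 2 ^ 10) = true := by decide +kernel

theorem orb_10 : allPow (below (nat_lit 26163) (orbB (conjStep P18.mul V) V T par ord (nat_lit 26163) (nat_lit 3) (nat_lit 3))) 10 (10 * 2 ^ 10) = true := by decide +kernel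

theorem orb_11 : allPow (below (nat_lit 26163) (orbB (conjStep P18.mul V) V T par ord (nat_lit 26163) (nat_lit 3) (nat_lit 3))) 10 (11 * 2 ^ 10) = true := by decide +kernel

theorem orb_12 : allPow (below (nat_lit 26163) (orbB (conjStep P18.mul V) V T par ord (nat_lit 26163) (nat_lit 3) (nat_lit 3))) 10 (12 * 2 ^ 10) = true := by decide +kernel

theorem orb_13 : allPow (below (nat_lit 26163) (orbB (conjStep P18.mul V) V T par ord (nat_lit 26163) (nat_lit 3) (nat_lit 3))) 10 (13 * 2 ^ 10) = true := by decide +kernel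

theorem orb_14 : allPow (below (nat_lit 26163) (orbB (conjStep P18.mul V) V T par ord (nat_lit 26163) (nat_lit 3) (nat_lit 3))) 10 (14 * 2 ^ 10) = true := by decide +kernel

theorem orb_15 : allPow (below (nat_lit 26163) (orbB (conjStep P18.mul V) V T par ord (nat_lit 26163) (nat_lit 3) (nat_lit 3))) 10 (15 * 2 ^ 10) = true := by decide +kernel

theorem orb_16 : allPow (below (nat_lit 26163) (orbB (conjStep P18.mul V) V T par ord (nat_lit 26163) (nat_lit 3) (nat_lit 3))) 10 (16 * 2 ^ 10) = true := by decide +kernel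

theorem orb_17 : allPow (below (nat_lit 26163) (orbB (conjStep P18.mul V) V T par ord (nat_lit 26163) (nat_lit 3) (nat_lit 3))) 10 (17 * 2 ^ 10) = true := by decide +kernel

theorem orb_18 : allPow (below (nat_lit 26163) (orbB (conjStep P18.mul V) V T par ord (nat_lit 26163) (nat_lit 3) (nat_lit 3))) 10 (18 * 2 ^ 10) = true := by decide +kernel

theorem orb_19 : allPow (below (nat_lit 26163) (orbB (conjStep P18.mul V) V T par ord (nat_lit 26163) (nat_lit 3) (nat_lit 3))) 10 (19 * 2 ^ 10) = true := by decide +kernel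

theorem orb_20 : allPow (below (nat_lit 26163) (orbB (conjStep P18.mul V) V T par ord (nat_lit 26163) (nat_lit 3) (nat_lit 3))) 10 (20 * 2 ^ 10) = true := by decide +kernel

theorem orb_21 : allPow (below (nat_lit 26163) (orbB (conjStep P18.mul V) V T par ord (nat_lit 26163) (nat_lit 3) (nat_lit 3))) 10 (21 * 2 ^ 10) = true := by decide +kernel

theorem orb_22 : allPow (below (nat_lit 26163) (orbB (conjStep P18.mul V) V T par ord (nat_lit 26163) (nat_lit 3) (nat_lit 3))) 10 (22 * 2 ^ 10) = true := by decide +kernel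

theorem orb_23 : allPow (below (nat_lit 26163) (orbB (conjStep P18.mul V) V T par ord (nat_lit 26163) (nat_lit 3) (nat_lit 3))) 10 (23 * 2 ^ 10) = true := by decide +kernel

theorem orb_24 : allPow (below (nat_lit 26163) (orbB (conjStep P18.mul V) V T par ord (nat_lit 26163) (nat_lit 3) (nat_lit 3))) 10 (24 * 2 ^ 10) = true := by decide +kernel

theorem orb_25 : allPow (below (nat_lit 26163) (orbB (conjStep P18.mul V) V T par ord (nat_lit 26163) (nat_lit 3) (nat_lit 3))) 10 (25 * 2 ^ 10) = true := by decide +kernel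

theorem slpS_0 : allPow (below (nat_lit 26163) (slp2B T SW (nat_lit 3))) 10 (0 * 2 ^ 10) = true := by decide +kernel

theorem slpS_1 : allPow (below (nat_lit 26163) (slp2B T SW (nat_lit 3))) 10 (1 * 2 ^ 10) = true := by decide +kernel

theorem slpS_2 : allPow (below (nat_lit 26163) (slp2B T SW (nat_lit 3))) 10 (2 * 2 ^ 10) = true := by decide +kernel

theorem slpS_3 : allPow (below (nat_lit 26163) (slp2B T SW (nat_lit 3))) 10 (3 * 2 ^ 10) = true := by decide +kernel

theorem slpS_4 : allPow (below (nat_lit 26163) (slp2B T SW (nat_lit 3))) 10 (4 * 2 ^ 10) = true := by decide +kernel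

theorem slpS_5 : allPow (below (nat_lit 26163) (slp2B T SW (nat_lit 3))) 10 (5 * 2 ^ 10) = true := by decide +kernel

theorem slpS_6 : allPow (below (nat_lit 26163) (slp2B T SW (nat_lit 3))) 10 (6 * 2 ^ 10) = true := by decide +kernel

theorem slpS_7 : allPow (below (nat_lit 26163) (slp2B T SW (nat_lit 3))) 10 (7 * 2 ^ 10) = true := by decide +kernel

theorem slpS_8 : allPow (below (nat_lit 26163) (slp2B T SW (nat_lit 3))) 10 (8 * 2 ^ 10) = true := by decide +kernel

theorem slpS_9 : allPow (below (nat_lit 26163) (slp2B T SW (nat_lit 3))) 10 (9 * 2 ^ 10) = true := by decide +kernel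

theorem slpS_10 : allPow (below (nat_lit 26163) (slp2B T SW (nat_lit 3))) 10 (10 * 2 ^ 10) = true := by decide +kernel

theorem slpS_11 : allPow (below (nat_lit 26163) (slp2B T SW (nat_lit 3))) 10 (11 * 2 ^ 10) = true := by decide +kernel

theorem slpS_12 : allPow (below (nat_lit 26163) (slp2B T SW (nat_lit 3))) 10 (12 * 2 ^ 10) = true := by decide +kernel

theorem slpS_13 : allPow (below (nat_lit 26163) (slp2B T SW (nat_lit 3))) 10 (13 * 2 ^ 10) = true := by decide +kernel

theorem slpS_14 : allPow (below (nat_lit 26163) (slp2B T SW (nat_lit 3))) 10 (14 * 2 ^ 10) = true := by decide +kernel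

theorem slpS_15 : allPow (below (nat_lit 26163) (slp2B T SW (nat_lit 3))) 10 (15 * 2 ^ 10) = true := by decide +kernel

theorem slpS_16 : allPow (below (nat_lit 26163) (slp2B T SW (nat_lit 3))) 10 (16 * 2 ^ 10) = true := by decide +kernel

theorem slpS_17 : allPow (below (nat_lit 26163) (slp2B T SW (nat_lit 3))) 10 (17 * 2 ^ 10) = true := by decide +kernel

theorem slpS_18 : allPow (below (nat_lit 26163) (slp2B T SW (nat_lit 3))) 10 (18 * 2 ^ 10) = true := by decide +kernel

theorem slpS_19 : allPow (below (nat_lit 26163) (slp2B T SW (nat_lit 3))) 10 (19 * 2 ^ 10) = true := by decide +kernel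

end Cfsg.Agent.H9.OutJ3
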