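import Cfsg.Agent.H9.J3Model
import Cfsg.Agent.H9.ModelRA2
import Cfsg.Agent.H9.OutJ3L0
import Cfsg.Agent.H9.OutJ3L1
import Cfsg.Agent.H9.OutJ3L2
import Cfsg.Agent.H9.OutJ3L3
import Cfsg.Agent.H9.OutJ3L4
import Cfsg.Agent.H9.OutJ3L5

/-! The outer automorphism group of J3. Data. -/

set_option autoImplicit false
set_option maxRecDepth 100000

namespace Cfsg.Agent.H9.OutJ3

noncomputable def TB : L0.BT := (.node (.node (.node (.node (.node (.node (.node (.node (.node (.node (.node (.leaf TB_0) (.leaf TB_1024)) (.node (.leaf TB_512) (.leaf TB_1536))) (.node (.node (.leaf TB_256) (.leaf TB_1280)) (.leaf TB_768))) (.node (.node (.node (.leaf TB_128) (.leaf TB_1152)) (.leaf TB_640)) (.node (.node (.leaf TB_384) (.leaf TB_1408)) (.leaf TB_896)))) (.node (.node (.node (.node (.leaf TB_64) (.leaf TB_1088)) (.node (.leaf TB_576) (.leaf TB_1600))) (.node (.node (.leaf TB_320) (.leaf TB_1344)) (.leaf TB_832)))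 (.node (.node (.node (.leaf TB_192) (.leaf TB_1216)) (.leaf TB_704)) (.node (.node (.leaf TB_448) (.leaf TB_1472)) (.leaf TB_960))))) (.node (.node (.node (.node (.node (.leaf TB_32) (.leaf TB_1056)) (.node (.leaf TB_544) (.leaf TB_1568))) (.node (.node (.leaf TB_288) (.leaf TB_1312)) (.leaf TB_800))) (.node (.node (.node (.leaf TB_160) (.leaf TB_1184)) (.leaf TB_672)) (.node (.node (.leaf TB_416) (.leaf TB_1440)) (.leaf TB_928)))) (.node (.node (.node (.node (.leaf TB_96) (.leaf TB_1120)) (.leaf TB_608)) (.node (.node (.leaf TB_352) (.leaf TB_1376)) (.leaf TB_864))) (.node (.node (.node (.leaf TB_224) (.leaf TB_1248)) (.leaf TB_736)) (.node (.node (.leaf TB_480) (.leaf TB_1504)) (.leaf TB_992)))))) (.node (.node (.node (.node (.node (.node (.leaf TB_16) (.leaf TB_1040)) (.node (.leaf TB_528) (.leaf TB_1552))) (.node (.node (.leaf TB_272) (.leaf TB_1296)) (.leaf TB_784))) (.node (.node (.node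 (.leaf TB_144) (.leaf TB_1168)) (.leaf TB_656)) (.node (.node (.leaf TB_400) (.leaf TB_1424)) (.leaf TB_912)))) (.node (.node (.node (.node (.leaf TB_80) (.leaf TB_1104)) (.node (.leaf TB_592) (.leaf TB_1616))) (.node (.node (.leaf TB_336) (.leaf TB_1360)) (.leaf TB_848))) (.node (.node (.node (.leaf TB_208) (.leaf TB_1232)) (.leaf TB_720)) (.node (.node (.leaf TB_464) (.leaf TB_1488)) (.leaf TB_976))))) (.node (.node (.node (.node (.node (.leaf TB_48) (.leaf TB_1072)) (.node (.leaf TB_560) (.leaf TB_1584))) (.node (.node (.leaf TB_304) (.leaf TB_1328)) (.leaf TB_816))) (.node (.node (.node (.leaf TB_176) (.leaf TB_1200)) (.leaf TB_688)) (.node (.node (.leaf TB_432) (.leaf TB_1456)) (.leaf TB_944)))) (.node (.node (.node (.node (.leaf TB_112) (.leaf TB_1136)) (.leaf TB_624)) (.node (.node (.leaf TB_368) (.leaf TB_1392)) (.leaf TB_880))) (.node (.node (.node (.leaf TB_240) (.leaf TB_1264)) (.leaf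 TB_752)) (.node (.node (.leaf TB_496) (.leaf TB_1520)) (.leaf TB_1008))))))) (.node (.node (.node (.node (.node (.node (.node (.leaf TB_8) (.leaf TB_1032)) (.node (.leaf TB_520) (.leaf TB_1544))) (.node (.node (.leaf TB_264) (.leaf TB_1288)) (.leaf TB_776))) (.node (.node (.node (.leaf TB_136) (.leaf TB_1160)) (.leaf TB_648)) (.node (.node (.leaf TB_392) (.leaf TB_1416)) (.leaf TB_904)))) (.node (.node (.node (.node (.leaf TB_72) (.leaf TB_1096)) (.node (.leaf TB_584) (.leaf TB_1608))) (.node (.node (.leaf TB_328) (.leaf TB_1352)) (.leaf TB_840))) (.node (.node (.node (.leaf TB_200) (.leaf TB_1224)) (.leaf TB_712)) (.node (.node (.leaf TB_456) (.leaf TB_1480)) (.leaf TB_968))))) (.node (.node (.node (.node (.node (.leaf TB_40) (.leaf TB_1064)) (.node (.leaf TB_552) (.leaf TB_1576))) (.node (.node (.leaf TB_296) (.leaf TB_1320)) (.leaf TB_808))) (.node (.node (.node (.leaf TB_168) (.leaf TB_1192))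 (.leaf TB_680)) (.node (.node (.leaf TB_424) (.leaf TB_1448)) (.leaf TB_936)))) (.node (.node (.node (.node (.leaf TB_104) (.leaf TB_1128)) (.leaf TB_616)) (.node (.node (.leaf TB_360) (.leaf TB_1384)) (.leaf TB_872))) (.node (.node (.node (.leaf TB_232) (.leaf TB_1256)) (.leaf TB_744)) (.node (.node (.leaf TB_488) (.leaf TB_1512)) (.leaf TB_1000)))))) (.node (.node (.node (.node (.node (.node (.leaf TB_24) (.leaf TB_1048)) (.node (.leaf TB_536) (.leaf TB_1560))) (.node (.node (.leaf TB_280) (.leaf TB_1304)) (.leaf TB_792))) (.node (.node (.node (.leaf TB_152) (.leaf TB_1176)) (.leaf TB_664)) (.node (.node (.leaf TB_408) (.leaf TB_1432)) (.leaf TB_920)))) (.node (.node (.node (.node (.leaf TB_88) (.leaf TB_1112)) (.node (.leaf TB_600) (.leaf TB_1624))) (.node (.node (.leaf TB_344) (.leaf TB_1368)) (.leaf TB_856))) (.node (.node (.node (.leaf TB_216) (.leaf TB_1240)) (.leaf TB_728)) (.node (.node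 (.leaf TB_472) (.leaf TB_1496)) (.leaf TB_984))))) (.node (.node (.node (.node (.node (.leaf TB_56) (.leaf TB_1080)) (.node (.leaf TB_568) (.leaf TB_1592))) (.node (.node (.leaf TB_312) (.leaf TB_1336)) (.leaf TB_824))) (.node (.node (.node (.leaf TB_184) (.leaf TB_1208)) (.leaf TB_696)) (.node (.node (.leaf TB_440) (.leaf TB_1464)) (.leaf TB_952)))) (.node (.node (.node (.node (.leaf TB_120) (.leaf TB_1144)) (.leaf TB_632)) (.node (.node (.leaf TB_376) (.leaf TB_1400)) (.leaf TB_888))) (.node (.node (.node (.leaf TB_248) (.leaf TB_1272)) (.leaf TB_760)) (.node (.node (.leaf TB_504) (.leaf TB_1528)) (.leaf TB_1016)))))))) (.node (.node (.node (.node (.node (.node (.node (.node (.leaf TB_4) (.leaf TB_1028)) (.node (.leaf TB_516) (.leaf TB_1540))) (.node (.node (.leaf TB_260) (.leaf TB_1284)) (.leaf TB_772))) (.node (.node (.node (.leaf TB_132) (.leaf TB_1156)) (.leaf TB_644)) (.node (.node (.leaf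 TB_388) (.leaf TB_1412)) (.leaf TB_900)))) (.node (.node (.node (.node (.leaf TB_68) (.leaf TB_1092)) (.node (.leaf TB_580) (.leaf TB_1604))) (.node (.node (.leaf TB_324) (.leaf TB_1348)) (.leaf TB_836))) (.node (.node (.node (.leaf TB_196) (.leaf TB_1220)) (.leaf TB_708)) (.node (.node (.leaf TB_452) (.leaf TB_1476)) (.leaf TB_964))))) (.node (.node (.node (.node (.node (.leaf TB_36) (.leaf TB_1060)) (.node (.leaf TB_548) (.leaf TB_1572))) (.node (.node (.leaf TB_292) (.leaf TB_1316)) (.leaf TB_804))) (.node (.node (.node (.leaf TB_164) (.leaf TB_1188)) (.leaf TB_676)) (.node (.node (.leaf TB_420) (.leaf TB_1444)) (.leaf TB_932)))) (.node (.node (.node (.node (.leaf TB_100) (.leaf TB_1124)) (.leaf TB_612)) (.node (.node (.leaf TB_356) (.leaf TB_1380)) (.leaf TB_868))) (.node (.node (.node (.leaf TB_228) (.leaf TB_1252)) (.leaf TB_740)) (.node (.node (.leaf TB_484) (.leaf TB_1508)) (.leaf TB_996))))))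 (.node (.node (.node (.node (.node (.node (.leaf TB_20) (.leaf TB_1044)) (.node (.leaf TB_532) (.leaf TB_1556))) (.node (.node (.leaf TB_276) (.leaf TB_1300)) (.leaf TB_788))) (.node (.node (.node (.leaf TB_148) (.leaf TB_1172)) (.leaf TB_660)) (.node (.node (.leaf TB_404) (.leaf TB_1428)) (.leaf TB_916)))) (.node (.node (.node (.node (.leaf TB_84) (.leaf TB_1108)) (.node (.leaf TB_596) (.leaf TB_1620))) (.node (.node (.leaf TB_340) (.leaf TB_1364)) (.leaf TB_852))) (.node (.node (.node (.leaf TB_212) (.leaf TB_1236)) (.leaf TB_724)) (.node (.node (.leaf TB_468) (.leaf TB_1492)) (.leaf TB_980))))) (.node (.node (.node (.node (.node (.leaf TB_52) (.leaf TB_1076)) (.node (.leaf TB_564) (.leaf TB_1588))) (.node (.node (.leaf TB_308) (.leaf TB_1332)) (.leaf TB_820))) (.node (.node (.node (.leaf TB_180) (.leaf TB_1204)) (.leaf TB_692)) (.node (.node (.leaf TB_436) (.leaf TB_1460)) (.leaf TB_948))))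 (.node (.node (.node (.node (.leaf TB_116) (.leaf TB_1140)) (.leaf TB_628)) (.node (.node (.leaf TB_372) (.leaf TB_1396)) (.leaf TB_884))) (.node (.node (.node (.leaf TB_244) (.leaf TB_1268)) (.leaf TB_756)) (.node (.node (.leaf TB_500) (.leaf TB_1524)) (.leaf TB_1012))))))) (.node (.node (.node (.node (.node (.node (.node (.leaf TB_12) (.leaf TB_1036)) (.node (.leaf TB_524) (.leaf TB_1548))) (.node (.node (.leaf TB_268) (.leaf TB_1292)) (.leaf TB_780))) (.node (.node (.node (.leaf TB_140) (.leaf TB_1164)) (.leaf TB_652)) (.node (.node (.leaf TB_396) (.leaf TB_1420)) (.leaf TB_908)))) (.node (.node (.node (.node (.leaf TB_76) (.leaf TB_1100)) (.node (.leaf TB_588) (.leaf TB_1612))) (.node (.node (.leaf TB_332) (.leaf TB_1356)) (.leaf TB_844))) (.node (.node (.node (.leaf TB_204) (.leaf TB_1228)) (.leaf TB_716)) (.node (.node (.leaf TB_460) (.leaf TB_1484)) (.leaf TB_972))))) (.node (.node (.node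 (.node (.node (.leaf TB_44) (.leaf TB_1068)) (.node (.leaf TB_556) (.leaf TB_1580))) (.node (.node (.leaf TB_300) (.leaf TB_1324)) (.leaf TB_812))) (.node (.node (.node (.leaf TB_172) (.leaf TB_1196)) (.leaf TB_684)) (.node (.node (.leaf TB_428) (.leaf TB_1452)) (.leaf TB_940)))) (.node (.node (.node (.node (.leaf TB_108) (.leaf TB_1132)) (.leaf TB_620)) (.node (.node (.leaf TB_364) (.leaf TB_1388)) (.leaf TB_876))) (.node (.node (.node (.leaf TB_236) (.leaf TB_1260)) (.leaf TB_748)) (.node (.node (.leaf TB_492) (.leaf TB_1516)) (.leaf TB_1004)))))) (.node (.node (.node (.node (.node (.node (.leaf (nat_lit 0)) (.leaf (nat_lit 0))) (.node (.leaf (nat_lit 0)) (.leaf (nat_lit 0)))) (.node (.node (.leaf (nat_lit 0)) (.leaf (nat_lit 0))) (.leaf (nat_lit 0)))) (.node (.node (.node (.leaf (nat_lit 0)) (.leaf (nat_lit 0))) (.leaf (nat_lit 0))) (.node (.node (.leaf (nat_lit 0)) (.leaf (nat_lit 0)))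 (.leaf (nat_lit 0))))) (.node (.node (.node (.node (.leaf (nat_lit 0)) (.leaf (nat_lit 0))) (.node (.leaf (nat_lit 0)) (.leaf (nat_lit 0)))) (.node (.node (.leaf (nat_lit 0)) (.leaf (nat_lit 0))) (.leaf (nat_lit 0)))) (.node (.node (.node (.leaf (nat_lit 0)) (.leaf (nat_lit 0))) (.leaf (nat_lit 0))) (.node (.node (.leaf (nat_lit 0)) (.leaf (nat_lit 0))) (.leaf (nat_lit 0)))))) (.node (.node (.node (.node (.node (.leaf (nat_lit 0)) (.leaf (nat_lit 0))) (.node (.leaf (nat_lit 0)) (.leaf (nat_lit 0)))) (.node (.node (.leaf (nat_lit 0)) (.leaf (nat_lit 0))) (.leaf (nat_lit 0)))) (.node (.node (.node (.leaf (nat_lit 0)) (.leaf (nat_lit 0))) (.leaf (nat_lit 0))) (.node (.node (.leaf (nat_lit 0)) (.leaf (nat_lit 0))) (.leaf (nat_lit 0))))) (.node (.node (.node (.node (.leaf (nat_lit 0)) (.leaf (nat_lit 0))) (.leaf (nat_lit 0))) (.node (.node (.leaf (nat_lit 0)) (.leaf (nat_lit 0))) (.leaf (nat_lit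 0)))) (.node (.node (.node (.leaf (nat_lit 0)) (.leaf (nat_lit 0))) (.leaf (nat_lit 0))) (.node (.node (.leaf (nat_lit 0)) (.leaf (nat_lit 0))) (.leaf (nat_lit 0)))))))))) (.node (.node (.node (.node (.node (.node (.node (.node (.node (.leaf TB_2) (.leaf TB_1026)) (.node (.leaf TB_514) (.leaf TB_1538))) (.node (.node (.leaf TB_258) (.leaf TB_1282)) (.leaf TB_770))) (.node (.node (.node (.leaf TB_130) (.leaf TB_1154)) (.leaf TB_642)) (.node (.node (.leaf TB_386) (.leaf TB_1410)) (.leaf TB_898)))) (.node (.node (.node (.node (.leaf TB_66) (.leaf TB_1090)) (.node (.leaf TB_578) (.leaf TB_1602))) (.node (.node (.leaf TB_322) (.leaf TB_1346)) (.leaf TB_834))) (.node (.node (.node (.leaf TB_194) (.leaf TB_1218)) (.leaf TB_706)) (.node (.node (.leaf TB_450) (.leaf TB_1474)) (.leaf TB_962))))) (.node (.node (.node (.node (.node (.leaf TB_34) (.leaf TB_1058)) (.node (.leaf TB_546) (.leaf TB_1570)))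 (.node (.node (.leaf TB_290) (.leaf TB_1314)) (.leaf TB_802))) (.node (.node (.node (.leaf TB_162) (.leaf TB_1186)) (.leaf TB_674)) (.node (.node (.leaf TB_418) (.leaf TB_1442)) (.leaf TB_930)))) (.node (.node (.node (.node (.leaf TB_98) (.leaf TB_1122)) (.leaf TB_610)) (.node (.node (.leaf TB_354) (.leaf TB_1378)) (.leaf TB_866))) (.node (.node (.node (.leaf TB_226) (.leaf TB_1250)) (.leaf TB_738)) (.node (.node (.leaf TB_482) (.leaf TB_1506)) (.leaf TB_994)))))) (.node (.node (.node (.node (.node (.node (.leaf TB_18) (.leaf TB_1042)) (.node (.leaf TB_530) (.leaf TB_1554))) (.node (.node (.leaf TB_274) (.leaf TB_1298)) (.leaf TB_786))) (.node (.node (.node (.leaf TB_146) (.leaf TB_1170)) (.leaf TB_658)) (.node (.node (.leaf TB_402) (.leaf TB_1426)) (.leaf TB_914)))) (.node (.node (.node (.node (.leaf TB_82) (.leaf TB_1106)) (.node (.leaf TB_594) (.leaf TB_1618))) (.node (.node (.leaf TB_338)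 (.leaf TB_1362)) (.leaf TB_850))) (.node (.node (.node (.leaf TB_210) (.leaf TB_1234)) (.leaf TB_722)) (.node (.node (.leaf TB_466) (.leaf TB_1490)) (.leaf TB_978))))) (.node (.node (.node (.node (.node (.leaf TB_50) (.leaf TB_1074)) (.node (.leaf TB_562) (.leaf TB_1586))) (.node (.node (.leaf TB_306) (.leaf TB_1330)) (.leaf TB_818))) (.node (.node (.node (.leaf TB_178) (.leaf TB_1202)) (.leaf TB_690)) (.node (.node (.leaf TB_434) (.leaf TB_1458)) (.leaf TB_946)))) (.node (.node (.node (.node (.leaf TB_114) (.leaf TB_1138)) (.leaf TB_626)) (.node (.node (.leaf TB_370) (.leaf TB_1394)) (.leaf TB_882))) (.node (.node (.node (.leaf TB_242) (.leaf TB_1266)) (.leaf TB_754)) (.node (.node (.leaf TB_498) (.leaf TB_1522)) (.leaf TB_1010))))))) (.node (.node (.node (.node (.node (.node (.node (.leaf TB_10) (.leaf TB_1034)) (.node (.leaf TB_522) (.leaf TB_1546))) (.node (.node (.leaf TB_266) (.leaf TB_1290))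 (.leaf TB_778))) (.node (.node (.node (.leaf TB_138) (.leaf TB_1162)) (.leaf TB_650)) (.node (.node (.leaf TB_394) (.leaf TB_1418)) (.leaf TB_906)))) (.node (.node (.node (.node (.leaf TB_74) (.leaf TB_1098)) (.node (.leaf TB_586) (.leaf TB_1610))) (.node (.node (.leaf TB_330) (.leaf TB_1354)) (.leaf TB_842))) (.node (.node (.node (.leaf TB_202) (.leaf TB_1226)) (.leaf TB_714)) (.node (.node (.leaf TB_458) (.leaf TB_1482)) (.leaf TB_970))))) (.node (.node (.node (.node (.node (.leaf TB_42) (.leaf TB_1066)) (.node (.leaf TB_554) (.leaf TB_1578))) (.node (.node (.leaf TB_298) (.leaf TB_1322)) (.leaf TB_810))) (.node (.node (.node (.leaf TB_170) (.leaf TB_1194)) (.leaf TB_682)) (.node (.node (.leaf TB_426) (.leaf TB_1450)) (.leaf TB_938)))) (.node (.node (.node (.node (.leaf TB_106) (.leaf TB_1130)) (.leaf TB_618)) (.node (.node (.leaf TB_362) (.leaf TB_1386)) (.leaf TB_874))) (.node (.node (.node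 (.leaf TB_234) (.leaf TB_1258)) (.leaf TB_746)) (.node (.node (.leaf TB_490) (.leaf TB_1514)) (.leaf TB_1002)))))) (.node (.node (.node (.node (.node (.node (.leaf (nat_lit 0)) (.leaf (nat_lit 0))) (.node (.leaf (nat_lit 0)) (.leaf (nat_lit 0)))) (.node (.node (.leaf (nat_lit 0)) (.leaf (nat_lit 0))) (.leaf (nat_lit 0)))) (.node (.node (.node (.leaf (nat_lit 0)) (.leaf (nat_lit 0))) (.leaf (nat_lit 0))) (.node (.node (.leaf (nat_lit 0)) (.leaf (nat_lit 0))) (.leaf (nat_lit 0))))) (.node (.node (.node (.node (.leaf (nat_lit 0)) (.leaf (nat_lit 0))) (.node (.leaf (nat_lit 0)) (.leaf (nat_lit 0)))) (.node (.node (.leaf (nat_lit 0)) (.leaf (nat_lit 0))) (.leaf (nat_lit 0)))) (.node (.node (.node (.leaf (nat_lit 0)) (.leaf (nat_lit 0))) (.leaf (nat_lit 0))) (.node (.node (.leaf (nat_lit 0)) (.leaf (nat_lit 0))) (.leaf (nat_lit 0)))))) (.node (.node (.node (.node (.node (.leaf (nat_lit 0)) (.leaf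 (nat_lit 0))) (.node (.leaf (nat_lit 0)) (.leaf (nat_lit 0)))) (.node (.node (.leaf (nat_lit 0)) (.leaf (nat_lit 0))) (.leaf (nat_lit 0)))) (.node (.node (.node (.leaf (nat_lit 0)) (.leaf (nat_lit 0))) (.leaf (nat_lit 0))) (.node (.node (.leaf (nat_lit 0)) (.leaf (nat_lit 0))) (.leaf (nat_lit 0))))) (.node (.node (.node (.node (.leaf (nat_lit 0)) (.leaf (nat_lit 0))) (.leaf (nat_lit 0))) (.node (.node (.leaf (nat_lit 0)) (.leaf (nat_lit 0))) (.leaf (nat_lit 0)))) (.node (.node (.node (.leaf (nat_lit 0)) (.leaf (nat_lit 0))) (.leaf (nat_lit 0))) (.node (.node (.leaf (nat_lit 0)) (.leaf (nat_lit 0))) (.leaf (nat_lit 0))))))))) (.node (.node (.node (.node (.node (.node (.node (.node (.leaf TB_6) (.leaf TB_1030)) (.node (.leaf TB_518) (.leaf TB_1542))) (.node (.node (.leaf TB_262) (.leaf TB_1286)) (.leaf TB_774))) (.node (.node (.node (.leaf TB_134) (.leaf TB_1158)) (.leaf TB_646)) (.node (.node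 (.leaf TB_390) (.leaf TB_1414)) (.leaf TB_902)))) (.node (.node (.node (.node (.leaf TB_70) (.leaf TB_1094)) (.node (.leaf TB_582) (.leaf TB_1606))) (.node (.node (.leaf TB_326) (.leaf TB_1350)) (.leaf TB_838))) (.node (.node (.node (.leaf TB_198) (.leaf TB_1222)) (.leaf TB_710)) (.node (.node (.leaf TB_454) (.leaf TB_1478)) (.leaf TB_966))))) (.node (.node (.node (.node (.node (.leaf TB_38) (.leaf TB_1062)) (.node (.leaf TB_550) (.leaf TB_1574))) (.node (.node (.leaf TB_294) (.leaf TB_1318)) (.leaf TB_806))) (.node (.node (.node (.leaf TB_166) (.leaf TB_1190)) (.leaf TB_678)) (.node (.node (.leaf TB_422) (.leaf TB_1446)) (.leaf TB_934)))) (.node (.node (.node (.node (.leaf TB_102) (.leaf TB_1126)) (.leaf TB_614)) (.node (.node (.leaf TB_358) (.leaf TB_1382)) (.leaf TB_870))) (.node (.node (.node (.leaf TB_230) (.leaf TB_1254)) (.leaf TB_742)) (.node (.node (.leaf TB_486) (.leaf TB_1510)) (.leaf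 TB_998)))))) (.node (.node (.node (.node (.node (.node (.leaf TB_22) (.leaf TB_1046)) (.node (.leaf TB_534) (.leaf TB_1558))) (.node (.node (.leaf TB_278) (.leaf TB_1302)) (.leaf TB_790))) (.node (.node (.node (.leaf TB_150) (.leaf TB_1174)) (.leaf TB_662)) (.node (.node (.leaf TB_406) (.leaf TB_1430)) (.leaf TB_918)))) (.node (.node (.node (.node (.leaf TB_86) (.leaf TB_1110)) (.node (.leaf TB_598) (.leaf TB_1622))) (.node (.node (.leaf TB_342) (.leaf TB_1366)) (.leaf TB_854))) (.node (.node (.node (.leaf TB_214) (.leaf TB_1238)) (.leaf TB_726)) (.node (.node (.leaf TB_470) (.leaf TB_1494)) (.leaf TB_982))))) (.node (.node (.node (.node (.node (.leaf TB_54) (.leaf TB_1078)) (.node (.leaf TB_566) (.leaf TB_1590))) (.node (.node (.leaf TB_310) (.leaf TB_1334)) (.leaf TB_822))) (.node (.node (.node (.leaf TB_182) (.leaf TB_1206)) (.leaf TB_694)) (.node (.node (.leaf TB_438) (.leaf TB_1462)) (.leaf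 TB_950)))) (.node (.node (.node (.node (.leaf TB_118) (.leaf TB_1142)) (.leaf TB_630)) (.node (.node (.leaf TB_374) (.leaf TB_1398)) (.leaf TB_886))) (.node (.node (.node (.leaf TB_246) (.leaf TB_1270)) (.leaf TB_758)) (.node (.node (.leaf TB_502) (.leaf TB_1526)) (.leaf TB_1014))))))) (.node (.node (.node (.node (.node (.node (.node (.leaf TB_14) (.leaf TB_1038)) (.node (.leaf TB_526) (.leaf TB_1550))) (.node (.node (.leaf TB_270) (.leaf TB_1294)) (.leaf TB_782))) (.node (.node (.node (.leaf TB_142) (.leaf TB_1166)) (.leaf TB_654)) (.node (.node (.leaf TB_398) (.leaf TB_1422)) (.leaf TB_910)))) (.node (.node (.node (.node (.leaf TB_78) (.leaf TB_1102)) (.node (.leaf TB_590) (.leaf TB_1614))) (.node (.node (.leaf TB_334) (.leaf TB_1358)) (.leaf TB_846))) (.node (.node (.node (.leaf TB_206) (.leaf TB_1230)) (.leaf TB_718)) (.node (.node (.leaf TB_462) (.leaf TB_1486)) (.leaf TB_974))))) (.node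 (.node (.node (.node (.node (.leaf TB_46) (.leaf TB_1070)) (.node (.leaf TB_558) (.leaf TB_1582))) (.node (.node (.leaf TB_302) (.leaf TB_1326)) (.leaf TB_814))) (.node (.node (.node (.leaf TB_174) (.leaf TB_1198)) (.leaf TB_686)) (.node (.node (.leaf TB_430) (.leaf TB_1454)) (.leaf TB_942)))) (.node (.node (.node (.node (.leaf TB_110) (.leaf TB_1134)) (.leaf TB_622)) (.node (.node (.leaf TB_366) (.leaf TB_1390)) (.leaf TB_878))) (.node (.node (.node (.leaf TB_238) (.leaf TB_1262)) (.leaf TB_750)) (.node (.node (.leaf TB_494) (.leaf TB_1518)) (.leaf TB_1006)))))) (.node (.node (.node (.node (.node (.node (.leaf (nat_lit 0)) (.leaf (nat_lit 0))) (.node (.leaf (nat_lit 0)) (.leaf (nat_lit 0)))) (.node (.node (.leaf (nat_lit 0)) (.leaf (nat_lit 0))) (.leaf (nat_lit 0)))) (.node (.node (.node (.leaf (nat_lit 0)) (.leaf (nat_lit 0))) (.leaf (nat_lit 0))) (.node (.node (.leaf (nat_lit 0)) (.leaf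 (nat_lit 0))) (.leaf (nat_lit 0))))) (.node (.node (.node (.node (.leaf (nat_lit 0)) (.leaf (nat_lit 0))) (.node (.leaf (nat_lit 0)) (.leaf (nat_lit 0)))) (.node (.node (.leaf (nat_lit 0)) (.leaf (nat_lit 0))) (.leaf (nat_lit 0)))) (.node (.node (.node (.leaf (nat_lit 0)) (.leaf (nat_lit 0))) (.leaf (nat_lit 0))) (.node (.node (.leaf (nat_lit 0)) (.leaf (nat_lit 0))) (.leaf (nat_lit 0)))))) (.node (.node (.node (.node (.node (.leaf (nat_lit 0)) (.leaf (nat_lit 0))) (.node (.leaf (nat_lit 0)) (.leaf (nat_lit 0)))) (.node (.node (.leaf (nat_lit 0)) (.leaf (nat_lit 0))) (.leaf (nat_lit 0)))) (.node (.node (.node (.leaf (nat_lit 0)) (.leaf (nat_lit 0))) (.leaf (nat_lit 0))) (.node (.node (.leaf (nat_lit 0)) (.leaf (nat_lit 0))) (.leaf (nat_lit 0))))) (.node (.node (.node (.node (.leaf (nat_lit 0)) (.leaf (nat_lit 0))) (.leaf (nat_lit 0))) (.node (.node (.leaf (nat_lit 0)) (.leaf (nat_lit 0))) (.leaf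 (nat_lit 0)))) (.node (.node (.node (.leaf (nat_lit 0)) (.leaf (nat_lit 0))) (.leaf (nat_lit 0))) (.node (.node (.leaf (nat_lit 0)) (.leaf (nat_lit 0))) (.leaf (nat_lit 0))))))))))) (.node (.node (.node (.node (.node (.node (.node (.node (.node (.node (.leaf TB_1) (.leaf TB_1025)) (.node (.leaf TB_513) (.leaf TB_1537))) (.node (.node (.leaf TB_257) (.leaf TB_1281)) (.leaf TB_769))) (.node (.node (.node (.leaf TB_129) (.leaf TB_1153)) (.leaf TB_641)) (.node (.node (.leaf TB_385) (.leaf TB_1409)) (.leaf TB_897)))) (.node (.node (.node (.node (.leaf TB_65) (.leaf TB_1089)) (.node (.leaf TB_577) (.leaf TB_1601))) (.node (.node (.leaf TB_321) (.leaf TB_1345)) (.leaf TB_833))) (.node (.node (.node (.leaf TB_193) (.leaf TB_1217)) (.leaf TB_705)) (.node (.node (.leaf TB_449) (.leaf TB_1473)) (.leaf TB_961))))) (.node (.node (.node (.node (.node (.leaf TB_33) (.leaf TB_1057)) (.node (.leaf TB_545) (.leaf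 TB_1569))) (.node (.node (.leaf TB_289) (.leaf TB_1313)) (.leaf TB_801))) (.node (.node (.node (.leaf TB_161) (.leaf TB_1185)) (.leaf TB_673)) (.node (.node (.leaf TB_417) (.leaf TB_1441)) (.leaf TB_929)))) (.node (.node (.node (.node (.leaf TB_97) (.leaf TB_1121)) (.leaf TB_609)) (.node (.node (.leaf TB_353) (.leaf TB_1377)) (.leaf TB_865))) (.node (.node (.node (.leaf TB_225) (.leaf TB_1249)) (.leaf TB_737)) (.node (.node (.leaf TB_481) (.leaf TB_1505)) (.leaf TB_993)))))) (.node (.node (.node (.node (.node (.node (.leaf TB_17) (.leaf TB_1041)) (.node (.leaf TB_529) (.leaf TB_1553))) (.node (.node (.leaf TB_273) (.leaf TB_1297)) (.leaf TB_785))) (.node (.node (.node (.leaf TB_145) (.leaf TB_1169)) (.leaf TB_657)) (.node (.node (.leaf TB_401) (.leaf TB_1425)) (.leaf TB_913)))) (.node (.node (.node (.node (.leaf TB_81) (.leaf TB_1105)) (.node (.leaf TB_593) (.leaf TB_1617))) (.node (.node (.leaf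 TB_337) (.leaf TB_1361)) (.leaf TB_849))) (.node (.node (.node (.leaf TB_209) (.leaf TB_1233)) (.leaf TB_721)) (.node (.node (.leaf TB_465) (.leaf TB_1489)) (.leaf TB_977))))) (.node (.node (.node (.node (.node (.leaf TB_49) (.leaf TB_1073)) (.node (.leaf TB_561) (.leaf TB_1585))) (.node (.node (.leaf TB_305) (.leaf TB_1329)) (.leaf TB_817))) (.node (.node (.node (.leaf TB_177) (.leaf TB_1201)) (.leaf TB_689)) (.node (.node (.leaf TB_433) (.leaf TB_1457)) (.leaf TB_945)))) (.node (.node (.node (.node (.leaf TB_113) (.leaf TB_1137)) (.leaf TB_625)) (.node (.node (.leaf TB_369) (.leaf TB_1393)) (.leaf TB_881))) (.node (.node (.node (.leaf TB_241) (.leaf TB_1265)) (.leaf TB_753)) (.node (.node (.leaf TB_497) (.leaf TB_1521)) (.leaf TB_1009))))))) (.node (.node (.node (.node (.node (.node (.node (.leaf TB_9) (.leaf TB_1033)) (.node (.leaf TB_521) (.leaf TB_1545))) (.node (.node (.leaf TB_265) (.leaf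 TB_1289)) (.leaf TB_777))) (.node (.node (.node (.leaf TB_137) (.leaf TB_1161)) (.leaf TB_649)) (.node (.node (.leaf TB_393) (.leaf TB_1417)) (.leaf TB_905)))) (.node (.node (.node (.node (.leaf TB_73) (.leaf TB_1097)) (.node (.leaf TB_585) (.leaf TB_1609))) (.node (.node (.leaf TB_329) (.leaf TB_1353)) (.leaf TB_841))) (.node (.node (.node (.leaf TB_201) (.leaf TB_1225)) (.leaf TB_713)) (.node (.node (.leaf TB_457) (.leaf TB_1481)) (.leaf TB_969))))) (.node (.node (.node (.node (.node (.leaf TB_41) (.leaf TB_1065)) (.node (.leaf TB_553) (.leaf TB_1577))) (.node (.node (.leaf TB_297) (.leaf TB_1321)) (.leaf TB_809))) (.node (.node (.node (.leaf TB_169) (.leaf TB_1193)) (.leaf TB_681)) (.node (.node (.leaf TB_425) (.leaf TB_1449)) (.leaf TB_937)))) (.node (.node (.node (.node (.leaf TB_105) (.leaf TB_1129)) (.leaf TB_617)) (.node (.node (.leaf TB_361) (.leaf TB_1385)) (.leaf TB_873))) (.node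 (.node (.node (.leaf TB_233) (.leaf TB_1257)) (.leaf TB_745)) (.node (.node (.leaf TB_489) (.leaf TB_1513)) (.leaf TB_1001)))))) (.node (.node (.node (.node (.node (.node (.leaf TB_25) (.leaf TB_1049)) (.node (.leaf TB_537) (.leaf TB_1561))) (.node (.node (.leaf TB_281) (.leaf TB_1305)) (.leaf TB_793))) (.node (.node (.node (.leaf TB_153) (.leaf TB_1177)) (.leaf TB_665)) (.node (.node (.leaf TB_409) (.leaf TB_1433)) (.leaf TB_921)))) (.node (.node (.node (.node (.leaf TB_89) (.leaf TB_1113)) (.node (.leaf TB_601) (.leaf TB_1625))) (.node (.node (.leaf TB_345) (.leaf TB_1369)) (.leaf TB_857))) (.node (.node (.node (.leaf TB_217) (.leaf TB_1241)) (.leaf TB_729)) (.node (.node (.leaf TB_473) (.leaf TB_1497)) (.leaf TB_985))))) (.node (.node (.node (.node (.node (.leaf TB_57) (.leaf TB_1081)) (.node (.leaf TB_569) (.leaf TB_1593))) (.node (.node (.leaf TB_313) (.leaf TB_1337)) (.leaf TB_825)))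 (.node (.node (.node (.leaf TB_185) (.leaf TB_1209)) (.leaf TB_697)) (.node (.node (.leaf TB_441) (.leaf TB_1465)) (.leaf TB_953)))) (.node (.node (.node (.node (.leaf TB_121) (.leaf TB_1145)) (.leaf TB_633)) (.node (.node (.leaf TB_377) (.leaf TB_1401)) (.leaf TB_889))) (.node (.node (.node (.leaf TB_249) (.leaf TB_1273)) (.leaf TB_761)) (.node (.node (.leaf TB_505) (.leaf TB_1529)) (.leaf TB_1017)))))))) (.node (.node (.node (.node (.node (.node (.node (.node (.leaf TB_5) (.leaf TB_1029)) (.node (.leaf TB_517) (.leaf TB_1541))) (.node (.node (.leaf TB_261) (.leaf TB_1285)) (.leaf TB_773))) (.node (.node (.node (.leaf TB_133) (.leaf TB_1157)) (.leaf TB_645)) (.node (.node (.leaf TB_389) (.leaf TB_1413)) (.leaf TB_901)))) (.node (.node (.node (.node (.leaf TB_69) (.leaf TB_1093)) (.node (.leaf TB_581) (.leaf TB_1605))) (.node (.node (.leaf TB_325) (.leaf TB_1349)) (.leaf TB_837))) (.node (.node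 (.node (.leaf TB_197) (.leaf TB_1221)) (.leaf TB_709)) (.node (.node (.leaf TB_453) (.leaf TB_1477)) (.leaf TB_965))))) (.node (.node (.node (.node (.node (.leaf TB_37) (.leaf TB_1061)) (.node (.leaf TB_549) (.leaf TB_1573))) (.node (.node (.leaf TB_293) (.leaf TB_1317)) (.leaf TB_805))) (.node (.node (.node (.leaf TB_165) (.leaf TB_1189)) (.leaf TB_677)) (.node (.node (.leaf TB_421) (.leaf TB_1445)) (.leaf TB_933)))) (.node (.node (.node (.node (.leaf TB_101) (.leaf TB_1125)) (.leaf TB_613)) (.node (.node (.leaf TB_357) (.leaf TB_1381)) (.leaf TB_869))) (.node (.node (.node (.leaf TB_229) (.leaf TB_1253)) (.leaf TB_741)) (.node (.node (.leaf TB_485) (.leaf TB_1509)) (.leaf TB_997)))))) (.node (.node (.node (.node (.node (.node (.leaf TB_21) (.leaf TB_1045)) (.node (.leaf TB_533) (.leaf TB_1557))) (.node (.node (.leaf TB_277) (.leaf TB_1301)) (.leaf TB_789))) (.node (.node (.node (.leaf TB_149)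 (.leaf TB_1173)) (.leaf TB_661)) (.node (.node (.leaf TB_405) (.leaf TB_1429)) (.leaf TB_917)))) (.node (.node (.node (.node (.leaf TB_85) (.leaf TB_1109)) (.node (.leaf TB_597) (.leaf TB_1621))) (.node (.node (.leaf TB_341) (.leaf TB_1365)) (.leaf TB_853))) (.node (.node (.node (.leaf TB_213) (.leaf TB_1237)) (.leaf TB_725)) (.node (.node (.leaf TB_469) (.leaf TB_1493)) (.leaf TB_981))))) (.node (.node (.node (.node (.node (.leaf TB_53) (.leaf TB_1077)) (.node (.leaf TB_565) (.leaf TB_1589))) (.node (.node (.leaf TB_309) (.leaf TB_1333)) (.leaf TB_821))) (.node (.node (.node (.leaf TB_181) (.leaf TB_1205)) (.leaf TB_693)) (.node (.node (.leaf TB_437) (.leaf TB_1461)) (.leaf TB_949)))) (.node (.node (.node (.node (.leaf TB_117) (.leaf TB_1141)) (.leaf TB_629)) (.node (.node (.leaf TB_373) (.leaf TB_1397)) (.leaf TB_885))) (.node (.node (.node (.leaf TB_245) (.leaf TB_1269)) (.leaf TB_757))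 (.node (.node (.leaf TB_501) (.leaf TB_1525)) (.leaf TB_1013))))))) (.node (.node (.node (.node (.node (.node (.node (.leaf TB_13) (.leaf TB_1037)) (.node (.leaf TB_525) (.leaf TB_1549))) (.node (.node (.leaf TB_269) (.leaf TB_1293)) (.leaf TB_781))) (.node (.node (.node (.leaf TB_141) (.leaf TB_1165)) (.leaf TB_653)) (.node (.node (.leaf TB_397) (.leaf TB_1421)) (.leaf TB_909)))) (.node (.node (.node (.node (.leaf TB_77) (.leaf TB_1101)) (.node (.leaf TB_589) (.leaf TB_1613))) (.node (.node (.leaf TB_333) (.leaf TB_1357)) (.leaf TB_845))) (.node (.node (.node (.leaf TB_205) (.leaf TB_1229)) (.leaf TB_717)) (.node (.node (.leaf TB_461) (.leaf TB_1485)) (.leaf TB_973))))) (.node (.node (.node (.node (.node (.leaf TB_45) (.leaf TB_1069)) (.node (.leaf TB_557) (.leaf TB_1581))) (.node (.node (.leaf TB_301) (.leaf TB_1325)) (.leaf TB_813))) (.node (.node (.node (.leaf TB_173) (.leaf TB_1197)) (.leaf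 TB_685)) (.node (.node (.leaf TB_429) (.leaf TB_1453)) (.leaf TB_941)))) (.node (.node (.node (.node (.leaf TB_109) (.leaf TB_1133)) (.leaf TB_621)) (.node (.node (.leaf TB_365) (.leaf TB_1389)) (.leaf TB_877))) (.node (.node (.node (.leaf TB_237) (.leaf TB_1261)) (.leaf TB_749)) (.node (.node (.leaf TB_493) (.leaf TB_1517)) (.leaf TB_1005)))))) (.node (.node (.node (.node (.node (.node (.leaf (nat_lit 0)) (.leaf (nat_lit 0))) (.node (.leaf (nat_lit 0)) (.leaf (nat_lit 0)))) (.node (.node (.leaf (nat_lit 0)) (.leaf (nat_lit 0))) (.leaf (nat_lit 0)))) (.node (.node (.node (.leaf (nat_lit 0)) (.leaf (nat_lit 0))) (.leaf (nat_lit 0))) (.node (.node (.leaf (nat_lit 0)) (.leaf (nat_lit 0))) (.leaf (nat_lit 0))))) (.node (.node (.node (.node (.leaf (nat_lit 0)) (.leaf (nat_lit 0))) (.node (.leaf (nat_lit 0)) (.leaf (nat_lit 0)))) (.node (.node (.leaf (nat_lit 0)) (.leaf (nat_lit 0))) (.leaf (nat_lit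 0)))) (.node (.node (.node (.leaf (nat_lit 0)) (.leaf (nat_lit 0))) (.leaf (nat_lit 0))) (.node (.node (.leaf (nat_lit 0)) (.leaf (nat_lit 0))) (.leaf (nat_lit 0)))))) (.node (.node (.node (.node (.node (.leaf (nat_lit 0)) (.leaf (nat_lit 0))) (.node (.leaf (nat_lit 0)) (.leaf (nat_lit 0)))) (.node (.node (.leaf (nat_lit 0)) (.leaf (nat_lit 0))) (.leaf (nat_lit 0)))) (.node (.node (.node (.leaf (nat_lit 0)) (.leaf (nat_lit 0))) (.leaf (nat_lit 0))) (.node (.node (.leaf (nat_lit 0)) (.leaf (nat_lit 0))) (.leaf (nat_lit 0))))) (.node (.node (.node (.node (.leaf (nat_lit 0)) (.leaf (nat_lit 0))) (.leaf (nat_lit 0))) (.node (.node (.leaf (nat_lit 0)) (.leaf (nat_lit 0))) (.leaf (nat_lit 0)))) (.node (.node (.node (.leaf (nat_lit 0)) (.leaf (nat_lit 0))) (.leaf (nat_lit 0))) (.node (.node (.leaf (nat_lit 0)) (.leaf (nat_lit 0))) (.leaf (nat_lit 0)))))))))) (.node (.node (.node (.node (.node (.node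 (.node (.node (.node (.leaf TB_3) (.leaf TB_1027)) (.node (.leaf TB_515) (.leaf TB_1539))) (.node (.node (.leaf TB_259) (.leaf TB_1283)) (.leaf TB_771))) (.node (.node (.node (.leaf TB_131) (.leaf TB_1155)) (.leaf TB_643)) (.node (.node (.leaf TB_387) (.leaf TB_1411)) (.leaf TB_899)))) (.node (.node (.node (.node (.leaf TB_67) (.leaf TB_1091)) (.node (.leaf TB_579) (.leaf TB_1603))) (.node (.node (.leaf TB_323) (.leaf TB_1347)) (.leaf TB_835))) (.node (.node (.node (.leaf TB_195) (.leaf TB_1219)) (.leaf TB_707)) (.node (.node (.leaf TB_451) (.leaf TB_1475)) (.leaf TB_963))))) (.node (.node (.node (.node (.node (.leaf TB_35) (.leaf TB_1059)) (.node (.leaf TB_547) (.leaf TB_1571))) (.node (.node (.leaf TB_291) (.leaf TB_1315)) (.leaf TB_803))) (.node (.node (.node (.leaf TB_163) (.leaf TB_1187)) (.leaf TB_675)) (.node (.node (.leaf TB_419) (.leaf TB_1443)) (.leaf TB_931)))) (.node (.node (.node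 (.node (.leaf TB_99) (.leaf TB_1123)) (.leaf TB_611)) (.node (.node (.leaf TB_355) (.leaf TB_1379)) (.leaf TB_867))) (.node (.node (.node (.leaf TB_227) (.leaf TB_1251)) (.leaf TB_739)) (.node (.node (.leaf TB_483) (.leaf TB_1507)) (.leaf TB_995)))))) (.node (.node (.node (.node (.node (.node (.leaf TB_19) (.leaf TB_1043)) (.node (.leaf TB_531) (.leaf TB_1555))) (.node (.node (.leaf TB_275) (.leaf TB_1299)) (.leaf TB_787))) (.node (.node (.node (.leaf TB_147) (.leaf TB_1171)) (.leaf TB_659)) (.node (.node (.leaf TB_403) (.leaf TB_1427)) (.leaf TB_915)))) (.node (.node (.node (.node (.leaf TB_83) (.leaf TB_1107)) (.node (.leaf TB_595) (.leaf TB_1619))) (.node (.node (.leaf TB_339) (.leaf TB_1363)) (.leaf TB_851))) (.node (.node (.node (.leaf TB_211) (.leaf TB_1235)) (.leaf TB_723)) (.node (.node (.leaf TB_467) (.leaf TB_1491)) (.leaf TB_979))))) (.node (.node (.node (.node (.node (.leaf TB_51)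 (.leaf TB_1075)) (.node (.leaf TB_563) (.leaf TB_1587))) (.node (.node (.leaf TB_307) (.leaf TB_1331)) (.leaf TB_819))) (.node (.node (.node (.leaf TB_179) (.leaf TB_1203)) (.leaf TB_691)) (.node (.node (.leaf TB_435) (.leaf TB_1459)) (.leaf TB_947)))) (.node (.node (.node (.node (.leaf TB_115) (.leaf TB_1139)) (.leaf TB_627)) (.node (.node (.leaf TB_371) (.leaf TB_1395)) (.leaf TB_883))) (.node (.node (.node (.leaf TB_243) (.leaf TB_1267)) (.leaf TB_755)) (.node (.node (.leaf TB_499) (.leaf TB_1523)) (.leaf TB_1011))))))) (.node (.node (.node (.node (.node (.node (.node (.leaf TB_11) (.leaf TB_1035)) (.node (.leaf TB_523) (.leaf TB_1547))) (.node (.node (.leaf TB_267) (.leaf TB_1291)) (.leaf TB_779))) (.node (.node (.node (.leaf TB_139) (.leaf TB_1163)) (.leaf TB_651)) (.node (.node (.leaf TB_395) (.leaf TB_1419)) (.leaf TB_907)))) (.node (.node (.node (.node (.leaf TB_75) (.leaf TB_1099))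 (.node (.leaf TB_587) (.leaf TB_1611))) (.node (.node (.leaf TB_331) (.leaf TB_1355)) (.leaf TB_843))) (.node (.node (.node (.leaf TB_203) (.leaf TB_1227)) (.leaf TB_715)) (.node (.node (.leaf TB_459) (.leaf TB_1483)) (.leaf TB_971))))) (.node (.node (.node (.node (.node (.leaf TB_43) (.leaf TB_1067)) (.node (.leaf TB_555) (.leaf TB_1579))) (.node (.node (.leaf TB_299) (.leaf TB_1323)) (.leaf TB_811))) (.node (.node (.node (.leaf TB_171) (.leaf TB_1195)) (.leaf TB_683)) (.node (.node (.leaf TB_427) (.leaf TB_1451)) (.leaf TB_939)))) (.node (.node (.node (.node (.leaf TB_107) (.leaf TB_1131)) (.leaf TB_619)) (.node (.node (.leaf TB_363) (.leaf TB_1387)) (.leaf TB_875))) (.node (.node (.node (.leaf TB_235) (.leaf TB_1259)) (.leaf TB_747)) (.node (.node (.leaf TB_491) (.leaf TB_1515)) (.leaf TB_1003)))))) (.node (.node (.node (.node (.node (.node (.leaf (nat_lit 0)) (.leaf (nat_lit 0))) (.node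 (.leaf (nat_lit 0)) (.leaf (nat_lit 0)))) (.node (.node (.leaf (nat_lit 0)) (.leaf (nat_lit 0))) (.leaf (nat_lit 0)))) (.node (.node (.node (.leaf (nat_lit 0)) (.leaf (nat_lit 0))) (.leaf (nat_lit 0))) (.node (.node (.leaf (nat_lit 0)) (.leaf (nat_lit 0))) (.leaf (nat_lit 0))))) (.node (.node (.node (.node (.leaf (nat_lit 0)) (.leaf (nat_lit 0))) (.node (.leaf (nat_lit 0)) (.leaf (nat_lit 0)))) (.node (.node (.leaf (nat_lit 0)) (.leaf (nat_lit 0))) (.leaf (nat_lit 0)))) (.node (.node (.node (.leaf (nat_lit 0)) (.leaf (nat_lit 0))) (.leaf (nat_lit 0))) (.node (.node (.leaf (nat_lit 0)) (.leaf (nat_lit 0))) (.leaf (nat_lit 0)))))) (.node (.node (.node (.node (.node (.leaf (nat_lit 0)) (.leaf (nat_lit 0))) (.node (.leaf (nat_lit 0)) (.leaf (nat_lit 0)))) (.node (.node (.leaf (nat_lit 0)) (.leaf (nat_lit 0))) (.leaf (nat_lit 0)))) (.node (.node (.node (.leaf (nat_lit 0)) (.leaf (nat_lit 0))) (.leaf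 (nat_lit 0))) (.node (.node (.leaf (nat_lit 0)) (.leaf (nat_lit 0))) (.leaf (nat_lit 0))))) (.node (.node (.node (.node (.leaf (nat_lit 0)) (.leaf (nat_lit 0))) (.leaf (nat_lit 0))) (.node (.node (.leaf (nat_lit 0)) (.leaf (nat_lit 0))) (.leaf (nat_lit 0)))) (.node (.node (.node (.leaf (nat_lit 0)) (.leaf (nat_lit 0))) (.leaf (nat_lit 0))) (.node (.node (.leaf (nat_lit 0)) (.leaf (nat_lit 0))) (.leaf (nat_lit 0))))))))) (.node (.node (.node (.node (.node (.node (.node (.node (.leaf TB_7) (.leaf TB_1031)) (.node (.leaf TB_519) (.leaf TB_1543))) (.node (.node (.leaf TB_263) (.leaf TB_1287)) (.leaf TB_775))) (.node (.node (.node (.leaf TB_135) (.leaf TB_1159)) (.leaf TB_647)) (.node (.node (.leaf TB_391) (.leaf TB_1415)) (.leaf TB_903)))) (.node (.node (.node (.node (.leaf TB_71) (.leaf TB_1095)) (.node (.leaf TB_583) (.leaf TB_1607))) (.node (.node (.leaf TB_327) (.leaf TB_1351)) (.leaf TB_839)))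 (.node (.node (.node (.leaf TB_199) (.leaf TB_1223)) (.leaf TB_711)) (.node (.node (.leaf TB_455) (.leaf TB_1479)) (.leaf TB_967))))) (.node (.node (.node (.node (.node (.leaf TB_39) (.leaf TB_1063)) (.node (.leaf TB_551) (.leaf TB_1575))) (.node (.node (.leaf TB_295) (.leaf TB_1319)) (.leaf TB_807))) (.node (.node (.node (.leaf TB_167) (.leaf TB_1191)) (.leaf TB_679)) (.node (.node (.leaf TB_423) (.leaf TB_1447)) (.leaf TB_935)))) (.node (.node (.node (.node (.leaf TB_103) (.leaf TB_1127)) (.leaf TB_615)) (.node (.node (.leaf TB_359) (.leaf TB_1383)) (.leaf TB_871))) (.node (.node (.node (.leaf TB_231) (.leaf TB_1255)) (.leaf TB_743)) (.node (.node (.leaf TB_487) (.leaf TB_1511)) (.leaf TB_999)))))) (.node (.node (.node (.node (.node (.node (.leaf TB_23) (.leaf TB_1047)) (.node (.leaf TB_535) (.leaf TB_1559))) (.node (.node (.leaf TB_279) (.leaf TB_1303)) (.leaf TB_791))) (.node (.node (.node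 (.leaf TB_151) (.leaf TB_1175)) (.leaf TB_663)) (.node (.node (.leaf TB_407) (.leaf TB_1431)) (.leaf TB_919)))) (.node (.node (.node (.node (.leaf TB_87) (.leaf TB_1111)) (.node (.leaf TB_599) (.leaf TB_1623))) (.node (.node (.leaf TB_343) (.leaf TB_1367)) (.leaf TB_855))) (.node (.node (.node (.leaf TB_215) (.leaf TB_1239)) (.leaf TB_727)) (.node (.node (.leaf TB_471) (.leaf TB_1495)) (.leaf TB_983))))) (.node (.node (.node (.node (.node (.leaf TB_55) (.leaf TB_1079)) (.node (.leaf TB_567) (.leaf TB_1591))) (.node (.node (.leaf TB_311) (.leaf TB_1335)) (.leaf TB_823))) (.node (.node (.node (.leaf TB_183) (.leaf TB_1207)) (.leaf TB_695)) (.node (.node (.leaf TB_439) (.leaf TB_1463)) (.leaf TB_951)))) (.node (.node (.node (.node (.leaf TB_119) (.leaf TB_1143)) (.leaf TB_631)) (.node (.node (.leaf TB_375) (.leaf TB_1399)) (.leaf TB_887))) (.node (.node (.node (.leaf TB_247) (.leaf TB_1271)) (.leaf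 TB_759)) (.node (.node (.leaf TB_503) (.leaf TB_1527)) (.leaf TB_1015))))))) (.node (.node (.node (.node (.node (.node (.node (.leaf TB_15) (.leaf TB_1039)) (.node (.leaf TB_527) (.leaf TB_1551))) (.node (.node (.leaf TB_271) (.leaf TB_1295)) (.leaf TB_783))) (.node (.node (.node (.leaf TB_143) (.leaf TB_1167)) (.leaf TB_655)) (.node (.node (.leaf TB_399) (.leaf TB_1423)) (.leaf TB_911)))) (.node (.node (.node (.node (.leaf TB_79) (.leaf TB_1103)) (.node (.leaf TB_591) (.leaf TB_1615))) (.node (.node (.leaf TB_335) (.leaf TB_1359)) (.leaf TB_847))) (.node (.node (.node (.leaf TB_207) (.leaf TB_1231)) (.leaf TB_719)) (.node (.node (.leaf TB_463) (.leaf TB_1487)) (.leaf TB_975))))) (.node (.node (.node (.node (.node (.leaf TB_47) (.leaf TB_1071)) (.node (.leaf TB_559) (.leaf TB_1583))) (.node (.node (.leaf TB_303) (.leaf TB_1327)) (.leaf TB_815))) (.node (.node (.node (.leaf TB_175) (.leaf TB_1199))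 (.leaf TB_687)) (.node (.node (.leaf TB_431) (.leaf TB_1455)) (.leaf TB_943)))) (.node (.node (.node (.node (.leaf TB_111) (.leaf TB_1135)) (.leaf TB_623)) (.node (.node (.leaf TB_367) (.leaf TB_1391)) (.leaf TB_879))) (.node (.node (.node (.leaf TB_239) (.leaf TB_1263)) (.leaf TB_751)) (.node (.node (.leaf TB_495) (.leaf TB_1519)) (.leaf TB_1007)))))) (.node (.node (.node (.node (.node (.node (.leaf (nat_lit 0)) (.leaf (nat_lit 0))) (.node (.leaf (nat_lit 0)) (.leaf (nat_lit 0)))) (.node (.node (.leaf (nat_lit 0)) (.leaf (nat_lit 0))) (.leaf (nat_lit 0)))) (.node (.node (.node (.leaf (nat_lit 0)) (.leaf (nat_lit 0))) (.leaf (nat_lit 0))) (.node (.node (.leaf (nat_lit 0)) (.leaf (nat_lit 0))) (.leaf (nat_lit 0))))) (.node (.node (.node (.node (.leaf (nat_lit 0)) (.leaf (nat_lit 0))) (.node (.leaf (nat_lit 0)) (.leaf (nat_lit 0)))) (.node (.node (.leaf (nat_lit 0)) (.leaf (nat_lit 0))) (.leaf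 (nat_lit 0)))) (.node (.node (.node (.leaf (nat_lit 0)) (.leaf (nat_lit 0))) (.leaf (nat_lit 0))) (.node (.node (.leaf (nat_lit 0)) (.leaf (nat_lit 0))) (.leaf (nat_lit 0)))))) (.node (.node (.node (.node (.node (.leaf (nat_lit 0)) (.leaf (nat_lit 0))) (.node (.leaf (nat_lit 0)) (.leaf (nat_lit 0)))) (.node (.node (.leaf (nat_lit 0)) (.leaf (nat_lit 0))) (.leaf (nat_lit 0)))) (.node (.node (.node (.leaf (nat_lit 0)) (.leaf (nat_lit 0))) (.leaf (nat_lit 0))) (.node (.node (.leaf (nat_lit 0)) (.leaf (nat_lit 0))) (.leaf (nat_lit 0))))) (.node (.node (.node (.node (.leaf (nat_lit 0)) (.leaf (nat_lit 0))) (.leaf (nat_lit 0))) (.node (.node (.leaf (nat_lit 0)) (.leaf (nat_lit 0))) (.leaf (nat_lit 0)))) (.node (.node (.node (.leaf (nat_lit 0)) (.leaf (nat_lit 0))) (.leaf (nat_lit 0))) (.node (.node (.leaf (nat_lit 0)) (.leaf (nat_lit 0))) (.leaf (nat_lit 0))))))))))))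

noncomputable def TG (s j : ℕ) : ℕ := L0.BT.get TB (Nat.add (Nat.mul s (nat_lit 32)) j)

noncomputable def T (c s : ℕ) : ℕ := Nat.rec (motive := fun _ => ℕ) 0 (fun j _ => Nat.land (Nat.shiftRight (TG s j) (Nat.mul (nat_lit 15) (Nat.land c (nat_lit 1023)))) (nat_lit 32767)) (Nat.succ (Nat.shiftRight c (nat_lit 10)))

def Ws : List (List ℕ) := [[nat_lit 10, nat_lit 2, nat_lit 4, nat_lit 2], [nat_lit 11, nat_lit 3, nat_lit 11, nat_lit 1, nat_lit 16, nat_lit 2], [nat_lit 5, nat_lit 7, nat_lit 24, nat_lit 1, nat_lit 24, nat_lit 4, nat_lit 22, nat_lit 3], [nat_lit 28, nat_lit 27, nat_lit 26], [nat_lit 28, nat_lit 28, nat_lit 26, nat_lit 27, nat_lit 27, nat_lit 26], [nat_lit 27, nat_lit 29, nat_lit 29, nat_lit 27], [nat_lit 29, nat_lit 27, nat_lit 27, nat_lit 30, nat_lit 27, nat_lit 29], [nat_lit 32, nat_lit 31, nat_lit 31, nat_lit 31, nat_lit 31], [nat_lit 17, nat_lit 2, nat_lit 23, nat_lit 28,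 nat_lit 30, nat_lit 33, nat_lit 33, nat_lit 31], [nat_lit 0, nat_lit 29, nat_lit 3, nat_lit 0, nat_lit 26, nat_lit 27, nat_lit 32, nat_lit 33], [nat_lit 18, nat_lit 32, nat_lit 2, nat_lit 31, nat_lit 26, nat_lit 29, nat_lit 30, nat_lit 32, nat_lit 32, nat_lit 33], [nat_lit 36, nat_lit 34, nat_lit 34], [nat_lit 36, nat_lit 35, nat_lit 34], [nat_lit 37, nat_lit 34, nat_lit 38], [nat_lit 39, nat_lit 35, nat_lit 37], [nat_lit 37, nat_lit 39, nat_lit 34], [nat_lit 41, nat_lit 37], [nat_lit 42, nat_lit 35, nat_lit 41], [nat_lit 34, nat_lit 40, nat_lit 43], [nat_lit 44, nat_lit 35, nat_lit 37, nat_lit 38, nat_lit 42, nat_lit 37, nat_lit 37], [nat_lit 37, nat_lit 35, nat_lit 39, nat_lit 40, nat_lit 38, nat_lit 35, nat_lit 38], [nat_lit 46, nat_lit 45, nat_lit 45], [nat_lit 47, nat_lit 45, nat_lit 47, nat_lit 45], [nat_lit 45, nat_lit 46, nat_lit 47, nat_lit 46, nat_lit 45, nat_lit 47, nat_lit 47, nat_lit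 45], [nat_lit 48, nat_lit 48, nat_lit 49]]

noncomputable def ordT (c : ℕ) : ℕ := Nat.land (Nat.shiftRight ordTD (Nat.mul (nat_lit 5) c)) (nat_lit 31)

noncomputable def iv (s : ℕ) : List ℕ := List.replicate (ordT s) s

noncomputable def La0tB : L0.BT := (.node (.node (.node (.leaf La0tB_0) (.leaf La0tB_4)) (.node (.leaf La0tB_2) (.leaf La0tB_6))) (.node (.node (.leaf La0tB_1) (.leaf La0tB_5)) (.leaf La0tB_3)))

noncomputable def La0t (c : ℕ) : ℕ := L0.rowOf La0tB (nat_lit 12) (nat_lit 4095) (nat_lit 6) (nat_lit 63) c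

noncomputable def La0 : SLv := ⟨⟨nat_lit 230, La0t, nat_lit 137438937087, nat_lit 5, nat_lit 26163, fun i => i⟩, true, [nat_lit 20338, nat_lit 3809, nat_lit 7983, nat_lit 2527, nat_lit 1362, nat_lit 4714, nat_lit 1230, nat_lit 1395, nat_lit 22104, nat_lit 21204, nat_lit 2159, nat_lit 17501, nat_lit 16008, nat_lit 17802, nat_lit 24187, nat_lit 22753, nat_lit 230], [nat_lit 34], nat_lit 16, []⟩

noncomputable def La1tB : L0.BT := (.node (.node (.node (.leaf La1tB_0) (.leaf La1tB_4)) (.node (.leaf La1tB_2) (.leaf (nat_lit 0)))) (.node (.node (.leaf La1tB_1) (.leaf La1tB_5)) (.leaf (nat_lit 0))))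

noncomputable def La1t (c : ℕ) : ℕ := L0.rowOf La1tB (nat_lit 12) (nat_lit 4095) (nat_lit 6) (nat_lit 63) c

noncomputable def La1p (c : ℕ) : ℕ := Nat.land (Nat.shiftRight La1pD (Nat.mul (nat_lit 15) c)) (nat_lit 32767)

noncomputable def La1 : SLv := ⟨⟨nat_lit 20338, La1t, nat_lit 7985954816, nat_lit 4, nat_lit 10, La1p⟩, false, [], [], nat_lit 0, []⟩

noncomputable def La2tB : L0.BT := (.node (.node (.node (.leaf (nat_lit 0)) (.leaf La2tB_4)) (.node (.leaf La2tB_2) (.leaf La2tB_6))) (.node (.node (.leaf (nat_lit 0)) (.leaf (nat_lit 0))) (.leaf La2tB_3)))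

noncomputable def La2t (c : ℕ) : ℕ := L0.rowOf La2tB (nat_lit 12) (nat_lit 4095) (nat_lit 5) (nat_lit 31) c

noncomputable def La2p (c : ℕ) : ℕ := Nat.land (Nat.shiftRight La2pD (Nat.mul (nat_lit 15) c)) (nat_lit 32767)

noncomputable def La2 : SLv := ⟨⟨nat_lit 3809, La2t, nat_lit 1744830464, nat_lit 3, nat_lit 8, La2p⟩, false, [], [], nat_lit 0, []⟩

noncomputable def La3tB : L0.BT := (.node (.node (.node (.leaf (nat_lit 0)) (.leaf La3tB_4)) (.node (.leaf La3tB_2) (.leaf (nat_lit 0)))) (.node (.node (.leaf La3tB_1) (.leaf (nat_lit 0))) (.leaf La3tB_3)))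

noncomputable def La3t (c : ℕ) : ℕ := L0.rowOf La3tB (nat_lit 12) (nat_lit 4095) (nat_lit 6) (nat_lit 63) c

noncomputable def La3p (c : ℕ) : ℕ := Nat.land (Nat.shiftRight La3pD (Nat.mul (nat_lit 15) c)) (nat_lit 32767)

noncomputable def La3 : SLv := ⟨⟨nat_lit 7983, La3t, nat_lit 15032385536, nat_lit 4, nat_lit 8, La3p⟩, false, [], [], nat_lit 0, []⟩

noncomputable def La4tB : L0.BT := (.node (.node (.node (.leaf (nat_lit 0)) (.leaf (nat_lit 0))) (.node (.leaf La4tB_2) (.leaf (nat_lit 0)))) (.node (.node (.leaf (nat_lit 0)) (.leaf (nat_lit 0))) (.leaf La4tB_3)))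

noncomputable def La4t (c : ℕ) : ℕ := L0.rowOf La4tB (nat_lit 12) (nat_lit 4095) (nat_lit 6) (nat_lit 63) c

noncomputable def La4p (c : ℕ) : ℕ := Nat.land (Nat.shiftRight La4pD (Nat.mul (nat_lit 14) c)) (nat_lit 16383)

noncomputable def La4 : SLv := ⟨⟨nat_lit 2527, La4t, nat_lit 8589934592, nat_lit 3, nat_lit 3, La4p⟩, false, [], [], nat_lit 0, []⟩

noncomputable def Las : List SLv := [La1, La2, La3, La4]

noncomputable def Lb0tB : L0.BT := (.node (.node (.node (.leaf Lb0tB_0) (.leaf Lb0tB_4)) (.node (.leaf Lb0tB_2) (.leaf Lb0tB_6))) (.node (.node (.leaf Lb0tB_1) (.leaf Lb0tB_5)) (.leaf Lb0tB_3)))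

noncomputable def Lb0t (c : ℕ) : ℕ := L0.rowOf Lb0tB (nat_lit 12) (nat_lit 4095) (nat_lit 6) (nat_lit 63) c

noncomputable def Lb0 : SLv := ⟨⟨nat_lit 5802, Lb0t, nat_lit 2251782633816064, nat_lit 6, nat_lit 26163, fun i => i⟩, true, [nat_lit 17106, nat_lit 20643, nat_lit 9655, nat_lit 15211, nat_lit 16628, nat_lit 13648, nat_lit 25042, nat_lit 5802], [nat_lit 35], nat_lit 7, []⟩

noncomputable def Lb1tB : L0.BT := (.node (.node (.node (.leaf Lb1tB_0) (.leaf Lb1tB_4)) (.node (.leaf Lb1tB_2) (.leaf Lb1tB_6))) (.node (.node (.leaf Lb1tB_1) (.leaf Lb1tB_5)) (.leaf Lb1tB_3)))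

noncomputable def Lb1t (c : ℕ) : ℕ := L0.rowOf Lb1tB (nat_lit 12) (nat_lit 4095) (nat_lit 6) (nat_lit 63) c

noncomputable def Lb1p (c : ℕ) : ℕ := Nat.land (Nat.shiftRight Lb1pD (Nat.mul (nat_lit 15) c)) (nat_lit 32767)

noncomputable def Lb1 : SLv := ⟨⟨nat_lit 17106, Lb1t, nat_lit 2216615441596416, nat_lit 5, nat_lit 80, Lb1p⟩, false, [], [], nat_lit 0, []⟩

noncomputable def Lb2tB : L0.BT := (.node (.node (.node (.leaf Lb2tB_0) (.leaf Lb2tB_4)) (.node (.leaf Lb2tB_2) (.leaf Lb2tB_6))) (.node (.node (.leaf Lb2tB_1) (.leaf Lb2tB_5)) (.leaf Lb2tB_3)))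

noncomputable def Lb2t (c : ℕ) : ℕ := L0.rowOf Lb2tB (nat_lit 12) (nat_lit 4095) (nat_lit 6) (nat_lit 63) c

noncomputable def Lb2p (c : ℕ) : ℕ := Nat.land (Nat.shiftRight Lb2pD (Nat.mul (nat_lit 15) c)) (nat_lit 32767)

noncomputable def Lb2 : SLv := ⟨⟨nat_lit 20643, Lb2t, nat_lit 1970324836974592, nat_lit 5, nat_lit 24, Lb2p⟩, false, [], [], nat_lit 0, []⟩

noncomputable def Lbs : List SLv := [Lb1, Lb2]

def B : List ℕ := [nat_lit 230, nat_lit 20338, nat_lit 3809, nat_lit 7983, nat_lit 2527]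

def D : OD := ⟨nat_lit 34, nat_lit 35, nat_lit 36, nat_lit 17, nat_lit 2, nat_lit 1, nat_lit 3, [nat_lit 1, nat_lit 3],
  [(nat_lit 1184153066413736843993, []), (nat_lit 1228618038942083562718, [nat_lit 35]), (nat_lit 12108105638337350383524, [nat_lit 35, nat_lit 35]), (nat_lit 4915448342069928512788, [nat_lit 35, nat_lit 35, nat_lit 35]), (nat_lit 576333831054741535682, [nat_lit 35, nat_lit 35, nat_lit 35, nat_lit 35]), (nat_lit 7609565491254182497670, [nat_lit 35, nat_lit 35, nat_lit 35, nat_lit 35, nat_lit 35]), (nat_lit 11193489004960444366703, [nat_lit 35, nat_lit 35, nat_lit 35, nat_lit 35, nat_lit 35, nat_lit 35]), (nat_lit 719841598398273943758, [nat_lit 35, nat_lit 35, nat_lit 35, nat_lit 35, nat_lit 35, nat_lit 35, nat_lit 35])],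
  [[nat_lit 1, nat_lit 2, nat_lit 1, nat_lit 2], [nat_lit 2, nat_lit 0, nat_lit 1, nat_lit 2, nat_lit 0, nat_lit 1, nat_lit 2, nat_lit 0, nat_lit 1, nat_lit 2, nat_lit 0, nat_lit 1, nat_lit 2, nat_lit 0, nat_lit 1, nat_lit 2, nat_lit 0, nat_lit 1, nat_lit 2, nat_lit 0, nat_lit 1, nat_lit 2, nat_lit 0, nat_lit 1, nat_lit 2, nat_lit 0, nat_lit 1, nat_lit 2, nat_lit 0, nat_lit 1]],
  [[]], [[]], [nat_lit 34], [nat_lit 35, nat_lit 35, nat_lit 35, nat_lit 35, nat_lit 36]⟩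

noncomputable def piTB : L0.BT := (.node (.node (.node (.node (.leaf piTB_0) (.leaf piTB_8)) (.node (.leaf piTB_4) (.leaf piTB_12))) (.node (.node (.leaf piTB_2) (.leaf piTB_10)) (.leaf piTB_6))) (.node (.node (.node (.leaf piTB_1) (.leaf piTB_9)) (.leaf piTB_5)) (.node (.node (.leaf piTB_3) (.leaf piTB_11)) (.leaf piTB_7))))

noncomputable def piT (c : ℕ) : ℕ := L0.rowOf piTB (nat_lit 11) (nat_lit 2047) (nat_lit 15) (nat_lit 32767) c

noncomputable def piI (c : ℕ) : ℕ := piT c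

def SW : List (ℕ × List ℕ) := [(nat_lit 0, [nat_lit 1, nat_lit 0, nat_lit 2]), (nat_lit 3, []), (nat_lit 0, [nat_lit 0, nat_lit 3, nat_lit 1]), (nat_lit 5, []), (nat_lit 0, [nat_lit 1, nat_lit 2, nat_lit 1]), (nat_lit 0, [nat_lit 0, nat_lit 6, nat_lit 2, nat_lit 5, nat_lit 0]), (nat_lit 0, [nat_lit 5, nat_lit 3]), (nat_lit 9, []), (nat_lit 0, [nat_lit 2, nat_lit 5, nat_lit 5]), (nat_lit 11, []), (nat_lit 0, [nat_lit 7, nat_lit 3, nat_lit 1]), (nat_lit 0, [nat_lit 0, nat_lit 11, nat_lit 7, nat_lit 7, nat_lit 12]), (nat_lit 0, [nat_lit 8, nat_lit 10, nat_lit 7, nat_lit 5, nat_lit 8, nat_lit 1, nat_lit 10, nat_lit 1]), (nat_lit 15, []), (nat_lit 0, [nat_lit 0, nat_lit 3, nat_lit 11, nat_lit 7, nat_lit 3]), (nat_lit 0, [nat_lit 8, nat_lit 7, nat_lit 2, nat_lit 5, nat_lit 11, nat_lit 2, nat_lit 10, nat_lit 2]), (nat_lit 18, []), (nat_lit 0, [nat_lit 19, nat_lit 19, nat_lit 17]), (nat_lit 20, []),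 (nat_lit 0, [nat_lit 16, nat_lit 0, nat_lit 21]), (nat_lit 22, []), (nat_lit 0, [nat_lit 16, nat_lit 22, nat_lit 16]), (nat_lit 24, [])]

noncomputable def ivT (c : ℕ) : ℕ := Nat.land (Nat.shiftRight ivTD (Nat.mul (nat_lit 5) c)) (nat_lit 31)

noncomputable def ivS (s : ℕ) : List ℕ := [ivT s]

def B0 : List ℕ := [nat_lit 0, nat_lit 1, nat_lit 2]

noncomputable def S0tB : L0.BT := (.node (.node (.node (.leaf S0tB_0) (.leaf S0tB_4)) (.node (.leaf S0tB_2) (.leaf S0tB_6))) (.node (.node (.leaf S0tB_1) (.leaf S0tB_5)) (.node (.leaf S0tB_3) (.leaf (nat_lit 0)))))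

noncomputable def S0t (c : ℕ) : ℕ := L0.rowOf S0tB (nat_lit 12) (nat_lit 4095) (nat_lit 5) (nat_lit 31) c

noncomputable def S0 : SS := ⟨nat_lit 0, S0t, nat_lit 6, nat_lit 26163, nat_lit 7⟩

noncomputable def S1tB : L0.BT := (.node (.node (.node (.leaf S1tB_0) (.leaf S1tB_4)) (.node (.leaf S1tB_2) (.leaf S1tB_6))) (.node (.node (.leaf S1tB_1) (.leaf S1tB_5)) (.node (.leaf S1tB_3) (.leaf (nat_lit 0)))))

noncomputable def S1t (c : ℕ) : ℕ := L0.rowOf S1tB (nat_lit 12) (nat_lit 4095) (nat_lit 5) (nat_lit 31) c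

noncomputable def S1 : SS := ⟨nat_lit 1, S1t, nat_lit 6, nat_lit 1920, nat_lit 67084289⟩

noncomputable def VB : L0.BT := (.node (.node (.node (.node (.node (.node (.node (.node (.node (.node (.node (.leaf VB_0) (.leaf VB_1024)) (.node (.leaf VB_512) (.leaf VB_1536))) (.node (.node (.leaf VB_256) (.leaf VB_1280)) (.leaf VB_768))) (.node (.node (.node (.leaf VB_128) (.leaf VB_1152)) (.leaf VB_640)) (.node (.node (.leaf VB_384) (.leaf VB_1408)) (.leaf VB_896)))) (.node (.node (.node (.node (.leaf VB_64) (.leaf VB_1088)) (.node (.leaf VB_576) (.leaf VB_1600))) (.node (.node (.leaf VB_320) (.leaf VB_1344)) (.leaf VB_832))) (.node (.node (.node (.leaf VB_192) (.leaf VB_1216)) (.leaf VB_704)) (.node (.node (.leaf VB_448) (.leaf VB_1472)) (.leaf VB_960))))) (.node (.node (.node (.node (.node (.leaf VB_32) (.leaf VB_1056)) (.node (.leaf VB_544) (.leaf VB_1568))) (.node (.node (.leaf VB_288) (.leaf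 VB_1312)) (.leaf VB_800))) (.node (.node (.node (.leaf VB_160) (.leaf VB_1184)) (.leaf VB_672)) (.node (.node (.leaf VB_416) (.leaf VB_1440)) (.leaf VB_928)))) (.node (.node (.node (.node (.leaf VB_96) (.leaf VB_1120)) (.node (.leaf VB_608) (.leaf VB_1632))) (.node (.node (.leaf VB_352) (.leaf VB_1376)) (.leaf VB_864))) (.node (.node (.node (.leaf VB_224) (.leaf VB_1248)) (.leaf VB_736)) (.node (.node (.leaf VB_480) (.leaf VB_1504)) (.leaf VB_992)))))) (.node (.node (.node (.node (.node (.node (.leaf VB_16) (.leaf VB_1040)) (.node (.leaf VB_528) (.leaf VB_1552))) (.node (.node (.leaf VB_272) (.leaf VB_1296)) (.leaf VB_784))) (.node (.node (.node (.leaf VB_144) (.leaf VB_1168)) (.leaf VB_656)) (.node (.node (.leaf VB_400) (.leaf VB_1424)) (.leaf VB_912)))) (.node (.node (.node (.node (.leaf VB_80) (.leaf VB_1104)) (.node (.leaf VB_592) (.leaf VB_1616))) (.node (.node (.leaf VB_336) (.leaf VB_1360))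 (.leaf VB_848))) (.node (.node (.node (.leaf VB_208) (.leaf VB_1232)) (.leaf VB_720)) (.node (.node (.leaf VB_464) (.leaf VB_1488)) (.leaf VB_976))))) (.node (.node (.node (.node (.node (.leaf VB_48) (.leaf VB_1072)) (.node (.leaf VB_560) (.leaf VB_1584))) (.node (.node (.leaf VB_304) (.leaf VB_1328)) (.leaf VB_816))) (.node (.node (.node (.leaf VB_176) (.leaf VB_1200)) (.leaf VB_688)) (.node (.node (.leaf VB_432) (.leaf VB_1456)) (.leaf VB_944)))) (.node (.node (.node (.node (.leaf VB_112) (.leaf VB_1136)) (.leaf VB_624)) (.node (.node (.leaf VB_368) (.leaf VB_1392)) (.leaf VB_880))) (.node (.node (.node (.leaf VB_240) (.leaf VB_1264)) (.leaf VB_752)) (.node (.node (.leaf VB_496) (.leaf VB_1520)) (.leaf VB_1008))))))) (.node (.node (.node (.node (.node (.node (.node (.leaf VB_8) (.leaf VB_1032)) (.node (.leaf VB_520) (.leaf VB_1544))) (.node (.node (.leaf VB_264) (.leaf VB_1288)) (.leaf VB_776)))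 (.node (.node (.node (.leaf VB_136) (.leaf VB_1160)) (.leaf VB_648)) (.node (.node (.leaf VB_392) (.leaf VB_1416)) (.leaf VB_904)))) (.node (.node (.node (.node (.leaf VB_72) (.leaf VB_1096)) (.node (.leaf VB_584) (.leaf VB_1608))) (.node (.node (.leaf VB_328) (.leaf VB_1352)) (.leaf VB_840))) (.node (.node (.node (.leaf VB_200) (.leaf VB_1224)) (.leaf VB_712)) (.node (.node (.leaf VB_456) (.leaf VB_1480)) (.leaf VB_968))))) (.node (.node (.node (.node (.node (.leaf VB_40) (.leaf VB_1064)) (.node (.leaf VB_552) (.leaf VB_1576))) (.node (.node (.leaf VB_296) (.leaf VB_1320)) (.leaf VB_808))) (.node (.node (.node (.leaf VB_168) (.leaf VB_1192)) (.leaf VB_680)) (.node (.node (.leaf VB_424) (.leaf VB_1448)) (.leaf VB_936)))) (.node (.node (.node (.node (.leaf VB_104) (.leaf VB_1128)) (.leaf VB_616)) (.node (.node (.leaf VB_360) (.leaf VB_1384)) (.leaf VB_872))) (.node (.node (.node (.leaf VB_232)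 (.leaf VB_1256)) (.leaf VB_744)) (.node (.node (.leaf VB_488) (.leaf VB_1512)) (.leaf VB_1000)))))) (.node (.node (.node (.node (.node (.node (.leaf VB_24) (.leaf VB_1048)) (.node (.leaf VB_536) (.leaf VB_1560))) (.node (.node (.leaf VB_280) (.leaf VB_1304)) (.leaf VB_792))) (.node (.node (.node (.leaf VB_152) (.leaf VB_1176)) (.leaf VB_664)) (.node (.node (.leaf VB_408) (.leaf VB_1432)) (.leaf VB_920)))) (.node (.node (.node (.node (.leaf VB_88) (.leaf VB_1112)) (.node (.leaf VB_600) (.leaf VB_1624))) (.node (.node (.leaf VB_344) (.leaf VB_1368)) (.leaf VB_856))) (.node (.node (.node (.leaf VB_216) (.leaf VB_1240)) (.leaf VB_728)) (.node (.node (.leaf VB_472) (.leaf VB_1496)) (.leaf VB_984))))) (.node (.node (.node (.node (.node (.leaf VB_56) (.leaf VB_1080)) (.node (.leaf VB_568) (.leaf VB_1592))) (.node (.node (.leaf VB_312) (.leaf VB_1336)) (.leaf VB_824))) (.node (.node (.node (.leaf VB_184)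 (.leaf VB_1208)) (.leaf VB_696)) (.node (.node (.leaf VB_440) (.leaf VB_1464)) (.leaf VB_952)))) (.node (.node (.node (.node (.leaf VB_120) (.leaf VB_1144)) (.leaf VB_632)) (.node (.node (.leaf VB_376) (.leaf VB_1400)) (.leaf VB_888))) (.node (.node (.node (.leaf VB_248) (.leaf VB_1272)) (.leaf VB_760)) (.node (.node (.leaf VB_504) (.leaf VB_1528)) (.leaf VB_1016)))))))) (.node (.node (.node (.node (.node (.node (.node (.node (.leaf VB_4) (.leaf VB_1028)) (.node (.leaf VB_516) (.leaf VB_1540))) (.node (.node (.leaf VB_260) (.leaf VB_1284)) (.leaf VB_772))) (.node (.node (.node (.leaf VB_132) (.leaf VB_1156)) (.leaf VB_644)) (.node (.node (.leaf VB_388) (.leaf VB_1412)) (.leaf VB_900)))) (.node (.node (.node (.node (.leaf VB_68) (.leaf VB_1092)) (.node (.leaf VB_580) (.leaf VB_1604))) (.node (.node (.leaf VB_324) (.leaf VB_1348)) (.leaf VB_836))) (.node (.node (.node (.leaf VB_196) (.leaf VB_1220))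 (.leaf VB_708)) (.node (.node (.leaf VB_452) (.leaf VB_1476)) (.leaf VB_964))))) (.node (.node (.node (.node (.node (.leaf VB_36) (.leaf VB_1060)) (.node (.leaf VB_548) (.leaf VB_1572))) (.node (.node (.leaf VB_292) (.leaf VB_1316)) (.leaf VB_804))) (.node (.node (.node (.leaf VB_164) (.leaf VB_1188)) (.leaf VB_676)) (.node (.node (.leaf VB_420) (.leaf VB_1444)) (.leaf VB_932)))) (.node (.node (.node (.node (.leaf VB_100) (.leaf VB_1124)) (.leaf VB_612)) (.node (.node (.leaf VB_356) (.leaf VB_1380)) (.leaf VB_868))) (.node (.node (.node (.leaf VB_228) (.leaf VB_1252)) (.leaf VB_740)) (.node (.node (.leaf VB_484) (.leaf VB_1508)) (.leaf VB_996)))))) (.node (.node (.node (.node (.node (.node (.leaf VB_20) (.leaf VB_1044)) (.node (.leaf VB_532) (.leaf VB_1556))) (.node (.node (.leaf VB_276) (.leaf VB_1300)) (.leaf VB_788))) (.node (.node (.node (.leaf VB_148) (.leaf VB_1172)) (.leaf VB_660)) (.node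 (.node (.leaf VB_404) (.leaf VB_1428)) (.leaf VB_916)))) (.node (.node (.node (.node (.leaf VB_84) (.leaf VB_1108)) (.node (.leaf VB_596) (.leaf VB_1620))) (.node (.node (.leaf VB_340) (.leaf VB_1364)) (.leaf VB_852))) (.node (.node (.node (.leaf VB_212) (.leaf VB_1236)) (.leaf VB_724)) (.node (.node (.leaf VB_468) (.leaf VB_1492)) (.leaf VB_980))))) (.node (.node (.node (.node (.node (.leaf VB_52) (.leaf VB_1076)) (.node (.leaf VB_564) (.leaf VB_1588))) (.node (.node (.leaf VB_308) (.leaf VB_1332)) (.leaf VB_820))) (.node (.node (.node (.leaf VB_180) (.leaf VB_1204)) (.leaf VB_692)) (.node (.node (.leaf VB_436) (.leaf VB_1460)) (.leaf VB_948)))) (.node (.node (.node (.node (.leaf VB_116) (.leaf VB_1140)) (.leaf VB_628)) (.node (.node (.leaf VB_372) (.leaf VB_1396)) (.leaf VB_884))) (.node (.node (.node (.leaf VB_244) (.leaf VB_1268)) (.leaf VB_756)) (.node (.node (.leaf VB_500) (.leaf VB_1524))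 (.leaf VB_1012))))))) (.node (.node (.node (.node (.node (.node (.node (.leaf VB_12) (.leaf VB_1036)) (.node (.leaf VB_524) (.leaf VB_1548))) (.node (.node (.leaf VB_268) (.leaf VB_1292)) (.leaf VB_780))) (.node (.node (.node (.leaf VB_140) (.leaf VB_1164)) (.leaf VB_652)) (.node (.node (.leaf VB_396) (.leaf VB_1420)) (.leaf VB_908)))) (.node (.node (.node (.node (.leaf VB_76) (.leaf VB_1100)) (.node (.leaf VB_588) (.leaf VB_1612))) (.node (.node (.leaf VB_332) (.leaf VB_1356)) (.leaf VB_844))) (.node (.node (.node (.leaf VB_204) (.leaf VB_1228)) (.leaf VB_716)) (.node (.node (.leaf VB_460) (.leaf VB_1484)) (.leaf VB_972))))) (.node (.node (.node (.node (.node (.leaf VB_44) (.leaf VB_1068)) (.node (.leaf VB_556) (.leaf VB_1580))) (.node (.node (.leaf VB_300) (.leaf VB_1324)) (.leaf VB_812))) (.node (.node (.node (.leaf VB_172) (.leaf VB_1196)) (.leaf VB_684)) (.node (.node (.leaf VB_428) (.leaf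 VB_1452)) (.leaf VB_940)))) (.node (.node (.node (.node (.leaf VB_108) (.leaf VB_1132)) (.leaf VB_620)) (.node (.node (.leaf VB_364) (.leaf VB_1388)) (.leaf VB_876))) (.node (.node (.node (.leaf VB_236) (.leaf VB_1260)) (.leaf VB_748)) (.node (.node (.leaf VB_492) (.leaf VB_1516)) (.leaf VB_1004)))))) (.node (.node (.node (.node (.node (.node (.leaf VB_28) (.leaf VB_1052)) (.node (.leaf VB_540) (.leaf VB_1564))) (.node (.node (.leaf VB_284) (.leaf VB_1308)) (.leaf VB_796))) (.node (.node (.node (.leaf VB_156) (.leaf VB_1180)) (.leaf VB_668)) (.node (.node (.leaf VB_412) (.leaf VB_1436)) (.leaf VB_924)))) (.node (.node (.node (.node (.leaf VB_92) (.leaf VB_1116)) (.node (.leaf VB_604) (.leaf VB_1628))) (.node (.node (.leaf VB_348) (.leaf VB_1372)) (.leaf VB_860))) (.node (.node (.node (.leaf VB_220) (.leaf VB_1244)) (.leaf VB_732)) (.node (.node (.leaf VB_476) (.leaf VB_1500)) (.leaf VB_988)))))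 (.node (.node (.node (.node (.node (.leaf VB_60) (.leaf VB_1084)) (.node (.leaf VB_572) (.leaf VB_1596))) (.node (.node (.leaf VB_316) (.leaf VB_1340)) (.leaf VB_828))) (.node (.node (.node (.leaf VB_188) (.leaf VB_1212)) (.leaf VB_700)) (.node (.node (.leaf VB_444) (.leaf VB_1468)) (.leaf VB_956)))) (.node (.node (.node (.node (.leaf VB_124) (.leaf VB_1148)) (.leaf VB_636)) (.node (.node (.leaf VB_380) (.leaf VB_1404)) (.leaf VB_892))) (.node (.node (.node (.leaf VB_252) (.leaf VB_1276)) (.leaf VB_764)) (.node (.node (.leaf VB_508) (.leaf VB_1532)) (.leaf VB_1020))))))))) (.node (.node (.node (.node (.node (.node (.node (.node (.node (.leaf VB_2) (.leaf VB_1026)) (.node (.leaf VB_514) (.leaf VB_1538))) (.node (.node (.leaf VB_258) (.leaf VB_1282)) (.leaf VB_770))) (.node (.node (.node (.leaf VB_130) (.leaf VB_1154)) (.leaf VB_642)) (.node (.node (.leaf VB_386) (.leaf VB_1410)) (.leaf VB_898))))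 (.node (.node (.node (.node (.leaf VB_66) (.leaf VB_1090)) (.node (.leaf VB_578) (.leaf VB_1602))) (.node (.node (.leaf VB_322) (.leaf VB_1346)) (.leaf VB_834))) (.node (.node (.node (.leaf VB_194) (.leaf VB_1218)) (.leaf VB_706)) (.node (.node (.leaf VB_450) (.leaf VB_1474)) (.leaf VB_962))))) (.node (.node (.node (.node (.node (.leaf VB_34) (.leaf VB_1058)) (.node (.leaf VB_546) (.leaf VB_1570))) (.node (.node (.leaf VB_290) (.leaf VB_1314)) (.leaf VB_802))) (.node (.node (.node (.leaf VB_162) (.leaf VB_1186)) (.leaf VB_674)) (.node (.node (.leaf VB_418) (.leaf VB_1442)) (.leaf VB_930)))) (.node (.node (.node (.node (.leaf VB_98) (.leaf VB_1122)) (.node (.leaf VB_610) (.leaf VB_1634))) (.node (.node (.leaf VB_354) (.leaf VB_1378)) (.leaf VB_866))) (.node (.node (.node (.leaf VB_226) (.leaf VB_1250)) (.leaf VB_738)) (.node (.node (.leaf VB_482) (.leaf VB_1506)) (.leaf VB_994)))))) (.node (.node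 (.node (.node (.node (.node (.leaf VB_18) (.leaf VB_1042)) (.node (.leaf VB_530) (.leaf VB_1554))) (.node (.node (.leaf VB_274) (.leaf VB_1298)) (.leaf VB_786))) (.node (.node (.node (.leaf VB_146) (.leaf VB_1170)) (.leaf VB_658)) (.node (.node (.leaf VB_402) (.leaf VB_1426)) (.leaf VB_914)))) (.node (.node (.node (.node (.leaf VB_82) (.leaf VB_1106)) (.node (.leaf VB_594) (.leaf VB_1618))) (.node (.node (.leaf VB_338) (.leaf VB_1362)) (.leaf VB_850))) (.node (.node (.node (.leaf VB_210) (.leaf VB_1234)) (.leaf VB_722)) (.node (.node (.leaf VB_466) (.leaf VB_1490)) (.leaf VB_978))))) (.node (.node (.node (.node (.node (.leaf VB_50) (.leaf VB_1074)) (.node (.leaf VB_562) (.leaf VB_1586))) (.node (.node (.leaf VB_306) (.leaf VB_1330)) (.leaf VB_818))) (.node (.node (.node (.leaf VB_178) (.leaf VB_1202)) (.leaf VB_690)) (.node (.node (.leaf VB_434) (.leaf VB_1458)) (.leaf VB_946)))) (.node (.node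 (.node (.node (.leaf VB_114) (.leaf VB_1138)) (.leaf VB_626)) (.node (.node (.leaf VB_370) (.leaf VB_1394)) (.leaf VB_882))) (.node (.node (.node (.leaf VB_242) (.leaf VB_1266)) (.leaf VB_754)) (.node (.node (.leaf VB_498) (.leaf VB_1522)) (.leaf VB_1010))))))) (.node (.node (.node (.node (.node (.node (.node (.leaf VB_10) (.leaf VB_1034)) (.node (.leaf VB_522) (.leaf VB_1546))) (.node (.node (.leaf VB_266) (.leaf VB_1290)) (.leaf VB_778))) (.node (.node (.node (.leaf VB_138) (.leaf VB_1162)) (.leaf VB_650)) (.node (.node (.leaf VB_394) (.leaf VB_1418)) (.leaf VB_906)))) (.node (.node (.node (.node (.leaf VB_74) (.leaf VB_1098)) (.node (.leaf VB_586) (.leaf VB_1610))) (.node (.node (.leaf VB_330) (.leaf VB_1354)) (.leaf VB_842))) (.node (.node (.node (.leaf VB_202) (.leaf VB_1226)) (.leaf VB_714)) (.node (.node (.leaf VB_458) (.leaf VB_1482)) (.leaf VB_970))))) (.node (.node (.node (.node (.node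 (.leaf VB_42) (.leaf VB_1066)) (.node (.leaf VB_554) (.leaf VB_1578))) (.node (.node (.leaf VB_298) (.leaf VB_1322)) (.leaf VB_810))) (.node (.node (.node (.leaf VB_170) (.leaf VB_1194)) (.leaf VB_682)) (.node (.node (.leaf VB_426) (.leaf VB_1450)) (.leaf VB_938)))) (.node (.node (.node (.node (.leaf VB_106) (.leaf VB_1130)) (.leaf VB_618)) (.node (.node (.leaf VB_362) (.leaf VB_1386)) (.leaf VB_874))) (.node (.node (.node (.leaf VB_234) (.leaf VB_1258)) (.leaf VB_746)) (.node (.node (.leaf VB_490) (.leaf VB_1514)) (.leaf VB_1002)))))) (.node (.node (.node (.node (.node (.node (.leaf VB_26) (.leaf VB_1050)) (.node (.leaf VB_538) (.leaf VB_1562))) (.node (.node (.leaf VB_282) (.leaf VB_1306)) (.leaf VB_794))) (.node (.node (.node (.leaf VB_154) (.leaf VB_1178)) (.leaf VB_666)) (.node (.node (.leaf VB_410) (.leaf VB_1434)) (.leaf VB_922)))) (.node (.node (.node (.node (.leaf VB_90) (.leaf VB_1114))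 (.node (.leaf VB_602) (.leaf VB_1626))) (.node (.node (.leaf VB_346) (.leaf VB_1370)) (.leaf VB_858))) (.node (.node (.node (.leaf VB_218) (.leaf VB_1242)) (.leaf VB_730)) (.node (.node (.leaf VB_474) (.leaf VB_1498)) (.leaf VB_986))))) (.node (.node (.node (.node (.node (.leaf VB_58) (.leaf VB_1082)) (.node (.leaf VB_570) (.leaf VB_1594))) (.node (.node (.leaf VB_314) (.leaf VB_1338)) (.leaf VB_826))) (.node (.node (.node (.leaf VB_186) (.leaf VB_1210)) (.leaf VB_698)) (.node (.node (.leaf VB_442) (.leaf VB_1466)) (.leaf VB_954)))) (.node (.node (.node (.node (.leaf VB_122) (.leaf VB_1146)) (.leaf VB_634)) (.node (.node (.leaf VB_378) (.leaf VB_1402)) (.leaf VB_890))) (.node (.node (.node (.leaf VB_250) (.leaf VB_1274)) (.leaf VB_762)) (.node (.node (.leaf VB_506) (.leaf VB_1530)) (.leaf VB_1018)))))))) (.node (.node (.node (.node (.node (.node (.node (.node (.leaf VB_6) (.leaf VB_1030)) (.node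 (.leaf VB_518) (.leaf VB_1542))) (.node (.node (.leaf VB_262) (.leaf VB_1286)) (.leaf VB_774))) (.node (.node (.node (.leaf VB_134) (.leaf VB_1158)) (.leaf VB_646)) (.node (.node (.leaf VB_390) (.leaf VB_1414)) (.leaf VB_902)))) (.node (.node (.node (.node (.leaf VB_70) (.leaf VB_1094)) (.node (.leaf VB_582) (.leaf VB_1606))) (.node (.node (.leaf VB_326) (.leaf VB_1350)) (.leaf VB_838))) (.node (.node (.node (.leaf VB_198) (.leaf VB_1222)) (.leaf VB_710)) (.node (.node (.leaf VB_454) (.leaf VB_1478)) (.leaf VB_966))))) (.node (.node (.node (.node (.node (.leaf VB_38) (.leaf VB_1062)) (.node (.leaf VB_550) (.leaf VB_1574))) (.node (.node (.leaf VB_294) (.leaf VB_1318)) (.leaf VB_806))) (.node (.node (.node (.leaf VB_166) (.leaf VB_1190)) (.leaf VB_678)) (.node (.node (.leaf VB_422) (.leaf VB_1446)) (.leaf VB_934)))) (.node (.node (.node (.node (.leaf VB_102) (.leaf VB_1126)) (.leaf VB_614))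 (.node (.node (.leaf VB_358) (.leaf VB_1382)) (.leaf VB_870))) (.node (.node (.node (.leaf VB_230) (.leaf VB_1254)) (.leaf VB_742)) (.node (.node (.leaf VB_486) (.leaf VB_1510)) (.leaf VB_998)))))) (.node (.node (.node (.node (.node (.node (.leaf VB_22) (.leaf VB_1046)) (.node (.leaf VB_534) (.leaf VB_1558))) (.node (.node (.leaf VB_278) (.leaf VB_1302)) (.leaf VB_790))) (.node (.node (.node (.leaf VB_150) (.leaf VB_1174)) (.leaf VB_662)) (.node (.node (.leaf VB_406) (.leaf VB_1430)) (.leaf VB_918)))) (.node (.node (.node (.node (.leaf VB_86) (.leaf VB_1110)) (.node (.leaf VB_598) (.leaf VB_1622))) (.node (.node (.leaf VB_342) (.leaf VB_1366)) (.leaf VB_854))) (.node (.node (.node (.leaf VB_214) (.leaf VB_1238)) (.leaf VB_726)) (.node (.node (.leaf VB_470) (.leaf VB_1494)) (.leaf VB_982))))) (.node (.node (.node (.node (.node (.leaf VB_54) (.leaf VB_1078)) (.node (.leaf VB_566) (.leaf VB_1590)))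 (.node (.node (.leaf VB_310) (.leaf VB_1334)) (.leaf VB_822))) (.node (.node (.node (.leaf VB_182) (.leaf VB_1206)) (.leaf VB_694)) (.node (.node (.leaf VB_438) (.leaf VB_1462)) (.leaf VB_950)))) (.node (.node (.node (.node (.leaf VB_118) (.leaf VB_1142)) (.leaf VB_630)) (.node (.node (.leaf VB_374) (.leaf VB_1398)) (.leaf VB_886))) (.node (.node (.node (.leaf VB_246) (.leaf VB_1270)) (.leaf VB_758)) (.node (.node (.leaf VB_502) (.leaf VB_1526)) (.leaf VB_1014))))))) (.node (.node (.node (.node (.node (.node (.node (.leaf VB_14) (.leaf VB_1038)) (.node (.leaf VB_526) (.leaf VB_1550))) (.node (.node (.leaf VB_270) (.leaf VB_1294)) (.leaf VB_782))) (.node (.node (.node (.leaf VB_142) (.leaf VB_1166)) (.leaf VB_654)) (.node (.node (.leaf VB_398) (.leaf VB_1422)) (.leaf VB_910)))) (.node (.node (.node (.node (.leaf VB_78) (.leaf VB_1102)) (.node (.leaf VB_590) (.leaf VB_1614))) (.node (.node (.leaf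 VB_334) (.leaf VB_1358)) (.leaf VB_846))) (.node (.node (.node (.leaf VB_206) (.leaf VB_1230)) (.leaf VB_718)) (.node (.node (.leaf VB_462) (.leaf VB_1486)) (.leaf VB_974))))) (.node (.node (.node (.node (.node (.leaf VB_46) (.leaf VB_1070)) (.node (.leaf VB_558) (.leaf VB_1582))) (.node (.node (.leaf VB_302) (.leaf VB_1326)) (.leaf VB_814))) (.node (.node (.node (.leaf VB_174) (.leaf VB_1198)) (.leaf VB_686)) (.node (.node (.leaf VB_430) (.leaf VB_1454)) (.leaf VB_942)))) (.node (.node (.node (.node (.leaf VB_110) (.leaf VB_1134)) (.leaf VB_622)) (.node (.node (.leaf VB_366) (.leaf VB_1390)) (.leaf VB_878))) (.node (.node (.node (.leaf VB_238) (.leaf VB_1262)) (.leaf VB_750)) (.node (.node (.leaf VB_494) (.leaf VB_1518)) (.leaf VB_1006)))))) (.node (.node (.node (.node (.node (.node (.leaf VB_30) (.leaf VB_1054)) (.node (.leaf VB_542) (.leaf VB_1566))) (.node (.node (.leaf VB_286) (.leaf VB_1310))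 (.leaf VB_798))) (.node (.node (.node (.leaf VB_158) (.leaf VB_1182)) (.leaf VB_670)) (.node (.node (.leaf VB_414) (.leaf VB_1438)) (.leaf VB_926)))) (.node (.node (.node (.node (.leaf VB_94) (.leaf VB_1118)) (.node (.leaf VB_606) (.leaf VB_1630))) (.node (.node (.leaf VB_350) (.leaf VB_1374)) (.leaf VB_862))) (.node (.node (.node (.leaf VB_222) (.leaf VB_1246)) (.leaf VB_734)) (.node (.node (.leaf VB_478) (.leaf VB_1502)) (.leaf VB_990))))) (.node (.node (.node (.node (.node (.leaf VB_62) (.leaf VB_1086)) (.node (.leaf VB_574) (.leaf VB_1598))) (.node (.node (.leaf VB_318) (.leaf VB_1342)) (.leaf VB_830))) (.node (.node (.node (.leaf VB_190) (.leaf VB_1214)) (.leaf VB_702)) (.node (.node (.leaf VB_446) (.leaf VB_1470)) (.leaf VB_958)))) (.node (.node (.node (.node (.leaf VB_126) (.leaf VB_1150)) (.leaf VB_638)) (.node (.node (.leaf VB_382) (.leaf VB_1406)) (.leaf VB_894))) (.node (.node (.node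 (.leaf VB_254) (.leaf VB_1278)) (.leaf VB_766)) (.node (.node (.leaf VB_510) (.leaf VB_1534)) (.leaf VB_1022)))))))))) (.node (.node (.node (.node (.node (.node (.node (.node (.node (.node (.leaf VB_1) (.leaf VB_1025)) (.node (.leaf VB_513) (.leaf VB_1537))) (.node (.node (.leaf VB_257) (.leaf VB_1281)) (.leaf VB_769))) (.node (.node (.node (.leaf VB_129) (.leaf VB_1153)) (.leaf VB_641)) (.node (.node (.leaf VB_385) (.leaf VB_1409)) (.leaf VB_897)))) (.node (.node (.node (.node (.leaf VB_65) (.leaf VB_1089)) (.node (.leaf VB_577) (.leaf VB_1601))) (.node (.node (.leaf VB_321) (.leaf VB_1345)) (.leaf VB_833))) (.node (.node (.node (.leaf VB_193) (.leaf VB_1217)) (.leaf VB_705)) (.node (.node (.leaf VB_449) (.leaf VB_1473)) (.leaf VB_961))))) (.node (.node (.node (.node (.node (.leaf VB_33) (.leaf VB_1057)) (.node (.leaf VB_545) (.leaf VB_1569))) (.node (.node (.leaf VB_289) (.leaf VB_1313))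 (.leaf VB_801))) (.node (.node (.node (.leaf VB_161) (.leaf VB_1185)) (.leaf VB_673)) (.node (.node (.leaf VB_417) (.leaf VB_1441)) (.leaf VB_929)))) (.node (.node (.node (.node (.leaf VB_97) (.leaf VB_1121)) (.node (.leaf VB_609) (.leaf VB_1633))) (.node (.node (.leaf VB_353) (.leaf VB_1377)) (.leaf VB_865))) (.node (.node (.node (.leaf VB_225) (.leaf VB_1249)) (.leaf VB_737)) (.node (.node (.leaf VB_481) (.leaf VB_1505)) (.leaf VB_993)))))) (.node (.node (.node (.node (.node (.node (.leaf VB_17) (.leaf VB_1041)) (.node (.leaf VB_529) (.leaf VB_1553))) (.node (.node (.leaf VB_273) (.leaf VB_1297)) (.leaf VB_785))) (.node (.node (.node (.leaf VB_145) (.leaf VB_1169)) (.leaf VB_657)) (.node (.node (.leaf VB_401) (.leaf VB_1425)) (.leaf VB_913)))) (.node (.node (.node (.node (.leaf VB_81) (.leaf VB_1105)) (.node (.leaf VB_593) (.leaf VB_1617))) (.node (.node (.leaf VB_337) (.leaf VB_1361)) (.leaf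 VB_849))) (.node (.node (.node (.leaf VB_209) (.leaf VB_1233)) (.leaf VB_721)) (.node (.node (.leaf VB_465) (.leaf VB_1489)) (.leaf VB_977))))) (.node (.node (.node (.node (.node (.leaf VB_49) (.leaf VB_1073)) (.node (.leaf VB_561) (.leaf VB_1585))) (.node (.node (.leaf VB_305) (.leaf VB_1329)) (.leaf VB_817))) (.node (.node (.node (.leaf VB_177) (.leaf VB_1201)) (.leaf VB_689)) (.node (.node (.leaf VB_433) (.leaf VB_1457)) (.leaf VB_945)))) (.node (.node (.node (.node (.leaf VB_113) (.leaf VB_1137)) (.leaf VB_625)) (.node (.node (.leaf VB_369) (.leaf VB_1393)) (.leaf VB_881))) (.node (.node (.node (.leaf VB_241) (.leaf VB_1265)) (.leaf VB_753)) (.node (.node (.leaf VB_497) (.leaf VB_1521)) (.leaf VB_1009))))))) (.node (.node (.node (.node (.node (.node (.node (.leaf VB_9) (.leaf VB_1033)) (.node (.leaf VB_521) (.leaf VB_1545))) (.node (.node (.leaf VB_265) (.leaf VB_1289)) (.leaf VB_777)))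 (.node (.node (.node (.leaf VB_137) (.leaf VB_1161)) (.leaf VB_649)) (.node (.node (.leaf VB_393) (.leaf VB_1417)) (.leaf VB_905)))) (.node (.node (.node (.node (.leaf VB_73) (.leaf VB_1097)) (.node (.leaf VB_585) (.leaf VB_1609))) (.node (.node (.leaf VB_329) (.leaf VB_1353)) (.leaf VB_841))) (.node (.node (.node (.leaf VB_201) (.leaf VB_1225)) (.leaf VB_713)) (.node (.node (.leaf VB_457) (.leaf VB_1481)) (.leaf VB_969))))) (.node (.node (.node (.node (.node (.leaf VB_41) (.leaf VB_1065)) (.node (.leaf VB_553) (.leaf VB_1577))) (.node (.node (.leaf VB_297) (.leaf VB_1321)) (.leaf VB_809))) (.node (.node (.node (.leaf VB_169) (.leaf VB_1193)) (.leaf VB_681)) (.node (.node (.leaf VB_425) (.leaf VB_1449)) (.leaf VB_937)))) (.node (.node (.node (.node (.leaf VB_105) (.leaf VB_1129)) (.leaf VB_617)) (.node (.node (.leaf VB_361) (.leaf VB_1385)) (.leaf VB_873))) (.node (.node (.node (.leaf VB_233)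 (.leaf VB_1257)) (.leaf VB_745)) (.node (.node (.leaf VB_489) (.leaf VB_1513)) (.leaf VB_1001)))))) (.node (.node (.node (.node (.node (.node (.leaf VB_25) (.leaf VB_1049)) (.node (.leaf VB_537) (.leaf VB_1561))) (.node (.node (.leaf VB_281) (.leaf VB_1305)) (.leaf VB_793))) (.node (.node (.node (.leaf VB_153) (.leaf VB_1177)) (.leaf VB_665)) (.node (.node (.leaf VB_409) (.leaf VB_1433)) (.leaf VB_921)))) (.node (.node (.node (.node (.leaf VB_89) (.leaf VB_1113)) (.node (.leaf VB_601) (.leaf VB_1625))) (.node (.node (.leaf VB_345) (.leaf VB_1369)) (.leaf VB_857))) (.node (.node (.node (.leaf VB_217) (.leaf VB_1241)) (.leaf VB_729)) (.node (.node (.leaf VB_473) (.leaf VB_1497)) (.leaf VB_985))))) (.node (.node (.node (.node (.node (.leaf VB_57) (.leaf VB_1081)) (.node (.leaf VB_569) (.leaf VB_1593))) (.node (.node (.leaf VB_313) (.leaf VB_1337)) (.leaf VB_825))) (.node (.node (.node (.leaf VB_185)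 (.leaf VB_1209)) (.leaf VB_697)) (.node (.node (.leaf VB_441) (.leaf VB_1465)) (.leaf VB_953)))) (.node (.node (.node (.node (.leaf VB_121) (.leaf VB_1145)) (.leaf VB_633)) (.node (.node (.leaf VB_377) (.leaf VB_1401)) (.leaf VB_889))) (.node (.node (.node (.leaf VB_249) (.leaf VB_1273)) (.leaf VB_761)) (.node (.node (.leaf VB_505) (.leaf VB_1529)) (.leaf VB_1017)))))))) (.node (.node (.node (.node (.node (.node (.node (.node (.leaf VB_5) (.leaf VB_1029)) (.node (.leaf VB_517) (.leaf VB_1541))) (.node (.node (.leaf VB_261) (.leaf VB_1285)) (.leaf VB_773))) (.node (.node (.node (.leaf VB_133) (.leaf VB_1157)) (.leaf VB_645)) (.node (.node (.leaf VB_389) (.leaf VB_1413)) (.leaf VB_901)))) (.node (.node (.node (.node (.leaf VB_69) (.leaf VB_1093)) (.node (.leaf VB_581) (.leaf VB_1605))) (.node (.node (.leaf VB_325) (.leaf VB_1349)) (.leaf VB_837))) (.node (.node (.node (.leaf VB_197) (.leaf VB_1221))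 (.leaf VB_709)) (.node (.node (.leaf VB_453) (.leaf VB_1477)) (.leaf VB_965))))) (.node (.node (.node (.node (.node (.leaf VB_37) (.leaf VB_1061)) (.node (.leaf VB_549) (.leaf VB_1573))) (.node (.node (.leaf VB_293) (.leaf VB_1317)) (.leaf VB_805))) (.node (.node (.node (.leaf VB_165) (.leaf VB_1189)) (.leaf VB_677)) (.node (.node (.leaf VB_421) (.leaf VB_1445)) (.leaf VB_933)))) (.node (.node (.node (.node (.leaf VB_101) (.leaf VB_1125)) (.leaf VB_613)) (.node (.node (.leaf VB_357) (.leaf VB_1381)) (.leaf VB_869))) (.node (.node (.node (.leaf VB_229) (.leaf VB_1253)) (.leaf VB_741)) (.node (.node (.leaf VB_485) (.leaf VB_1509)) (.leaf VB_997)))))) (.node (.node (.node (.node (.node (.node (.leaf VB_21) (.leaf VB_1045)) (.node (.leaf VB_533) (.leaf VB_1557))) (.node (.node (.leaf VB_277) (.leaf VB_1301)) (.leaf VB_789))) (.node (.node (.node (.leaf VB_149) (.leaf VB_1173)) (.leaf VB_661)) (.node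 (.node (.leaf VB_405) (.leaf VB_1429)) (.leaf VB_917)))) (.node (.node (.node (.node (.leaf VB_85) (.leaf VB_1109)) (.node (.leaf VB_597) (.leaf VB_1621))) (.node (.node (.leaf VB_341) (.leaf VB_1365)) (.leaf VB_853))) (.node (.node (.node (.leaf VB_213) (.leaf VB_1237)) (.leaf VB_725)) (.node (.node (.leaf VB_469) (.leaf VB_1493)) (.leaf VB_981))))) (.node (.node (.node (.node (.node (.leaf VB_53) (.leaf VB_1077)) (.node (.leaf VB_565) (.leaf VB_1589))) (.node (.node (.leaf VB_309) (.leaf VB_1333)) (.leaf VB_821))) (.node (.node (.node (.leaf VB_181) (.leaf VB_1205)) (.leaf VB_693)) (.node (.node (.leaf VB_437) (.leaf VB_1461)) (.leaf VB_949)))) (.node (.node (.node (.node (.leaf VB_117) (.leaf VB_1141)) (.leaf VB_629)) (.node (.node (.leaf VB_373) (.leaf VB_1397)) (.leaf VB_885))) (.node (.node (.node (.leaf VB_245) (.leaf VB_1269)) (.leaf VB_757)) (.node (.node (.leaf VB_501) (.leaf VB_1525))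 (.leaf VB_1013))))))) (.node (.node (.node (.node (.node (.node (.node (.leaf VB_13) (.leaf VB_1037)) (.node (.leaf VB_525) (.leaf VB_1549))) (.node (.node (.leaf VB_269) (.leaf VB_1293)) (.leaf VB_781))) (.node (.node (.node (.leaf VB_141) (.leaf VB_1165)) (.leaf VB_653)) (.node (.node (.leaf VB_397) (.leaf VB_1421)) (.leaf VB_909)))) (.node (.node (.node (.node (.leaf VB_77) (.leaf VB_1101)) (.node (.leaf VB_589) (.leaf VB_1613))) (.node (.node (.leaf VB_333) (.leaf VB_1357)) (.leaf VB_845))) (.node (.node (.node (.leaf VB_205) (.leaf VB_1229)) (.leaf VB_717)) (.node (.node (.leaf VB_461) (.leaf VB_1485)) (.leaf VB_973))))) (.node (.node (.node (.node (.node (.leaf VB_45) (.leaf VB_1069)) (.node (.leaf VB_557) (.leaf VB_1581))) (.node (.node (.leaf VB_301) (.leaf VB_1325)) (.leaf VB_813))) (.node (.node (.node (.leaf VB_173) (.leaf VB_1197)) (.leaf VB_685)) (.node (.node (.leaf VB_429) (.leaf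 VB_1453)) (.leaf VB_941)))) (.node (.node (.node (.node (.leaf VB_109) (.leaf VB_1133)) (.leaf VB_621)) (.node (.node (.leaf VB_365) (.leaf VB_1389)) (.leaf VB_877))) (.node (.node (.node (.leaf VB_237) (.leaf VB_1261)) (.leaf VB_749)) (.node (.node (.leaf VB_493) (.leaf VB_1517)) (.leaf VB_1005)))))) (.node (.node (.node (.node (.node (.node (.leaf VB_29) (.leaf VB_1053)) (.node (.leaf VB_541) (.leaf VB_1565))) (.node (.node (.leaf VB_285) (.leaf VB_1309)) (.leaf VB_797))) (.node (.node (.node (.leaf VB_157) (.leaf VB_1181)) (.leaf VB_669)) (.node (.node (.leaf VB_413) (.leaf VB_1437)) (.leaf VB_925)))) (.node (.node (.node (.node (.leaf VB_93) (.leaf VB_1117)) (.node (.leaf VB_605) (.leaf VB_1629))) (.node (.node (.leaf VB_349) (.leaf VB_1373)) (.leaf VB_861))) (.node (.node (.node (.leaf VB_221) (.leaf VB_1245)) (.leaf VB_733)) (.node (.node (.leaf VB_477) (.leaf VB_1501)) (.leaf VB_989)))))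 (.node (.node (.node (.node (.node (.leaf VB_61) (.leaf VB_1085)) (.node (.leaf VB_573) (.leaf VB_1597))) (.node (.node (.leaf VB_317) (.leaf VB_1341)) (.leaf VB_829))) (.node (.node (.node (.leaf VB_189) (.leaf VB_1213)) (.leaf VB_701)) (.node (.node (.leaf VB_445) (.leaf VB_1469)) (.leaf VB_957)))) (.node (.node (.node (.node (.leaf VB_125) (.leaf VB_1149)) (.leaf VB_637)) (.node (.node (.leaf VB_381) (.leaf VB_1405)) (.leaf VB_893))) (.node (.node (.node (.leaf VB_253) (.leaf VB_1277)) (.leaf VB_765)) (.node (.node (.leaf VB_509) (.leaf VB_1533)) (.leaf VB_1021))))))))) (.node (.node (.node (.node (.node (.node (.node (.node (.node (.leaf VB_3) (.leaf VB_1027)) (.node (.leaf VB_515) (.leaf VB_1539))) (.node (.node (.leaf VB_259) (.leaf VB_1283)) (.leaf VB_771))) (.node (.node (.node (.leaf VB_131) (.leaf VB_1155)) (.leaf VB_643)) (.node (.node (.leaf VB_387) (.leaf VB_1411)) (.leaf VB_899))))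 (.node (.node (.node (.node (.leaf VB_67) (.leaf VB_1091)) (.node (.leaf VB_579) (.leaf VB_1603))) (.node (.node (.leaf VB_323) (.leaf VB_1347)) (.leaf VB_835))) (.node (.node (.node (.leaf VB_195) (.leaf VB_1219)) (.leaf VB_707)) (.node (.node (.leaf VB_451) (.leaf VB_1475)) (.leaf VB_963))))) (.node (.node (.node (.node (.node (.leaf VB_35) (.leaf VB_1059)) (.node (.leaf VB_547) (.leaf VB_1571))) (.node (.node (.leaf VB_291) (.leaf VB_1315)) (.leaf VB_803))) (.node (.node (.node (.leaf VB_163) (.leaf VB_1187)) (.leaf VB_675)) (.node (.node (.leaf VB_419) (.leaf VB_1443)) (.leaf VB_931)))) (.node (.node (.node (.node (.leaf VB_99) (.leaf VB_1123)) (.node (.leaf VB_611) (.leaf VB_1635))) (.node (.node (.leaf VB_355) (.leaf VB_1379)) (.leaf VB_867))) (.node (.node (.node (.leaf VB_227) (.leaf VB_1251)) (.leaf VB_739)) (.node (.node (.leaf VB_483) (.leaf VB_1507)) (.leaf VB_995)))))) (.node (.node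 (.node (.node (.node (.node (.leaf VB_19) (.leaf VB_1043)) (.node (.leaf VB_531) (.leaf VB_1555))) (.node (.node (.leaf VB_275) (.leaf VB_1299)) (.leaf VB_787))) (.node (.node (.node (.leaf VB_147) (.leaf VB_1171)) (.leaf VB_659)) (.node (.node (.leaf VB_403) (.leaf VB_1427)) (.leaf VB_915)))) (.node (.node (.node (.node (.leaf VB_83) (.leaf VB_1107)) (.node (.leaf VB_595) (.leaf VB_1619))) (.node (.node (.leaf VB_339) (.leaf VB_1363)) (.leaf VB_851))) (.node (.node (.node (.leaf VB_211) (.leaf VB_1235)) (.leaf VB_723)) (.node (.node (.leaf VB_467) (.leaf VB_1491)) (.leaf VB_979))))) (.node (.node (.node (.node (.node (.leaf VB_51) (.leaf VB_1075)) (.node (.leaf VB_563) (.leaf VB_1587))) (.node (.node (.leaf VB_307) (.leaf VB_1331)) (.leaf VB_819))) (.node (.node (.node (.leaf VB_179) (.leaf VB_1203)) (.leaf VB_691)) (.node (.node (.leaf VB_435) (.leaf VB_1459)) (.leaf VB_947)))) (.node (.node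 (.node (.node (.leaf VB_115) (.leaf VB_1139)) (.leaf VB_627)) (.node (.node (.leaf VB_371) (.leaf VB_1395)) (.leaf VB_883))) (.node (.node (.node (.leaf VB_243) (.leaf VB_1267)) (.leaf VB_755)) (.node (.node (.leaf VB_499) (.leaf VB_1523)) (.leaf VB_1011))))))) (.node (.node (.node (.node (.node (.node (.node (.leaf VB_11) (.leaf VB_1035)) (.node (.leaf VB_523) (.leaf VB_1547))) (.node (.node (.leaf VB_267) (.leaf VB_1291)) (.leaf VB_779))) (.node (.node (.node (.leaf VB_139) (.leaf VB_1163)) (.leaf VB_651)) (.node (.node (.leaf VB_395) (.leaf VB_1419)) (.leaf VB_907)))) (.node (.node (.node (.node (.leaf VB_75) (.leaf VB_1099)) (.node (.leaf VB_587) (.leaf VB_1611))) (.node (.node (.leaf VB_331) (.leaf VB_1355)) (.leaf VB_843))) (.node (.node (.node (.leaf VB_203) (.leaf VB_1227)) (.leaf VB_715)) (.node (.node (.leaf VB_459) (.leaf VB_1483)) (.leaf VB_971))))) (.node (.node (.node (.node (.node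 (.leaf VB_43) (.leaf VB_1067)) (.node (.leaf VB_555) (.leaf VB_1579))) (.node (.node (.leaf VB_299) (.leaf VB_1323)) (.leaf VB_811))) (.node (.node (.node (.leaf VB_171) (.leaf VB_1195)) (.leaf VB_683)) (.node (.node (.leaf VB_427) (.leaf VB_1451)) (.leaf VB_939)))) (.node (.node (.node (.node (.leaf VB_107) (.leaf VB_1131)) (.leaf VB_619)) (.node (.node (.leaf VB_363) (.leaf VB_1387)) (.leaf VB_875))) (.node (.node (.node (.leaf VB_235) (.leaf VB_1259)) (.leaf VB_747)) (.node (.node (.leaf VB_491) (.leaf VB_1515)) (.leaf VB_1003)))))) (.node (.node (.node (.node (.node (.node (.leaf VB_27) (.leaf VB_1051)) (.node (.leaf VB_539) (.leaf VB_1563))) (.node (.node (.leaf VB_283) (.leaf VB_1307)) (.leaf VB_795))) (.node (.node (.node (.leaf VB_155) (.leaf VB_1179)) (.leaf VB_667)) (.node (.node (.leaf VB_411) (.leaf VB_1435)) (.leaf VB_923)))) (.node (.node (.node (.node (.leaf VB_91) (.leaf VB_1115))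 (.node (.leaf VB_603) (.leaf VB_1627))) (.node (.node (.leaf VB_347) (.leaf VB_1371)) (.leaf VB_859))) (.node (.node (.node (.leaf VB_219) (.leaf VB_1243)) (.leaf VB_731)) (.node (.node (.leaf VB_475) (.leaf VB_1499)) (.leaf VB_987))))) (.node (.node (.node (.node (.node (.leaf VB_59) (.leaf VB_1083)) (.node (.leaf VB_571) (.leaf VB_1595))) (.node (.node (.leaf VB_315) (.leaf VB_1339)) (.leaf VB_827))) (.node (.node (.node (.leaf VB_187) (.leaf VB_1211)) (.leaf VB_699)) (.node (.node (.leaf VB_443) (.leaf VB_1467)) (.leaf VB_955)))) (.node (.node (.node (.node (.leaf VB_123) (.leaf VB_1147)) (.leaf VB_635)) (.node (.node (.leaf VB_379) (.leaf VB_1403)) (.leaf VB_891))) (.node (.node (.node (.leaf VB_251) (.leaf VB_1275)) (.leaf VB_763)) (.node (.node (.leaf VB_507) (.leaf VB_1531)) (.leaf VB_1019)))))))) (.node (.node (.node (.node (.node (.node (.node (.node (.leaf VB_7) (.leaf VB_1031)) (.node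 (.leaf VB_519) (.leaf VB_1543))) (.node (.node (.leaf VB_263) (.leaf VB_1287)) (.leaf VB_775))) (.node (.node (.node (.leaf VB_135) (.leaf VB_1159)) (.leaf VB_647)) (.node (.node (.leaf VB_391) (.leaf VB_1415)) (.leaf VB_903)))) (.node (.node (.node (.node (.leaf VB_71) (.leaf VB_1095)) (.node (.leaf VB_583) (.leaf VB_1607))) (.node (.node (.leaf VB_327) (.leaf VB_1351)) (.leaf VB_839))) (.node (.node (.node (.leaf VB_199) (.leaf VB_1223)) (.leaf VB_711)) (.node (.node (.leaf VB_455) (.leaf VB_1479)) (.leaf VB_967))))) (.node (.node (.node (.node (.node (.leaf VB_39) (.leaf VB_1063)) (.node (.leaf VB_551) (.leaf VB_1575))) (.node (.node (.leaf VB_295) (.leaf VB_1319)) (.leaf VB_807))) (.node (.node (.node (.leaf VB_167) (.leaf VB_1191)) (.leaf VB_679)) (.node (.node (.leaf VB_423) (.leaf VB_1447)) (.leaf VB_935)))) (.node (.node (.node (.node (.leaf VB_103) (.leaf VB_1127)) (.leaf VB_615))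 (.node (.node (.leaf VB_359) (.leaf VB_1383)) (.leaf VB_871))) (.node (.node (.node (.leaf VB_231) (.leaf VB_1255)) (.leaf VB_743)) (.node (.node (.leaf VB_487) (.leaf VB_1511)) (.leaf VB_999)))))) (.node (.node (.node (.node (.node (.node (.leaf VB_23) (.leaf VB_1047)) (.node (.leaf VB_535) (.leaf VB_1559))) (.node (.node (.leaf VB_279) (.leaf VB_1303)) (.leaf VB_791))) (.node (.node (.node (.leaf VB_151) (.leaf VB_1175)) (.leaf VB_663)) (.node (.node (.leaf VB_407) (.leaf VB_1431)) (.leaf VB_919)))) (.node (.node (.node (.node (.leaf VB_87) (.leaf VB_1111)) (.node (.leaf VB_599) (.leaf VB_1623))) (.node (.node (.leaf VB_343) (.leaf VB_1367)) (.leaf VB_855))) (.node (.node (.node (.leaf VB_215) (.leaf VB_1239)) (.leaf VB_727)) (.node (.node (.leaf VB_471) (.leaf VB_1495)) (.leaf VB_983))))) (.node (.node (.node (.node (.node (.leaf VB_55) (.leaf VB_1079)) (.node (.leaf VB_567) (.leaf VB_1591)))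 (.node (.node (.leaf VB_311) (.leaf VB_1335)) (.leaf VB_823))) (.node (.node (.node (.leaf VB_183) (.leaf VB_1207)) (.leaf VB_695)) (.node (.node (.leaf VB_439) (.leaf VB_1463)) (.leaf VB_951)))) (.node (.node (.node (.node (.leaf VB_119) (.leaf VB_1143)) (.leaf VB_631)) (.node (.node (.leaf VB_375) (.leaf VB_1399)) (.leaf VB_887))) (.node (.node (.node (.leaf VB_247) (.leaf VB_1271)) (.leaf VB_759)) (.node (.node (.leaf VB_503) (.leaf VB_1527)) (.leaf VB_1015))))))) (.node (.node (.node (.node (.node (.node (.node (.leaf VB_15) (.leaf VB_1039)) (.node (.leaf VB_527) (.leaf VB_1551))) (.node (.node (.leaf VB_271) (.leaf VB_1295)) (.leaf VB_783))) (.node (.node (.node (.leaf VB_143) (.leaf VB_1167)) (.leaf VB_655)) (.node (.node (.leaf VB_399) (.leaf VB_1423)) (.leaf VB_911)))) (.node (.node (.node (.node (.leaf VB_79) (.leaf VB_1103)) (.node (.leaf VB_591) (.leaf VB_1615))) (.node (.node (.leaf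 VB_335) (.leaf VB_1359)) (.leaf VB_847))) (.node (.node (.node (.leaf VB_207) (.leaf VB_1231)) (.leaf VB_719)) (.node (.node (.leaf VB_463) (.leaf VB_1487)) (.leaf VB_975))))) (.node (.node (.node (.node (.node (.leaf VB_47) (.leaf VB_1071)) (.node (.leaf VB_559) (.leaf VB_1583))) (.node (.node (.leaf VB_303) (.leaf VB_1327)) (.leaf VB_815))) (.node (.node (.node (.leaf VB_175) (.leaf VB_1199)) (.leaf VB_687)) (.node (.node (.leaf VB_431) (.leaf VB_1455)) (.leaf VB_943)))) (.node (.node (.node (.node (.leaf VB_111) (.leaf VB_1135)) (.leaf VB_623)) (.node (.node (.leaf VB_367) (.leaf VB_1391)) (.leaf VB_879))) (.node (.node (.node (.leaf VB_239) (.leaf VB_1263)) (.leaf VB_751)) (.node (.node (.leaf VB_495) (.leaf VB_1519)) (.leaf VB_1007)))))) (.node (.node (.node (.node (.node (.node (.leaf VB_31) (.leaf VB_1055)) (.node (.leaf VB_543) (.leaf VB_1567))) (.node (.node (.leaf VB_287) (.leaf VB_1311))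 (.leaf VB_799))) (.node (.node (.node (.leaf VB_159) (.leaf VB_1183)) (.leaf VB_671)) (.node (.node (.leaf VB_415) (.leaf VB_1439)) (.leaf VB_927)))) (.node (.node (.node (.node (.leaf VB_95) (.leaf VB_1119)) (.node (.leaf VB_607) (.leaf VB_1631))) (.node (.node (.leaf VB_351) (.leaf VB_1375)) (.leaf VB_863))) (.node (.node (.node (.leaf VB_223) (.leaf VB_1247)) (.leaf VB_735)) (.node (.node (.leaf VB_479) (.leaf VB_1503)) (.leaf VB_991))))) (.node (.node (.node (.node (.node (.leaf VB_63) (.leaf VB_1087)) (.node (.leaf VB_575) (.leaf VB_1599))) (.node (.node (.leaf VB_319) (.leaf VB_1343)) (.leaf VB_831))) (.node (.node (.node (.leaf VB_191) (.leaf VB_1215)) (.leaf VB_703)) (.node (.node (.leaf VB_447) (.leaf VB_1471)) (.leaf VB_959)))) (.node (.node (.node (.node (.leaf VB_127) (.leaf VB_1151)) (.leaf VB_639)) (.node (.node (.leaf VB_383) (.leaf VB_1407)) (.leaf VB_895))) (.node (.node (.node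 (.leaf VB_255) (.leaf VB_1279)) (.leaf VB_767)) (.node (.node (.leaf VB_511) (.leaf VB_1535)) (.leaf VB_1023)))))))))))

noncomputable def V (c : ℕ) : ℕ := L0.rowOf VB (nat_lit 4) (nat_lit 15) (nat_lit 1616) (nat_lit 2913888926242835308217421926597745987801529352987465437637392668672241373660391161134106710912137259744359449961499812413119336051853490868478608454556897123995653575712467581451023528646743624190258758370923893703665621143743245428502366505461226798555269846089521582180262029664091335024822162482272470937794086961277521845738698764592669799612277314569222310480853090251746491804536976560525460439692758246335567843946398247582025327870733795117514526525946000657361182809433399361535) c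

noncomputable def parB : L0.BT := (.node (.node (.node (.node (.leaf parB_0) (.leaf parB_8)) (.node (.leaf parB_4) (.leaf parB_12))) (.node (.node (.leaf parB_2) (.leaf parB_10)) (.leaf parB_6))) (.node (.node (.node (.leaf parB_1) (.leaf parB_9)) (.leaf parB_5)) (.node (.node (.leaf parB_3) (.leaf parB_11)) (.leaf parB_7))))

noncomputable def par (c : ℕ) : ℕ := L0.rowOf parB (nat_lit 11) (nat_lit 2047) (nat_lit 18) (nat_lit 262143) c

noncomputable def ordB : L0.BT := (.node (.node (.node (.node (.leaf ordB_0) (.leaf ordB_8)) (.node (.leaf ordB_4) (.leaf ordB_12))) (.node (.node (.leaf ordB_2) (.leaf ordB_10)) (.leaf ordB_6))) (.node (.node (.node (.leaf ordB_1) (.leaf ordB_9)) (.leaf ordB_5)) (.node (.node (.leaf ordB_3) (.leaf ordB_11)) (.leaf ordB_7))))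

noncomputable def ord (c : ℕ) : ℕ := L0.rowOf ordB (nat_lit 11) (nat_lit 2047) (nat_lit 15) (nat_lit 32767) c

def ws : List (List ℕ) := [[nat_lit 21, nat_lit 40, nat_lit 21, nat_lit 21, nat_lit 40, nat_lit 21, nat_lit 40, nat_lit 21, nat_lit 21, nat_lit 40, nat_lit 21, nat_lit 40, nat_lit 21, nat_lit 21, nat_lit 40, nat_lit 21, nat_lit 40, nat_lit 21, nat_lit 21, nat_lit 40], [nat_lit 28, nat_lit 31, nat_lit 21, nat_lit 19, nat_lit 28, nat_lit 31, nat_lit 21, nat_lit 19, nat_lit 28, nat_lit 31, nat_lit 21, nat_lit 19, nat_lit 28, nat_lit 31, nat_lit 21, nat_lit 19], [nat_lit 37, nat_lit 9, nat_lit 37, nat_lit 9, nat_lit 37, nat_lit 9]]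

def tw : List (List ℕ) := [[], [nat_lit 0, nat_lit 1, nat_lit 0, nat_lit 2, nat_lit 1, nat_lit 0, nat_lit 1, nat_lit 2, nat_lit 0, nat_lit 1, nat_lit 0, nat_lit 2, nat_lit 0, nat_lit 1, nat_lit 0, nat_lit 2, nat_lit 1, nat_lit 0, nat_lit 1, nat_lit 2, nat_lit 0, nat_lit 1, nat_lit 0, nat_lit 1, nat_lit 2, nat_lit 0, nat_lit 1, nat_lit 0, nat_lit 2, nat_lit 1, nat_lit 2, nat_lit 0, nat_lit 2, nat_lit 1, nat_lit 2, nat_lit 1, nat_lit 2, nat_lit 0, nat_lit 1, nat_lit 0, nat_lit 1, nat_lit 2, nat_lit 0, nat_lit 1, nat_lit 0, nat_lit 2, nat_lit 1, nat_lit 2, nat_lit 0, nat_lit 2, nat_lit 1, nat_lit 2, nat_lit 1, nat_lit 0, nat_lit 1, nat_lit 0, nat_lit 1, nat_lit 0, nat_lit 2, nat_lit 0, nat_lit 1, nat_lit 2, nat_lit 0, nat_lit 1, nat_lit 0, nat_lit 1, nat_lit 2, nat_lit 0, nat_lit 1, nat_lit 0, nat_lit 2, nat_lit 1, nat_lit 2, nat_lit 0, nat_lit 1, nat_lit 0, nat_lit 2, nat_lit 1, nat_lit 2, nat_lit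 1, nat_lit 0, nat_lit 1, nat_lit 2, nat_lit 0, nat_lit 1, nat_lit 0, nat_lit 2, nat_lit 0, nat_lit 1, nat_lit 0, nat_lit 2, nat_lit 1, nat_lit 0, nat_lit 2, nat_lit 0, nat_lit 1, nat_lit 0, nat_lit 2, nat_lit 0, nat_lit 1, nat_lit 2, nat_lit 0, nat_lit 1, nat_lit 0, nat_lit 1, nat_lit 2, nat_lit 0, nat_lit 1, nat_lit 0, nat_lit 2, nat_lit 1, nat_lit 2, nat_lit 0, nat_lit 1, nat_lit 0, nat_lit 2, nat_lit 1, nat_lit 2, nat_lit 1, nat_lit 0, nat_lit 1, nat_lit 2, nat_lit 0, nat_lit 1, nat_lit 0, nat_lit 2, nat_lit 0, nat_lit 1, nat_lit 0, nat_lit 2, nat_lit 1, nat_lit 0, nat_lit 2, nat_lit 1, nat_lit 0, nat_lit 1, nat_lit 2, nat_lit 1, nat_lit 2, nat_lit 0, nat_lit 1, nat_lit 0, nat_lit 2, nat_lit 0, nat_lit 1, nat_lit 0, nat_lit 2, nat_lit 1, nat_lit 0, nat_lit 2, nat_lit 0, nat_lit 2, nat_lit 0, nat_lit 1, nat_lit 0, nat_lit 1, nat_lit 2, nat_lit 1, nat_lit 0, nat_lit 1, nat_lit 0, nat_lit 2,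 nat_lit 1, nat_lit 0, nat_lit 1, nat_lit 2, nat_lit 0, nat_lit 1, nat_lit 0, nat_lit 2, nat_lit 0, nat_lit 1, nat_lit 0, nat_lit 2, nat_lit 1, nat_lit 0, nat_lit 1, nat_lit 2, nat_lit 0, nat_lit 2, nat_lit 0, nat_lit 1, nat_lit 0, nat_lit 1], [nat_lit 0, nat_lit 1, nat_lit 2, nat_lit 0, nat_lit 1, nat_lit 0, nat_lit 2, nat_lit 0, nat_lit 1, nat_lit 0, nat_lit 2, nat_lit 1, nat_lit 0, nat_lit 1, nat_lit 2, nat_lit 0, nat_lit 1, nat_lit 0, nat_lit 1, nat_lit 2, nat_lit 1, nat_lit 2, nat_lit 0, nat_lit 1, nat_lit 0, nat_lit 2, nat_lit 0, nat_lit 1, nat_lit 0, nat_lit 2, nat_lit 1, nat_lit 0, nat_lit 2, nat_lit 0, nat_lit 2, nat_lit 0, nat_lit 1, nat_lit 0, nat_lit 1, nat_lit 2, nat_lit 1, nat_lit 0, nat_lit 1, nat_lit 0, nat_lit 2, nat_lit 1, nat_lit 0, nat_lit 1, nat_lit 2, nat_lit 0, nat_lit 1, nat_lit 0, nat_lit 2, nat_lit 0, nat_lit 1, nat_lit 0, nat_lit 2, nat_lit 1, nat_lit 0, nat_lit 1,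 nat_lit 2, nat_lit 0, nat_lit 2, nat_lit 0, nat_lit 1, nat_lit 0, nat_lit 2, nat_lit 1, nat_lit 0, nat_lit 1, nat_lit 0, nat_lit 2, nat_lit 1, nat_lit 0, nat_lit 2, nat_lit 0, nat_lit 1, nat_lit 2, nat_lit 0, nat_lit 1, nat_lit 0, nat_lit 1, nat_lit 2, nat_lit 0, nat_lit 1, nat_lit 0, nat_lit 2, nat_lit 1, nat_lit 2, nat_lit 0, nat_lit 1, nat_lit 0, nat_lit 2, nat_lit 1, nat_lit 2, nat_lit 1, nat_lit 2, nat_lit 0, nat_lit 2, nat_lit 0, nat_lit 1, nat_lit 0, nat_lit 1, nat_lit 2, nat_lit 1, nat_lit 0, nat_lit 1, nat_lit 0, nat_lit 2, nat_lit 1, nat_lit 0, nat_lit 1, nat_lit 2, nat_lit 0, nat_lit 1, nat_lit 0, nat_lit 2, nat_lit 0, nat_lit 1, nat_lit 0, nat_lit 2, nat_lit 1, nat_lit 0, nat_lit 1, nat_lit 2, nat_lit 0, nat_lit 2, nat_lit 0, nat_lit 1, nat_lit 0, nat_lit 1], [nat_lit 1, nat_lit 2, nat_lit 1, nat_lit 2, nat_lit 0, nat_lit 1, nat_lit 0, nat_lit 2, nat_lit 1, nat_lit 2, nat_lit 0,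 nat_lit 1, nat_lit 0, nat_lit 2, nat_lit 1, nat_lit 0, nat_lit 1, nat_lit 0, nat_lit 2, nat_lit 1, nat_lit 0, nat_lit 2, nat_lit 0, nat_lit 1, nat_lit 0, nat_lit 2, nat_lit 1, nat_lit 0, nat_lit 1, nat_lit 2, nat_lit 0, nat_lit 1, nat_lit 0, nat_lit 2, nat_lit 0, nat_lit 1, nat_lit 0, nat_lit 2, nat_lit 0, nat_lit 2, nat_lit 1, nat_lit 2, nat_lit 0, nat_lit 1, nat_lit 0, nat_lit 2, nat_lit 0, nat_lit 1, nat_lit 2, nat_lit 0, nat_lit 1, nat_lit 0, nat_lit 1, nat_lit 2, nat_lit 0, nat_lit 1, nat_lit 0, nat_lit 2, nat_lit 1, nat_lit 2, nat_lit 0, nat_lit 1, nat_lit 0, nat_lit 2, nat_lit 1, nat_lit 2, nat_lit 1, nat_lit 2, nat_lit 0, nat_lit 2, nat_lit 0, nat_lit 1, nat_lit 0, nat_lit 1, nat_lit 2, nat_lit 1, nat_lit 0, nat_lit 1, nat_lit 0, nat_lit 2, nat_lit 1, nat_lit 0, nat_lit 1, nat_lit 2, nat_lit 0, nat_lit 1, nat_lit 0, nat_lit 2, nat_lit 0, nat_lit 1, nat_lit 0, nat_lit 2, nat_lit 1, nat_lit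 0, nat_lit 1, nat_lit 2, nat_lit 0, nat_lit 2, nat_lit 0, nat_lit 1, nat_lit 0, nat_lit 1, nat_lit 0, nat_lit 0, nat_lit 1, nat_lit 2, nat_lit 0, nat_lit 1, nat_lit 2, nat_lit 0, nat_lit 1, nat_lit 2, nat_lit 0, nat_lit 1, nat_lit 2, nat_lit 0, nat_lit 1, nat_lit 2, nat_lit 0, nat_lit 1, nat_lit 2, nat_lit 0, nat_lit 1, nat_lit 2, nat_lit 0, nat_lit 1, nat_lit 2, nat_lit 0, nat_lit 1, nat_lit 2, nat_lit 0, nat_lit 1, nat_lit 2, nat_lit 0, nat_lit 1, nat_lit 2, nat_lit 0, nat_lit 1, nat_lit 2, nat_lit 0, nat_lit 1, nat_lit 2, nat_lit 0, nat_lit 1, nat_lit 2, nat_lit 0, nat_lit 1, nat_lit 2, nat_lit 0, nat_lit 1, nat_lit 2, nat_lit 0, nat_lit 1, nat_lit 2, nat_lit 0, nat_lit 1, nat_lit 2, nat_lit 0, nat_lit 1, nat_lit 2], [nat_lit 2, nat_lit 1, nat_lit 0, nat_lit 1, nat_lit 2, nat_lit 1, nat_lit 2, nat_lit 1, nat_lit 2, nat_lit 1, nat_lit 0, nat_lit 2, nat_lit 0, nat_lit 1, nat_lit 0, nat_lit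 1, nat_lit 2, nat_lit 1, nat_lit 2, nat_lit 0, nat_lit 2, nat_lit 0, nat_lit 1, nat_lit 0, nat_lit 2, nat_lit 0, nat_lit 2, nat_lit 1, nat_lit 0, nat_lit 1, nat_lit 2, nat_lit 0, nat_lit 1, nat_lit 0, nat_lit 2, nat_lit 0, nat_lit 1, nat_lit 0, nat_lit 2, nat_lit 1, nat_lit 0, nat_lit 1, nat_lit 2, nat_lit 0, nat_lit 1, nat_lit 0, nat_lit 1, nat_lit 2, nat_lit 1, nat_lit 0, nat_lit 1, nat_lit 0, nat_lit 2, nat_lit 0, nat_lit 2, nat_lit 0, nat_lit 1, nat_lit 2, nat_lit 0, nat_lit 1, nat_lit 0, nat_lit 2, nat_lit 0, nat_lit 1, nat_lit 0, nat_lit 2, nat_lit 1, nat_lit 2, nat_lit 1, nat_lit 0, nat_lit 1, nat_lit 2, nat_lit 0, nat_lit 1, nat_lit 2, nat_lit 0, nat_lit 1, nat_lit 0, nat_lit 2, nat_lit 0, nat_lit 1, nat_lit 0, nat_lit 2, nat_lit 1, nat_lit 0, nat_lit 1, nat_lit 2, nat_lit 1, nat_lit 2, nat_lit 0, nat_lit 1, nat_lit 0, nat_lit 2, nat_lit 1, nat_lit 2, nat_lit 0, nat_lit 1, nat_lit 0,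 nat_lit 2, nat_lit 1, nat_lit 0, nat_lit 1, nat_lit 0, nat_lit 2, nat_lit 1, nat_lit 0, nat_lit 2, nat_lit 0, nat_lit 1, nat_lit 0, nat_lit 2, nat_lit 0, nat_lit 1, nat_lit 2, nat_lit 0, nat_lit 1, nat_lit 0, nat_lit 2, nat_lit 0, nat_lit 1, nat_lit 0, nat_lit 2, nat_lit 1, nat_lit 0, nat_lit 1, nat_lit 2, nat_lit 1, nat_lit 2, nat_lit 0, nat_lit 1, nat_lit 0, nat_lit 2, nat_lit 1, nat_lit 2, nat_lit 0, nat_lit 1, nat_lit 0, nat_lit 2, nat_lit 1, nat_lit 0, nat_lit 1, nat_lit 0, nat_lit 2, nat_lit 1, nat_lit 0, nat_lit 2, nat_lit 0, nat_lit 1, nat_lit 0, nat_lit 2], [nat_lit 1, nat_lit 2, nat_lit 0, nat_lit 1, nat_lit 0, nat_lit 1, nat_lit 2, nat_lit 0, nat_lit 1, nat_lit 0, nat_lit 2, nat_lit 0, nat_lit 1, nat_lit 0, nat_lit 2, nat_lit 0, nat_lit 2, nat_lit 0, nat_lit 1, nat_lit 0, nat_lit 2, nat_lit 1, nat_lit 0, nat_lit 1, nat_lit 0, nat_lit 2, nat_lit 0, nat_lit 1, nat_lit 2, nat_lit 0,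 nat_lit 1, nat_lit 0, nat_lit 1, nat_lit 2, nat_lit 0, nat_lit 1, nat_lit 0, nat_lit 2, nat_lit 1, nat_lit 2, nat_lit 0, nat_lit 1, nat_lit 0, nat_lit 2, nat_lit 1, nat_lit 2, nat_lit 1, nat_lit 0, nat_lit 1, nat_lit 2, nat_lit 0, nat_lit 1, nat_lit 0, nat_lit 2, nat_lit 0, nat_lit 1, nat_lit 0, nat_lit 2, nat_lit 1, nat_lit 0, nat_lit 2, nat_lit 0, nat_lit 1, nat_lit 0, nat_lit 2, nat_lit 0, nat_lit 1, nat_lit 2, nat_lit 0, nat_lit 1, nat_lit 0, nat_lit 1, nat_lit 2, nat_lit 0, nat_lit 1, nat_lit 0, nat_lit 2, nat_lit 1, nat_lit 2, nat_lit 0, nat_lit 1, nat_lit 0, nat_lit 2, nat_lit 1, nat_lit 2, nat_lit 1, nat_lit 0, nat_lit 1, nat_lit 2, nat_lit 0, nat_lit 1, nat_lit 0, nat_lit 2, nat_lit 0, nat_lit 1, nat_lit 0, nat_lit 2, nat_lit 1, nat_lit 0, nat_lit 2, nat_lit 1, nat_lit 0, nat_lit 1, nat_lit 0, nat_lit 1, nat_lit 0, nat_lit 2, nat_lit 0, nat_lit 1, nat_lit 2, nat_lit 0, nat_lit 1, nat_lit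 0, nat_lit 1, nat_lit 2, nat_lit 0, nat_lit 1, nat_lit 0, nat_lit 2, nat_lit 1, nat_lit 2, nat_lit 0, nat_lit 1, nat_lit 0, nat_lit 2, nat_lit 1, nat_lit 2, nat_lit 1, nat_lit 0, nat_lit 1, nat_lit 2, nat_lit 0, nat_lit 1, nat_lit 0, nat_lit 2, nat_lit 0, nat_lit 1, nat_lit 0, nat_lit 2, nat_lit 1, nat_lit 0, nat_lit 1, nat_lit 2, nat_lit 0, nat_lit 2, nat_lit 1, nat_lit 0, nat_lit 0, nat_lit 1, nat_lit 2, nat_lit 0, nat_lit 1, nat_lit 2, nat_lit 0, nat_lit 1, nat_lit 2, nat_lit 0, nat_lit 1, nat_lit 2, nat_lit 0, nat_lit 1, nat_lit 2, nat_lit 0, nat_lit 1, nat_lit 2, nat_lit 0, nat_lit 1, nat_lit 2, nat_lit 0, nat_lit 1, nat_lit 2, nat_lit 0, nat_lit 1, nat_lit 2, nat_lit 0, nat_lit 1, nat_lit 2, nat_lit 0, nat_lit 1, nat_lit 2, nat_lit 0, nat_lit 1, nat_lit 2, nat_lit 0, nat_lit 1, nat_lit 2, nat_lit 0, nat_lit 1, nat_lit 2, nat_lit 0, nat_lit 1, nat_lit 2, nat_lit 0, nat_lit 1, nat_lit 2,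 nat_lit 0, nat_lit 1, nat_lit 2, nat_lit 0, nat_lit 1, nat_lit 2, nat_lit 0, nat_lit 1, nat_lit 2, nat_lit 0, nat_lit 1, nat_lit 2, nat_lit 0, nat_lit 1, nat_lit 2, nat_lit 0, nat_lit 1, nat_lit 2, nat_lit 0, nat_lit 1, nat_lit 2, nat_lit 0, nat_lit 1, nat_lit 2, nat_lit 0, nat_lit 1, nat_lit 2, nat_lit 0, nat_lit 1, nat_lit 2, nat_lit 0, nat_lit 1, nat_lit 2, nat_lit 0, nat_lit 1, nat_lit 2, nat_lit 0, nat_lit 1, nat_lit 2, nat_lit 0, nat_lit 1, nat_lit 2, nat_lit 0, nat_lit 1, nat_lit 2, nat_lit 0, nat_lit 1, nat_lit 2, nat_lit 0, nat_lit 1, nat_lit 2, nat_lit 0, nat_lit 1, nat_lit 2, nat_lit 0, nat_lit 1, nat_lit 2, nat_lit 0, nat_lit 1, nat_lit 2, nat_lit 0, nat_lit 1, nat_lit 2, nat_lit 0, nat_lit 1, nat_lit 2], [nat_lit 2, nat_lit 0, nat_lit 1, nat_lit 0, nat_lit 2, nat_lit 1, nat_lit 0, nat_lit 1, nat_lit 0, nat_lit 2, nat_lit 0, nat_lit 1, nat_lit 0, nat_lit 2, nat_lit 0, nat_lit 1,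 nat_lit 0, nat_lit 2, nat_lit 1, nat_lit 0, nat_lit 1, nat_lit 0, nat_lit 2, nat_lit 1, nat_lit 0, nat_lit 1, nat_lit 0, nat_lit 2, nat_lit 0, nat_lit 1, nat_lit 2, nat_lit 0, nat_lit 1, nat_lit 0, nat_lit 1, nat_lit 2, nat_lit 0, nat_lit 1, nat_lit 0, nat_lit 2, nat_lit 1, nat_lit 2, nat_lit 0, nat_lit 1, nat_lit 0, nat_lit 2, nat_lit 1, nat_lit 2, nat_lit 1, nat_lit 0, nat_lit 1, nat_lit 2, nat_lit 0, nat_lit 1, nat_lit 0, nat_lit 2, nat_lit 0, nat_lit 1, nat_lit 0, nat_lit 2, nat_lit 1, nat_lit 0, nat_lit 1, nat_lit 2, nat_lit 0, nat_lit 2, nat_lit 1, nat_lit 2, nat_lit 1, nat_lit 0, nat_lit 1, nat_lit 2, nat_lit 0, nat_lit 1, nat_lit 2, nat_lit 0, nat_lit 1, nat_lit 0, nat_lit 2, nat_lit 0, nat_lit 1, nat_lit 0, nat_lit 2, nat_lit 1, nat_lit 0, nat_lit 1, nat_lit 2, nat_lit 1, nat_lit 2, nat_lit 0, nat_lit 1, nat_lit 0, nat_lit 2, nat_lit 1, nat_lit 2, nat_lit 0, nat_lit 1, nat_lit 0, nat_lit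 2, nat_lit 1, nat_lit 0, nat_lit 1, nat_lit 0, nat_lit 2, nat_lit 1, nat_lit 0, nat_lit 2, nat_lit 0, nat_lit 1, nat_lit 0, nat_lit 2, nat_lit 0, nat_lit 1, nat_lit 2, nat_lit 0, nat_lit 1, nat_lit 0, nat_lit 2, nat_lit 0, nat_lit 1, nat_lit 0, nat_lit 2, nat_lit 1, nat_lit 0, nat_lit 1, nat_lit 2, nat_lit 1, nat_lit 2, nat_lit 0, nat_lit 1, nat_lit 0, nat_lit 2, nat_lit 1, nat_lit 2, nat_lit 0, nat_lit 1, nat_lit 0, nat_lit 2, nat_lit 1, nat_lit 0, nat_lit 1, nat_lit 0, nat_lit 2, nat_lit 1, nat_lit 0, nat_lit 2, nat_lit 0, nat_lit 1, nat_lit 0, nat_lit 2], [nat_lit 0, nat_lit 1, nat_lit 2, nat_lit 0, nat_lit 1, nat_lit 0, nat_lit 1, nat_lit 2, nat_lit 0, nat_lit 1, nat_lit 0, nat_lit 2, nat_lit 0, nat_lit 1, nat_lit 0, nat_lit 2, nat_lit 0, nat_lit 2, nat_lit 1, nat_lit 2, nat_lit 0, nat_lit 1, nat_lit 0, nat_lit 2, nat_lit 1, nat_lit 0, nat_lit 1, nat_lit 0, nat_lit 2, nat_lit 1, nat_lit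 2, nat_lit 0, nat_lit 1, nat_lit 2, nat_lit 0, nat_lit 1, nat_lit 0, nat_lit 2, nat_lit 0, nat_lit 1, nat_lit 0, nat_lit 2, nat_lit 1, nat_lit 0, nat_lit 1, nat_lit 2, nat_lit 1, nat_lit 2, nat_lit 0, nat_lit 1, nat_lit 0, nat_lit 2, nat_lit 1, nat_lit 2, nat_lit 0, nat_lit 1, nat_lit 0, nat_lit 2, nat_lit 1, nat_lit 0, nat_lit 1, nat_lit 0, nat_lit 2, nat_lit 1, nat_lit 0, nat_lit 2, nat_lit 0, nat_lit 1, nat_lit 0, nat_lit 2, nat_lit 1, nat_lit 0, nat_lit 1, nat_lit 0, nat_lit 2, nat_lit 0, nat_lit 2, nat_lit 1, nat_lit 0, nat_lit 1, nat_lit 2, nat_lit 0, nat_lit 1, nat_lit 0, nat_lit 2, nat_lit 0, nat_lit 1, nat_lit 0, nat_lit 2, nat_lit 1, nat_lit 0, nat_lit 1, nat_lit 2, nat_lit 0, nat_lit 1, nat_lit 0, nat_lit 1, nat_lit 2, nat_lit 1, nat_lit 0, nat_lit 1, nat_lit 0, nat_lit 2, nat_lit 0, nat_lit 2, nat_lit 1, nat_lit 2, nat_lit 1, nat_lit 2, nat_lit 0, nat_lit 1, nat_lit 0, nat_lit 2,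 nat_lit 1, nat_lit 2, nat_lit 0, nat_lit 1, nat_lit 0, nat_lit 2, nat_lit 1, nat_lit 0, nat_lit 1, nat_lit 0, nat_lit 2, nat_lit 1, nat_lit 0, nat_lit 2, nat_lit 0, nat_lit 1, nat_lit 0, nat_lit 2], [nat_lit 1, nat_lit 2, nat_lit 1, nat_lit 2, nat_lit 0, nat_lit 2, nat_lit 0, nat_lit 1, nat_lit 0, nat_lit 2, nat_lit 1, nat_lit 2, nat_lit 0, nat_lit 1, nat_lit 2, nat_lit 0, nat_lit 1, nat_lit 0, nat_lit 2, nat_lit 0, nat_lit 1, nat_lit 0, nat_lit 2, nat_lit 1, nat_lit 0, nat_lit 1, nat_lit 2, nat_lit 0, nat_lit 1, nat_lit 0, nat_lit 2, nat_lit 0, nat_lit 1, nat_lit 2, nat_lit 0, nat_lit 1, nat_lit 0, nat_lit 1, nat_lit 2, nat_lit 0, nat_lit 1, nat_lit 0, nat_lit 2, nat_lit 1, nat_lit 2, nat_lit 0, nat_lit 1, nat_lit 0, nat_lit 2, nat_lit 1, nat_lit 2, nat_lit 1, nat_lit 0, nat_lit 1, nat_lit 2, nat_lit 0, nat_lit 1, nat_lit 0, nat_lit 2, nat_lit 0, nat_lit 1, nat_lit 0, nat_lit 2, nat_lit 1,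 nat_lit 0, nat_lit 2, nat_lit 1, nat_lit 0, nat_lit 1, nat_lit 2, nat_lit 1, nat_lit 0, nat_lit 1, nat_lit 0, nat_lit 2, nat_lit 0, nat_lit 2, nat_lit 1, nat_lit 0, nat_lit 1, nat_lit 2, nat_lit 0, nat_lit 1, nat_lit 0, nat_lit 2, nat_lit 0, nat_lit 1, nat_lit 0, nat_lit 2, nat_lit 1, nat_lit 0, nat_lit 1, nat_lit 2, nat_lit 0, nat_lit 1, nat_lit 0, nat_lit 1, nat_lit 2, nat_lit 1, nat_lit 0, nat_lit 1, nat_lit 0, nat_lit 2, nat_lit 0, nat_lit 2, nat_lit 0, nat_lit 1, nat_lit 2, nat_lit 0, nat_lit 1, nat_lit 0, nat_lit 2, nat_lit 0, nat_lit 1, nat_lit 0, nat_lit 2, nat_lit 1, nat_lit 0, nat_lit 0, nat_lit 1, nat_lit 2, nat_lit 0, nat_lit 1, nat_lit 2, nat_lit 0, nat_lit 1, nat_lit 2, nat_lit 0, nat_lit 1, nat_lit 2, nat_lit 0, nat_lit 1, nat_lit 2, nat_lit 0, nat_lit 1, nat_lit 2, nat_lit 0, nat_lit 1, nat_lit 2, nat_lit 0, nat_lit 1, nat_lit 2, nat_lit 0, nat_lit 1, nat_lit 2, nat_lit 0, nat_lit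 1, nat_lit 2, nat_lit 0, nat_lit 1, nat_lit 2, nat_lit 0, nat_lit 1, nat_lit 2, nat_lit 0, nat_lit 1, nat_lit 2, nat_lit 0, nat_lit 1, nat_lit 2, nat_lit 0, nat_lit 1, nat_lit 2, nat_lit 0, nat_lit 1, nat_lit 2, nat_lit 0, nat_lit 1, nat_lit 2, nat_lit 0, nat_lit 1, nat_lit 2, nat_lit 0, nat_lit 1, nat_lit 2, nat_lit 0, nat_lit 1, nat_lit 2, nat_lit 0, nat_lit 1, nat_lit 2, nat_lit 0, nat_lit 1, nat_lit 2, nat_lit 0, nat_lit 1, nat_lit 2, nat_lit 0, nat_lit 1, nat_lit 2, nat_lit 0, nat_lit 1, nat_lit 2, nat_lit 0, nat_lit 1, nat_lit 2, nat_lit 0, nat_lit 1, nat_lit 2, nat_lit 0, nat_lit 1, nat_lit 2, nat_lit 0, nat_lit 1, nat_lit 2, nat_lit 0, nat_lit 1, nat_lit 2, nat_lit 0, nat_lit 1, nat_lit 2, nat_lit 0, nat_lit 1, nat_lit 2, nat_lit 0, nat_lit 1, nat_lit 2, nat_lit 0, nat_lit 1, nat_lit 2, nat_lit 0, nat_lit 1, nat_lit 2, nat_lit 0, nat_lit 1, nat_lit 2, nat_lit 0, nat_lit 1, nat_lit 2,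 nat_lit 0, nat_lit 1, nat_lit 2], [nat_lit 1, nat_lit 2, nat_lit 0, nat_lit 1, nat_lit 0, nat_lit 1, nat_lit 2, nat_lit 0, nat_lit 1, nat_lit 0, nat_lit 2, nat_lit 1, nat_lit 0, nat_lit 1, nat_lit 0, nat_lit 2, nat_lit 0, nat_lit 2, nat_lit 1, nat_lit 0, nat_lit 1, nat_lit 2, nat_lit 0, nat_lit 1, nat_lit 0, nat_lit 2, nat_lit 0, nat_lit 1, nat_lit 0, nat_lit 2, nat_lit 1, nat_lit 0, nat_lit 1, nat_lit 2, nat_lit 0, nat_lit 1, nat_lit 0, nat_lit 1, nat_lit 2, nat_lit 1, nat_lit 0, nat_lit 1, nat_lit 0, nat_lit 2, nat_lit 0, nat_lit 2, nat_lit 0, nat_lit 1, nat_lit 2, nat_lit 0, nat_lit 1, nat_lit 0, nat_lit 2, nat_lit 0, nat_lit 1, nat_lit 0, nat_lit 2, nat_lit 1, nat_lit 2, nat_lit 0, nat_lit 1, nat_lit 0, nat_lit 1, nat_lit 2, nat_lit 1, nat_lit 2, nat_lit 0, nat_lit 2, nat_lit 0, nat_lit 1, nat_lit 2, nat_lit 0, nat_lit 1, nat_lit 0, nat_lit 1, nat_lit 2, nat_lit 0, nat_lit 1, nat_lit 0,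 nat_lit 2, nat_lit 1, nat_lit 2, nat_lit 0, nat_lit 1, nat_lit 0, nat_lit 2, nat_lit 1, nat_lit 2, nat_lit 1, nat_lit 0, nat_lit 1, nat_lit 2, nat_lit 0, nat_lit 1, nat_lit 0, nat_lit 2, nat_lit 0, nat_lit 1, nat_lit 0, nat_lit 2, nat_lit 1], [nat_lit 1, nat_lit 0, nat_lit 2, nat_lit 0, nat_lit 1, nat_lit 2, nat_lit 1, nat_lit 0, nat_lit 1, nat_lit 0, nat_lit 2, nat_lit 1, nat_lit 0, nat_lit 1, nat_lit 0, nat_lit 2, nat_lit 0, nat_lit 2, nat_lit 1, nat_lit 0, nat_lit 2, nat_lit 1, nat_lit 0, nat_lit 1, nat_lit 2, nat_lit 0, nat_lit 1, nat_lit 0, nat_lit 2, nat_lit 0, nat_lit 1, nat_lit 0, nat_lit 2, nat_lit 1, nat_lit 0, nat_lit 1, nat_lit 2, nat_lit 0, nat_lit 1, nat_lit 0, nat_lit 1, nat_lit 2, nat_lit 1, nat_lit 0, nat_lit 1, nat_lit 0, nat_lit 2, nat_lit 0, nat_lit 2, nat_lit 1, nat_lit 2, nat_lit 1, nat_lit 2, nat_lit 0, nat_lit 1, nat_lit 0, nat_lit 2, nat_lit 1, nat_lit 2, nat_lit 0,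 nat_lit 1, nat_lit 0, nat_lit 2, nat_lit 1, nat_lit 0, nat_lit 1, nat_lit 0, nat_lit 2, nat_lit 1, nat_lit 0, nat_lit 2, nat_lit 0, nat_lit 1, nat_lit 0, nat_lit 1, nat_lit 0, nat_lit 1, nat_lit 2, nat_lit 0, nat_lit 1, nat_lit 2, nat_lit 0, nat_lit 1, nat_lit 0, nat_lit 2, nat_lit 0, nat_lit 1, nat_lit 0, nat_lit 2, nat_lit 1, nat_lit 0, nat_lit 2, nat_lit 0, nat_lit 2, nat_lit 0, nat_lit 1, nat_lit 0, nat_lit 1, nat_lit 2, nat_lit 1, nat_lit 0, nat_lit 1, nat_lit 0, nat_lit 2, nat_lit 1, nat_lit 0, nat_lit 1, nat_lit 2, nat_lit 0, nat_lit 1, nat_lit 0, nat_lit 2, nat_lit 0, nat_lit 1, nat_lit 0, nat_lit 2, nat_lit 1, nat_lit 0, nat_lit 1, nat_lit 2, nat_lit 0, nat_lit 2, nat_lit 0, nat_lit 1, nat_lit 0, nat_lit 1, nat_lit 0, nat_lit 1, nat_lit 2, nat_lit 0, nat_lit 1, nat_lit 2, nat_lit 0, nat_lit 1, nat_lit 2, nat_lit 0, nat_lit 1, nat_lit 2, nat_lit 0, nat_lit 1, nat_lit 2, nat_lit 0, nat_lit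 1, nat_lit 2, nat_lit 0, nat_lit 1, nat_lit 2, nat_lit 0, nat_lit 1, nat_lit 2, nat_lit 0, nat_lit 1, nat_lit 2, nat_lit 0, nat_lit 1, nat_lit 2, nat_lit 0, nat_lit 1, nat_lit 2, nat_lit 0, nat_lit 1, nat_lit 2, nat_lit 0, nat_lit 1, nat_lit 2, nat_lit 0, nat_lit 1, nat_lit 2, nat_lit 0, nat_lit 1, nat_lit 2, nat_lit 0, nat_lit 1, nat_lit 2, nat_lit 0, nat_lit 1, nat_lit 2, nat_lit 0, nat_lit 1, nat_lit 2, nat_lit 0, nat_lit 1, nat_lit 2], [nat_lit 0, nat_lit 1, nat_lit 2, nat_lit 0, nat_lit 1, nat_lit 0, nat_lit 2, nat_lit 0, nat_lit 1, nat_lit 0, nat_lit 2, nat_lit 1, nat_lit 0, nat_lit 2, nat_lit 0, nat_lit 1, nat_lit 0, nat_lit 1, nat_lit 2, nat_lit 0, nat_lit 1, nat_lit 0, nat_lit 2, nat_lit 0, nat_lit 1, nat_lit 0, nat_lit 2, nat_lit 0, nat_lit 2, nat_lit 0, nat_lit 2, nat_lit 1, nat_lit 2, nat_lit 0, nat_lit 1, nat_lit 0, nat_lit 1, nat_lit 2, nat_lit 0, nat_lit 1, nat_lit 0, nat_lit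 2, nat_lit 1, nat_lit 2, nat_lit 0, nat_lit 2, nat_lit 1, nat_lit 2, nat_lit 0, nat_lit 1, nat_lit 0, nat_lit 2, nat_lit 0, nat_lit 1, nat_lit 2, nat_lit 0, nat_lit 1, nat_lit 0, nat_lit 1, nat_lit 2, nat_lit 0, nat_lit 1, nat_lit 0, nat_lit 2, nat_lit 1, nat_lit 2, nat_lit 0, nat_lit 1, nat_lit 0, nat_lit 2, nat_lit 1, nat_lit 2, nat_lit 1, nat_lit 0, nat_lit 1, nat_lit 2, nat_lit 0, nat_lit 1, nat_lit 0, nat_lit 2, nat_lit 0, nat_lit 1, nat_lit 0, nat_lit 2, nat_lit 1, nat_lit 0, nat_lit 2, nat_lit 0, nat_lit 1, nat_lit 0, nat_lit 2, nat_lit 0, nat_lit 1, nat_lit 2, nat_lit 0, nat_lit 1, nat_lit 0, nat_lit 1, nat_lit 2, nat_lit 0, nat_lit 1, nat_lit 0, nat_lit 2, nat_lit 1, nat_lit 2, nat_lit 0, nat_lit 1, nat_lit 0, nat_lit 2, nat_lit 1, nat_lit 2, nat_lit 1, nat_lit 0, nat_lit 1, nat_lit 2, nat_lit 0, nat_lit 1, nat_lit 0, nat_lit 2, nat_lit 0, nat_lit 1, nat_lit 0, nat_lit 2, nat_lit 1,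 nat_lit 0, nat_lit 2, nat_lit 1, nat_lit 0, nat_lit 1, nat_lit 2, nat_lit 1, nat_lit 2, nat_lit 0, nat_lit 2, nat_lit 1, nat_lit 0, nat_lit 1, nat_lit 2, nat_lit 0, nat_lit 1, nat_lit 2, nat_lit 0, nat_lit 1, nat_lit 2, nat_lit 0, nat_lit 1, nat_lit 2, nat_lit 0, nat_lit 1, nat_lit 2, nat_lit 0, nat_lit 1, nat_lit 2, nat_lit 0, nat_lit 1, nat_lit 2, nat_lit 0, nat_lit 1, nat_lit 2, nat_lit 0, nat_lit 1, nat_lit 2, nat_lit 0, nat_lit 1, nat_lit 2, nat_lit 0, nat_lit 1, nat_lit 2, nat_lit 0, nat_lit 1, nat_lit 2, nat_lit 0, nat_lit 1, nat_lit 2, nat_lit 0, nat_lit 1, nat_lit 2, nat_lit 0, nat_lit 1, nat_lit 2, nat_lit 0, nat_lit 1, nat_lit 2, nat_lit 0, nat_lit 1, nat_lit 2, nat_lit 0, nat_lit 1, nat_lit 2, nat_lit 0, nat_lit 1, nat_lit 2], [nat_lit 0, nat_lit 1, nat_lit 2, nat_lit 0, nat_lit 1, nat_lit 0, nat_lit 1, nat_lit 2, nat_lit 1, nat_lit 2, nat_lit 0, nat_lit 1, nat_lit 0, nat_lit 2,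 nat_lit 1, nat_lit 2, nat_lit 0, nat_lit 1, nat_lit 0, nat_lit 2, nat_lit 1, nat_lit 0, nat_lit 1, nat_lit 0, nat_lit 2, nat_lit 1, nat_lit 0, nat_lit 2, nat_lit 0, nat_lit 1, nat_lit 2, nat_lit 0, nat_lit 2, nat_lit 0, nat_lit 1, nat_lit 0, nat_lit 2, nat_lit 0, nat_lit 1, nat_lit 0, nat_lit 2, nat_lit 1, nat_lit 0, nat_lit 2, nat_lit 0, nat_lit 2, nat_lit 0, nat_lit 1, nat_lit 0, nat_lit 1, nat_lit 2, nat_lit 1, nat_lit 0, nat_lit 1, nat_lit 0, nat_lit 2, nat_lit 1, nat_lit 0, nat_lit 1, nat_lit 2, nat_lit 0, nat_lit 1, nat_lit 0, nat_lit 2, nat_lit 0, nat_lit 1, nat_lit 0, nat_lit 2, nat_lit 1, nat_lit 0, nat_lit 1, nat_lit 2, nat_lit 0, nat_lit 2, nat_lit 0, nat_lit 1, nat_lit 0, nat_lit 2, nat_lit 0, nat_lit 2, nat_lit 1, nat_lit 2, nat_lit 1, nat_lit 0, nat_lit 1, nat_lit 2, nat_lit 0, nat_lit 1, nat_lit 2, nat_lit 0, nat_lit 1, nat_lit 0, nat_lit 2, nat_lit 0, nat_lit 1, nat_lit 0, nat_lit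 2, nat_lit 1, nat_lit 0, nat_lit 2, nat_lit 0, nat_lit 2, nat_lit 0, nat_lit 1, nat_lit 0, nat_lit 1, nat_lit 2, nat_lit 1, nat_lit 0, nat_lit 1, nat_lit 0, nat_lit 2, nat_lit 1, nat_lit 0, nat_lit 1, nat_lit 2, nat_lit 0, nat_lit 1, nat_lit 0, nat_lit 2, nat_lit 0, nat_lit 1, nat_lit 0, nat_lit 2, nat_lit 1, nat_lit 0, nat_lit 1, nat_lit 2, nat_lit 0, nat_lit 2, nat_lit 0, nat_lit 1, nat_lit 0, nat_lit 1, nat_lit 0, nat_lit 1, nat_lit 2, nat_lit 0, nat_lit 1, nat_lit 2, nat_lit 0, nat_lit 1, nat_lit 2, nat_lit 0, nat_lit 1, nat_lit 2, nat_lit 0, nat_lit 1, nat_lit 2, nat_lit 0, nat_lit 1, nat_lit 2, nat_lit 0, nat_lit 1, nat_lit 2, nat_lit 0, nat_lit 1, nat_lit 2, nat_lit 0, nat_lit 1, nat_lit 2, nat_lit 0, nat_lit 1, nat_lit 2, nat_lit 0, nat_lit 1, nat_lit 2, nat_lit 0, nat_lit 1, nat_lit 2, nat_lit 0, nat_lit 1, nat_lit 2, nat_lit 0, nat_lit 1, nat_lit 2, nat_lit 0, nat_lit 1, nat_lit 2,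 nat_lit 0, nat_lit 1, nat_lit 2, nat_lit 0, nat_lit 1, nat_lit 2, nat_lit 0, nat_lit 1, nat_lit 2, nat_lit 0, nat_lit 1, nat_lit 2], [nat_lit 1, nat_lit 2, nat_lit 0, nat_lit 2, nat_lit 1, nat_lit 0, nat_lit 1, nat_lit 2, nat_lit 1, nat_lit 0, nat_lit 1, nat_lit 2, nat_lit 0, nat_lit 1, nat_lit 0, nat_lit 2, nat_lit 0, nat_lit 1, nat_lit 0, nat_lit 2, nat_lit 1, nat_lit 0, nat_lit 2, nat_lit 0, nat_lit 2, nat_lit 0, nat_lit 1, nat_lit 0, nat_lit 1, nat_lit 2, nat_lit 1, nat_lit 0, nat_lit 1, nat_lit 0, nat_lit 2, nat_lit 1, nat_lit 0, nat_lit 1, nat_lit 2, nat_lit 0, nat_lit 1, nat_lit 0, nat_lit 2, nat_lit 0, nat_lit 1, nat_lit 0, nat_lit 2, nat_lit 1, nat_lit 0, nat_lit 1, nat_lit 2, nat_lit 0, nat_lit 2, nat_lit 0, nat_lit 1, nat_lit 0, nat_lit 1, nat_lit 0, nat_lit 1, nat_lit 0, nat_lit 2, nat_lit 0, nat_lit 1, nat_lit 0, nat_lit 1, nat_lit 0, nat_lit 2, nat_lit 0, nat_lit 1, nat_lit 2,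 nat_lit 0, nat_lit 1, nat_lit 0, nat_lit 1, nat_lit 2, nat_lit 0, nat_lit 1, nat_lit 0, nat_lit 2, nat_lit 1, nat_lit 2, nat_lit 0, nat_lit 1, nat_lit 0, nat_lit 2, nat_lit 1, nat_lit 2, nat_lit 1, nat_lit 2, nat_lit 0, nat_lit 2, nat_lit 0, nat_lit 1, nat_lit 0, nat_lit 1, nat_lit 2, nat_lit 1, nat_lit 0, nat_lit 1, nat_lit 0, nat_lit 2, nat_lit 1, nat_lit 0, nat_lit 1, nat_lit 2, nat_lit 0, nat_lit 1, nat_lit 0, nat_lit 2, nat_lit 0, nat_lit 1, nat_lit 0, nat_lit 2, nat_lit 1, nat_lit 0, nat_lit 1, nat_lit 2, nat_lit 0, nat_lit 2, nat_lit 0, nat_lit 1, nat_lit 0, nat_lit 1, nat_lit 0, nat_lit 0, nat_lit 1, nat_lit 2, nat_lit 0, nat_lit 1, nat_lit 2, nat_lit 0, nat_lit 1, nat_lit 2, nat_lit 0, nat_lit 1, nat_lit 2, nat_lit 0, nat_lit 1, nat_lit 2, nat_lit 0, nat_lit 1, nat_lit 2, nat_lit 0, nat_lit 1, nat_lit 2, nat_lit 0, nat_lit 1, nat_lit 2, nat_lit 0, nat_lit 1, nat_lit 2, nat_lit 0, nat_lit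 1, nat_lit 2, nat_lit 0, nat_lit 1, nat_lit 2, nat_lit 0, nat_lit 1, nat_lit 2, nat_lit 0, nat_lit 1, nat_lit 2, nat_lit 0, nat_lit 1, nat_lit 2, nat_lit 0, nat_lit 1, nat_lit 2, nat_lit 0, nat_lit 1, nat_lit 2, nat_lit 0, nat_lit 1, nat_lit 2, nat_lit 0, nat_lit 1, nat_lit 2, nat_lit 0, nat_lit 1, nat_lit 2, nat_lit 0, nat_lit 1, nat_lit 2, nat_lit 0, nat_lit 1, nat_lit 2, nat_lit 0, nat_lit 1, nat_lit 2, nat_lit 0, nat_lit 1, nat_lit 2, nat_lit 0, nat_lit 1, nat_lit 2, nat_lit 0, nat_lit 1, nat_lit 2, nat_lit 0, nat_lit 1, nat_lit 2, nat_lit 0, nat_lit 1, nat_lit 2, nat_lit 0, nat_lit 1, nat_lit 2, nat_lit 0, nat_lit 1, nat_lit 2, nat_lit 0, nat_lit 1, nat_lit 2, nat_lit 0, nat_lit 1, nat_lit 2, nat_lit 0, nat_lit 1, nat_lit 2, nat_lit 0, nat_lit 1, nat_lit 2, nat_lit 0, nat_lit 1, nat_lit 2, nat_lit 0, nat_lit 1, nat_lit 2, nat_lit 0, nat_lit 1, nat_lit 2, nat_lit 0, nat_lit 1, nat_lit 2,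 nat_lit 0, nat_lit 1, nat_lit 2], [nat_lit 0, nat_lit 1, nat_lit 2, nat_lit 0, nat_lit 1, nat_lit 0, nat_lit 2, nat_lit 0, nat_lit 1, nat_lit 0, nat_lit 2, nat_lit 1, nat_lit 0, nat_lit 1, nat_lit 0, nat_lit 1, nat_lit 0, nat_lit 2, nat_lit 0, nat_lit 2, nat_lit 1, nat_lit 0, nat_lit 1, nat_lit 2, nat_lit 0, nat_lit 1, nat_lit 0, nat_lit 2, nat_lit 0, nat_lit 1, nat_lit 0, nat_lit 2, nat_lit 1, nat_lit 0, nat_lit 1, nat_lit 2, nat_lit 0, nat_lit 1, nat_lit 0, nat_lit 1, nat_lit 2, nat_lit 1, nat_lit 0, nat_lit 1, nat_lit 0, nat_lit 2, nat_lit 0, nat_lit 2, nat_lit 0, nat_lit 1, nat_lit 2, nat_lit 0, nat_lit 1, nat_lit 0, nat_lit 2, nat_lit 0, nat_lit 1, nat_lit 0, nat_lit 2, nat_lit 1, nat_lit 0, nat_lit 2, nat_lit 0, nat_lit 1, nat_lit 0, nat_lit 1, nat_lit 2, nat_lit 1, nat_lit 2, nat_lit 1, nat_lit 0, nat_lit 2, nat_lit 0, nat_lit 1, nat_lit 0, nat_lit 2, nat_lit 0, nat_lit 2, nat_lit 1,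 nat_lit 0, nat_lit 1, nat_lit 2, nat_lit 0, nat_lit 1, nat_lit 0, nat_lit 2, nat_lit 0, nat_lit 1, nat_lit 0, nat_lit 2, nat_lit 1, nat_lit 0, nat_lit 1, nat_lit 2, nat_lit 0, nat_lit 1, nat_lit 0, nat_lit 1, nat_lit 2, nat_lit 1, nat_lit 0, nat_lit 1, nat_lit 0, nat_lit 2, nat_lit 0, nat_lit 2, nat_lit 0, nat_lit 1, nat_lit 2, nat_lit 0, nat_lit 1, nat_lit 0, nat_lit 2, nat_lit 0, nat_lit 1, nat_lit 0, nat_lit 2, nat_lit 1, nat_lit 0], [nat_lit 0, nat_lit 1, nat_lit 0, nat_lit 2, nat_lit 1, nat_lit 0, nat_lit 1, nat_lit 0, nat_lit 2, nat_lit 0, nat_lit 1, nat_lit 2, nat_lit 0, nat_lit 1, nat_lit 0, nat_lit 1, nat_lit 2, nat_lit 0, nat_lit 1, nat_lit 0, nat_lit 2, nat_lit 1, nat_lit 2, nat_lit 1, nat_lit 0, nat_lit 1, nat_lit 2, nat_lit 0, nat_lit 1, nat_lit 2, nat_lit 0, nat_lit 1, nat_lit 0, nat_lit 2, nat_lit 0, nat_lit 1, nat_lit 0, nat_lit 2, nat_lit 1, nat_lit 0, nat_lit 1, nat_lit 2,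 nat_lit 1, nat_lit 2, nat_lit 0, nat_lit 1, nat_lit 0, nat_lit 2, nat_lit 1, nat_lit 2, nat_lit 0, nat_lit 1, nat_lit 0, nat_lit 2, nat_lit 1, nat_lit 0, nat_lit 1, nat_lit 0, nat_lit 2, nat_lit 1, nat_lit 0, nat_lit 2, nat_lit 0, nat_lit 1, nat_lit 0, nat_lit 2, nat_lit 0, nat_lit 1, nat_lit 2, nat_lit 0, nat_lit 1, nat_lit 0, nat_lit 2, nat_lit 0, nat_lit 1, nat_lit 0, nat_lit 2, nat_lit 1, nat_lit 0, nat_lit 1, nat_lit 2, nat_lit 1, nat_lit 2, nat_lit 0, nat_lit 1, nat_lit 0, nat_lit 2, nat_lit 1, nat_lit 2, nat_lit 0, nat_lit 1, nat_lit 0, nat_lit 2, nat_lit 1, nat_lit 0, nat_lit 1, nat_lit 0, nat_lit 2, nat_lit 1, nat_lit 0, nat_lit 2, nat_lit 0, nat_lit 1, nat_lit 0, nat_lit 1, nat_lit 0, nat_lit 1, nat_lit 0, nat_lit 1, nat_lit 0, nat_lit 2, nat_lit 0, nat_lit 1, nat_lit 2, nat_lit 0, nat_lit 1, nat_lit 0, nat_lit 1, nat_lit 2, nat_lit 0, nat_lit 1, nat_lit 0, nat_lit 2, nat_lit 1, nat_lit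 2, nat_lit 0, nat_lit 1, nat_lit 0, nat_lit 2, nat_lit 1, nat_lit 2, nat_lit 1, nat_lit 0, nat_lit 1, nat_lit 2, nat_lit 0, nat_lit 1, nat_lit 0, nat_lit 2, nat_lit 0, nat_lit 1, nat_lit 0, nat_lit 2, nat_lit 1, nat_lit 0, nat_lit 1, nat_lit 2, nat_lit 0, nat_lit 1, nat_lit 2, nat_lit 0, nat_lit 1, nat_lit 2, nat_lit 0, nat_lit 1, nat_lit 2, nat_lit 0, nat_lit 1, nat_lit 2, nat_lit 0, nat_lit 1, nat_lit 2, nat_lit 0, nat_lit 1, nat_lit 2, nat_lit 0, nat_lit 1, nat_lit 2, nat_lit 0, nat_lit 1, nat_lit 2, nat_lit 0, nat_lit 1, nat_lit 2, nat_lit 0, nat_lit 1, nat_lit 2, nat_lit 0, nat_lit 1, nat_lit 2, nat_lit 0, nat_lit 1, nat_lit 2, nat_lit 0, nat_lit 1, nat_lit 2, nat_lit 0, nat_lit 1, nat_lit 2, nat_lit 0, nat_lit 1, nat_lit 2, nat_lit 0, nat_lit 1, nat_lit 2, nat_lit 0, nat_lit 1, nat_lit 2, nat_lit 0, nat_lit 1, nat_lit 2], [nat_lit 2, nat_lit 0, nat_lit 1, nat_lit 0, nat_lit 2, nat_lit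 1, nat_lit 2, nat_lit 0, nat_lit 2, nat_lit 1, nat_lit 2, nat_lit 0, nat_lit 1, nat_lit 0, nat_lit 2, nat_lit 0, nat_lit 1, nat_lit 2, nat_lit 0, nat_lit 1, nat_lit 0, nat_lit 1, nat_lit 2, nat_lit 0, nat_lit 1, nat_lit 0, nat_lit 2, nat_lit 1, nat_lit 2, nat_lit 0, nat_lit 1, nat_lit 0, nat_lit 2, nat_lit 1, nat_lit 2, nat_lit 1, nat_lit 0, nat_lit 1, nat_lit 2, nat_lit 0, nat_lit 1, nat_lit 0, nat_lit 2, nat_lit 0, nat_lit 1, nat_lit 0, nat_lit 2, nat_lit 1, nat_lit 0, nat_lit 2, nat_lit 0, nat_lit 1, nat_lit 0, nat_lit 2, nat_lit 0, nat_lit 1, nat_lit 2, nat_lit 0, nat_lit 1, nat_lit 0, nat_lit 1, nat_lit 2, nat_lit 0, nat_lit 1, nat_lit 0, nat_lit 2, nat_lit 1, nat_lit 2, nat_lit 0, nat_lit 1, nat_lit 0, nat_lit 2, nat_lit 1, nat_lit 2, nat_lit 1, nat_lit 0, nat_lit 1, nat_lit 2, nat_lit 0, nat_lit 1, nat_lit 0, nat_lit 2, nat_lit 0, nat_lit 1, nat_lit 0, nat_lit 2, nat_lit 1, nat_lit 0,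 nat_lit 2, nat_lit 1, nat_lit 0, nat_lit 1, nat_lit 2, nat_lit 0, nat_lit 1, nat_lit 0, nat_lit 2, nat_lit 0, nat_lit 2, nat_lit 1, nat_lit 0, nat_lit 1, nat_lit 2, nat_lit 0, nat_lit 1, nat_lit 0, nat_lit 2, nat_lit 0, nat_lit 1, nat_lit 0, nat_lit 2, nat_lit 1, nat_lit 0, nat_lit 1, nat_lit 2, nat_lit 0, nat_lit 1, nat_lit 0, nat_lit 1, nat_lit 2, nat_lit 1, nat_lit 0, nat_lit 1, nat_lit 0, nat_lit 2, nat_lit 0, nat_lit 2, nat_lit 0, nat_lit 1, nat_lit 2, nat_lit 0, nat_lit 1, nat_lit 0, nat_lit 2, nat_lit 0, nat_lit 1, nat_lit 0, nat_lit 2, nat_lit 1, nat_lit 0, nat_lit 0, nat_lit 1, nat_lit 2, nat_lit 0, nat_lit 1, nat_lit 2, nat_lit 0, nat_lit 1, nat_lit 2, nat_lit 0, nat_lit 1, nat_lit 2, nat_lit 0, nat_lit 1, nat_lit 2, nat_lit 0, nat_lit 1, nat_lit 2, nat_lit 0, nat_lit 1, nat_lit 2, nat_lit 0, nat_lit 1, nat_lit 2, nat_lit 0, nat_lit 1, nat_lit 2, nat_lit 0, nat_lit 1, nat_lit 2, nat_lit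 0, nat_lit 1, nat_lit 2, nat_lit 0, nat_lit 1, nat_lit 2, nat_lit 0, nat_lit 1, nat_lit 2, nat_lit 0, nat_lit 1, nat_lit 2, nat_lit 0, nat_lit 1, nat_lit 2, nat_lit 0, nat_lit 1, nat_lit 2, nat_lit 0, nat_lit 1, nat_lit 2, nat_lit 0, nat_lit 1, nat_lit 2, nat_lit 0, nat_lit 1, nat_lit 2, nat_lit 0, nat_lit 1, nat_lit 2, nat_lit 0, nat_lit 1, nat_lit 2, nat_lit 0, nat_lit 1, nat_lit 2, nat_lit 0, nat_lit 1, nat_lit 2, nat_lit 0, nat_lit 1, nat_lit 2, nat_lit 0, nat_lit 1, nat_lit 2, nat_lit 0, nat_lit 1, nat_lit 2, nat_lit 0, nat_lit 1, nat_lit 2, nat_lit 0, nat_lit 1, nat_lit 2, nat_lit 0, nat_lit 1, nat_lit 2, nat_lit 0, nat_lit 1, nat_lit 2, nat_lit 0, nat_lit 1, nat_lit 2, nat_lit 0, nat_lit 1, nat_lit 2, nat_lit 0, nat_lit 1, nat_lit 2, nat_lit 0, nat_lit 1, nat_lit 2, nat_lit 0, nat_lit 1, nat_lit 2, nat_lit 0, nat_lit 1, nat_lit 2, nat_lit 0, nat_lit 1, nat_lit 2, nat_lit 0, nat_lit 1,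 nat_lit 2], [nat_lit 1, nat_lit 2, nat_lit 1, nat_lit 2, nat_lit 0, nat_lit 1, nat_lit 0, nat_lit 1, nat_lit 2, nat_lit 0, nat_lit 1, nat_lit 0, nat_lit 1, nat_lit 0, nat_lit 1, nat_lit 2, nat_lit 1, nat_lit 2, nat_lit 0, nat_lit 1, nat_lit 0, nat_lit 1, nat_lit 2, nat_lit 0, nat_lit 1, nat_lit 0, nat_lit 2, nat_lit 1, nat_lit 0, nat_lit 2, nat_lit 1, nat_lit 2, nat_lit 0, nat_lit 2, nat_lit 1, nat_lit 0, nat_lit 1, nat_lit 2, nat_lit 0, nat_lit 1, nat_lit 0, nat_lit 2, nat_lit 0, nat_lit 1, nat_lit 0, nat_lit 2, nat_lit 1, nat_lit 0, nat_lit 2, nat_lit 0, nat_lit 2, nat_lit 0, nat_lit 1, nat_lit 0, nat_lit 1, nat_lit 2, nat_lit 1, nat_lit 0, nat_lit 1, nat_lit 0, nat_lit 2, nat_lit 1, nat_lit 0, nat_lit 1, nat_lit 2, nat_lit 0, nat_lit 1, nat_lit 0, nat_lit 2, nat_lit 0, nat_lit 1, nat_lit 0, nat_lit 2, nat_lit 1, nat_lit 0, nat_lit 1, nat_lit 2, nat_lit 0, nat_lit 2, nat_lit 0, nat_lit 1,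 nat_lit 0, nat_lit 1, nat_lit 2, nat_lit 0, nat_lit 1, nat_lit 0, nat_lit 2, nat_lit 0, nat_lit 1, nat_lit 2, nat_lit 0, nat_lit 1, nat_lit 0, nat_lit 1, nat_lit 2, nat_lit 0, nat_lit 1, nat_lit 0, nat_lit 2, nat_lit 1, nat_lit 2, nat_lit 0, nat_lit 1, nat_lit 0, nat_lit 2, nat_lit 1, nat_lit 2, nat_lit 1, nat_lit 0, nat_lit 1, nat_lit 2, nat_lit 0, nat_lit 1, nat_lit 0, nat_lit 2, nat_lit 0, nat_lit 1, nat_lit 0, nat_lit 2, nat_lit 1, nat_lit 0, nat_lit 0, nat_lit 1, nat_lit 2, nat_lit 0, nat_lit 1, nat_lit 2, nat_lit 0, nat_lit 1, nat_lit 2, nat_lit 0, nat_lit 1, nat_lit 2, nat_lit 0, nat_lit 1, nat_lit 2, nat_lit 0, nat_lit 1, nat_lit 2, nat_lit 0, nat_lit 1, nat_lit 2, nat_lit 0, nat_lit 1, nat_lit 2, nat_lit 0, nat_lit 1, nat_lit 2, nat_lit 0, nat_lit 1, nat_lit 2, nat_lit 0, nat_lit 1, nat_lit 2, nat_lit 0, nat_lit 1, nat_lit 2, nat_lit 0, nat_lit 1, nat_lit 2, nat_lit 0, nat_lit 1, nat_lit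 2, nat_lit 0, nat_lit 1, nat_lit 2, nat_lit 0, nat_lit 1, nat_lit 2, nat_lit 0, nat_lit 1, nat_lit 2, nat_lit 0, nat_lit 1, nat_lit 2, nat_lit 0, nat_lit 1, nat_lit 2, nat_lit 0, nat_lit 1, nat_lit 2, nat_lit 0, nat_lit 1, nat_lit 2, nat_lit 0, nat_lit 1, nat_lit 2, nat_lit 0, nat_lit 1, nat_lit 2, nat_lit 0, nat_lit 1, nat_lit 2, nat_lit 0, nat_lit 1, nat_lit 2, nat_lit 0, nat_lit 1, nat_lit 2, nat_lit 0, nat_lit 1, nat_lit 2, nat_lit 0, nat_lit 1, nat_lit 2, nat_lit 0, nat_lit 1, nat_lit 2, nat_lit 0, nat_lit 1, nat_lit 2, nat_lit 0, nat_lit 1, nat_lit 2, nat_lit 0, nat_lit 1, nat_lit 2, nat_lit 0, nat_lit 1, nat_lit 2, nat_lit 0, nat_lit 1, nat_lit 2, nat_lit 0, nat_lit 1, nat_lit 2, nat_lit 0, nat_lit 1, nat_lit 2, nat_lit 0, nat_lit 1, nat_lit 2, nat_lit 0, nat_lit 1, nat_lit 2], [], [nat_lit 2, nat_lit 1, nat_lit 0, nat_lit 2, nat_lit 0, nat_lit 2, nat_lit 1, nat_lit 0, nat_lit 1, nat_lit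 2, nat_lit 0, nat_lit 1, nat_lit 0, nat_lit 2, nat_lit 0, nat_lit 1, nat_lit 0, nat_lit 2, nat_lit 1, nat_lit 0, nat_lit 1, nat_lit 2, nat_lit 0, nat_lit 1, nat_lit 0, nat_lit 1, nat_lit 2, nat_lit 1, nat_lit 0, nat_lit 1, nat_lit 0, nat_lit 2, nat_lit 0, nat_lit 2, nat_lit 0, nat_lit 1, nat_lit 2, nat_lit 0, nat_lit 1, nat_lit 0, nat_lit 2, nat_lit 0, nat_lit 1, nat_lit 0, nat_lit 2, nat_lit 1, nat_lit 0, nat_lit 2, nat_lit 0, nat_lit 1, nat_lit 0, nat_lit 2, nat_lit 1, nat_lit 0, nat_lit 1, nat_lit 2, nat_lit 0, nat_lit 1, nat_lit 2, nat_lit 1, nat_lit 0, nat_lit 1, nat_lit 0, nat_lit 2, nat_lit 0, nat_lit 2, nat_lit 1, nat_lit 0, nat_lit 1, nat_lit 2, nat_lit 0, nat_lit 1, nat_lit 0, nat_lit 2, nat_lit 0, nat_lit 1, nat_lit 0, nat_lit 2, nat_lit 1, nat_lit 0, nat_lit 1, nat_lit 2, nat_lit 0, nat_lit 1, nat_lit 0, nat_lit 1, nat_lit 2, nat_lit 1, nat_lit 0, nat_lit 1, nat_lit 0, nat_lit 2,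 nat_lit 0, nat_lit 2, nat_lit 0, nat_lit 1, nat_lit 2, nat_lit 0, nat_lit 1, nat_lit 0, nat_lit 2, nat_lit 0, nat_lit 1, nat_lit 0, nat_lit 2, nat_lit 1, nat_lit 0, nat_lit 1, nat_lit 2, nat_lit 0, nat_lit 1, nat_lit 2, nat_lit 0, nat_lit 1, nat_lit 2, nat_lit 0, nat_lit 1, nat_lit 2, nat_lit 0, nat_lit 1, nat_lit 2, nat_lit 0, nat_lit 1, nat_lit 2, nat_lit 0, nat_lit 1, nat_lit 2, nat_lit 0, nat_lit 1, nat_lit 2, nat_lit 0, nat_lit 1, nat_lit 2, nat_lit 0, nat_lit 1, nat_lit 2, nat_lit 0, nat_lit 1, nat_lit 2, nat_lit 0, nat_lit 1, nat_lit 2, nat_lit 0, nat_lit 1, nat_lit 2, nat_lit 0, nat_lit 1, nat_lit 2, nat_lit 0, nat_lit 1, nat_lit 2, nat_lit 0, nat_lit 1, nat_lit 2, nat_lit 0, nat_lit 1, nat_lit 2, nat_lit 0, nat_lit 1, nat_lit 2, nat_lit 0, nat_lit 1, nat_lit 2], [nat_lit 1, nat_lit 0, nat_lit 1, nat_lit 0, nat_lit 1, nat_lit 2, nat_lit 0, nat_lit 1, nat_lit 0, nat_lit 2, nat_lit 0,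 nat_lit 2, nat_lit 0, nat_lit 2, nat_lit 0, nat_lit 1, nat_lit 0, nat_lit 2, nat_lit 1, nat_lit 0, nat_lit 1, nat_lit 2, nat_lit 1, nat_lit 2, nat_lit 0, nat_lit 1, nat_lit 0, nat_lit 2, nat_lit 0, nat_lit 1, nat_lit 2, nat_lit 0, nat_lit 1, nat_lit 0, nat_lit 1, nat_lit 2, nat_lit 0, nat_lit 1, nat_lit 0, nat_lit 2, nat_lit 1, nat_lit 2, nat_lit 0, nat_lit 1, nat_lit 0, nat_lit 2, nat_lit 1, nat_lit 2, nat_lit 1, nat_lit 0, nat_lit 1, nat_lit 2, nat_lit 0, nat_lit 1, nat_lit 0, nat_lit 2, nat_lit 0, nat_lit 1, nat_lit 0, nat_lit 2, nat_lit 1, nat_lit 0, nat_lit 2, nat_lit 0, nat_lit 1, nat_lit 0, nat_lit 2, nat_lit 0, nat_lit 1, nat_lit 2, nat_lit 0, nat_lit 1, nat_lit 0, nat_lit 1, nat_lit 2, nat_lit 0, nat_lit 1, nat_lit 0, nat_lit 2, nat_lit 1, nat_lit 2, nat_lit 0, nat_lit 1, nat_lit 0, nat_lit 2, nat_lit 1, nat_lit 2, nat_lit 1, nat_lit 0, nat_lit 1, nat_lit 2, nat_lit 0, nat_lit 1, nat_lit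 0, nat_lit 2, nat_lit 0, nat_lit 1, nat_lit 0, nat_lit 2, nat_lit 1, nat_lit 0, nat_lit 2, nat_lit 1, nat_lit 0, nat_lit 1, nat_lit 2, nat_lit 1, nat_lit 2, nat_lit 0, nat_lit 1, nat_lit 0, nat_lit 2, nat_lit 0, nat_lit 1, nat_lit 0, nat_lit 2, nat_lit 1, nat_lit 0, nat_lit 2, nat_lit 0, nat_lit 2, nat_lit 0, nat_lit 1, nat_lit 0, nat_lit 1, nat_lit 2, nat_lit 1, nat_lit 0, nat_lit 1, nat_lit 0, nat_lit 2, nat_lit 1, nat_lit 0, nat_lit 1, nat_lit 2, nat_lit 0, nat_lit 1, nat_lit 0, nat_lit 2, nat_lit 0, nat_lit 1, nat_lit 0, nat_lit 2, nat_lit 1, nat_lit 0, nat_lit 1, nat_lit 2, nat_lit 0, nat_lit 2, nat_lit 0, nat_lit 1, nat_lit 0, nat_lit 2, nat_lit 0, nat_lit 2, nat_lit 1, nat_lit 0, nat_lit 0, nat_lit 1, nat_lit 2, nat_lit 0, nat_lit 1, nat_lit 2, nat_lit 0, nat_lit 1, nat_lit 2, nat_lit 0, nat_lit 1, nat_lit 2, nat_lit 0, nat_lit 1, nat_lit 2, nat_lit 0, nat_lit 1, nat_lit 2, nat_lit 0,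 nat_lit 1, nat_lit 2, nat_lit 0, nat_lit 1, nat_lit 2, nat_lit 0, nat_lit 1, nat_lit 2, nat_lit 0, nat_lit 1, nat_lit 2, nat_lit 0, nat_lit 1, nat_lit 2, nat_lit 0, nat_lit 1, nat_lit 2, nat_lit 0, nat_lit 1, nat_lit 2, nat_lit 0, nat_lit 1, nat_lit 2, nat_lit 0, nat_lit 1, nat_lit 2, nat_lit 0, nat_lit 1, nat_lit 2, nat_lit 0, nat_lit 1, nat_lit 2, nat_lit 0, nat_lit 1, nat_lit 2, nat_lit 0, nat_lit 1, nat_lit 2], [nat_lit 0, nat_lit 1, nat_lit 2, nat_lit 0, nat_lit 1, nat_lit 0, nat_lit 2, nat_lit 0, nat_lit 1, nat_lit 0, nat_lit 2, nat_lit 1, nat_lit 0, nat_lit 2, nat_lit 0, nat_lit 1, nat_lit 0, nat_lit 1, nat_lit 2, nat_lit 0, nat_lit 1, nat_lit 2, nat_lit 0, nat_lit 1, nat_lit 0, nat_lit 2, nat_lit 1, nat_lit 0, nat_lit 1, nat_lit 2, nat_lit 0, nat_lit 1, nat_lit 2, nat_lit 0, nat_lit 1, nat_lit 0, nat_lit 2, nat_lit 0, nat_lit 1, nat_lit 0, nat_lit 2, nat_lit 1, nat_lit 0, nat_lit 2,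 nat_lit 0, nat_lit 2, nat_lit 0, nat_lit 1, nat_lit 0, nat_lit 1, nat_lit 2, nat_lit 1, nat_lit 0, nat_lit 1, nat_lit 0, nat_lit 2, nat_lit 1, nat_lit 0, nat_lit 1, nat_lit 2, nat_lit 0, nat_lit 1, nat_lit 0, nat_lit 2, nat_lit 0, nat_lit 1, nat_lit 0, nat_lit 2, nat_lit 1, nat_lit 0, nat_lit 1, nat_lit 2, nat_lit 0, nat_lit 2, nat_lit 0, nat_lit 1, nat_lit 0, nat_lit 2, nat_lit 0, nat_lit 2, nat_lit 1, nat_lit 0, nat_lit 1, nat_lit 2, nat_lit 0, nat_lit 1, nat_lit 0, nat_lit 2, nat_lit 0, nat_lit 1, nat_lit 0, nat_lit 2, nat_lit 1, nat_lit 0, nat_lit 2, nat_lit 0, nat_lit 2, nat_lit 0, nat_lit 1, nat_lit 0, nat_lit 1, nat_lit 2, nat_lit 1, nat_lit 0, nat_lit 1, nat_lit 0, nat_lit 2, nat_lit 1, nat_lit 0, nat_lit 1, nat_lit 2, nat_lit 0, nat_lit 1, nat_lit 0, nat_lit 2, nat_lit 0, nat_lit 1, nat_lit 0, nat_lit 2, nat_lit 1, nat_lit 0, nat_lit 1, nat_lit 2, nat_lit 0, nat_lit 2, nat_lit 0, nat_lit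 1, nat_lit 0, nat_lit 1, nat_lit 0, nat_lit 1, nat_lit 2, nat_lit 0, nat_lit 1, nat_lit 2, nat_lit 0, nat_lit 1, nat_lit 2, nat_lit 0, nat_lit 1, nat_lit 2, nat_lit 0, nat_lit 1, nat_lit 2, nat_lit 0, nat_lit 1, nat_lit 2, nat_lit 0, nat_lit 1, nat_lit 2, nat_lit 0, nat_lit 1, nat_lit 2, nat_lit 0, nat_lit 1, nat_lit 2, nat_lit 0, nat_lit 1, nat_lit 2, nat_lit 0, nat_lit 1, nat_lit 2, nat_lit 0, nat_lit 1, nat_lit 2, nat_lit 0, nat_lit 1, nat_lit 2, nat_lit 0, nat_lit 1, nat_lit 2, nat_lit 0, nat_lit 1, nat_lit 2, nat_lit 0, nat_lit 1, nat_lit 2, nat_lit 0, nat_lit 1, nat_lit 2, nat_lit 0, nat_lit 1, nat_lit 2, nat_lit 0, nat_lit 1, nat_lit 2, nat_lit 0, nat_lit 1, nat_lit 2, nat_lit 0, nat_lit 1, nat_lit 2, nat_lit 0, nat_lit 1, nat_lit 2, nat_lit 0, nat_lit 1, nat_lit 2, nat_lit 0, nat_lit 1, nat_lit 2, nat_lit 0, nat_lit 1, nat_lit 2, nat_lit 0, nat_lit 1, nat_lit 2, nat_lit 0, nat_lit 1,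 nat_lit 2, nat_lit 0, nat_lit 1, nat_lit 2, nat_lit 0, nat_lit 1, nat_lit 2, nat_lit 0, nat_lit 1, nat_lit 2, nat_lit 0, nat_lit 1, nat_lit 2, nat_lit 0, nat_lit 1, nat_lit 2, nat_lit 0, nat_lit 1, nat_lit 2, nat_lit 0, nat_lit 1, nat_lit 2, nat_lit 0, nat_lit 1, nat_lit 2, nat_lit 0, nat_lit 1, nat_lit 2, nat_lit 0, nat_lit 1, nat_lit 2, nat_lit 0, nat_lit 1, nat_lit 2], [nat_lit 2, nat_lit 0, nat_lit 1, nat_lit 2, nat_lit 0, nat_lit 1, nat_lit 0, nat_lit 2, nat_lit 1, nat_lit 0, nat_lit 1, nat_lit 0, nat_lit 2, nat_lit 1, nat_lit 2, nat_lit 0, nat_lit 2, nat_lit 0, nat_lit 1, nat_lit 0, nat_lit 2, nat_lit 0, nat_lit 1, nat_lit 0, nat_lit 2, nat_lit 0, nat_lit 1, nat_lit 2, nat_lit 0, nat_lit 1, nat_lit 0, nat_lit 1, nat_lit 2, nat_lit 0, nat_lit 1, nat_lit 0, nat_lit 2, nat_lit 1, nat_lit 2, nat_lit 0, nat_lit 1, nat_lit 0, nat_lit 2, nat_lit 1, nat_lit 2, nat_lit 1, nat_lit 0, nat_lit 1,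 nat_lit 2, nat_lit 0, nat_lit 1, nat_lit 0, nat_lit 2, nat_lit 0, nat_lit 1, nat_lit 0, nat_lit 2, nat_lit 1, nat_lit 0, nat_lit 2, nat_lit 0, nat_lit 2, nat_lit 0, nat_lit 1, nat_lit 0, nat_lit 2, nat_lit 1, nat_lit 0, nat_lit 1, nat_lit 2, nat_lit 1, nat_lit 2, nat_lit 0, nat_lit 2, nat_lit 1, nat_lit 0, nat_lit 1, nat_lit 2, nat_lit 0, nat_lit 1, nat_lit 0, nat_lit 2, nat_lit 0, nat_lit 1, nat_lit 0, nat_lit 2, nat_lit 1, nat_lit 0, nat_lit 1, nat_lit 2, nat_lit 1, nat_lit 2, nat_lit 0, nat_lit 1, nat_lit 0, nat_lit 2, nat_lit 1, nat_lit 2, nat_lit 0, nat_lit 1, nat_lit 0, nat_lit 2, nat_lit 1, nat_lit 0, nat_lit 1, nat_lit 0, nat_lit 2, nat_lit 1, nat_lit 0, nat_lit 2, nat_lit 0, nat_lit 1, nat_lit 0, nat_lit 2], [nat_lit 1, nat_lit 2, nat_lit 0, nat_lit 1, nat_lit 0, nat_lit 1, nat_lit 2, nat_lit 0, nat_lit 1, nat_lit 0, nat_lit 2, nat_lit 0, nat_lit 1, nat_lit 2, nat_lit 0, nat_lit 1,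 nat_lit 0, nat_lit 2, nat_lit 0, nat_lit 1, nat_lit 0, nat_lit 2, nat_lit 1, nat_lit 0, nat_lit 2, nat_lit 0, nat_lit 2, nat_lit 0, nat_lit 1, nat_lit 0, nat_lit 1, nat_lit 2, nat_lit 1, nat_lit 0, nat_lit 1, nat_lit 0, nat_lit 2, nat_lit 1, nat_lit 0, nat_lit 1, nat_lit 2, nat_lit 0, nat_lit 1, nat_lit 0, nat_lit 2, nat_lit 0, nat_lit 1, nat_lit 0, nat_lit 2, nat_lit 1, nat_lit 0, nat_lit 1, nat_lit 2, nat_lit 0, nat_lit 2, nat_lit 0, nat_lit 1, nat_lit 0, nat_lit 2, nat_lit 1, nat_lit 0, nat_lit 1, nat_lit 2, nat_lit 0, nat_lit 1, nat_lit 0, nat_lit 2, nat_lit 0, nat_lit 1, nat_lit 0, nat_lit 2, nat_lit 0, nat_lit 2, nat_lit 0, nat_lit 1, nat_lit 2, nat_lit 0, nat_lit 1, nat_lit 0, nat_lit 1, nat_lit 2, nat_lit 0, nat_lit 1, nat_lit 0, nat_lit 2, nat_lit 1, nat_lit 2, nat_lit 0, nat_lit 1, nat_lit 0, nat_lit 2, nat_lit 1, nat_lit 2, nat_lit 1, nat_lit 2, nat_lit 0, nat_lit 2, nat_lit 0, nat_lit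 1, nat_lit 0, nat_lit 1, nat_lit 2, nat_lit 1, nat_lit 0, nat_lit 1, nat_lit 0, nat_lit 2, nat_lit 1, nat_lit 0, nat_lit 1, nat_lit 2, nat_lit 0, nat_lit 1, nat_lit 0, nat_lit 2, nat_lit 0, nat_lit 1, nat_lit 0, nat_lit 2, nat_lit 1, nat_lit 0, nat_lit 1, nat_lit 2, nat_lit 0, nat_lit 2, nat_lit 0, nat_lit 1, nat_lit 0, nat_lit 1], [nat_lit 1, nat_lit 0, nat_lit 1, nat_lit 0, nat_lit 1, nat_lit 0, nat_lit 1, nat_lit 0, nat_lit 2, nat_lit 1, nat_lit 0, nat_lit 1, nat_lit 0, nat_lit 2, nat_lit 1, nat_lit 0, nat_lit 1, nat_lit 0, nat_lit 2, nat_lit 1, nat_lit 0, nat_lit 2, nat_lit 0, nat_lit 1, nat_lit 2, nat_lit 0, nat_lit 1, nat_lit 0, nat_lit 1, nat_lit 2, nat_lit 0, nat_lit 1, nat_lit 0, nat_lit 2, nat_lit 1, nat_lit 2, nat_lit 0, nat_lit 1, nat_lit 0, nat_lit 2, nat_lit 1, nat_lit 2, nat_lit 1, nat_lit 0, nat_lit 1, nat_lit 2, nat_lit 0, nat_lit 1, nat_lit 0, nat_lit 2, nat_lit 0, nat_lit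 1, nat_lit 0, nat_lit 2, nat_lit 1, nat_lit 0, nat_lit 2, nat_lit 1, nat_lit 0, nat_lit 1, nat_lit 2, nat_lit 1, nat_lit 2, nat_lit 0, nat_lit 2, nat_lit 1, nat_lit 0, nat_lit 1, nat_lit 2, nat_lit 0, nat_lit 1, nat_lit 0, nat_lit 2, nat_lit 0, nat_lit 1, nat_lit 0, nat_lit 2, nat_lit 1, nat_lit 0, nat_lit 2, nat_lit 0, nat_lit 2, nat_lit 0, nat_lit 1, nat_lit 0, nat_lit 1, nat_lit 2, nat_lit 1, nat_lit 0, nat_lit 1, nat_lit 0, nat_lit 2, nat_lit 1, nat_lit 0, nat_lit 1, nat_lit 2, nat_lit 0, nat_lit 1, nat_lit 0, nat_lit 2, nat_lit 0, nat_lit 1, nat_lit 0, nat_lit 2, nat_lit 1, nat_lit 0, nat_lit 1, nat_lit 2, nat_lit 0, nat_lit 2, nat_lit 0, nat_lit 1, nat_lit 0, nat_lit 1], [nat_lit 0, nat_lit 1, nat_lit 0, nat_lit 2, nat_lit 1, nat_lit 0, nat_lit 1, nat_lit 0, nat_lit 2, nat_lit 0, nat_lit 2, nat_lit 0, nat_lit 1, nat_lit 2, nat_lit 0, nat_lit 1, nat_lit 2, nat_lit 0, nat_lit 2, nat_lit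 0, nat_lit 1, nat_lit 0, nat_lit 2, nat_lit 0, nat_lit 1, nat_lit 2, nat_lit 0, nat_lit 1, nat_lit 0, nat_lit 2, nat_lit 0, nat_lit 1, nat_lit 2, nat_lit 0, nat_lit 1, nat_lit 0, nat_lit 1, nat_lit 2, nat_lit 0, nat_lit 1, nat_lit 0, nat_lit 2, nat_lit 1, nat_lit 2, nat_lit 0, nat_lit 1, nat_lit 0, nat_lit 2, nat_lit 1, nat_lit 2, nat_lit 1, nat_lit 0, nat_lit 1, nat_lit 2, nat_lit 0, nat_lit 1, nat_lit 0, nat_lit 2, nat_lit 0, nat_lit 1, nat_lit 0, nat_lit 2, nat_lit 1, nat_lit 0, nat_lit 1, nat_lit 2, nat_lit 0, nat_lit 1, nat_lit 2, nat_lit 0, nat_lit 1, nat_lit 2, nat_lit 0, nat_lit 1, nat_lit 2, nat_lit 0, nat_lit 1, nat_lit 2, nat_lit 0, nat_lit 1, nat_lit 2, nat_lit 0, nat_lit 1, nat_lit 2, nat_lit 0, nat_lit 1, nat_lit 2, nat_lit 0, nat_lit 1, nat_lit 2, nat_lit 0, nat_lit 1, nat_lit 2, nat_lit 0, nat_lit 1, nat_lit 2, nat_lit 0, nat_lit 1, nat_lit 2, nat_lit 0, nat_lit 1, nat_lit 2,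 nat_lit 0, nat_lit 1, nat_lit 2, nat_lit 0, nat_lit 1, nat_lit 2, nat_lit 0, nat_lit 1, nat_lit 2, nat_lit 0, nat_lit 1, nat_lit 2, nat_lit 0, nat_lit 1, nat_lit 2, nat_lit 0, nat_lit 1, nat_lit 2, nat_lit 0, nat_lit 1, nat_lit 2, nat_lit 0, nat_lit 1, nat_lit 2, nat_lit 0, nat_lit 1, nat_lit 2, nat_lit 0, nat_lit 1, nat_lit 2, nat_lit 0, nat_lit 1, nat_lit 2, nat_lit 0, nat_lit 1, nat_lit 2, nat_lit 0, nat_lit 1, nat_lit 2, nat_lit 0, nat_lit 1, nat_lit 2, nat_lit 0, nat_lit 1, nat_lit 2, nat_lit 0, nat_lit 1, nat_lit 2, nat_lit 0, nat_lit 1, nat_lit 2, nat_lit 0, nat_lit 1, nat_lit 2, nat_lit 0, nat_lit 1, nat_lit 2, nat_lit 0, nat_lit 1, nat_lit 2, nat_lit 0, nat_lit 1, nat_lit 2, nat_lit 0, nat_lit 1, nat_lit 2, nat_lit 0, nat_lit 1, nat_lit 2, nat_lit 0, nat_lit 1, nat_lit 2, nat_lit 0, nat_lit 1, nat_lit 2], [nat_lit 2, nat_lit 0, nat_lit 2, nat_lit 0, nat_lit 1, nat_lit 0, nat_lit 2,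 nat_lit 1, nat_lit 0, nat_lit 1, nat_lit 2, nat_lit 1, nat_lit 2, nat_lit 0, nat_lit 1, nat_lit 0, nat_lit 2, nat_lit 0, nat_lit 1, nat_lit 2, nat_lit 1, nat_lit 0, nat_lit 1, nat_lit 2, nat_lit 0, nat_lit 1, nat_lit 0, nat_lit 2, nat_lit 1, nat_lit 0, nat_lit 1, nat_lit 0, nat_lit 2, nat_lit 0, nat_lit 2, nat_lit 1, nat_lit 0, nat_lit 1, nat_lit 2, nat_lit 0, nat_lit 1, nat_lit 0, nat_lit 2, nat_lit 0, nat_lit 1, nat_lit 0, nat_lit 2, nat_lit 1, nat_lit 0, nat_lit 1, nat_lit 2, nat_lit 0, nat_lit 1, nat_lit 0, nat_lit 1, nat_lit 2, nat_lit 1, nat_lit 0, nat_lit 1, nat_lit 0, nat_lit 2, nat_lit 0, nat_lit 2, nat_lit 0, nat_lit 1, nat_lit 2, nat_lit 0, nat_lit 1, nat_lit 0, nat_lit 2, nat_lit 0, nat_lit 1, nat_lit 0, nat_lit 2, nat_lit 1, nat_lit 2, nat_lit 1, nat_lit 0, nat_lit 1, nat_lit 2, nat_lit 0, nat_lit 1, nat_lit 2, nat_lit 0, nat_lit 1, nat_lit 0, nat_lit 2, nat_lit 0, nat_lit 1, nat_lit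 0, nat_lit 2, nat_lit 1, nat_lit 0, nat_lit 1, nat_lit 2, nat_lit 1, nat_lit 2, nat_lit 0, nat_lit 1, nat_lit 0, nat_lit 2, nat_lit 1, nat_lit 2, nat_lit 0, nat_lit 1, nat_lit 0, nat_lit 2, nat_lit 1, nat_lit 0, nat_lit 1, nat_lit 0, nat_lit 2, nat_lit 1, nat_lit 0, nat_lit 2, nat_lit 0, nat_lit 1, nat_lit 0, nat_lit 2, nat_lit 0, nat_lit 1, nat_lit 2, nat_lit 0, nat_lit 1, nat_lit 0, nat_lit 2, nat_lit 0, nat_lit 1, nat_lit 0, nat_lit 2, nat_lit 1, nat_lit 0, nat_lit 1, nat_lit 2, nat_lit 1, nat_lit 2, nat_lit 0, nat_lit 1, nat_lit 0, nat_lit 2, nat_lit 1, nat_lit 2, nat_lit 0, nat_lit 1, nat_lit 0, nat_lit 2, nat_lit 1, nat_lit 0, nat_lit 1, nat_lit 0, nat_lit 2, nat_lit 1, nat_lit 0, nat_lit 2, nat_lit 0, nat_lit 1, nat_lit 0, nat_lit 2, nat_lit 1, nat_lit 2, nat_lit 0, nat_lit 2, nat_lit 1, nat_lit 0, nat_lit 1, nat_lit 2, nat_lit 0, nat_lit 1, nat_lit 2, nat_lit 0, nat_lit 1, nat_lit 2,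 nat_lit 0, nat_lit 1, nat_lit 2, nat_lit 0, nat_lit 1, nat_lit 2, nat_lit 0, nat_lit 1, nat_lit 2, nat_lit 0, nat_lit 1, nat_lit 2, nat_lit 0, nat_lit 1, nat_lit 2, nat_lit 0, nat_lit 1, nat_lit 2, nat_lit 0, nat_lit 1, nat_lit 2, nat_lit 0, nat_lit 1, nat_lit 2, nat_lit 0, nat_lit 1, nat_lit 2, nat_lit 0, nat_lit 1, nat_lit 2, nat_lit 0, nat_lit 1, nat_lit 2, nat_lit 0, nat_lit 1, nat_lit 2, nat_lit 0, nat_lit 1, nat_lit 2, nat_lit 0, nat_lit 1, nat_lit 2, nat_lit 0, nat_lit 1, nat_lit 2, nat_lit 0, nat_lit 1, nat_lit 2], [], [nat_lit 2, nat_lit 0, nat_lit 1, nat_lit 0, nat_lit 1, nat_lit 0, nat_lit 2, nat_lit 0, nat_lit 1, nat_lit 0, nat_lit 1, nat_lit 2, nat_lit 0, nat_lit 2, nat_lit 0, nat_lit 2, nat_lit 0, nat_lit 1, nat_lit 0, nat_lit 1, nat_lit 0], [nat_lit 1, nat_lit 0, nat_lit 1, nat_lit 0, nat_lit 2, nat_lit 0, nat_lit 2, nat_lit 1, nat_lit 0, nat_lit 1, nat_lit 2, nat_lit 0, nat_lit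 1, nat_lit 0, nat_lit 2, nat_lit 0, nat_lit 1, nat_lit 0, nat_lit 2, nat_lit 1, nat_lit 0, nat_lit 1, nat_lit 2, nat_lit 0, nat_lit 1, nat_lit 0, nat_lit 1, nat_lit 2, nat_lit 1, nat_lit 0, nat_lit 1, nat_lit 0, nat_lit 2, nat_lit 0, nat_lit 2, nat_lit 0, nat_lit 1, nat_lit 2, nat_lit 0, nat_lit 1, nat_lit 0, nat_lit 2, nat_lit 0, nat_lit 1, nat_lit 0, nat_lit 2, nat_lit 1, nat_lit 0, nat_lit 2, nat_lit 1, nat_lit 0, nat_lit 1, nat_lit 2, nat_lit 1, nat_lit 0, nat_lit 2, nat_lit 0, nat_lit 2, nat_lit 0, nat_lit 1, nat_lit 2, nat_lit 0, nat_lit 1, nat_lit 0, nat_lit 2, nat_lit 1, nat_lit 0, nat_lit 1, nat_lit 0, nat_lit 2, nat_lit 1, nat_lit 0, nat_lit 1, nat_lit 0, nat_lit 2, nat_lit 0, nat_lit 2, nat_lit 1, nat_lit 0, nat_lit 1, nat_lit 2, nat_lit 0, nat_lit 1, nat_lit 0, nat_lit 2, nat_lit 0, nat_lit 1, nat_lit 0, nat_lit 2, nat_lit 1, nat_lit 0, nat_lit 1, nat_lit 2, nat_lit 0, nat_lit 1,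 nat_lit 0, nat_lit 1, nat_lit 2, nat_lit 1, nat_lit 0, nat_lit 1, nat_lit 0, nat_lit 2, nat_lit 0, nat_lit 2, nat_lit 0, nat_lit 1, nat_lit 2, nat_lit 0, nat_lit 1, nat_lit 0, nat_lit 2, nat_lit 0, nat_lit 1, nat_lit 0, nat_lit 2, nat_lit 1, nat_lit 0, nat_lit 1, nat_lit 2, nat_lit 0, nat_lit 2, nat_lit 1, nat_lit 2, nat_lit 1, nat_lit 0, nat_lit 1, nat_lit 2], [], [nat_lit 2, nat_lit 0, nat_lit 1, nat_lit 0, nat_lit 2, nat_lit 0, nat_lit 1, nat_lit 2, nat_lit 0, nat_lit 1, nat_lit 0, nat_lit 1, nat_lit 2, nat_lit 0, nat_lit 1, nat_lit 0, nat_lit 2, nat_lit 1, nat_lit 2, nat_lit 0, nat_lit 1, nat_lit 0, nat_lit 2, nat_lit 1, nat_lit 2, nat_lit 1, nat_lit 2, nat_lit 0, nat_lit 2, nat_lit 0, nat_lit 1, nat_lit 0, nat_lit 1, nat_lit 2, nat_lit 1, nat_lit 0, nat_lit 1, nat_lit 0, nat_lit 2, nat_lit 1, nat_lit 0, nat_lit 1, nat_lit 2, nat_lit 0, nat_lit 1, nat_lit 0, nat_lit 2, nat_lit 0, nat_lit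 1, nat_lit 0, nat_lit 2, nat_lit 1, nat_lit 0, nat_lit 1, nat_lit 2, nat_lit 0, nat_lit 2, nat_lit 0, nat_lit 1, nat_lit 0, nat_lit 2, nat_lit 0, nat_lit 1, nat_lit 0, nat_lit 2, nat_lit 0, nat_lit 1, nat_lit 0, nat_lit 2, nat_lit 1, nat_lit 0, nat_lit 2, nat_lit 1, nat_lit 0, nat_lit 1, nat_lit 2, nat_lit 1, nat_lit 2, nat_lit 0, nat_lit 1, nat_lit 0, nat_lit 1, nat_lit 2, nat_lit 0, nat_lit 2, nat_lit 1, nat_lit 0, nat_lit 1, nat_lit 2, nat_lit 0, nat_lit 1, nat_lit 0, nat_lit 2, nat_lit 0, nat_lit 1, nat_lit 0, nat_lit 2, nat_lit 1, nat_lit 0, nat_lit 1, nat_lit 2, nat_lit 1, nat_lit 2, nat_lit 0, nat_lit 1, nat_lit 0, nat_lit 2, nat_lit 1, nat_lit 2, nat_lit 0, nat_lit 1, nat_lit 0, nat_lit 2, nat_lit 1, nat_lit 0, nat_lit 1, nat_lit 0, nat_lit 2, nat_lit 1, nat_lit 0, nat_lit 2, nat_lit 0, nat_lit 1, nat_lit 0, nat_lit 2, nat_lit 0], [nat_lit 1, nat_lit 2, nat_lit 0, nat_lit 1, nat_lit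 0, nat_lit 1, nat_lit 2, nat_lit 0, nat_lit 1, nat_lit 0, nat_lit 2, nat_lit 1, nat_lit 2, nat_lit 0, nat_lit 2, nat_lit 0, nat_lit 1, nat_lit 0, nat_lit 2, nat_lit 0, nat_lit 1, nat_lit 0, nat_lit 2, nat_lit 1, nat_lit 0, nat_lit 1, nat_lit 2, nat_lit 1, nat_lit 2, nat_lit 0, nat_lit 1, nat_lit 0, nat_lit 2, nat_lit 1, nat_lit 2, nat_lit 0, nat_lit 1, nat_lit 0, nat_lit 2, nat_lit 1, nat_lit 0, nat_lit 1, nat_lit 0, nat_lit 2, nat_lit 1, nat_lit 0, nat_lit 1, nat_lit 0, nat_lit 1, nat_lit 0, nat_lit 2, nat_lit 1, nat_lit 0, nat_lit 2, nat_lit 0, nat_lit 1, nat_lit 2, nat_lit 0, nat_lit 1, nat_lit 0, nat_lit 1, nat_lit 2, nat_lit 0, nat_lit 1, nat_lit 0, nat_lit 2, nat_lit 1, nat_lit 2, nat_lit 0, nat_lit 1, nat_lit 0, nat_lit 2, nat_lit 1, nat_lit 2, nat_lit 1, nat_lit 0, nat_lit 1, nat_lit 2, nat_lit 0, nat_lit 1, nat_lit 0, nat_lit 2, nat_lit 0, nat_lit 1, nat_lit 0, nat_lit 2, nat_lit 1,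 nat_lit 0, nat_lit 2, nat_lit 1, nat_lit 0, nat_lit 1, nat_lit 2, nat_lit 0, nat_lit 1, nat_lit 2, nat_lit 0, nat_lit 1, nat_lit 2, nat_lit 0, nat_lit 1, nat_lit 2, nat_lit 0, nat_lit 1, nat_lit 2, nat_lit 0, nat_lit 1, nat_lit 2, nat_lit 0, nat_lit 1, nat_lit 2, nat_lit 0, nat_lit 1, nat_lit 2, nat_lit 0, nat_lit 1, nat_lit 2, nat_lit 0, nat_lit 1, nat_lit 2, nat_lit 0, nat_lit 1, nat_lit 2, nat_lit 0, nat_lit 1, nat_lit 2, nat_lit 0, nat_lit 1, nat_lit 2, nat_lit 0, nat_lit 1, nat_lit 2, nat_lit 0, nat_lit 1, nat_lit 2, nat_lit 0, nat_lit 1, nat_lit 2, nat_lit 0, nat_lit 1, nat_lit 2, nat_lit 0, nat_lit 1, nat_lit 2, nat_lit 0, nat_lit 1, nat_lit 2, nat_lit 0, nat_lit 1, nat_lit 2], [nat_lit 2, nat_lit 1, nat_lit 2, nat_lit 0, nat_lit 1, nat_lit 0, nat_lit 2, nat_lit 1, nat_lit 2, nat_lit 1, nat_lit 0, nat_lit 1, nat_lit 2, nat_lit 0, nat_lit 1, nat_lit 0, nat_lit 2, nat_lit 0, nat_lit 2,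 nat_lit 0, nat_lit 1, nat_lit 2, nat_lit 0, nat_lit 1, nat_lit 0, nat_lit 1, nat_lit 2, nat_lit 0, nat_lit 1, nat_lit 0, nat_lit 2, nat_lit 1, nat_lit 2, nat_lit 0, nat_lit 1, nat_lit 0, nat_lit 2, nat_lit 1, nat_lit 2, nat_lit 1, nat_lit 0, nat_lit 1, nat_lit 2, nat_lit 0, nat_lit 1, nat_lit 0, nat_lit 2, nat_lit 0, nat_lit 1, nat_lit 0, nat_lit 2, nat_lit 1, nat_lit 0, nat_lit 2, nat_lit 1, nat_lit 0, nat_lit 1, nat_lit 0, nat_lit 1, nat_lit 0, nat_lit 2, nat_lit 0, nat_lit 1, nat_lit 2, nat_lit 0, nat_lit 1, nat_lit 0, nat_lit 1, nat_lit 2, nat_lit 0, nat_lit 1, nat_lit 0, nat_lit 2, nat_lit 1, nat_lit 2, nat_lit 0, nat_lit 1, nat_lit 0, nat_lit 2, nat_lit 1, nat_lit 2, nat_lit 1, nat_lit 0, nat_lit 1, nat_lit 2, nat_lit 0, nat_lit 1, nat_lit 0, nat_lit 2, nat_lit 0, nat_lit 1, nat_lit 0, nat_lit 2, nat_lit 1, nat_lit 0, nat_lit 2, nat_lit 0, nat_lit 1, nat_lit 0, nat_lit 2, nat_lit 0, nat_lit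 1, nat_lit 2, nat_lit 0, nat_lit 1, nat_lit 0, nat_lit 1, nat_lit 2, nat_lit 0, nat_lit 1, nat_lit 0, nat_lit 2, nat_lit 1, nat_lit 2, nat_lit 0, nat_lit 1, nat_lit 0, nat_lit 2, nat_lit 1, nat_lit 2, nat_lit 1, nat_lit 0, nat_lit 1, nat_lit 2, nat_lit 0, nat_lit 1, nat_lit 0, nat_lit 2, nat_lit 0, nat_lit 1, nat_lit 0, nat_lit 2, nat_lit 1, nat_lit 0, nat_lit 2, nat_lit 1, nat_lit 0, nat_lit 1, nat_lit 2], [nat_lit 2, nat_lit 0, nat_lit 1, nat_lit 0, nat_lit 1, nat_lit 0, nat_lit 1, nat_lit 0, nat_lit 2, nat_lit 0, nat_lit 2, nat_lit 1, nat_lit 0, nat_lit 1, nat_lit 2, nat_lit 0, nat_lit 1, nat_lit 0, nat_lit 2, nat_lit 0, nat_lit 1, nat_lit 0, nat_lit 2, nat_lit 1, nat_lit 0, nat_lit 1, nat_lit 2, nat_lit 0, nat_lit 1, nat_lit 0, nat_lit 1, nat_lit 2, nat_lit 1, nat_lit 0, nat_lit 1, nat_lit 0, nat_lit 2, nat_lit 0, nat_lit 2, nat_lit 0, nat_lit 1, nat_lit 2, nat_lit 0, nat_lit 1, nat_lit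 0, nat_lit 2, nat_lit 0, nat_lit 1, nat_lit 0, nat_lit 2, nat_lit 1, nat_lit 0, nat_lit 1, nat_lit 2, nat_lit 0, nat_lit 1, nat_lit 0, nat_lit 1, nat_lit 2, nat_lit 0, nat_lit 1, nat_lit 0, nat_lit 2, nat_lit 0, nat_lit 1, nat_lit 0, nat_lit 2, nat_lit 0, nat_lit 2, nat_lit 0, nat_lit 1, nat_lit 2, nat_lit 0, nat_lit 1, nat_lit 0, nat_lit 2, nat_lit 0, nat_lit 1, nat_lit 0, nat_lit 2, nat_lit 1], [nat_lit 1, nat_lit 2, nat_lit 0, nat_lit 1, nat_lit 0, nat_lit 1, nat_lit 2, nat_lit 0, nat_lit 1, nat_lit 0, nat_lit 2, nat_lit 1, nat_lit 2, nat_lit 1, nat_lit 0, nat_lit 1, nat_lit 2, nat_lit 1, nat_lit 2, nat_lit 1, nat_lit 0, nat_lit 1, nat_lit 2, nat_lit 0, nat_lit 1, nat_lit 0, nat_lit 1, nat_lit 0, nat_lit 1, nat_lit 0, nat_lit 2, nat_lit 0, nat_lit 2, nat_lit 1, nat_lit 0, nat_lit 1, nat_lit 2, nat_lit 0, nat_lit 1, nat_lit 0, nat_lit 2, nat_lit 0, nat_lit 1, nat_lit 0, nat_lit 2, nat_lit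 1, nat_lit 0, nat_lit 1, nat_lit 2, nat_lit 1, nat_lit 2, nat_lit 0, nat_lit 1, nat_lit 0, nat_lit 2, nat_lit 1, nat_lit 2, nat_lit 0, nat_lit 1, nat_lit 0, nat_lit 2, nat_lit 1, nat_lit 0, nat_lit 1, nat_lit 0, nat_lit 2, nat_lit 1, nat_lit 0, nat_lit 2, nat_lit 0, nat_lit 1, nat_lit 0, nat_lit 2, nat_lit 1, nat_lit 2, nat_lit 0, nat_lit 2, nat_lit 1, nat_lit 0, nat_lit 1, nat_lit 2, nat_lit 0, nat_lit 1, nat_lit 2, nat_lit 0, nat_lit 1, nat_lit 2, nat_lit 0, nat_lit 1, nat_lit 2, nat_lit 0, nat_lit 1, nat_lit 2, nat_lit 0, nat_lit 1, nat_lit 2, nat_lit 0, nat_lit 1, nat_lit 2, nat_lit 0, nat_lit 1, nat_lit 2, nat_lit 0, nat_lit 1, nat_lit 2, nat_lit 0, nat_lit 1, nat_lit 2, nat_lit 0, nat_lit 1, nat_lit 2, nat_lit 0, nat_lit 1, nat_lit 2, nat_lit 0, nat_lit 1, nat_lit 2, nat_lit 0, nat_lit 1, nat_lit 2, nat_lit 0, nat_lit 1, nat_lit 2, nat_lit 0, nat_lit 1, nat_lit 2, nat_lit 0, nat_lit 1,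 nat_lit 2, nat_lit 0, nat_lit 1, nat_lit 2, nat_lit 0, nat_lit 1, nat_lit 2, nat_lit 0, nat_lit 1, nat_lit 2, nat_lit 0, nat_lit 1, nat_lit 2, nat_lit 0, nat_lit 1, nat_lit 2, nat_lit 0, nat_lit 1, nat_lit 2, nat_lit 0, nat_lit 1, nat_lit 2, nat_lit 0, nat_lit 1, nat_lit 2, nat_lit 0, nat_lit 1, nat_lit 2, nat_lit 0, nat_lit 1, nat_lit 2, nat_lit 0, nat_lit 1, nat_lit 2, nat_lit 0, nat_lit 1, nat_lit 2, nat_lit 0, nat_lit 1, nat_lit 2, nat_lit 0, nat_lit 1, nat_lit 2, nat_lit 0, nat_lit 1, nat_lit 2, nat_lit 0, nat_lit 1, nat_lit 2, nat_lit 0, nat_lit 1, nat_lit 2, nat_lit 0, nat_lit 1, nat_lit 2, nat_lit 0, nat_lit 1, nat_lit 2, nat_lit 0, nat_lit 1, nat_lit 2, nat_lit 0, nat_lit 1, nat_lit 2], [], [nat_lit 2], [nat_lit 2, nat_lit 0, nat_lit 1, nat_lit 2, nat_lit 0, nat_lit 1, nat_lit 0, nat_lit 1, nat_lit 2, nat_lit 0, nat_lit 1, nat_lit 0, nat_lit 2, nat_lit 0, nat_lit 1, nat_lit 0, nat_lit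 2, nat_lit 1, nat_lit 0, nat_lit 1, nat_lit 2, nat_lit 1, nat_lit 0, nat_lit 1, nat_lit 0, nat_lit 2, nat_lit 1, nat_lit 0, nat_lit 1, nat_lit 2, nat_lit 0, nat_lit 1, nat_lit 0, nat_lit 2, nat_lit 0, nat_lit 1, nat_lit 2, nat_lit 0, nat_lit 1, nat_lit 0, nat_lit 1, nat_lit 2, nat_lit 0, nat_lit 1, nat_lit 0, nat_lit 2, nat_lit 1, nat_lit 2, nat_lit 0, nat_lit 1, nat_lit 0, nat_lit 2, nat_lit 1, nat_lit 2, nat_lit 1, nat_lit 0, nat_lit 1, nat_lit 2, nat_lit 0, nat_lit 1, nat_lit 0, nat_lit 2, nat_lit 0, nat_lit 1, nat_lit 0, nat_lit 2, nat_lit 1, nat_lit 0, nat_lit 1, nat_lit 2, nat_lit 0, nat_lit 2, nat_lit 1, nat_lit 0, nat_lit 1, nat_lit 2, nat_lit 0, nat_lit 1, nat_lit 0, nat_lit 2, nat_lit 0, nat_lit 1, nat_lit 0, nat_lit 2, nat_lit 1, nat_lit 0, nat_lit 2, nat_lit 0, nat_lit 2, nat_lit 0, nat_lit 1, nat_lit 0, nat_lit 1, nat_lit 2, nat_lit 1, nat_lit 0, nat_lit 1, nat_lit 0, nat_lit 2,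 nat_lit 1, nat_lit 0, nat_lit 1, nat_lit 2, nat_lit 0, nat_lit 1, nat_lit 0, nat_lit 2, nat_lit 0, nat_lit 1, nat_lit 0, nat_lit 2, nat_lit 1, nat_lit 0, nat_lit 1, nat_lit 2, nat_lit 0, nat_lit 2, nat_lit 0, nat_lit 1, nat_lit 0, nat_lit 1, nat_lit 0, nat_lit 0, nat_lit 1, nat_lit 2, nat_lit 0, nat_lit 1, nat_lit 2, nat_lit 0, nat_lit 1, nat_lit 2, nat_lit 0, nat_lit 1, nat_lit 2, nat_lit 0, nat_lit 1, nat_lit 2, nat_lit 0, nat_lit 1, nat_lit 2, nat_lit 0, nat_lit 1, nat_lit 2, nat_lit 0, nat_lit 1, nat_lit 2, nat_lit 0, nat_lit 1, nat_lit 2, nat_lit 0, nat_lit 1, nat_lit 2, nat_lit 0, nat_lit 1, nat_lit 2, nat_lit 0, nat_lit 1, nat_lit 2, nat_lit 0, nat_lit 1, nat_lit 2, nat_lit 0, nat_lit 1, nat_lit 2, nat_lit 0, nat_lit 1, nat_lit 2, nat_lit 0, nat_lit 1, nat_lit 2, nat_lit 0, nat_lit 1, nat_lit 2, nat_lit 0, nat_lit 1, nat_lit 2, nat_lit 0, nat_lit 1, nat_lit 2, nat_lit 0, nat_lit 1, nat_lit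 2, nat_lit 0, nat_lit 1, nat_lit 2, nat_lit 0, nat_lit 1, nat_lit 2, nat_lit 0, nat_lit 1, nat_lit 2, nat_lit 0, nat_lit 1, nat_lit 2, nat_lit 0, nat_lit 1, nat_lit 2, nat_lit 0, nat_lit 1, nat_lit 2, nat_lit 0, nat_lit 1, nat_lit 2, nat_lit 0, nat_lit 1, nat_lit 2, nat_lit 0, nat_lit 1, nat_lit 2, nat_lit 0, nat_lit 1, nat_lit 2, nat_lit 0, nat_lit 1, nat_lit 2, nat_lit 0, nat_lit 1, nat_lit 2, nat_lit 0, nat_lit 1, nat_lit 2, nat_lit 0, nat_lit 1, nat_lit 2, nat_lit 0, nat_lit 1, nat_lit 2, nat_lit 0, nat_lit 1, nat_lit 2, nat_lit 0, nat_lit 1, nat_lit 2, nat_lit 0, nat_lit 1, nat_lit 2], [nat_lit 2, nat_lit 0, nat_lit 2, nat_lit 0, nat_lit 1, nat_lit 2, nat_lit 0, nat_lit 1, nat_lit 0, nat_lit 2, nat_lit 0, nat_lit 1, nat_lit 0, nat_lit 2, nat_lit 1, nat_lit 0, nat_lit 2, nat_lit 0, nat_lit 2, nat_lit 0, nat_lit 1, nat_lit 0, nat_lit 2, nat_lit 1, nat_lit 0, nat_lit 1, nat_lit 0, nat_lit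 1, nat_lit 0, nat_lit 2, nat_lit 0, nat_lit 1, nat_lit 2, nat_lit 0, nat_lit 1, nat_lit 0, nat_lit 1, nat_lit 2, nat_lit 0, nat_lit 1, nat_lit 0, nat_lit 2, nat_lit 1, nat_lit 2, nat_lit 0, nat_lit 1, nat_lit 0, nat_lit 2, nat_lit 1, nat_lit 2, nat_lit 1, nat_lit 0, nat_lit 1, nat_lit 2, nat_lit 0, nat_lit 1, nat_lit 0, nat_lit 2, nat_lit 0, nat_lit 1, nat_lit 0, nat_lit 2, nat_lit 1, nat_lit 0, nat_lit 2, nat_lit 0, nat_lit 1, nat_lit 0, nat_lit 2, nat_lit 0, nat_lit 1, nat_lit 2, nat_lit 0, nat_lit 1, nat_lit 0, nat_lit 1, nat_lit 2, nat_lit 0, nat_lit 1, nat_lit 0, nat_lit 2, nat_lit 1, nat_lit 2, nat_lit 0, nat_lit 1, nat_lit 0, nat_lit 2, nat_lit 1, nat_lit 2, nat_lit 1, nat_lit 0, nat_lit 1, nat_lit 2, nat_lit 0, nat_lit 1, nat_lit 0, nat_lit 2, nat_lit 0, nat_lit 1, nat_lit 0, nat_lit 2, nat_lit 1, nat_lit 0, nat_lit 2, nat_lit 1, nat_lit 0, nat_lit 1, nat_lit 2, nat_lit 0, nat_lit 1,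 nat_lit 2, nat_lit 0, nat_lit 1, nat_lit 2, nat_lit 0, nat_lit 1, nat_lit 2, nat_lit 0, nat_lit 1, nat_lit 2, nat_lit 0, nat_lit 1, nat_lit 2, nat_lit 0, nat_lit 1, nat_lit 2, nat_lit 0, nat_lit 1, nat_lit 2, nat_lit 0, nat_lit 1, nat_lit 2, nat_lit 0, nat_lit 1, nat_lit 2, nat_lit 0, nat_lit 1, nat_lit 2, nat_lit 0, nat_lit 1, nat_lit 2, nat_lit 0, nat_lit 1, nat_lit 2, nat_lit 0, nat_lit 1, nat_lit 2, nat_lit 0, nat_lit 1, nat_lit 2, nat_lit 0, nat_lit 1, nat_lit 2, nat_lit 0, nat_lit 1, nat_lit 2, nat_lit 0, nat_lit 1, nat_lit 2, nat_lit 0, nat_lit 1, nat_lit 2, nat_lit 0, nat_lit 1, nat_lit 2], [nat_lit 0, nat_lit 1, nat_lit 2, nat_lit 0, nat_lit 1, nat_lit 0, nat_lit 1, nat_lit 2, nat_lit 0, nat_lit 2, nat_lit 0, nat_lit 1, nat_lit 0, nat_lit 2, nat_lit 0, nat_lit 1, nat_lit 0, nat_lit 2, nat_lit 1, nat_lit 0, nat_lit 1, nat_lit 2, nat_lit 1, nat_lit 2, nat_lit 0, nat_lit 1, nat_lit 0,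 nat_lit 2, nat_lit 1, nat_lit 2, nat_lit 0, nat_lit 1, nat_lit 0, nat_lit 2, nat_lit 1, nat_lit 0, nat_lit 1, nat_lit 0, nat_lit 2, nat_lit 1, nat_lit 0, nat_lit 2, nat_lit 0, nat_lit 1, nat_lit 0, nat_lit 2, nat_lit 1, nat_lit 2, nat_lit 0, nat_lit 2, nat_lit 0, nat_lit 2, nat_lit 1, nat_lit 0, nat_lit 1, nat_lit 0, nat_lit 2, nat_lit 0, nat_lit 2, nat_lit 1, nat_lit 0, nat_lit 1, nat_lit 2, nat_lit 0, nat_lit 1, nat_lit 0, nat_lit 2, nat_lit 0, nat_lit 1, nat_lit 0, nat_lit 2, nat_lit 1, nat_lit 0, nat_lit 1, nat_lit 2, nat_lit 0, nat_lit 1, nat_lit 0, nat_lit 1, nat_lit 2, nat_lit 1, nat_lit 0, nat_lit 1, nat_lit 0, nat_lit 2, nat_lit 0, nat_lit 2, nat_lit 0, nat_lit 1, nat_lit 2, nat_lit 0, nat_lit 1, nat_lit 0, nat_lit 2, nat_lit 0, nat_lit 1, nat_lit 0, nat_lit 2, nat_lit 1, nat_lit 0, nat_lit 1, nat_lit 2, nat_lit 0, nat_lit 2, nat_lit 1, nat_lit 0, nat_lit 1, nat_lit 2, nat_lit 0, nat_lit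 1, nat_lit 0, nat_lit 2, nat_lit 0, nat_lit 1, nat_lit 0, nat_lit 2, nat_lit 1, nat_lit 0, nat_lit 1, nat_lit 2, nat_lit 1, nat_lit 2, nat_lit 0, nat_lit 1, nat_lit 0, nat_lit 2, nat_lit 1, nat_lit 2, nat_lit 0, nat_lit 1, nat_lit 0, nat_lit 2, nat_lit 1, nat_lit 0, nat_lit 1, nat_lit 0, nat_lit 2, nat_lit 1, nat_lit 0, nat_lit 2, nat_lit 0, nat_lit 1, nat_lit 0, nat_lit 2, nat_lit 1, nat_lit 2, nat_lit 0, nat_lit 2, nat_lit 1], [nat_lit 2, nat_lit 0, nat_lit 2, nat_lit 0, nat_lit 1, nat_lit 0, nat_lit 2, nat_lit 0, nat_lit 1, nat_lit 2, nat_lit 0, nat_lit 1, nat_lit 0, nat_lit 1, nat_lit 2, nat_lit 0, nat_lit 1, nat_lit 0, nat_lit 2, nat_lit 1, nat_lit 2, nat_lit 0, nat_lit 1, nat_lit 0, nat_lit 2, nat_lit 1, nat_lit 2, nat_lit 1, nat_lit 0, nat_lit 1, nat_lit 2, nat_lit 0, nat_lit 1, nat_lit 0, nat_lit 2, nat_lit 0, nat_lit 1, nat_lit 0, nat_lit 2, nat_lit 1, nat_lit 0, nat_lit 2, nat_lit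 1, nat_lit 0, nat_lit 1, nat_lit 2, nat_lit 1, nat_lit 2, nat_lit 0, nat_lit 1, nat_lit 0, nat_lit 2, nat_lit 0, nat_lit 1, nat_lit 0, nat_lit 2, nat_lit 1, nat_lit 0, nat_lit 2, nat_lit 0, nat_lit 2, nat_lit 0, nat_lit 1, nat_lit 0, nat_lit 1, nat_lit 2, nat_lit 1, nat_lit 0, nat_lit 1, nat_lit 0, nat_lit 2, nat_lit 1, nat_lit 0, nat_lit 1, nat_lit 2, nat_lit 0, nat_lit 1, nat_lit 0, nat_lit 2, nat_lit 0, nat_lit 1, nat_lit 0, nat_lit 2, nat_lit 1, nat_lit 0, nat_lit 1, nat_lit 2, nat_lit 0, nat_lit 2, nat_lit 0, nat_lit 1, nat_lit 0, nat_lit 1, nat_lit 0, nat_lit 1, nat_lit 0, nat_lit 2, nat_lit 0, nat_lit 2, nat_lit 1, nat_lit 2, nat_lit 1, nat_lit 2, nat_lit 0, nat_lit 1, nat_lit 0, nat_lit 2, nat_lit 0, nat_lit 1, nat_lit 2, nat_lit 0, nat_lit 1, nat_lit 0, nat_lit 1, nat_lit 2, nat_lit 0, nat_lit 1, nat_lit 0, nat_lit 2, nat_lit 1, nat_lit 2, nat_lit 0, nat_lit 1, nat_lit 0, nat_lit 2,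 nat_lit 1, nat_lit 2, nat_lit 1, nat_lit 0, nat_lit 1, nat_lit 2, nat_lit 0, nat_lit 1, nat_lit 0, nat_lit 2, nat_lit 0, nat_lit 1, nat_lit 0, nat_lit 2, nat_lit 1, nat_lit 0, nat_lit 1, nat_lit 2, nat_lit 0, nat_lit 2, nat_lit 1, nat_lit 2, nat_lit 1, nat_lit 0, nat_lit 1, nat_lit 2, nat_lit 0, nat_lit 1, nat_lit 2, nat_lit 0, nat_lit 1, nat_lit 2, nat_lit 0, nat_lit 1, nat_lit 2, nat_lit 0, nat_lit 1, nat_lit 2, nat_lit 0, nat_lit 1, nat_lit 2, nat_lit 0, nat_lit 1, nat_lit 2, nat_lit 0, nat_lit 1, nat_lit 2, nat_lit 0, nat_lit 1, nat_lit 2, nat_lit 0, nat_lit 1, nat_lit 2, nat_lit 0, nat_lit 1, nat_lit 2, nat_lit 0, nat_lit 1, nat_lit 2, nat_lit 0, nat_lit 1, nat_lit 2, nat_lit 0, nat_lit 1, nat_lit 2, nat_lit 0, nat_lit 1, nat_lit 2, nat_lit 0, nat_lit 1, nat_lit 2, nat_lit 0, nat_lit 1, nat_lit 2, nat_lit 0, nat_lit 1, nat_lit 2, nat_lit 0, nat_lit 1, nat_lit 2, nat_lit 0, nat_lit 1, nat_lit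 2], [nat_lit 2, nat_lit 1, nat_lit 0, nat_lit 1, nat_lit 2, nat_lit 0, nat_lit 1, nat_lit 2, nat_lit 0, nat_lit 1, nat_lit 0, nat_lit 2, nat_lit 0, nat_lit 1, nat_lit 0, nat_lit 2, nat_lit 1, nat_lit 0, nat_lit 1, nat_lit 2, nat_lit 1, nat_lit 2, nat_lit 0, nat_lit 1, nat_lit 0, nat_lit 2, nat_lit 1, nat_lit 2, nat_lit 0, nat_lit 1, nat_lit 0, nat_lit 2, nat_lit 1, nat_lit 0, nat_lit 1, nat_lit 0, nat_lit 2, nat_lit 1, nat_lit 0, nat_lit 2, nat_lit 0, nat_lit 1, nat_lit 0, nat_lit 2, nat_lit 0, nat_lit 1, nat_lit 2, nat_lit 0, nat_lit 1, nat_lit 0, nat_lit 2, nat_lit 0, nat_lit 1, nat_lit 0, nat_lit 2, nat_lit 1, nat_lit 0, nat_lit 1, nat_lit 2, nat_lit 1, nat_lit 2, nat_lit 0, nat_lit 1, nat_lit 0, nat_lit 2, nat_lit 1, nat_lit 2, nat_lit 0, nat_lit 1, nat_lit 0, nat_lit 2, nat_lit 1, nat_lit 0, nat_lit 1, nat_lit 0, nat_lit 2, nat_lit 1, nat_lit 0, nat_lit 2, nat_lit 0, nat_lit 1, nat_lit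 0, nat_lit 2, nat_lit 0, nat_lit 2, nat_lit 0, nat_lit 2, nat_lit 1, nat_lit 0, nat_lit 1, nat_lit 2, nat_lit 0, nat_lit 1, nat_lit 0, nat_lit 2, nat_lit 0, nat_lit 1, nat_lit 0, nat_lit 2, nat_lit 1, nat_lit 0, nat_lit 1, nat_lit 2, nat_lit 0, nat_lit 1, nat_lit 0, nat_lit 1, nat_lit 2, nat_lit 1, nat_lit 0, nat_lit 1, nat_lit 0, nat_lit 2, nat_lit 0, nat_lit 2, nat_lit 0, nat_lit 1, nat_lit 2, nat_lit 0, nat_lit 1, nat_lit 0, nat_lit 2, nat_lit 0, nat_lit 1, nat_lit 0, nat_lit 2, nat_lit 1, nat_lit 0, nat_lit 1, nat_lit 2, nat_lit 0, nat_lit 1, nat_lit 0, nat_lit 1, nat_lit 2, nat_lit 1, nat_lit 0, nat_lit 1, nat_lit 2, nat_lit 0, nat_lit 1, nat_lit 0, nat_lit 2, nat_lit 0, nat_lit 1, nat_lit 0, nat_lit 2, nat_lit 1, nat_lit 0, nat_lit 1, nat_lit 2, nat_lit 1, nat_lit 2, nat_lit 0, nat_lit 1, nat_lit 0, nat_lit 2, nat_lit 1, nat_lit 2, nat_lit 0, nat_lit 1, nat_lit 0, nat_lit 2, nat_lit 1,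 nat_lit 0, nat_lit 1, nat_lit 0, nat_lit 2, nat_lit 1, nat_lit 0, nat_lit 2, nat_lit 0, nat_lit 1, nat_lit 0, nat_lit 2, nat_lit 1, nat_lit 2, nat_lit 0, nat_lit 2, nat_lit 1, nat_lit 0, nat_lit 0, nat_lit 1, nat_lit 2, nat_lit 0, nat_lit 1, nat_lit 2, nat_lit 0, nat_lit 1, nat_lit 2, nat_lit 0, nat_lit 1, nat_lit 2, nat_lit 0, nat_lit 1, nat_lit 2, nat_lit 0, nat_lit 1, nat_lit 2, nat_lit 0, nat_lit 1, nat_lit 2, nat_lit 0, nat_lit 1, nat_lit 2, nat_lit 0, nat_lit 1, nat_lit 2, nat_lit 0, nat_lit 1, nat_lit 2, nat_lit 0, nat_lit 1, nat_lit 2, nat_lit 0, nat_lit 1, nat_lit 2, nat_lit 0, nat_lit 1, nat_lit 2, nat_lit 0, nat_lit 1, nat_lit 2, nat_lit 0, nat_lit 1, nat_lit 2, nat_lit 0, nat_lit 1, nat_lit 2, nat_lit 0, nat_lit 1, nat_lit 2, nat_lit 0, nat_lit 1, nat_lit 2, nat_lit 0, nat_lit 1, nat_lit 2], [nat_lit 1, nat_lit 0, nat_lit 2, nat_lit 1, nat_lit 2, nat_lit 1, nat_lit 0, nat_lit 1,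 nat_lit 0, nat_lit 2, nat_lit 0, nat_lit 2, nat_lit 1, nat_lit 2, nat_lit 0, nat_lit 1, nat_lit 0, nat_lit 1, nat_lit 2, nat_lit 0, nat_lit 1, nat_lit 2, nat_lit 0, nat_lit 2, nat_lit 0, nat_lit 1, nat_lit 0, nat_lit 2, nat_lit 0, nat_lit 1, nat_lit 0, nat_lit 2, nat_lit 1, nat_lit 0, nat_lit 2, nat_lit 0, nat_lit 2, nat_lit 0, nat_lit 1, nat_lit 0, nat_lit 1, nat_lit 2, nat_lit 1, nat_lit 0, nat_lit 1, nat_lit 0, nat_lit 2, nat_lit 1, nat_lit 0, nat_lit 1, nat_lit 2, nat_lit 0, nat_lit 1, nat_lit 0, nat_lit 2, nat_lit 0, nat_lit 1, nat_lit 0, nat_lit 2, nat_lit 1, nat_lit 0, nat_lit 1, nat_lit 2, nat_lit 0, nat_lit 2, nat_lit 0, nat_lit 1, nat_lit 0, nat_lit 2, nat_lit 0, nat_lit 2, nat_lit 1, nat_lit 0, nat_lit 1, nat_lit 2, nat_lit 0, nat_lit 1, nat_lit 0, nat_lit 2, nat_lit 0, nat_lit 1, nat_lit 0, nat_lit 2, nat_lit 1, nat_lit 0, nat_lit 2, nat_lit 0, nat_lit 2, nat_lit 0, nat_lit 1, nat_lit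 0, nat_lit 1, nat_lit 2, nat_lit 1, nat_lit 0, nat_lit 1, nat_lit 0, nat_lit 2, nat_lit 1, nat_lit 0, nat_lit 1, nat_lit 2, nat_lit 0, nat_lit 1, nat_lit 0, nat_lit 2, nat_lit 0, nat_lit 1, nat_lit 0, nat_lit 2, nat_lit 1, nat_lit 0, nat_lit 1, nat_lit 2, nat_lit 0, nat_lit 2, nat_lit 0, nat_lit 1, nat_lit 0, nat_lit 1, nat_lit 0, nat_lit 1, nat_lit 2, nat_lit 0, nat_lit 1, nat_lit 2, nat_lit 0, nat_lit 1, nat_lit 2, nat_lit 0, nat_lit 1, nat_lit 2, nat_lit 0, nat_lit 1, nat_lit 2, nat_lit 0, nat_lit 1, nat_lit 2, nat_lit 0, nat_lit 1, nat_lit 2, nat_lit 0, nat_lit 1, nat_lit 2, nat_lit 0, nat_lit 1, nat_lit 2, nat_lit 0, nat_lit 1, nat_lit 2, nat_lit 0, nat_lit 1, nat_lit 2, nat_lit 0, nat_lit 1, nat_lit 2, nat_lit 0, nat_lit 1, nat_lit 2, nat_lit 0, nat_lit 1, nat_lit 2, nat_lit 0, nat_lit 1, nat_lit 2, nat_lit 0, nat_lit 1, nat_lit 2, nat_lit 0, nat_lit 1, nat_lit 2, nat_lit 0, nat_lit 1,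 nat_lit 2, nat_lit 0, nat_lit 1, nat_lit 2], [nat_lit 0, nat_lit 1, nat_lit 0, nat_lit 1, nat_lit 0, nat_lit 1, nat_lit 2, nat_lit 0, nat_lit 1, nat_lit 0, nat_lit 2, nat_lit 1, nat_lit 2, nat_lit 0, nat_lit 1, nat_lit 0, nat_lit 1, nat_lit 2, nat_lit 0, nat_lit 1, nat_lit 0, nat_lit 1, nat_lit 0, nat_lit 1, nat_lit 2, nat_lit 0, nat_lit 1, nat_lit 0, nat_lit 2, nat_lit 0, nat_lit 2, nat_lit 1, nat_lit 2, nat_lit 0, nat_lit 2, nat_lit 1, nat_lit 0, nat_lit 1, nat_lit 2, nat_lit 0, nat_lit 1, nat_lit 0, nat_lit 2, nat_lit 0, nat_lit 1, nat_lit 0, nat_lit 2, nat_lit 1, nat_lit 0, nat_lit 2, nat_lit 0, nat_lit 2, nat_lit 0, nat_lit 1, nat_lit 0, nat_lit 1, nat_lit 2, nat_lit 1, nat_lit 0, nat_lit 1, nat_lit 0, nat_lit 2, nat_lit 1, nat_lit 0, nat_lit 1, nat_lit 2, nat_lit 0, nat_lit 1, nat_lit 0, nat_lit 2, nat_lit 0, nat_lit 1, nat_lit 0, nat_lit 2, nat_lit 1, nat_lit 0, nat_lit 1, nat_lit 2,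 nat_lit 0, nat_lit 2, nat_lit 0, nat_lit 1, nat_lit 0, nat_lit 1, nat_lit 0, nat_lit 0, nat_lit 1, nat_lit 2, nat_lit 0, nat_lit 1, nat_lit 2, nat_lit 0, nat_lit 1, nat_lit 2, nat_lit 0, nat_lit 1, nat_lit 2, nat_lit 0, nat_lit 1, nat_lit 2, nat_lit 0, nat_lit 1, nat_lit 2, nat_lit 0, nat_lit 1, nat_lit 2, nat_lit 0, nat_lit 1, nat_lit 2, nat_lit 0, nat_lit 1, nat_lit 2, nat_lit 0, nat_lit 1, nat_lit 2, nat_lit 0, nat_lit 1, nat_lit 2, nat_lit 0, nat_lit 1, nat_lit 2, nat_lit 0, nat_lit 1, nat_lit 2, nat_lit 0, nat_lit 1, nat_lit 2, nat_lit 0, nat_lit 1, nat_lit 2, nat_lit 0, nat_lit 1, nat_lit 2, nat_lit 0, nat_lit 1, nat_lit 2, nat_lit 0, nat_lit 1, nat_lit 2, nat_lit 0, nat_lit 1, nat_lit 2]]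

end Cfsg.Agent.H9.OutJ3
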