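import Cfsg.Agent.H9.MathRA

/-! The outer automorphism group of M11: data and checks. -/

set_option autoImplicit false
set_option maxRecDepth 100000

namespace Cfsg.Agent.H9.OutM11

def TD : ℕ := 0xa94ea7ddc554ea7ac5ce53cb3b5dcb7ba2552aef54e35a5a8a3ce257ae338a9d68baeaa2aa78ba8b5954a29e25bbed29208664062690c2188f65d9d39bec57aa672c210821ad8421040e4c2d6f5ba9ebad96e3d2743c4e75d4ef5daab7502348e014c903124c631892934c363088231b2b4caf2d1743d66b72d73a56f439e77752efbc4660b12809a49331a8090234306448d8d9258352eceabcb58d0b6a5aad434249304d948684a1f7752d18de71bbed3ba5a448c866a4491104d431869250431870911221084210904431b08118933430904210842180000000000000000000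

noncomputable def T (c s : ℕ) : ℕ := Nat.land (Nat.shiftRight TD (Nat.mul 5 (Nat.add (Nat.mul 15 c) s))) 31

def Ws : List (List ℕ) := [[0,1,2,1,2,0,0],[3,1,2,1,1,3,3],[2,3],[4,5,4,4,4,4],[5,5,4],[0,1],[2,1,0],[2,0,2,0,0],[9,9,10,9],[8,10],[12,12,11,12,12,11,11],[12,12,12,11]]

def ordTD : ℕ := 0x33333243333434a

noncomputable def ordT (c : ℕ) : ℕ := Nat.land (Nat.shiftRight ordTD (Nat.mul 4 c)) 15

noncomputable def iv (s : ℕ) : List ℕ := List.replicate (ordT s) s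

def La0tD : ℕ := 0x8302500b085380

noncomputable def La0t (c : ℕ) : ℕ := Nat.land (Nat.shiftRight La0tD (Nat.mul 3 c)) 7

def La0pD : ℕ := 0x4a0d6250620c41

noncomputable def La0p (c : ℕ) : ℕ := Nat.land (Nat.shiftRight La0pD (Nat.mul 5 c)) 31

noncomputable def La0 : SLv := ⟨⟨1, La0t, 63, 4, 11, La0p⟩, true, [16,12,18,2,4,13,6,8,3,9,1], [0], 10, []⟩

def La1tD : ℕ := 0x3000054007708024200

noncomputable def La1t (c : ℕ) : ℕ := Nat.land (Nat.shiftRight La1tD (Nat.mul 4 c)) 15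

def La1pD : ℕ := 0x2506b12831062

noncomputable def La1p (c : ℕ) : ℕ := Nat.land (Nat.shiftRight La1pD (Nat.mul 5 c)) 31

noncomputable def La1 : SLv := ⟨⟨16, La1t, 222, 4, 10, La1p⟩, false, [], [], 0, []⟩

def La2tD : ℕ := 0x7000050007608068500

noncomputable def La2t (c : ℕ) : ℕ := Nat.land (Nat.shiftRight La2tD (Nat.mul 4 c)) 15

def La2pD : ℕ := 0x126b12831062

noncomputable def La2p (c : ℕ) : ℕ := Nat.land (Nat.shiftRight La2pD (Nat.mul 5 c)) 31

noncomputable def La2 : SLv := ⟨⟨12, La2t, 240, 4, 9, La2p⟩, false, [], [], 0, []⟩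

def La3tD : ℕ := 0x80007807078700

noncomputable def La3t (c : ℕ) : ℕ := Nat.land (Nat.shiftRight La3tD (Nat.mul 4 c)) 15

def La3pD : ℕ := 0x9352831062

noncomputable def La3p (c : ℕ) : ℕ := Nat.land (Nat.shiftRight La3pD (Nat.mul 5 c)) 31

noncomputable def La3 : SLv := ⟨⟨18, La3t, 192, 4, 8, La3p⟩, false, [], [], 0, []⟩

noncomputable def Las : List SLv := [La1, La2, La3]

def Lb0tD : ℕ := 0x1020051007408023090

noncomputable def Lb0t (c : ℕ) : ℕ := Nat.land (Nat.shiftRight Lb0tD (Nat.mul 4 c)) 15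

def Lb0pD : ℕ := 0x4a0d6250620c41

noncomputable def Lb0p (c : ℕ) : ℕ := Nat.land (Nat.shiftRight Lb0pD (Nat.mul 5 c)) 31

noncomputable def Lb0 : SLv := ⟨⟨2, Lb0t, 479, 3, 11, Lb0p⟩, true, [16,18,3,4,2], [1], 4, []⟩

def Lb1tD : ℕ := 0x90000bc009e0a0eb0a0

noncomputable def Lb1t (c : ℕ) : ℕ := Nat.land (Nat.shiftRight Lb1tD (Nat.mul 4 c)) 15

def Lb1pD : ℕ := 0x2506b12831061

noncomputable def Lb1p (c : ℕ) : ℕ := Nat.land (Nat.shiftRight Lb1pD (Nat.mul 5 c)) 31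

noncomputable def Lb1 : SLv := ⟨⟨16, Lb1t, 12032, 3, 10, Lb1p⟩, false, [], [], 0, []⟩

def Lb2tD : ℕ := 0xdc00cd0c0cd0f0

noncomputable def Lb2t (c : ℕ) : ℕ := Nat.land (Nat.shiftRight Lb2tD (Nat.mul 4 c)) 15

def Lb2pD : ℕ := 0x126b12831061

noncomputable def Lb2p (c : ℕ) : ℕ := Nat.land (Nat.shiftRight Lb2pD (Nat.mul 5 c)) 31

noncomputable def Lb2 : SLv := ⟨⟨18, Lb2t, 22528, 4, 9, Lb2p⟩, false, [], [], 0, []⟩

def Lb3tD : ℕ := 0xee00ff0f0e00e0

noncomputable def Lb3t (c : ℕ) : ℕ := Nat.land (Nat.shiftRight Lb3tD (Nat.mul 4 c)) 15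

def Lb3pD : ℕ := 0xdc986431

noncomputable def Lb3p (c : ℕ) : ℕ := Nat.land (Nat.shiftRight Lb3pD (Nat.mul 4 c)) 15

noncomputable def Lb3 : SLv := ⟨⟨3, Lb3t, 24576, 4, 8, Lb3p⟩, false, [], [], 0, []⟩

noncomputable def Lbs : List SLv := [Lb1, Lb2, Lb3]

def B : List ℕ := [1,16,12,18]

def D : OD := ⟨0, 1, 2, 11, 3, 1, 2, [1,2],
  [(256129, []), (49393, [1]), (58825, [1,1]), (32929, [1,1,1]), (225841, [1,1,1,1])],
  [[1,0,2,1,0,2,1,0,2]],
  [[]], [], [], []⟩

theorem slp_0 : allPow (below 24 (slpB T Ws 3)) 5 (0 * 2 ^ 5) = true := by decide +kernel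

theorem slp : ∀ i < 24, (slpB T Ws 3) i = true :=
  all_of_blocks (d := 5) (m := 1) (by decide) (forall_lt_succ'' forall_lt_zero'' slp_0)

theorem ptLa_0 : allPow (below 11 (La0.toLv.ptB T 24)) 5 (0 * 2 ^ 5) = true := by decide +kernel

theorem ptLa : ∀ i < 11, (La0.toLv.ptB T 24) i = true :=
  all_of_blocks (d := 5) (m := 1) (by decide) (forall_lt_succ'' forall_lt_zero'' ptLa_0)

theorem chLa : ChainChk T 24 15 ((La0 :: Las).map SLv.toLv) [] :=
  ⟨by decide +kernel, ptLa, chainChk_of (by decide +kernel)⟩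

theorem scLa_0 : allPow (below 11 (scanB T iv (tr T [D.ia]) La0 Las [])) 5 (0 * 2 ^ 5) = true := by decide +kernel

theorem scLa : ∀ i < 11, (scanB T iv (tr T [D.ia]) La0 Las []) i = true :=
  all_of_blocks (d := 5) (m := 1) (by decide) (forall_lt_succ'' forall_lt_zero'' scLa_0)

theorem ptLb_0 : allPow (below 11 (Lb0.toLv.ptB T 24)) 5 (0 * 2 ^ 5) = true := by decide +kernel

theorem ptLb : ∀ i < 11, (Lb0.toLv.ptB T 24) i = true :=
  all_of_blocks (d := 5) (m := 1) (by decide) (forall_lt_succ'' forall_lt_zero'' ptLb_0)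

theorem chLb : ChainChk T 24 15 ((Lb0 :: Lbs).map SLv.toLv) [] :=
  ⟨by decide +kernel, ptLb, chainChk_of (by decide +kernel)⟩

theorem scLb_0 : allPow (below 11 (scanB T iv (tr T (List.replicate D.i D.ib)) Lb0 Lbs [])) 5 (0 * 2 ^ 5) = true := by decide +kernel

theorem scLb : ∀ i < 11, (scanB T iv (tr T (List.replicate D.i D.ib)) Lb0 Lbs []) i = true :=
  all_of_blocks (d := 5) (m := 1) (by decide) (forall_lt_succ'' forall_lt_zero'' scLb_0)

theorem chk : D.chk T 15 7920 B = true := by decide +kernel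

theorem ok {G : Type*} [Group G] [Finite G] {A : RA G 24} {g0 : ℕ → G} (hT : A.Tab g0 3 T)
    (hle : Nat.card G ≤ 7920) : ∃ g : ℕ → G, (∀ s < 3, g s = g0 s) ∧ RA.OutOK A g 15 T B D 7920 :=
  RA.outOK_of hT (by decide +kernel) slp (by decide +kernel) hle chLa (by decide +kernel) chLb
    (by decide +kernel) (by decide +kernel) (m := 32767) (iv := iv) (by decide +kernel) scLa
    (by decide +kernel) scLb (by decide +kernel)

theorem out {G : Type*} [Group G] [Finite G] {A : RA G 24} {g0 : ℕ → G} (hT : A.Tab g0 3 T)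
    (hle : Nat.card G ≤ 7920) : Nat.card (Cfsg.Out G) = 1 := by
  obtain ⟨g, -, h⟩ := ok hT hle
  exact h.out_one (by decide) chk rfl

def tsD : ℕ := 0xa962ab8a633accc73da9a22c4940208a8b578cf2a38cd5dd0cb266224020729e7b08ac9d0d25c423aa2ed49200

noncomputable def ts (c : ℕ) : ℕ := Nat.land (Nat.shiftRight tsD (Nat.mul 120 c)) 1329227995784915872903807060280344575

def tisD : ℕ := 0x996e788ea252d2c751067b6c48482051e8f2c2e29b9885d8c98b6a3910202ccee7b141adc905d866a362244920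

noncomputable def tis (c : ℕ) : ℕ := Nat.land (Nat.shiftRight tisD (Nat.mul 120 c)) 1329227995784915872903807060280344575

theorem card_out : Nat.card (Cfsg.Out Cfsg.Spor.M11) = 1 := by
  obtain ⟨g, hg⟩ := exists_tab_math (T := T) memP11 (k := 3) (ts := ts) (tis := tis) (by decide +kernel)
  exact out hg card_M11_le

end Cfsg.Agent.H9.OutM11
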