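import Cfsg.Agent.H9.MathRA

/-! The outer automorphism group of M12: data and checks. -/

set_option autoImplicit false
set_option maxRecDepth 100000

namespace Cfsg.Agent.H9.OutM12

def TD : ℕ := 0x2d2b39b9d18cd557394eb4cb7b9ee5a15659de25bad56ad4efa3e659aa8ab39ca5c5f6aa9573d8af9bad79d2b3a5694a2cf47c54755957ad6f65be339ce739c5c7a05109002d049a808c0d23249622d18c631896d69d9517ddf4a2d5204a0d10904925011920943101abdef7bdef7baceb56ef756d1aaeb62baca5aaaf5c4f489d53ad84c484d26402100d28130240c8c909869420cd184c46a4d204070a2d6bb5eb7a168aadcf45b9538c5d7aae93a556e7ddf1b5d6b739a408a468360094a04648cd9418c9010464888331b23490460c4d71ce739ce739ce73adcb8daaf5912320520188846018168204326eaa39455a8b7b94a5294a5b9666130c80264948c0c08d23498848348c13422188d0140031090000ccd48c84601024a1280a06008c03136031a590809a2301a66a4488200c818266348694050089b2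

noncomputable def T (c s : ℕ) : ℕ := Nat.land (Nat.shiftRight TD (Nat.mul 5 (Nat.add (Nat.mul 21 c) s))) 31

def Ws : List (List ℕ) := [[0,2,1,0],[1,3,1,1,3,1],[1,3,1,3,1,1,1],[4,5,5],[6,6,5,5],[7,7,4,7,7,4,4],[7,4,4,4,7,7,4],[2,0,0,1],[2,1,1,0],[11,10,10,11,10,11],[11,10],[12,13,13,12,12],[13,12,12,13,13,12,13,12,12],[12,12,13],[15,14,15,15],[16,15],[14,14,15],[3,13,12,19,15,19,18]]

def ordTD : ℕ := 0x93313337275333323514a

noncomputable def ordT (c : ℕ) : ℕ := Nat.land (Nat.shiftRight ordTD (Nat.mul 4 c)) 15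

noncomputable def iv (s : ℕ) : List ℕ := List.replicate (ordT s) s

def La0tD : ℕ := 0x351430601200950030000000

noncomputable def La0t (c : ℕ) : ℕ := Nat.land (Nat.shiftRight La0tD (Nat.mul 4 c)) 15

def La0pD : ℕ := 0xbdab49c5ee5a8e5

noncomputable def La0p (c : ℕ) : ℕ := Nat.land (Nat.shiftRight La0pD (Nat.mul 5 c)) 31

noncomputable def La0 : SLv := ⟨⟨5, La0t, 319, 4, 12, La0p⟩, true, [19,20,7,11,17,10,14,22,15,21,5], [0], 10, []⟩

def La1tD : ℕ := 0x494700207a00240060000000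

noncomputable def La1t (c : ℕ) : ℕ := Nat.land (Nat.shiftRight La1tD (Nat.mul 4 c)) 15

def La1pD : ℕ := 0x5ed5a4e2f72d47

noncomputable def La1p (c : ℕ) : ℕ := Nat.land (Nat.shiftRight La1pD (Nat.mul 5 c)) 31

noncomputable def La1 : SLv := ⟨⟨19, La1t, 874, 3, 11, La1p⟩, false, [], [], 0, []⟩

def La2tD : ℕ := 0x698000a05700660060000000

noncomputable def La2t (c : ℕ) : ℕ := Nat.land (Nat.shiftRight La2tD (Nat.mul 4 c)) 15

def La2pD : ℕ := 0x2f6ad22f72d47

noncomputable def La2p (c : ℕ) : ℕ := Nat.land (Nat.shiftRight La2pD (Nat.mul 5 c)) 31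

noncomputable def La2 : SLv := ⟨⟨20, La2t, 1008, 4, 10, La2p⟩, false, [], [], 0, []⟩

def La3tD : ℕ := 0x8a9000505500880000000000

noncomputable def La3t (c : ℕ) : ℕ := Nat.land (Nat.shiftRight La3tD (Nat.mul 4 c)) 15

def La3pD : ℕ := 0x17b562f72d47

noncomputable def La3p (c : ℕ) : ℕ := Nat.land (Nat.shiftRight La3pD (Nat.mul 5 c)) 31

noncomputable def La3 : SLv := ⟨⟨7, La3t, 912, 4, 9, La3p⟩, false, [], [], 0, []⟩

def La4tD : ℕ := 0x999000a09a000a0000000000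

noncomputable def La4t (c : ℕ) : ℕ := Nat.land (Nat.shiftRight La4tD (Nat.mul 4 c)) 15

def La4pD : ℕ := 0xbdab17b96a

noncomputable def La4p (c : ℕ) : ℕ := Nat.land (Nat.shiftRight La4pD (Nat.mul 5 c)) 31

noncomputable def La4 : SLv := ⟨⟨11, La4t, 768, 4, 8, La4p⟩, false, [], [], 0, []⟩

noncomputable def Las : List SLv := [La1, La2, La3, La4]

def Lb0tD : ℕ := 0xa106110060094003b8000026000000

noncomputable def Lb0t (c : ℕ) : ℕ := Nat.land (Nat.shiftRight Lb0tD (Nat.mul 5 c)) 31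

def Lb0pD : ℕ := 0xbdab49c5ee5a8e5

noncomputable def Lb0p (c : ℕ) : ℕ := Nat.land (Nat.shiftRight Lb0pD (Nat.mul 5 c)) 31

noncomputable def Lb0 : SLv := ⟨⟨7, Lb0t, 794719, 3, 12, Lb0p⟩, true, [15,17,11,19,7], [20], 9, []⟩

def Lb1tD : ℕ := 0x7b9336016002c007a8000024000000

noncomputable def Lb1t (c : ℕ) : ℕ := Nat.land (Nat.shiftRight Lb1tD (Nat.mul 5 c)) 31

def Lb1pD : ℕ := 0x5ed5a4e2f72d45

noncomputable def Lb1p (c : ℕ) : ℕ := Nat.land (Nat.shiftRight Lb1pD (Nat.mul 5 c)) 31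

noncomputable def Lb1 : SLv := ⟨⟨15, Lb1t, 421632, 3, 11, Lb1p⟩, false, [], [], 0, []⟩

def Lb2tD : ℕ := 0x6b5f1780000400074c00001e000000

noncomputable def Lb2t (c : ℕ) : ℕ := Nat.land (Nat.shiftRight Lb2tD (Nat.mul 5 c)) 31

def Lb2pD : ℕ := 0x2f6ad27172d45

noncomputable def Lb2p (c : ℕ) : ℕ := Nat.land (Nat.shiftRight Lb2pD (Nat.mul 5 c)) 31

noncomputable def Lb2 : SLv := ⟨⟨17, Lb2t, 389120, 4, 10, Lb2p⟩, false, [], [], 0, []⟩

def Lb3tD : ℕ := 0x7c292a00000480004400001e000000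

noncomputable def Lb3t (c : ℕ) : ℕ := Nat.land (Nat.shiftRight Lb3tD (Nat.mul 5 c)) 31

def Lb3pD : ℕ := 0x17b569372d45

noncomputable def Lb3p (c : ℕ) : ℕ := Nat.land (Nat.shiftRight Lb3pD (Nat.mul 5 c)) 31

noncomputable def Lb3 : SLv := ⟨⟨11, Lb3t, 770048, 4, 9, Lb3p⟩, false, [], [], 0, []⟩

def Lb4tD : ℕ := 0x95274000000500004c000026000000

noncomputable def Lb4t (c : ℕ) : ℕ := Nat.land (Nat.shiftRight Lb4tD (Nat.mul 5 c)) 31

def Lb4pD : ℕ := 0xbdab49b945

noncomputable def Lb4p (c : ℕ) : ℕ := Nat.land (Nat.shiftRight Lb4pD (Nat.mul 5 c)) 31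

noncomputable def Lb4 : SLv := ⟨⟨19, Lb4t, 917504, 3, 8, Lb4p⟩, false, [], [], 0, []⟩

noncomputable def Lbs : List SLv := [Lb1, Lb2, Lb3, Lb4]

def B : List ℕ := [5,19,20,7,11]

def D : OD := ⟨0, 1, 2, 11, 3, 1, 1, [1,2],
  [(3758285, []), (6517037, [1]), (6837959, [20]), (2565869, [1,1]), (3618215, [20,1]), (5141213, [20,20]), (4955855, [20,1,1]), (5915789, [20,20,1]), (7255271, [20,20,20]), (7441847, [20,20,20,1])],
  [[2,2],[0,1,2,0,1,2,0,1,2,0,1,2,0,1,2,0,1,2]],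
  [[]], [[]], [0,0], [2]⟩

def piTD : ℕ := 0x20901645aa041eb9268e194d79d6c7

noncomputable def piT (c : ℕ) : ℕ := Nat.land (Nat.shiftRight piTD (Nat.mul 5 c)) 31

def piID : ℕ := 0x204491ae4e6a23364155014d73da8f

noncomputable def piI (c : ℕ) : ℕ := Nat.land (Nat.shiftRight piID (Nat.mul 5 c)) 31

theorem slp_0 : allPow (below 24 (slpB T Ws 3)) 5 (0 * 2 ^ 5) = true := by decide +kernel

theorem slp : ∀ i < 24, (slpB T Ws 3) i = true :=
  all_of_blocks (d := 5) (m := 1) (by decide) (forall_lt_succ'' forall_lt_zero'' slp_0)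

theorem ptLa_0 : allPow (below 12 (La0.toLv.ptB T 24)) 5 (0 * 2 ^ 5) = true := by decide +kernel

theorem ptLa : ∀ i < 12, (La0.toLv.ptB T 24) i = true :=
  all_of_blocks (d := 5) (m := 1) (by decide) (forall_lt_succ'' forall_lt_zero'' ptLa_0)

theorem chLa : ChainChk T 24 21 ((La0 :: Las).map SLv.toLv) [] :=
  ⟨by decide +kernel, ptLa, chainChk_of (by decide +kernel)⟩

theorem scLa_0 : allPow (below 12 (scanB T iv (tr T [D.ia]) La0 Las [])) 5 (0 * 2 ^ 5) = true := by decide +kernel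

theorem scLa : ∀ i < 12, (scanB T iv (tr T [D.ia]) La0 Las []) i = true :=
  all_of_blocks (d := 5) (m := 1) (by decide) (forall_lt_succ'' forall_lt_zero'' scLa_0)

theorem ptLb_0 : allPow (below 12 (Lb0.toLv.ptB T 24)) 5 (0 * 2 ^ 5) = true := by decide +kernel

theorem ptLb : ∀ i < 12, (Lb0.toLv.ptB T 24) i = true :=
  all_of_blocks (d := 5) (m := 1) (by decide) (forall_lt_succ'' forall_lt_zero'' ptLb_0)

theorem chLb : ChainChk T 24 21 ((Lb0 :: Lbs).map SLv.toLv) [] :=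
  ⟨by decide +kernel, ptLb, chainChk_of (by decide +kernel)⟩

theorem scLb_0 : allPow (below 12 (scanB T iv (tr T (List.replicate D.i D.ib)) Lb0 Lbs [])) 5 (0 * 2 ^ 5) = true := by decide +kernel

theorem scLb : ∀ i < 12, (scanB T iv (tr T (List.replicate D.i D.ib)) Lb0 Lbs []) i = true :=
  all_of_blocks (d := 5) (m := 1) (by decide) (forall_lt_succ'' forall_lt_zero'' scLb_0)

theorem perm_0 : allPow (below 24 (D.permB T 24 piT piI)) 5 (0 * 2 ^ 5) = true := by decide +kernel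

theorem perm : ∀ i < 24, (D.permB T 24 piT piI) i = true :=
  all_of_blocks (d := 5) (m := 1) (by decide) (forall_lt_succ'' forall_lt_zero'' perm_0)

theorem chk : D.chk T 21 95040 B = true := by decide +kernel

theorem ok {G : Type*} [Group G] [Finite G] {A : RA G 24} {g0 : ℕ → G} (hT : A.Tab g0 3 T)
    (hle : Nat.card G ≤ 95040) : ∃ g : ℕ → G, (∀ s < 3, g s = g0 s) ∧ RA.OutOK A g 21 T B D 95040 :=
  RA.outOK_of hT (by decide +kernel) slp (by decide +kernel) hle chLa (by decide +kernel) chLb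
    (by decide +kernel) (by decide +kernel) (m := 2097151) (iv := iv) (by decide +kernel) scLa
    (by decide +kernel) scLb (by decide +kernel)

theorem out {G : Type*} [Group G] [Finite G] {A : RA G 24} {g0 : ℕ → G} (hT : A.Tab g0 3 T)
    (hle : Nat.card G ≤ 95040) : Nat.card (Cfsg.Out G) = 2 := by
  obtain ⟨g, -, h⟩ := ok hT hle
  exact h.out_two (by decide) chk (by decide +kernel) (RA.exists_aut_perm h.tab h.base chk h.gen perm)

def tsD : ℕ := 0x2bcf17268cb4c3052e43a92e6401a2bd2ca3b1688d6439ba02798a40052dbbca7a2141ad8d08b98d5a66400c52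

noncomputable def ts (c : ℕ) : ℕ := Nat.land (Nat.shiftRight tsD (Nat.mul 120 c)) 1329227995784915872903807060280344575

def tisD : ℕ := 0x2bcf17268cb4c3052e43a92e6401a2bd5d65b5e93a8128d030998a462043bb9f32816cb29093c4d2a36a410603

noncomputable def tis (c : ℕ) : ℕ := Nat.land (Nat.shiftRight tisD (Nat.mul 120 c)) 1329227995784915872903807060280344575

theorem card_out : Nat.card (Cfsg.Out Cfsg.Spor.M12) = 2 := by
  obtain ⟨g, hg⟩ := exists_tab_math (T := T) memP12 (k := 3) (ts := ts) (tis := tis) (by decide +kernel)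
  exact out hg card_M12_le

end Cfsg.Agent.H9.OutM12
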