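import Cfsg.Agent.H9.MathRA

/-! The outer automorphism group of M22: data and checks. -/

set_option autoImplicit false
set_option maxRecDepth 100000

namespace Cfsg.Agent.H9.OutM22

def TD : ℕ := 0xbdef7bdef7bdef7bdef7bdee311e514d4707082b6ae83b08488d4d4826345d5a784173b2e3238d133a1a125a02084e10ce108104f495252208e4b4e81b962546b215621505ed4ae34689ae799708ad15391864ce010a8675b54a3c98a6cab3a2c69254cd7bdef7bcac848c7351155ba543b14c8c6a4842a4ac6c1412d5750b37cdeea318c631898a90db0856315517bc9691870ab252315319bc8a529536b187890540d25188e47b12965b8b32ce0e6aea4526af321f4439768548eb082e225237882265a884a4c73a2b672dce89146318caa49462c8a5294a5296699a6326254c639a679e12988906bad52b965349144cd5618c6318c63b0dedb09ab3b4210a1d334d14a36019cc32b50923b0eb409024000000000000000000000000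

noncomputable def T (c s : ℕ) : ℕ := Nat.land (Nat.shiftRight TD (Nat.mul 5 (Nat.add (Nat.mul 19 c) s))) 31

def Ws : List (List ℕ) := [[1,0,2,2,1,0,0],[0,1,1,2,0,2],[3,4,4,1],[4,3,3,1],[6,5,5,6],[6,6,5,5,5,5],[6,5,6,6,6,5,5,5],[8,8,8,8,8,7],[2,1,1,1],[0,0,0,1,0],[12,11,11,12,11,11,11],[11,12,11,11,12,12,11,11,11],[14,13,13,14],[13,14,13,14,14,13,14,14],[13,14,13,13,14,14,13,13,13],[16,17,17,15]]

def ordTD : ℕ := 0x212223432222446434a

noncomputable def ordT (c : ℕ) : ℕ := Nat.land (Nat.shiftRight ordTD (Nat.mul 4 c)) 15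

noncomputable def iv (s : ℕ) : List ℕ := List.replicate (ordT s) s

def La0tD : ℕ := 0x317361548b25114a4360680

noncomputable def La0t (c : ℕ) : ℕ := Nat.land (Nat.shiftRight La0tD (Nat.mul 4 c)) 15

noncomputable def La0 : SLv := ⟨⟨3, La0t, 1791, 4, 22, fun i => Nat.add i 1⟩, true, [15,6,18,11,4,5,12,17,9,10,3], [0], 10, []⟩

def La1tD : ℕ := 0x59a24870559244a65620a60

noncomputable def La1t (c : ℕ) : ℕ := Nat.land (Nat.shiftRight La1tD (Nat.mul 4 c)) 15

def La1pD : ℕ := 0x16ad2728c1ee6b16a4a0e629041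

noncomputable def La1p (c : ℕ) : ℕ := Nat.land (Nat.shiftRight La1pD (Nat.mul 5 c)) 31

noncomputable def La1 : SLv := ⟨⟨15, La1t, 1018, 4, 21, La1p⟩, false, [], [], 0, []⟩

def La2tD : ℕ := 0x9977a8607b6787ab06b0660

noncomputable def La2t (c : ℕ) : ℕ := Nat.land (Nat.shiftRight La2tD (Nat.mul 4 c)) 15

def La2pD : ℕ := 0xb56939460e6b16a4a0e629041

noncomputable def La2p (c : ℕ) : ℕ := Nat.land (Nat.shiftRight La2pD (Nat.mul 5 c)) 31

noncomputable def La2 : SLv := ⟨⟨6, La2t, 2016, 5, 20, La2p⟩, false, [], [], 0, []⟩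

def La3tD : ℕ := 0x89900890baa8a0a800b0aa0

noncomputable def La3t (c : ℕ) : ℕ := Nat.land (Nat.shiftRight La3tD (Nat.mul 4 c)) 15

def La3pD : ℕ := 0xb56928c1cd62d4839041

noncomputable def La3p (c : ℕ) : ℕ := Nat.land (Nat.shiftRight La3pD (Nat.mul 5 c)) 31

noncomputable def La3 : SLv := ⟨⟨18, La3t, 1920, 5, 16, La3p⟩, false, [], [], 0, []⟩

def La4tD : ℕ := 0xb000b00000000000000000

noncomputable def La4t (c : ℕ) : ℕ := Nat.land (Nat.shiftRight La4tD (Nat.mul 4 c)) 15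

def La4pD : ℕ := 0x562b

noncomputable def La4p (c : ℕ) : ℕ := Nat.land (Nat.shiftRight La4pD (Nat.mul 5 c)) 31

noncomputable def La4 : SLv := ⟨⟨11, La4t, 1024, 3, 3, La4p⟩, false, [], [], 0, []⟩

noncomputable def Las : List SLv := [La1, La2, La3, La4]

def Lb0tD : ℕ := 0x15e84108628ce3325269880199960

noncomputable def Lb0t (c : ℕ) : ℕ := Nat.land (Nat.shiftRight Lb0tD (Nat.mul 5 c)) 31

noncomputable def Lb0 : SLv := ⟨⟨5, Lb0t, 280063, 3, 22, fun i => Nat.add i 1⟩, true, [12,10,17,6,5], [1], 4, []⟩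

def Lb1tD : ℕ := 0x31ef7b98f6ca0073270830116bdc0

noncomputable def Lb1t (c : ℕ) : ℕ := Nat.land (Nat.shiftRight Lb1tD (Nat.mul 5 c)) 31

def Lb1pD : ℕ := 0x16ad2728c1ee6b16a4a0e620c41

noncomputable def Lb1p (c : ℕ) : ℕ := Nat.land (Nat.shiftRight Lb1pD (Nat.mul 5 c)) 31

noncomputable def Lb1 : SLv := ⟨⟨12, Lb1t, 522240, 5, 21, Lb1p⟩, false, [], [], 0, []⟩

def Lb2tD : ℕ := 0x41d17ba4f939c0782738440e93dc0

noncomputable def Lb2t (c : ℕ) : ℕ := Nat.land (Nat.shiftRight Lb2tD (Nat.mul 5 c)) 31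

def Lb2pD : ℕ := 0xb56939460f7356a4a0e620c41

noncomputable def Lb2p (c : ℕ) : ℕ := Nat.land (Nat.shiftRight Lb2pD (Nat.mul 5 c)) 31

noncomputable def Lb2 : SLv := ⟨⟨10, Lb2t, 516096, 4, 20, Lb2p⟩, false, [], [], 0, []⟩

def Lb3tD : ℕ := 0x4a3204c009c600882129c01284000

noncomputable def Lb3t (c : ℕ) : ℕ := Nat.land (Nat.shiftRight Lb3tD (Nat.mul 5 c)) 31

def Lb3pD : ℕ := 0xb56928bdcd5a50731062

noncomputable def Lb3p (c : ℕ) : ℕ := Nat.land (Nat.shiftRight Lb3pD (Nat.mul 5 c)) 31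

noncomputable def Lb3 : SLv := ⟨⟨17, Lb3t, 491520, 4, 16, Lb3p⟩, false, [], [], 0, []⟩

def Lb4tD : ℕ := 0x4c000000000000000000000098000

noncomputable def Lb4t (c : ℕ) : ℕ := Nat.land (Nat.shiftRight Lb4tD (Nat.mul 5 c)) 31

def Lb4pD : ℕ := 0x58c3

noncomputable def Lb4p (c : ℕ) : ℕ := Nat.land (Nat.shiftRight Lb4pD (Nat.mul 5 c)) 31

noncomputable def Lb4 : SLv := ⟨⟨6, Lb4t, 262144, 3, 3, Lb4p⟩, false, [], [], 0, []⟩

noncomputable def Lbs : List SLv := [Lb1, Lb2, Lb3, Lb4]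

def B : List ℕ := [3,15,6,18,11]

def D : OD := ⟨0, 1, 2, 11, 3, 1, 3, [1,2],
  [(3902187, []), (5104371, [1]), (6034395, [1,1]), (3143907, [1,1,1]), (1544523, [1,1,1,1])],
  [[2,0,2,0,2,0,2,0,2,0]],
  [[]], [[]], [0,0], [1,1,2]⟩

def piTD : ℕ := 0xb8d25239126bd7499e0a60455b1a20

noncomputable def piT (c : ℕ) : ℕ := Nat.land (Nat.shiftRight piTD (Nat.mul 5 c)) 31

def piID : ℕ := 0xb8c8c5c029749e76a2b150a93b14c0

noncomputable def piI (c : ℕ) : ℕ := Nat.land (Nat.shiftRight piID (Nat.mul 5 c)) 31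

theorem slp_0 : allPow (below 24 (slpB T Ws 3)) 5 (0 * 2 ^ 5) = true := by decide +kernel

theorem slp : ∀ i < 24, (slpB T Ws 3) i = true :=
  all_of_blocks (d := 5) (m := 1) (by decide) (forall_lt_succ'' forall_lt_zero'' slp_0)

theorem ptLa_0 : allPow (below 22 (La0.toLv.ptB T 24)) 5 (0 * 2 ^ 5) = true := by decide +kernel

theorem ptLa : ∀ i < 22, (La0.toLv.ptB T 24) i = true :=
  all_of_blocks (d := 5) (m := 1) (by decide) (forall_lt_succ'' forall_lt_zero'' ptLa_0)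

theorem chLa : ChainChk T 24 19 ((La0 :: Las).map SLv.toLv) [] :=
  ⟨by decide +kernel, ptLa, chainChk_of (by decide +kernel)⟩

theorem scLa_0 : allPow (below 22 (scanB T iv (tr T [D.ia]) La0 Las [])) 5 (0 * 2 ^ 5) = true := by decide +kernel

theorem scLa : ∀ i < 22, (scanB T iv (tr T [D.ia]) La0 Las []) i = true :=
  all_of_blocks (d := 5) (m := 1) (by decide) (forall_lt_succ'' forall_lt_zero'' scLa_0)

theorem ptLb_0 : allPow (below 22 (Lb0.toLv.ptB T 24)) 5 (0 * 2 ^ 5) = true := by decide +kernel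

theorem ptLb : ∀ i < 22, (Lb0.toLv.ptB T 24) i = true :=
  all_of_blocks (d := 5) (m := 1) (by decide) (forall_lt_succ'' forall_lt_zero'' ptLb_0)

theorem chLb : ChainChk T 24 19 ((Lb0 :: Lbs).map SLv.toLv) [] :=
  ⟨by decide +kernel, ptLb, chainChk_of (by decide +kernel)⟩

theorem scLb_0 : allPow (below 22 (scanB T iv (tr T (List.replicate D.i D.ib)) Lb0 Lbs [])) 5 (0 * 2 ^ 5) = true := by decide +kernel

theorem scLb : ∀ i < 22, (scanB T iv (tr T (List.replicate D.i D.ib)) Lb0 Lbs []) i = true :=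
  all_of_blocks (d := 5) (m := 1) (by decide) (forall_lt_succ'' forall_lt_zero'' scLb_0)

theorem perm_0 : allPow (below 24 (D.permB T 24 piT piI)) 5 (0 * 2 ^ 5) = true := by decide +kernel

theorem perm : ∀ i < 24, (D.permB T 24 piT piI) i = true :=
  all_of_blocks (d := 5) (m := 1) (by decide) (forall_lt_succ'' forall_lt_zero'' perm_0)

theorem chk : D.chk T 19 443520 B = true := by decide +kernel

theorem ok {G : Type*} [Group G] [Finite G] {A : RA G 24} {g0 : ℕ → G} (hT : A.Tab g0 3 T)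
    (hle : Nat.card G ≤ 443520) : ∃ g : ℕ → G, (∀ s < 3, g s = g0 s) ∧ RA.OutOK A g 19 T B D 443520 :=
  RA.outOK_of hT (by decide +kernel) slp (by decide +kernel) hle chLa (by decide +kernel) chLb
    (by decide +kernel) (by decide +kernel) (m := 524287) (iv := iv) (by decide +kernel) scLa
    (by decide +kernel) scLb (by decide +kernel)

theorem out {G : Type*} [Group G] [Finite G] {A : RA G 24} {g0 : ℕ → G} (hT : A.Tab g0 3 T)
    (hle : Nat.card G ≤ 443520) : Nat.card (Cfsg.Out G) = 2 := by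
  obtain ⟨g, -, h⟩ := ok hT hle
  exact h.out_two (by decide) chk (by decide +kernel) (RA.exists_aut_perm h.tab h.base chk h.gen perm)

def tsD : ℕ := 0xb8d614b592811e59c6a23994eb5100bda676a4d5941ca7c4814158b1d040b8ac13ad333429120d4eac9857b500

noncomputable def ts (c : ℕ) : ℕ := Nat.land (Nat.shiftRight tsD (Nat.mul 120 c)) 1329227995784915872903807060280344575

def tisD : ℕ := 0xb8d225c14f69251a96613998eb2280bda02abd4e5b66523247a44c918500bd4ed8198e1a045926219bc8b55a80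

noncomputable def tis (c : ℕ) : ℕ := Nat.land (Nat.shiftRight tisD (Nat.mul 120 c)) 1329227995784915872903807060280344575

theorem card_out : Nat.card (Cfsg.Out Cfsg.Spor.M22) = 2 := by
  obtain ⟨g, hg⟩ := exists_tab_math (T := T) memP22 (k := 3) (ts := ts) (tis := tis) (by decide +kernel)
  exact out hg card_M22_le

end Cfsg.Agent.H9.OutM22
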