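import Cfsg.Agent.H9.MathRA

/-! The outer automorphism group of M23: data and checks. -/

set_option autoImplicit false
set_option maxRecDepth 100000

namespace Cfsg.Agent.H9.OutM23

def TD : ℕ := 0xbdef7bdef7bdef7bdef7bdef7bdeef3cda174e550254c9d5729a6a14d45414df12cca362d36a24f1326c53d514482c41bec318d0b64e8a418d123587122805c8b10d554505c181e9294a5292c948ca5294269ad22a82d804c5650b42e1062519ccd9008c24210844084a126259732886c339050ce34186b09adef7bdefb2c767ae43194643c110ab9ce739ce756527bcef591239586aab6628c20542a2432d364416da44edac0ed936131d5a38d80c408659316c5044a5aad0a4d2a5294a5294e9c4a26243139193959a47beb4b2d85218ed954888bd31822b55b08061e14a5061106c7a1dca4ac95725c751270aa911191645d1a6318c6318c630445331b460448505ce1bacf8bda83d88439992115b698181b4e098a69639a2543ded68848295c56b18eb3508450c4408b3604541202768aa20a92b4d865341c5182d1382957888284db025aa979c7564c2d11667081e000000000005800e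

noncomputable def T (c s : ℕ) : ℕ := Nat.land (Nat.shiftRight TD (Nat.mul 5 (Nat.add (Nat.mul 23 c) s))) 31

def Ws : List (List ℕ) := [[0,2,0],[0,2,3,3],[1,1,1,4],[4,2,2,1,4,2,1],[6,6,6,6,5],[5,6,6,5,5,5,5],[8,8,7,7,7],[7,8,7,7,8,7,8],[8,8,7,8,7,8,8],[10,11,11,10,10,9],[2,2,0,0],[2,1,1,1,2,1],[13,14,13,13,14],[14,13,13,13,13],[15,16,16,15],[15,15,15,16],[17,17,18,18,18,18,17],[18,18,17,18,18,18,17],[18,17,17,17,18,17,17,18,17],[20,21,21,19,19,19]]

def ordTD : ℕ := 0x84211084210e2108441908a39156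

noncomputable def ordT (c : ℕ) : ℕ := Nat.land (Nat.shiftRight ordTD (Nat.mul 5 c)) 31

noncomputable def iv (s : ℕ) : List ℕ := List.replicate (ordT s) s

def La0tD : ℕ := 0x861c44753a19b2884521130

noncomputable def La0t (c : ℕ) : ℕ := Nat.land (Nat.shiftRight La0tD (Nat.mul 4 c)) 15

noncomputable def La0 : SLv := ⟨⟨0, La0t, 4095, 4, 23, fun i => i⟩, true, [14,15,18,11,9,16,5,19,20,17,4,8,10,22,21,7,13,6,1,12,3,2,0], [0], 22, []⟩

def La1tD : ℕ := 0x65a527350562362938875a0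

noncomputable def La1t (c : ℕ) : ℕ := Nat.land (Nat.shiftRight La1tD (Nat.mul 4 c)) 15

noncomputable def La1 : SLv := ⟨⟨14, La1t, 1014, 4, 22, fun i => Nat.add i 1⟩, false, [], [], 0, []⟩

def La2tD : ℕ := 0xd7b678c006aa67a6da68a90

noncomputable def La2t (c : ℕ) : ℕ := Nat.land (Nat.shiftRight La2tD (Nat.mul 4 c)) 15

def La2pD : ℕ := 0x16ad2728c1ed62d4941cc520c41

noncomputable def La2p (c : ℕ) : ℕ := Nat.land (Nat.shiftRight La2pD (Nat.mul 5 c)) 31

noncomputable def La2 : SLv := ⟨⟨15, La2t, 8160, 4, 21, La2p⟩, false, [], [], 0, []⟩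

def La3tD : ℕ := 0xbd880dd00d8ca9ba98baa80

noncomputable def La3t (c : ℕ) : ℕ := Nat.land (Nat.shiftRight La3tD (Nat.mul 4 c)) 15

def La3pD : ℕ := 0xb56939460d62d4941cc520c41

noncomputable def La3p (c : ℕ) : ℕ := Nat.land (Nat.shiftRight La3pD (Nat.mul 5 c)) 31

noncomputable def La3 : SLv := ⟨⟨18, La3t, 8064, 4, 20, La3p⟩, false, [], [], 0, []⟩

def La4tD : ℕ := 0xbc0a0da00ab0bb0ccdc0ba0

noncomputable def La4t (c : ℕ) : ℕ := Nat.land (Nat.shiftRight La4tD (Nat.mul 4 c)) 15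

def La4pD : ℕ := 0xb56718358b524e629041

noncomputable def La4p (c : ℕ) : ℕ := Nat.land (Nat.shiftRight La4pD (Nat.mul 5 c)) 31

noncomputable def La4 : SLv := ⟨⟨11, La4t, 7680, 4, 16, La4p⟩, false, [], [], 0, []⟩

def La5tD : ℕ := 0xd00000000000000000d0000

noncomputable def La5t (c : ℕ) : ℕ := Nat.land (Nat.shiftRight La5tD (Nat.mul 4 c)) 15

def La5pD : ℕ := 0x5924

noncomputable def La5p (c : ℕ) : ℕ := Nat.land (Nat.shiftRight La5pD (Nat.mul 5 c)) 31

noncomputable def La5 : SLv := ⟨⟨9, La5t, 4096, 3, 3, La5p⟩, false, [], [], 0, []⟩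

noncomputable def Las : List SLv := [La1, La2, La3, La4, La5]

def Lb0tD : ℕ := 0x50a2b3ce4a3c221ad840810b49975

noncomputable def Lb0t (c : ℕ) : ℕ := Nat.land (Nat.shiftRight Lb0tD (Nat.mul 5 c)) 31

noncomputable def Lb0 : SLv := ⟨⟨6, Lb0t, 3689983, 3, 23, fun i => i⟩, true, [10,18,16,8,14,15,11,19,7,20,6], [1], 10, []⟩

def Lb1tD : ℕ := 0x51d0b3a139c9d1882ef781f074ab5

noncomputable def Lb1t (c : ℕ) : ℕ := Nat.land (Nat.shiftRight Lb1tD (Nat.mul 5 c)) 31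

def Lb1pD : ℕ := 0x2d5a4e5183dcd62d4941ca418820

noncomputable def Lb1p (c : ℕ) : ℕ := Nat.land (Nat.shiftRight Lb1pD (Nat.mul 5 c)) 31

noncomputable def Lb1 : SLv := ⟨⟨10, Lb1t, 8380416, 4, 22, Lb1p⟩, false, [], [], 0, []⟩

def Lb2tD : ℕ := 0x42d2b0210a5635b0232902749caf5

noncomputable def Lb2t (c : ℕ) : ℕ := Nat.land (Nat.shiftRight Lb2tD (Nat.mul 5 c)) 31

def Lb2pD : ℕ := 0x16ad2728c1ee6b16941ca418820

noncomputable def Lb2p (c : ℕ) : ℕ := Nat.land (Nat.shiftRight Lb2pD (Nat.mul 5 c)) 31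

noncomputable def Lb2 : SLv := ⟨⟨18, Lb2t, 8355840, 4, 21, Lb2p⟩, false, [], [], 0, []⟩

def Lb3tD : ℕ := 0x4a96b82e0b4e93a02d2a8292956b5

noncomputable def Lb3t (c : ℕ) : ℕ := Nat.land (Nat.shiftRight Lb3tD (Nat.mul 5 c)) 31

def Lb3pD : ℕ := 0xb56938c1ee6b16941ca418820

noncomputable def Lb3p (c : ℕ) : ℕ := Nat.land (Nat.shiftRight Lb3pD (Nat.mul 5 c)) 31

noncomputable def Lb3 : SLv := ⟨⟨16, Lb3t, 8257536, 4, 20, Lb3p⟩, false, [], [], 0, []⟩

def Lb4tD : ℕ := 0x56b6a82e0a02b4a02c0b0016056d4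

noncomputable def Lb4t (c : ℕ) : ℕ := Nat.land (Nat.shiftRight Lb4tD (Nat.mul 5 c)) 31

def Lb4pD : ℕ := 0xb56938bdac5a50720820

noncomputable def Lb4p (c : ℕ) : ℕ := Nat.land (Nat.shiftRight Lb4pD (Nat.mul 5 c)) 31

noncomputable def Lb4 : SLv := ⟨⟨8, Lb4t, 7864320, 4, 16, Lb4p⟩, false, [], [], 0, []⟩

def Lb5tD : ℕ := 0x2e0b8000

noncomputable def Lb5t (c : ℕ) : ℕ := Nat.land (Nat.shiftRight Lb5tD (Nat.mul 5 c)) 31

def Lb5pD : ℕ := 0xe53

noncomputable def Lb5p (c : ℕ) : ℕ := Nat.land (Nat.shiftRight Lb5pD (Nat.mul 4 c)) 15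

noncomputable def Lb5 : SLv := ⟨⟨14, Lb5t, 4194304, 3, 3, Lb5p⟩, false, [], [], 0, []⟩

noncomputable def Lbs : List SLv := [Lb1, Lb2, Lb3, Lb4, Lb5]

def B : List ℕ := [0,14,15,18,11,9]

def D : OD := ⟨0, 1, 2, 23, 2, 1, 4, [1,5],
  [(75570960, []), (141896232, [1]), (97995720, [1,1]), (110347656, [1,1,1]), (34060200, [1,1,1,1]), (19399008, [1,1,1,1,1]), (30128400, [1,1,1,1,1,1]), (13378416, [1,1,1,1,1,1,1]), (170155440, [1,1,1,1,1,1,1,1]), (44545920, [1,1,1,1,1,1,1,1,1]), (180300864, [1,1,1,1,1,1,1,1,1,1])],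
  [[0,2,0,2,0,2,0,2,0,2,0,2,0,2],[0,0,2,0,0,2,0,0,2,0,0,2,0,0,2,0,0,2,0,0,2,0,0,2]],
  [[]], [], [], []⟩

theorem slp_0 : allPow (below 24 (slpB T Ws 3)) 5 (0 * 2 ^ 5) = true := by decide +kernel

theorem slp : ∀ i < 24, (slpB T Ws 3) i = true :=
  all_of_blocks (d := 5) (m := 1) (by decide) (forall_lt_succ'' forall_lt_zero'' slp_0)

theorem ptLa_0 : allPow (below 23 (La0.toLv.ptB T 24)) 5 (0 * 2 ^ 5) = true := by decide +kernel

theorem ptLa : ∀ i < 23, (La0.toLv.ptB T 24) i = true :=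
  all_of_blocks (d := 5) (m := 1) (by decide) (forall_lt_succ'' forall_lt_zero'' ptLa_0)

theorem chLa : ChainChk T 24 23 ((La0 :: Las).map SLv.toLv) [] :=
  ⟨by decide +kernel, ptLa, chainChk_of (by decide +kernel)⟩

theorem scLa_0 : allPow (below 23 (scanB T iv (tr T [D.ia]) La0 Las [])) 5 (0 * 2 ^ 5) = true := by decide +kernel

theorem scLa : ∀ i < 23, (scanB T iv (tr T [D.ia]) La0 Las []) i = true :=
  all_of_blocks (d := 5) (m := 1) (by decide) (forall_lt_succ'' forall_lt_zero'' scLa_0)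

theorem ptLb_0 : allPow (below 23 (Lb0.toLv.ptB T 24)) 5 (0 * 2 ^ 5) = true := by decide +kernel

theorem ptLb : ∀ i < 23, (Lb0.toLv.ptB T 24) i = true :=
  all_of_blocks (d := 5) (m := 1) (by decide) (forall_lt_succ'' forall_lt_zero'' ptLb_0)

theorem chLb : ChainChk T 24 23 ((Lb0 :: Lbs).map SLv.toLv) [] :=
  ⟨by decide +kernel, ptLb, chainChk_of (by decide +kernel)⟩

theorem scLb_0 : allPow (below 23 (scanB T iv (tr T (List.replicate D.i D.ib)) Lb0 Lbs [])) 5 (0 * 2 ^ 5) = true := by decide +kernel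

theorem scLb : ∀ i < 23, (scanB T iv (tr T (List.replicate D.i D.ib)) Lb0 Lbs []) i = true :=
  all_of_blocks (d := 5) (m := 1) (by decide) (forall_lt_succ'' forall_lt_zero'' scLb_0)

theorem chk : D.chk T 23 10200960 B = true := by decide +kernel

theorem ok {G : Type*} [Group G] [Finite G] {A : RA G 24} {g0 : ℕ → G} (hT : A.Tab g0 3 T)
    (hle : Nat.card G ≤ 10200960) : ∃ g : ℕ → G, (∀ s < 3, g s = g0 s) ∧ RA.OutOK A g 23 T B D 10200960 :=
  RA.outOK_of hT (by decide +kernel) slp (by decide +kernel) hle chLa (by decide +kernel) chLb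
    (by decide +kernel) (by decide +kernel) (m := 8388607) (iv := iv) (by decide +kernel) scLa
    (by decide +kernel) scLb (by decide +kernel)

theorem out {G : Type*} [Group G] [Finite G] {A : RA G 24} {g0 : ℕ → G} (hT : A.Tab g0 3 T)
    (hle : Nat.card G ≤ 10200960) : Nat.card (Cfsg.Out G) = 1 := by
  obtain ⟨g, -, h⟩ := ok hT hle
  exact h.out_one (by decide) chk rfl

def tsD : ℕ := 0xb86c68288e7ca35a4d275a1a261460ba4a63c1885bc8d9ca2ea2ac208ea0bd4f1a2c8593cc34da0a686681018e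

noncomputable def ts (c : ℕ) : ℕ := Nat.land (Nat.shiftRight tsD (Nat.mul 120 c)) 1329227995784915872903807060280344575

def tisD : ℕ := 0xbd58b539b37c0a33c92645051092c0b94275a9327219179ad09d2ad11060baad32be89700e192164ab61160cc2

noncomputable def tis (c : ℕ) : ℕ := Nat.land (Nat.shiftRight tisD (Nat.mul 120 c)) 1329227995784915872903807060280344575

theorem card_out : Nat.card (Cfsg.Out Cfsg.Spor.M23) = 1 := by
  obtain ⟨g, hg⟩ := exists_tab_math (T := T) memP23 (k := 3) (ts := ts) (tis := tis) (by decide +kernel)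
  exact out hg card_M23_le

end Cfsg.Agent.H9.OutM23
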