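import Cfsg.Agent.H9.MathRA

/-! The outer automorphism group of M24: data and checks. -/

set_option autoImplicit false
set_option maxRecDepth 100000

namespace Cfsg.Agent.H9.OutM24

def TD : ℕ := 0x4110285ccf8c588ab84f0c8e673e21032c251eaa65a873c58fabcf278540b59ab39045589877c4f08b10a6da9029134a5294a528e65294a5294a4d500dcca0bea923057bc82f0dcceb95683c92baadd66bc1659c444a53535454599866ce318c6333c5b05c191b2cf6209b3095d5486f255dc92dea86ccaa7de911b46b735214bab5311cc81e41135d0996896a44ea81134d6f52ae6d3b4229d9b59be13021c275a0fb35d5240cb7d51655e00041885948a542762a6d074655a38f1385b32a5a51550e6a2085ce011d48a3a98f2d830949ca5294a530d6626f2419e752ef162088910842a62caba445c824b9255900135c42f10632aa4e21320c9426f9c24a5a5a2b85734a4a522c62218c6318d135006318c723ae84ae22888a52d9ad09d019acb6434a40c6ee7ba5745dca3bc216a65295e4481aec4c18518c6318c6318c6318c6318c63298f4a4e52806c49bcc2b4d6e1590c228f37a05561d844b4132dc4f65e71535e8456f652c0b7a205b0000000000000005803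

noncomputable def T (c s : ℕ) : ℕ := Nat.land (Nat.shiftRight TD (Nat.mul 5 (Nat.add (Nat.mul 25 c) s))) 31

def Ws : List (List ℕ) := [[1,0,2,0,2,2,1,0],[3,3,1],[4,4,3,4,1,4],[3,3,3,1,4],[6,6,6,6,5,5,6,5,6,6],[5,5,5,5,6,5],[8,8,7,8,7,7,7],[7,7,8,8,8,7,8,7],[10,9,10],[9,9,10,9,9,10,10,9],[10,10,9,9,10,10,10,9],[11,12,11,12,13],[1,2,0,0],[0,0,1,1,1],[16,15,15,16,15,16,16],[16,16,16,16,16,15,15,16],[17,17,18,18,17,18,18,18],[19,17,17,19,17,19],[17,17,20],[17,17,21,20,17,21,21],[20,17,21,21],[17,17,20,20,17,21]]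

def ordTD : ℕ := 0x21084421c8a7084211042329566a556

noncomputable def ordT (c : ℕ) : ℕ := Nat.land (Nat.shiftRight ordTD (Nat.mul 5 c)) 31

noncomputable def iv (s : ℕ) : List ℕ := List.replicate (ordT s) s

def La0tD : ℕ := 0x13639287a52a641bd8561910

noncomputable def La0t (c : ℕ) : ℕ := Nat.land (Nat.shiftRight La0tD (Nat.mul 4 c)) 15

noncomputable def La0 : SLv := ⟨⟨0, La0t, 6143, 4, 24, fun i => i⟩, true, [3,20,10,6,2,8,12,17,14,15,13,16,11,7,4,5,18,19,21,9,1,23,0], [0], 22, []⟩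

def La1tD : ℕ := 0xea4526e26da9527245e80c40

noncomputable def La1t (c : ℕ) : ℕ := Nat.land (Nat.shiftRight La1tD (Nat.mul 4 c)) 15

noncomputable def La1 : SLv := ⟨⟨3, La1t, 15354, 4, 23, fun i => Nat.add i 1⟩, false, [], [], 0, []⟩

def La2tD : ℕ := 0x87c0e7e66da976f9bae80cc0

noncomputable def La2t (c : ℕ) : ℕ := Nat.land (Nat.shiftRight La2tD (Nat.mul 4 c)) 15

def La2pD : ℕ := 0x2f6ad2728c1ee6b16a4a0e629041

noncomputable def La2p (c : ℕ) : ℕ := Nat.land (Nat.shiftRight La2pD (Nat.mul 5 c)) 31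

noncomputable def La2 : SLv := ⟨⟨20, La2t, 32736, 4, 22, La2p⟩, false, [], [], 0, []⟩

def La3tD : ℕ := 0xda8099e9dfc9b0f8f8b808a0

noncomputable def La3t (c : ℕ) : ℕ := Nat.land (Nat.shiftRight La3tD (Nat.mul 4 c)) 15

def La3pD : ℕ := 0x17b56728c1ee6b16a4a0e629041

noncomputable def La3p (c : ℕ) : ℕ := Nat.land (Nat.shiftRight La3pD (Nat.mul 5 c)) 31

noncomputable def La3 : SLv := ⟨⟨10, La3t, 32640, 4, 21, La3p⟩, false, [], [], 0, []⟩

def La4tD : ℕ := 0xabf0baebbcbeb0fda0fa0dc0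

noncomputable def La4t (c : ℕ) : ℕ := Nat.land (Nat.shiftRight La4tD (Nat.mul 4 c)) 15

def La4pD : ℕ := 0xbdab39460f7358b4a0e629041

noncomputable def La4p (c : ℕ) : ℕ := Nat.land (Nat.shiftRight La4pD (Nat.mul 5 c)) 31

noncomputable def La4 : SLv := ⟨⟨6, La4t, 32256, 4, 20, La4p⟩, false, [], [], 0, []⟩

def La5tD : ℕ := 0xeed0d0fdcdcfc00ce0e000d0

noncomputable def La5t (c : ℕ) : ℕ := Nat.land (Nat.shiftRight La5tD (Nat.mul 4 c)) 15

def La5pD : ℕ := 0xbdab38c1ee6b16839441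

noncomputable def La5p (c : ℕ) : ℕ := Nat.land (Nat.shiftRight La5pD (Nat.mul 5 c)) 31

noncomputable def La5 : SLv := ⟨⟨2, La5t, 30720, 4, 16, La5p⟩, false, [], [], 0, []⟩

def La6tD : ℕ := 0xf00000f00000000000

noncomputable def La6t (c : ℕ) : ℕ := Nat.land (Nat.shiftRight La6tD (Nat.mul 4 c)) 15

def La6pD : ℕ := 0x4568

noncomputable def La6p (c : ℕ) : ℕ := Nat.land (Nat.shiftRight La6pD (Nat.mul 5 c)) 31

noncomputable def La6 : SLv := ⟨⟨8, La6t, 16384, 3, 3, La6p⟩, false, [], [], 0, []⟩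

noncomputable def Las : List SLv := [La1, La2, La3, La4, La5, La6]

def Lb0tD : ℕ := 0x8c852d202356f82cf121c24305a21

noncomputable def Lb0t (c : ℕ) : ℕ := Nat.land (Nat.shiftRight Lb0tD (Nat.mul 5 c)) 31

noncomputable def Lb0 : SLv := ⟨⟨3, Lb0t, 16744511, 3, 24, fun i => i⟩, true, [20,6,17,5,14,19,11,10,8,16,3], [1], 10, []⟩

def Lb1tD : ℕ := 0x9c0c059d068d64a3d5f4a46c705230

noncomputable def Lb1t (c : ℕ) : ℕ := Nat.land (Nat.shiftRight Lb1tD (Nat.mul 5 c)) 31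

def Lb1pD : ℕ := 0x5ed5a4e5183dcd62d4941cc520820

noncomputable def Lb1p (c : ℕ) : ℕ := Nat.land (Nat.shiftRight Lb1pD (Nat.mul 5 c)) 31

noncomputable def Lb1 : SLv := ⟨⟨20, Lb1t, 4179680, 4, 23, Lb1p⟩, false, [], [], 0, []⟩

def Lb2tD : ℕ := 0x9cd005aa93c252e9a2b86829705d58

noncomputable def Lb2t (c : ℕ) : ℕ := Nat.land (Nat.shiftRight Lb2tD (Nat.mul 5 c)) 31

def Lb2pD : ℕ := 0x2f6ace5183dcd62d4941cc520820

noncomputable def Lb2p (c : ℕ) : ℕ := Nat.land (Nat.shiftRight Lb2pD (Nat.mul 5 c)) 31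

noncomputable def Lb2 : SLv := ⟨⟨6, Lb2t, 14432128, 3, 22, Lb2p⟩, false, [], [], 0, []⟩

def Lb3tD : ℕ := 0x6b5c0b3018aca4da568fb02cf05319

noncomputable def Lb3t (c : ℕ) : ℕ := Nat.land (Nat.shiftRight Lb3tD (Nat.mul 5 c)) 31

def Lb3pD : ℕ := 0x17b56728c1ee6b16a4a0e520820

noncomputable def Lb3p (c : ℕ) : ℕ := Nat.land (Nat.shiftRight Lb3pD (Nat.mul 5 c)) 31

noncomputable def Lb3 : SLv := ⟨⟨17, Lb3t, 28997632, 4, 21, Lb3p⟩, false, [], [], 0, []⟩

def Lb4tD : ℕ := 0xb5b00b4815ad6ec95ad690015032b5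

noncomputable def Lb4t (c : ℕ) : ℕ := Nat.land (Nat.shiftRight Lb4tD (Nat.mul 5 c)) 31

def Lb4pD : ℕ := 0xbdab3941ee6b16a4a0e520820

noncomputable def Lb4p (c : ℕ) : ℕ := Nat.land (Nat.shiftRight Lb4pD (Nat.mul 5 c)) 31

noncomputable def Lb4 : SLv := ⟨⟨5, Lb4t, 15861760, 4, 20, Lb4p⟩, false, [], [], 0, []⟩

def Lb5tD : ℕ := 0x5ee0c6018c8318cdf20c800005f38

noncomputable def Lb5t (c : ℕ) : ℕ := Nat.land (Nat.shiftRight Lb5tD (Nat.mul 5 c)) 31

def Lb5pD : ℕ := 0xb567283dcd62d4938820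

noncomputable def Lb5p (c : ℕ) : ℕ := Nat.land (Nat.shiftRight Lb5pD (Nat.mul 5 c)) 31

noncomputable def Lb5 : SLv := ⟨⟨14, Lb5t, 29360128, 5, 16, Lb5p⟩, false, [], [], 0, []⟩

def Lb6tD : ℕ := 0x2e0000000000000000b800000000

noncomputable def Lb6t (c : ℕ) : ℕ := Nat.land (Nat.shiftRight Lb6tD (Nat.mul 5 c)) 31

def Lb6pD : ℕ := 0x5667

noncomputable def Lb6p (c : ℕ) : ℕ := Nat.land (Nat.shiftRight Lb6pD (Nat.mul 5 c)) 31

noncomputable def Lb6 : SLv := ⟨⟨19, Lb6t, 4194304, 3, 3, Lb6p⟩, false, [], [], 0, []⟩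

noncomputable def Lbs : List SLv := [Lb1, Lb2, Lb3, Lb4, Lb5, Lb6]

def B : List ℕ := [0,3,20,10,6,2,8]

def D : OD := ⟨0, 1, 2, 23, 2, 1, 6, [1,5],
  [(1546889544, []), (3182841696, [1]), (646862544, [1,1]), (3970076376, [1,1,1]), (1256720376, [1,1,1,1]), (3435634704, [1,1,1,1,1]), (967037064, [1,1,1,1,1,1]), (2845386120, [1,1,1,1,1,1,1]), (3668313840, [1,1,1,1,1,1,1,1]), (2198951616, [1,1,1,1,1,1,1,1,1]), (1973557824, [1,1,1,1,1,1,1,1,1,1])],
  [[2,1,2,0,2,2,2,2,1,2,0,2,2,2,2,1,2,0,2,2,2],[2,0,2,2,0,2,2,0,2,2,0,2,2,0,2,2,0,2,2,0,2]],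
  [[]], [], [], []⟩

theorem slp_0 : allPow (below 24 (slpB T Ws 3)) 5 (0 * 2 ^ 5) = true := by decide +kernel

theorem slp : ∀ i < 24, (slpB T Ws 3) i = true :=
  all_of_blocks (d := 5) (m := 1) (by decide) (forall_lt_succ'' forall_lt_zero'' slp_0)

theorem ptLa_0 : allPow (below 24 (La0.toLv.ptB T 24)) 5 (0 * 2 ^ 5) = true := by decide +kernel

theorem ptLa : ∀ i < 24, (La0.toLv.ptB T 24) i = true :=
  all_of_blocks (d := 5) (m := 1) (by decide) (forall_lt_succ'' forall_lt_zero'' ptLa_0)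

theorem chLa : ChainChk T 24 25 ((La0 :: Las).map SLv.toLv) [] :=
  ⟨by decide +kernel, ptLa, chainChk_of (by decide +kernel)⟩

theorem scLa_0 : allPow (below 24 (scanB T iv (tr T [D.ia]) La0 Las [])) 5 (0 * 2 ^ 5) = true := by decide +kernel

theorem scLa : ∀ i < 24, (scanB T iv (tr T [D.ia]) La0 Las []) i = true :=
  all_of_blocks (d := 5) (m := 1) (by decide) (forall_lt_succ'' forall_lt_zero'' scLa_0)

theorem ptLb_0 : allPow (below 24 (Lb0.toLv.ptB T 24)) 5 (0 * 2 ^ 5) = true := by decide +kernel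

theorem ptLb : ∀ i < 24, (Lb0.toLv.ptB T 24) i = true :=
  all_of_blocks (d := 5) (m := 1) (by decide) (forall_lt_succ'' forall_lt_zero'' ptLb_0)

theorem chLb : ChainChk T 24 25 ((Lb0 :: Lbs).map SLv.toLv) [] :=
  ⟨by decide +kernel, ptLb, chainChk_of (by decide +kernel)⟩

theorem scLb_0 : allPow (below 24 (scanB T iv (tr T (List.replicate D.i D.ib)) Lb0 Lbs [])) 5 (0 * 2 ^ 5) = true := by decide +kernel

theorem scLb : ∀ i < 24, (scanB T iv (tr T (List.replicate D.i D.ib)) Lb0 Lbs []) i = true :=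
  all_of_blocks (d := 5) (m := 1) (by decide) (forall_lt_succ'' forall_lt_zero'' scLb_0)

theorem chk : D.chk T 25 244823040 B = true := by decide +kernel

theorem ok {G : Type*} [Group G] [Finite G] {A : RA G 24} {g0 : ℕ → G} (hT : A.Tab g0 3 T)
    (hle : Nat.card G ≤ 244823040) : ∃ g : ℕ → G, (∀ s < 3, g s = g0 s) ∧ RA.OutOK A g 25 T B D 244823040 :=
  RA.outOK_of hT (by decide +kernel) slp (by decide +kernel) hle chLa (by decide +kernel) chLb
    (by decide +kernel) (by decide +kernel) (m := 33554431) (iv := iv) (by decide +kernel) scLa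
    (by decide +kernel) scLb (by decide +kernel)

theorem out {G : Type*} [Group G] [Finite G] {A : RA G 24} {g0 : ℕ → G} (hT : A.Tab g0 3 T)
    (hle : Nat.card G ≤ 244823040) : Nat.card (Cfsg.Out G) = 1 := by
  obtain ⟨g, -, h⟩ := ok hT hle
  exact h.out_one (by decide) chk rfl

def tsD : ℕ := 0x880b74982da554e2496c189f03cd160d8865b4a34cee752250145cca3ea00592aacdcb6be113982c20a45a22e3

noncomputable def ts (c : ℕ) : ℕ := Nat.land (Nat.shiftRight tsD (Nat.mul 120 c)) 1329227995784915872903807060280344575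

def tisD : ℕ := 0xa01cf12ae42b2084b6611caab39a366d823724c8116449adea6523581ee00da639158d745e8852a25a88701937

noncomputable def tis (c : ℕ) : ℕ := Nat.land (Nat.shiftRight tisD (Nat.mul 120 c)) 1329227995784915872903807060280344575

theorem card_out : Nat.card (Cfsg.Out Cfsg.M24) = 1 := by
  obtain ⟨g, hg⟩ := exists_tab_math (T := T) memP24 (k := 3) (ts := ts) (tis := tis) (by decide +kernel)
  exact out hg card_M24_le

end Cfsg.Agent.H9.OutM24
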