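import Cfsg.Agent.H9.OutOND

/-! The outer automorphism group of ON. Checks. -/

set_option autoImplicit false
set_option maxRecDepth 100000

namespace Cfsg.Agent.H9.OutON

theorem slp_0 : allPow (below (nat_lit 122760) (slp2B T SW (nat_lit 8))) 17 (0 * 2 ^ 17) = true := by decide +kernel

theorem trans_0 : allPow (below (nat_lit 122760) (transB TT (nat_lit 0) (nat_lit 16) inf (nat_lit 5) (nat_lit 31))) 15 (0 * 2 ^ 15) = true := by decide +kernel

theorem trans_1 : allPow (below (nat_lit 122760) (transB TT (nat_lit 0) (nat_lit 16) inf (nat_lit 5) (nat_lit 31))) 15 (1 * 2 ^ 15) = true := by decide +kernel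

theorem trans_2 : allPow (below (nat_lit 122760) (transB TT (nat_lit 0) (nat_lit 16) inf (nat_lit 5) (nat_lit 31))) 15 (2 * 2 ^ 15) = true := by decide +kernel

theorem trans_3 : allPow (below (nat_lit 122760) (transB TT (nat_lit 0) (nat_lit 16) inf (nat_lit 5) (nat_lit 31))) 15 (3 * 2 ^ 15) = true := by decide +kernel

theorem fa_0 : allPow (below (nat_lit 122760) (fixB (tr TT [D.ia]) [nat_lit 0])) 14 (0 * 2 ^ 14) = true := by decide +kernel

theorem fa_1 : allPow (below (nat_lit 122760) (fixB (tr TT [D.ia]) [nat_lit 0])) 14 (1 * 2 ^ 14) = true := by decide +kernel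

theorem fa_2 : allPow (below (nat_lit 122760) (fixB (tr TT [D.ia]) [nat_lit 0])) 14 (2 * 2 ^ 14) = true := by decide +kernel

theorem fa_3 : allPow (below (nat_lit 122760) (fixB (tr TT [D.ia]) [nat_lit 0])) 14 (3 * 2 ^ 14) = true := by decide +kernel

theorem fa_4 : allPow (below (nat_lit 122760) (fixB (tr TT [D.ia]) [nat_lit 0])) 14 (4 * 2 ^ 14) = true := by decide +kernel

theorem fa_5 : allPow (below (nat_lit 122760) (fixB (tr TT [D.ia]) [nat_lit 0])) 14 (5 * 2 ^ 14) = true := by decide +kernel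

theorem fa_6 : allPow (below (nat_lit 122760) (fixB (tr TT [D.ia]) [nat_lit 0])) 14 (6 * 2 ^ 14) = true := by decide +kernel

theorem fa_7 : allPow (below (nat_lit 122760) (fixB (tr TT [D.ia]) [nat_lit 0])) 14 (7 * 2 ^ 14) = true := by decide +kernel

theorem fb_0 : allPow (below (nat_lit 122760) (fixB (tr TT (List.replicate D.i D.ib)) (nat_lit 0 :: (lk.map Prod.fst ++ dead.map Prod.fst)))) 12 (0 * 2 ^ 12) = true := by decide +kernel

theorem fb_1 : allPow (below (nat_lit 122760) (fixB (tr TT (List.replicate D.i D.ib)) (nat_lit 0 :: (lk.map Prod.fst ++ dead.map Prod.fst)))) 12 (1 * 2 ^ 12) = true := by decide +kernel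

theorem fb_2 : allPow (below (nat_lit 122760) (fixB (tr TT (List.replicate D.i D.ib)) (nat_lit 0 :: (lk.map Prod.fst ++ dead.map Prod.fst)))) 12 (2 * 2 ^ 12) = true := by decide +kernel

theorem fb_3 : allPow (below (nat_lit 122760) (fixB (tr TT (List.replicate D.i D.ib)) (nat_lit 0 :: (lk.map Prod.fst ++ dead.map Prod.fst)))) 12 (3 * 2 ^ 12) = true := by decide +kernel

theorem fb_4 : allPow (below (nat_lit 122760) (fixB (tr TT (List.replicate D.i D.ib)) (nat_lit 0 :: (lk.map Prod.fst ++ dead.map Prod.fst)))) 12 (4 * 2 ^ 12) = true := by decide +kernel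

theorem fb_5 : allPow (below (nat_lit 122760) (fixB (tr TT (List.replicate D.i D.ib)) (nat_lit 0 :: (lk.map Prod.fst ++ dead.map Prod.fst)))) 12 (5 * 2 ^ 12) = true := by decide +kernel

theorem fb_6 : allPow (below (nat_lit 122760) (fixB (tr TT (List.replicate D.i D.ib)) (nat_lit 0 :: (lk.map Prod.fst ++ dead.map Prod.fst)))) 12 (6 * 2 ^ 12) = true := by decide +kernel

theorem fb_7 : allPow (below (nat_lit 122760) (fixB (tr TT (List.replicate D.i D.ib)) (nat_lit 0 :: (lk.map Prod.fst ++ dead.map Prod.fst)))) 12 (7 * 2 ^ 12) = true := by decide +kernel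

theorem fb_8 : allPow (below (nat_lit 122760) (fixB (tr TT (List.replicate D.i D.ib)) (nat_lit 0 :: (lk.map Prod.fst ++ dead.map Prod.fst)))) 12 (8 * 2 ^ 12) = true := by decide +kernel

theorem fb_9 : allPow (below (nat_lit 122760) (fixB (tr TT (List.replicate D.i D.ib)) (nat_lit 0 :: (lk.map Prod.fst ++ dead.map Prod.fst)))) 12 (9 * 2 ^ 12) = true := by decide +kernel

theorem fb_10 : allPow (below (nat_lit 122760) (fixB (tr TT (List.replicate D.i D.ib)) (nat_lit 0 :: (lk.map Prod.fst ++ dead.map Prod.fst)))) 12 (10 * 2 ^ 12) = true := by decide +kernel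

theorem fb_11 : allPow (below (nat_lit 122760) (fixB (tr TT (List.replicate D.i D.ib)) (nat_lit 0 :: (lk.map Prod.fst ++ dead.map Prod.fst)))) 12 (11 * 2 ^ 12) = true := by decide +kernel

theorem fb_12 : allPow (below (nat_lit 122760) (fixB (tr TT (List.replicate D.i D.ib)) (nat_lit 0 :: (lk.map Prod.fst ++ dead.map Prod.fst)))) 12 (12 * 2 ^ 12) = true := by decide +kernel

theorem fb_13 : allPow (below (nat_lit 122760) (fixB (tr TT (List.replicate D.i D.ib)) (nat_lit 0 :: (lk.map Prod.fst ++ dead.map Prod.fst)))) 12 (13 * 2 ^ 12) = true := by decide +kernel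

theorem fb_14 : allPow (below (nat_lit 122760) (fixB (tr TT (List.replicate D.i D.ib)) (nat_lit 0 :: (lk.map Prod.fst ++ dead.map Prod.fst)))) 12 (14 * 2 ^ 12) = true := by decide +kernel

theorem fb_15 : allPow (below (nat_lit 122760) (fixB (tr TT (List.replicate D.i D.ib)) (nat_lit 0 :: (lk.map Prod.fst ++ dead.map Prod.fst)))) 12 (15 * 2 ^ 12) = true := by decide +kernel

theorem fb_16 : allPow (below (nat_lit 122760) (fixB (tr TT (List.replicate D.i D.ib)) (nat_lit 0 :: (lk.map Prod.fst ++ dead.map Prod.fst)))) 12 (16 * 2 ^ 12) = true := by decide +kernel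

theorem fb_17 : allPow (below (nat_lit 122760) (fixB (tr TT (List.replicate D.i D.ib)) (nat_lit 0 :: (lk.map Prod.fst ++ dead.map Prod.fst)))) 12 (17 * 2 ^ 12) = true := by decide +kernel

theorem fb_18 : allPow (below (nat_lit 122760) (fixB (tr TT (List.replicate D.i D.ib)) (nat_lit 0 :: (lk.map Prod.fst ++ dead.map Prod.fst)))) 12 (18 * 2 ^ 12) = true := by decide +kernel

theorem fb_19 : allPow (below (nat_lit 122760) (fixB (tr TT (List.replicate D.i D.ib)) (nat_lit 0 :: (lk.map Prod.fst ++ dead.map Prod.fst)))) 12 (19 * 2 ^ 12) = true := by decide +kernel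

theorem fb_20 : allPow (below (nat_lit 122760) (fixB (tr TT (List.replicate D.i D.ib)) (nat_lit 0 :: (lk.map Prod.fst ++ dead.map Prod.fst)))) 12 (20 * 2 ^ 12) = true := by decide +kernel

theorem fb_21 : allPow (below (nat_lit 122760) (fixB (tr TT (List.replicate D.i D.ib)) (nat_lit 0 :: (lk.map Prod.fst ++ dead.map Prod.fst)))) 12 (21 * 2 ^ 12) = true := by decide +kernel

theorem fb_22 : allPow (below (nat_lit 122760) (fixB (tr TT (List.replicate D.i D.ib)) (nat_lit 0 :: (lk.map Prod.fst ++ dead.map Prod.fst)))) 12 (22 * 2 ^ 12) = true := by decide +kernel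

theorem fb_23 : allPow (below (nat_lit 122760) (fixB (tr TT (List.replicate D.i D.ib)) (nat_lit 0 :: (lk.map Prod.fst ++ dead.map Prod.fst)))) 12 (23 * 2 ^ 12) = true := by decide +kernel

theorem fb_24 : allPow (below (nat_lit 122760) (fixB (tr TT (List.replicate D.i D.ib)) (nat_lit 0 :: (lk.map Prod.fst ++ dead.map Prod.fst)))) 12 (24 * 2 ^ 12) = true := by decide +kernel

theorem fb_25 : allPow (below (nat_lit 122760) (fixB (tr TT (List.replicate D.i D.ib)) (nat_lit 0 :: (lk.map Prod.fst ++ dead.map Prod.fst)))) 12 (25 * 2 ^ 12) = true := by decide +kernel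

theorem fb_26 : allPow (below (nat_lit 122760) (fixB (tr TT (List.replicate D.i D.ib)) (nat_lit 0 :: (lk.map Prod.fst ++ dead.map Prod.fst)))) 12 (26 * 2 ^ 12) = true := by decide +kernel

theorem fb_27 : allPow (below (nat_lit 122760) (fixB (tr TT (List.replicate D.i D.ib)) (nat_lit 0 :: (lk.map Prod.fst ++ dead.map Prod.fst)))) 12 (27 * 2 ^ 12) = true := by decide +kernel

end Cfsg.Agent.H9.OutON
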