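import Cfsg.Agent.H9.OutOND

/-! The outer automorphism group of ON. Checks. -/

set_option autoImplicit false
set_option maxRecDepth 100000

namespace Cfsg.Agent.H9.OutON

theorem fb_28 : allPow (below (nat_lit 122760) (fixB (tr TT (List.replicate D.i D.ib)) (nat_lit 0 :: (lk.map Prod.fst ++ dead.map Prod.fst)))) 12 (28 * 2 ^ 12) = true := by decide +kernel

theorem fb_29 : allPow (below (nat_lit 122760) (fixB (tr TT (List.replicate D.i D.ib)) (nat_lit 0 :: (lk.map Prod.fst ++ dead.map Prod.fst)))) 12 (29 * 2 ^ 12) = true := by decide +kernel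

theorem sub_0 : allPow (below (nat_lit 5586) (subB TT U TH Wh (nat_lit 122760) (nat_lit 5586))) 10 (0 * 2 ^ 10) = true := by decide +kernel

theorem sub_1 : allPow (below (nat_lit 5586) (subB TT U TH Wh (nat_lit 122760) (nat_lit 5586))) 10 (1 * 2 ^ 10) = true := by decide +kernel

theorem sub_2 : allPow (below (nat_lit 5586) (subB TT U TH Wh (nat_lit 122760) (nat_lit 5586))) 10 (2 * 2 ^ 10) = true := by decide +kernel

theorem sub_3 : allPow (below (nat_lit 5586) (subB TT U TH Wh (nat_lit 122760) (nat_lit 5586))) 10 (3 * 2 ^ 10) = true := by decide +kernel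

theorem sub_4 : allPow (below (nat_lit 5586) (subB TT U TH Wh (nat_lit 122760) (nat_lit 5586))) 10 (4 * 2 ^ 10) = true := by decide +kernel

theorem sub_5 : allPow (below (nat_lit 5586) (subB TT U TH Wh (nat_lit 122760) (nat_lit 5586))) 10 (5 * 2 ^ 10) = true := by decide +kernel

theorem slpH_0 : allPow (below (nat_lit 5586) (slpB TH WH Wh.length)) 10 (0 * 2 ^ 10) = true := by decide +kernel

theorem slpH_1 : allPow (below (nat_lit 5586) (slpB TH WH Wh.length)) 10 (1 * 2 ^ 10) = true := by decide +kernel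

theorem slpH_2 : allPow (below (nat_lit 5586) (slpB TH WH Wh.length)) 10 (2 * 2 ^ 10) = true := by decide +kernel

theorem slpH_3 : allPow (below (nat_lit 5586) (slpB TH WH Wh.length)) 10 (3 * 2 ^ 10) = true := by decide +kernel

theorem slpH_4 : allPow (below (nat_lit 5586) (slpB TH WH Wh.length)) 10 (4 * 2 ^ 10) = true := by decide +kernel

theorem slpH_5 : allPow (below (nat_lit 5586) (slpB TH WH Wh.length)) 10 (5 * 2 ^ 10) = true := by decide +kernel

theorem ptLa_0 : allPow (below (nat_lit 5586) (La0.toLv.ptB TH (nat_lit 5586))) 13 (0 * 2 ^ 13) = true := by decide +kernel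

theorem chLa1 : chainB TH 5586 23 (Las.map SLv.toLv) [La0.β] = true := by decide +kernel

theorem scLa_0 : allPow (below (nat_lit 5586) (scanB TH iv (tr TH [nat_lit 0]) La0 Las [])) 13 (0 * 2 ^ 13) = true := by decide +kernel

theorem ptLb_0 : allPow (below (nat_lit 5586) (Lb0.toLv.ptB TH (nat_lit 5586))) 13 (0 * 2 ^ 13) = true := by decide +kernel

theorem chLb1 : chainB TH 5586 23 (Lbs.map SLv.toLv) [Lb0.β] = true := by decide +kernel

theorem scLb_0 : allPow (below (nat_lit 5586) (scanB TH iv (tr TH (List.replicate D.i (nat_lit 1))) Lb0 Lbs [])) 13 (0 * 2 ^ 13) = true := by decide +kernel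

theorem chk : D.chk TT 16 460815505920 B = true := by decide +kernel

theorem bigS : RA.bigB TT 122760 16 (nat_lit 0) B D Wh (nat_lit 0) (nat_lit 1) (linkWs (Lb0 :: Lbs)) ys lk dead gl = true := by decide +kernel

theorem nc : (allL ys fun y => emptyB TH iv (Lb0 :: Lbs) (tr TH [y]) []) = true := by decide +kernel

theorem relS : relB TT B sig (L0.ONCov3.RL.map Prod.fst) = true := by decide +kernel

theorem sigS : sigB TT 16 8 B sig D [] [nat_lit 5, nat_lit 6, nat_lit 3, nat_lit 2, nat_lit 4, nat_lit 1] [nat_lit 1, nat_lit 5, nat_lit 2, nat_lit 6, nat_lit 3, nat_lit 4, nat_lit 3, nat_lit 5, nat_lit 2, nat_lit 4, nat_lit 3, nat_lit 4, nat_lit 3, nat_lit 5, nat_lit 4, nat_lit 2, nat_lit 3, nat_lit 4, nat_lit 6, nat_lit 2, nat_lit 5, nat_lit 3, nat_lit 4, nat_lit 3, nat_lit 2, nat_lit 4, nat_lit 6] [nat_lit 4, nat_lit 3, nat_lit 0, nat_lit 4, nat_lit 5, nat_lit 4, nat_lit 3, nat_lit 7, nat_lit 2, nat_lit 5, nat_lit 3, nat_lit 4, nat_lit 1, nat_lit 2, nat_lit 3, nat_lit 4, nat_lit 2,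 nat_lit 3, nat_lit 5, nat_lit 4, nat_lit 3, nat_lit 4, nat_lit 2, nat_lit 5, nat_lit 1, nat_lit 6] = true := by decide +kernel

theorem outS : D.outerB TT B = true := by decide +kernel

end Cfsg.Agent.H9.OutON
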