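import Cfsg.Agent.L0.ON.Grp
import Cfsg.Agent.H9.OutONC0
import Cfsg.Agent.H9.OutONC1

/-! The outer automorphism group of ON. -/

set_option autoImplicit false
set_option maxRecDepth 100000

namespace Cfsg.Agent.H9.OutON

theorem slp : ∀ i < 122760, (slp2B T SW (nat_lit 8)) i = true :=
  all_of_blocks (d := 17) (m := 1) (by decide) (forall_lt_succ'' forall_lt_zero'' slp_0)

theorem trans : ∀ i < 122760, (transB TT (nat_lit 0) (nat_lit 16) inf (nat_lit 5) (nat_lit 31)) i = true :=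
  all_of_blocks (d := 15) (m := 4) (by decide) (forall_lt_succ'' (forall_lt_succ'' (forall_lt_succ'' (forall_lt_succ'' forall_lt_zero'' trans_0) trans_1) trans_2) trans_3)

theorem fa : ∀ i < 122760, (fixB (tr TT [D.ia]) [nat_lit 0]) i = true :=
  all_of_blocks (d := 14) (m := 8) (by decide) (forall_lt_succ'' (forall_lt_succ'' (forall_lt_succ'' (forall_lt_succ'' (forall_lt_succ'' (forall_lt_succ'' (forall_lt_succ'' (forall_lt_succ'' forall_lt_zero'' fa_0) fa_1) fa_2) fa_3) fa_4) fa_5) fa_6) fa_7)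

theorem fb : ∀ i < 122760, (fixB (tr TT (List.replicate D.i D.ib)) (nat_lit 0 :: (lk.map Prod.fst ++ dead.map Prod.fst))) i = true :=
  all_of_blocks (d := 12) (m := 30) (by decide) (forall_lt_succ'' (forall_lt_succ'' (forall_lt_succ'' (forall_lt_succ'' (forall_lt_succ'' (forall_lt_succ'' (forall_lt_succ'' (forall_lt_succ'' (forall_lt_succ'' (forall_lt_succ'' (forall_lt_succ'' (forall_lt_succ'' (forall_lt_succ'' (forall_lt_succ'' (forall_lt_succ'' (forall_lt_succ'' (forall_lt_succ'' (forall_lt_succ'' (forall_lt_succ'' (forall_lt_succ'' (forall_lt_succ'' (forall_lt_succ'' (forall_lt_succ'' (forall_lt_succ'' (forall_lt_succ'' (forall_lt_succ'' (forall_lt_succ'' (forall_lt_succ'' (forall_lt_succ'' (forall_lt_succ'' forall_lt_zero'' fb_0) fb_1) fb_2) fb_3) fb_4) fb_5) fb_6) fb_7) fb_8) fb_9) fb_10) fb_11) fb_12) fb_13) fb_14) fb_15) fb_16) fb_17) fb_18) fb_19) fb_20) fb_21) fb_22) fb_23) fb_24) fb_25) fb_26) fb_27) fb_28) fb_29)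

theorem sub : ∀ i < 5586, (subB TT U TH Wh (nat_lit 122760) (nat_lit 5586)) i = true :=
  all_of_blocks (d := 10) (m := 6) (by decide) (forall_lt_succ'' (forall_lt_succ'' (forall_lt_succ'' (forall_lt_succ'' (forall_lt_succ'' (forall_lt_succ'' forall_lt_zero'' sub_0) sub_1) sub_2) sub_3) sub_4) sub_5)

theorem slpH : ∀ i < 5586, (slpB TH WH Wh.length) i = true :=
  all_of_blocks (d := 10) (m := 6) (by decide) (forall_lt_succ'' (forall_lt_succ'' (forall_lt_succ'' (forall_lt_succ'' (forall_lt_succ'' (forall_lt_succ'' forall_lt_zero'' slpH_0) slpH_1) slpH_2) slpH_3) slpH_4) slpH_5)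

theorem ptLa : ∀ i < 5586, (La0.toLv.ptB TH (nat_lit 5586)) i = true :=
  all_of_blocks (d := 13) (m := 1) (by decide) (forall_lt_succ'' forall_lt_zero'' ptLa_0)

theorem chLa : ChainChk TH 5586 23 ((La0 :: Las).map SLv.toLv) [] :=
  ⟨by decide +kernel, ptLa, chainChk_of chLa1⟩

theorem scLa : ∀ i < 5586, (scanB TH iv (tr TH [nat_lit 0]) La0 Las []) i = true :=
  all_of_blocks (d := 13) (m := 1) (by decide) (forall_lt_succ'' forall_lt_zero'' scLa_0)

theorem ptLb : ∀ i < 5586, (Lb0.toLv.ptB TH (nat_lit 5586)) i = true :=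
  all_of_blocks (d := 13) (m := 1) (by decide) (forall_lt_succ'' forall_lt_zero'' ptLb_0)

theorem chLb : ChainChk TH 5586 23 ((Lb0 :: Lbs).map SLv.toLv) [] :=
  ⟨by decide +kernel, ptLb, chainChk_of chLb1⟩

theorem scLb : ∀ i < 5586, (scanB TH iv (tr TH (List.replicate D.i (nat_lit 1))) Lb0 Lbs []) i = true :=
  all_of_blocks (d := 13) (m := 1) (by decide) (forall_lt_succ'' forall_lt_zero'' scLb_0)

theorem okH {K : Type*} [Group K] [Finite K] (A : RA K 5586) (g0 : ℕ → K) (hT : A.Tab g0 Wh.length TH)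
    (hle : Nat.card K ≤ 3753792) : RA.HOK A g0 Wh.length BH (nat_lit 0) (List.replicate D.i (nat_lit 1))
      (linkWs (Lb0 :: Lbs)) ys 3753792 :=
  RA.hOK_of hT (by decide +kernel) slpH (by decide +kernel) hle chLa (by decide +kernel) chLb
    (by decide +kernel) (by decide +kernel) (iv := iv) (by decide +kernel) scLa
    (by decide +kernel) scLb (by decide +kernel) nc

theorem ok {G : Type*} [Group G] [Finite G] {A : RA G 122760} {g0 : ℕ → G} (hT : A.Tab g0 8 T)
    (hle : Nat.card G ≤ 460815505920) : ∃ g : ℕ → G, (∀ s < 8, g s = g0 s) ∧ RA.OutOK A g 16 TT B D 460815505920 := by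
  obtain ⟨g1, h1, e1⟩ := hT.extend2 (L := SW) (by decide +kernel) slp
  have h2 : A.Tab g1 8 T := h1
  refine ⟨_, fun s hs => ?_, bigOK_of (h2.derive2 (Wd := Wd) (by decide +kernel) 16) (n' := 3753792)
    hle trans (by decide +kernel) sub (fun K _ _ A' g0 h h' => okH A' g0 h h') (by decide +kernel)
    bigS fa fb⟩
  rw [if_pos (by omega), e1 s hs]

instance instFinite : Finite Cfsg.Spor.ON := L0.ONG.card_le.1

theorem exists_ra : ∃ A : RA Cfsg.Spor.ON 122760, A.Tab L0.ONG.x 8 T := by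
  obtain ⟨A, hA⟩ := L0.ONG.exists_act
  exact ⟨_, RA.Tab.ofRAct hA⟩

theorem card_out : Nat.card (Cfsg.Out Cfsg.Spor.ON) = 2 := by
  obtain ⟨A, hA⟩ := exists_ra
  obtain ⟨g, hg, h⟩ := ok hA L0.ONG.card_le.2
  have hs : allL sig (ltB 16) = true := by decide +kernel
  obtain ⟨f, hf⟩ := L0.ONG.isPres.exists_hom (fun s => L0.ev g (L0.nthW sig s))
    (RA.relB_spec h.tab h.base hs relS)
  refine h.out_two (by decide) chk outS (RA.exists_aut_pres h.tab h.base (fun S hS => ?_) sigS f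
    fun s hs => by rw [hg s hs]; exact hf s hs)
  rw [eq_top_iff, ← L0.ONG.isPres.gen_top]
  exact L0.genL_le fun y hy => hg y (List.mem_range.mp hy) ▸ hS y (List.mem_range.mp hy)

theorem pub : ∃ (A : L0.RAct Cfsg.Spor.ON 122760) (g : ℕ → Cfsg.Spor.ON), (∀ s < 8, g s = L0.ONG.x s) ∧ A.Tab g 16 TT ∧
    A.IsBase B ∧ Nat.card Cfsg.Spor.ON = 460815505920 ∧ Subgroup.closure {g D.ia, g D.ib, g D.it} = ⊤ := by
  obtain ⟨A, hA⟩ := exists_ra
  obtain ⟨g', hg, h⟩ := ok hA L0.ONG.card_le.2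
  exact ⟨_, g', hg, h.pub⟩

end Cfsg.Agent.H9.OutON
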