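import Cfsg.Agent.H9.Big2

/-! Automorphisms given by the images of the generators of a presentation. -/

set_option autoImplicit false

namespace Cfsg.Agent.H9

open Cfsg.Agent.L0 (ev ev_nil ev_cons ev_append ev_mem nthW nthW_mem nthW_eq map_ev ev_congr)

/-- the table of a list of words -/
noncomputable def TW (T : ℕ → ℕ → ℕ) (W : List (List ℕ)) (c s : ℕ) : ℕ := tr T (nthW W s) c

/-- the images `sig` satisfy the relators -/
noncomputable def relB (T : ℕ → ℕ → ℕ) (B : List ℕ) (sig R : List (List ℕ)) : Bool :=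
  allL R fun r => RA.agree B (tr (TW T sig) r) fun b => b

/-- the square of the map is conjugation by `n`, and the three elements have the given images -/
noncomputable def sigB (T : ℕ → ℕ → ℕ) (k k0 : ℕ) (B : List ℕ) (sig : List (List ℕ)) (D : OD)
    (n wa wb wt : List ℕ) : Bool :=
  Nat.ble k0 k && allL sig (ltB k0) && ltB k n && ltB k0 wa && ltB k0 wb && ltB k0 wt &&
  Nat.blt D.ia k && Nat.blt D.ib k && Nat.blt D.it k && ltB k D.a' && ltB k D.t' &&
  (allLt k0 fun s => RA.agree B (fun c => tr (TW T sig) (nthW sig s) (tr T n c)) (tr T (s :: n))) &&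
  RA.agree B (tr T [D.ia]) (tr T wa) && RA.agree B (tr T [D.ib]) (tr T wb) &&
  RA.agree B (tr T [D.it]) (tr T wt) &&
  RA.agree B (tr (TW T sig) wa) (tr T D.a') && RA.agree B (tr (TW T sig) wb) (tr T [D.ib]) &&
  RA.agree B (tr (TW T sig) wt) (tr T D.t')

namespace RA

variable {G : Type*} [Group G] {N : ℕ} {A : RA G N} {g : ℕ → G} {k : ℕ} {T : ℕ → ℕ → ℕ}

theorem nthW_lt {W : List (List ℕ)} (hW : allL W (ltB k) = true) (s : ℕ) : ∀ y ∈ nthW W s, y < k := by
  intro y hy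
  rcases nthW_mem W s with h1 | h1
  · rw [h1] at hy; simp at hy
  · exact ltB_iff.mp ((allL_iff _ _).mp hW _ h1) y hy

theorem Tab.TW (hT : A.Tab g k T) {W : List (List ℕ)} (hW : ∀ s, ∀ y ∈ nthW W s, y < k)
    (w : List ℕ) : A.Fn (ev (fun s => ev g (nthW W s)) w) (H9.tr (H9.TW T W) w) := by
  have : A.Tab (fun s => ev g (nthW W s)) (w.sum + 1) (H9.TW T W) :=
    fun s _ c hc => hT.tr (hW s) c hc
  exact this.tr fun _ hy => Nat.lt_succ_of_le (List.single_le_sum (fun _ _ => Nat.zero_le _) _ hy)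

theorem relB_spec (hT : A.Tab g k T) {B : List ℕ} (hB : A.IsBase B) {sig R : List (List ℕ)}
    (hW : allL sig (ltB k) = true) (h : relB T B sig R = true) :
    ∀ r ∈ R, ev (fun s => ev g (nthW sig s)) r = 1 := fun r hr =>
  hB.eq (hT.TW (nthW_lt hW) r) fn_one ((allL_iff _ _).mp h r hr)

theorem exists_aut_pres [Finite G] (hT : A.Tab g k T) {B : List ℕ} (hB : A.IsBase B) {k0 : ℕ}
    (hgen : ∀ S : Subgroup G, (∀ s < k0, g s ∈ S) → S = ⊤) {sig : List (List ℕ)} {D : OD}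
    {n wa wb wt : List ℕ} (h : sigB T k k0 B sig D n wa wb wt = true) (f : G →* G)
    (hf : ∀ s < k0, f (g s) = ev g (nthW sig s)) :
    ∃ σ : MulAut G, σ (g D.ia) = ev g D.a' ∧ σ (g D.ib) = g D.ib ∧ σ (g D.it) = ev g D.t' := by
  simp only [sigB, Bool.and_eq_true, Nat.ble_eq, Nat.blt_eq, ltB_iff, allLt_iff] at h
  obtain ⟨⟨⟨⟨⟨⟨⟨⟨⟨⟨⟨⟨⟨⟨⟨⟨⟨hk, h1⟩, hn⟩, ha⟩, hb⟩, ht⟩, ia⟩, ib⟩, it⟩, ha'⟩, ht'⟩, h2⟩, h3⟩, h4⟩, h5⟩,
    h6⟩, h7⟩, h8⟩ := h
  have hs := nthW_lt h1
  have hs' : ∀ s, ∀ y ∈ nthW sig s, y < k := fun s y hy => (hs s y hy).trans_le hk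
  have up : ∀ {w : List ℕ}, (∀ y ∈ w, y < k0) → ∀ y ∈ w, y < k := fun h y hy => (h y hy).trans_le hk
  have key : ∀ {w : List ℕ}, (∀ y ∈ w, y < k0) →
      f (ev g w) = ev (fun s => ev g (nthW sig s)) w := fun h => by
    rw [map_ev]; exact ev_congr fun y hy => hf y (h y hy)
  have hff : ∀ x, ev g n * f (f x) = x * ev g n := by
    have := hgen ((f.comp f).eqLocus (MulAut.conj (ev g n)⁻¹).toMonoidHom) fun s hs0 => by
      have := hB.eq ((hT.tr hn).comp (hT.TW hs' (nthW sig s)))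
        (hT.tr (lt_cons (hs0.trans_le hk) hn)) (h2 s hs0)
      rw [← key (hs s), ← hf s hs0, ev_cons] at this
      show f (f (g s)) = (ev g n)⁻¹ * g s * (ev g n)⁻¹⁻¹
      rw [inv_inv, mul_assoc, ← this]; group
    intro x
    have hx : x ∈ (f.comp f).eqLocus (MulAut.conj (ev g n)⁻¹).toMonoidHom := this ▸ Subgroup.mem_top x
    have hx' : f (f x) = (ev g n)⁻¹ * x * (ev g n)⁻¹⁻¹ := hx
    rw [hx']; group
  have hinj : Function.Injective f := by
    rw [injective_iff_map_eq_one]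
    intro x hx
    have := hff x
    rw [hx, map_one, mul_one] at this
    exact (mul_eq_right.mp this.symm)
  have fin : ∀ {i : ℕ} {w w' : List ℕ}, i < k → (∀ y ∈ w, y < k0) → (∀ y ∈ w', y < k) →
      agree B (H9.tr T [i]) (H9.tr T w) = true → agree B (H9.tr (H9.TW T sig) w) (H9.tr T w') = true →
      f (g i) = ev g w' := by
    intro i w w' hi hw hw' e1 e2
    have a1 := hB.eq (hT.tr (lt_one hi)) (hT.tr (up hw)) e1
    rw [L0.ev_singleton] at a1
    rw [a1, key hw]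
    exact hB.eq (hT.TW hs' w) (hT.tr hw') e2
  refine ⟨MulEquiv.ofBijective f (Finite.injective_iff_bijective.mp hinj), fin ia ha ha' h3 h6, ?_,
    fin it ht ht' h5 h8⟩
  exact (fin ib hb (lt_one ib) h4 h7).trans (L0.ev_singleton _ _)

end RA

end Cfsg.Agent.H9
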