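import Cfsg.Agent.L0.ON.Cov3T
import Cfsg.Agent.H9.PresAut
import Cfsg.Agent.H9.OutONL0

/-! The outer automorphism group of ON. Data. -/

set_option autoImplicit false
set_option maxRecDepth 100000

namespace Cfsg.Agent.H9.OutON

noncomputable def T : ℕ → ℕ → ℕ := L0.tgt L0.ONCov3.E (nat_lit 2)

def SW : List (ℕ × List ℕ) := []

def Wd : List (List ℕ) := [[nat_lit 5, nat_lit 6, nat_lit 3, nat_lit 2, nat_lit 4, nat_lit 1], [nat_lit 1, nat_lit 5, nat_lit 2, nat_lit 6, nat_lit 3, nat_lit 4, nat_lit 3, nat_lit 5, nat_lit 2, nat_lit 4, nat_lit 3, nat_lit 4, nat_lit 3, nat_lit 5, nat_lit 4, nat_lit 2, nat_lit 3, nat_lit 4, nat_lit 6, nat_lit 2, nat_lit 5, nat_lit 3, nat_lit 4, nat_lit 3, nat_lit 2, nat_lit 4, nat_lit 6], [nat_lit 4, nat_lit 3, nat_lit 0, nat_lit 4, nat_lit 5, nat_lit 4, nat_lit 3, nat_lit 7, nat_lit 2, nat_lit 5, nat_lit 3, nat_lit 4, nat_lit 1, nat_lit 2, nat_lit 3, nat_lit 4, nat_lit 2, nat_lit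 3, nat_lit 5, nat_lit 4, nat_lit 3, nat_lit 4, nat_lit 2, nat_lit 5, nat_lit 1, nat_lit 6], [nat_lit 1, nat_lit 4, nat_lit 2, nat_lit 3, nat_lit 6, nat_lit 5], [nat_lit 6, nat_lit 4, nat_lit 2, nat_lit 3, nat_lit 4, nat_lit 3, nat_lit 5, nat_lit 2, nat_lit 6, nat_lit 4, nat_lit 3, nat_lit 2, nat_lit 4, nat_lit 5, nat_lit 3, nat_lit 4, nat_lit 3, nat_lit 4, nat_lit 2, nat_lit 5, nat_lit 3, nat_lit 4, nat_lit 3, nat_lit 6, nat_lit 2, nat_lit 5, nat_lit 1], [nat_lit 6, nat_lit 1, nat_lit 5, nat_lit 2, nat_lit 4, nat_lit 3, nat_lit 4, nat_lit 5, nat_lit 3, nat_lit 2, nat_lit 4, nat_lit 3, nat_lit 2, nat_lit 1, nat_lit 4, nat_lit 3, nat_lit 5, nat_lit 2, nat_lit 0, nat_lit 3, nat_lit 4, nat_lit 5, nat_lit 4, nat_lit 7, nat_lit 3, nat_lit 4], [nat_lit 4, nat_lit 5, nat_lit 3, nat_lit 4, nat_lit 5, nat_lit 3, nat_lit 4, nat_lit 3, nat_lit 4, nat_lit 2, nat_lit 5, nat_lit 3, nat_lit 4, nat_lit 1, nat_lit 2, nat_lit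 3, nat_lit 4, nat_lit 2, nat_lit 3, nat_lit 5, nat_lit 4, nat_lit 3, nat_lit 4, nat_lit 2, nat_lit 5, nat_lit 1, nat_lit 6], [nat_lit 7, nat_lit 5, nat_lit 7, nat_lit 4, nat_lit 5, nat_lit 4, nat_lit 2, nat_lit 3, nat_lit 7, nat_lit 2, nat_lit 3, nat_lit 4, nat_lit 3, nat_lit 5, nat_lit 4, nat_lit 0, nat_lit 3, nat_lit 2, nat_lit 7, nat_lit 2, nat_lit 4, nat_lit 3, nat_lit 2, nat_lit 5, nat_lit 6, nat_lit 4, nat_lit 3, nat_lit 5, nat_lit 2, nat_lit 1]]

noncomputable def TT : ℕ → ℕ → ℕ := T2 T (nat_lit 8) Wd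

noncomputable def infB : L0.BT := (.node (.node (.node (.node (.node (.node (.leaf infB_0) (.leaf infB_32)) (.node (.leaf infB_16) (.leaf infB_48))) (.node (.node (.leaf infB_8) (.leaf infB_40)) (.node (.leaf infB_24) (.leaf infB_56)))) (.node (.node (.node (.leaf infB_4) (.leaf infB_36)) (.node (.leaf infB_20) (.leaf infB_52))) (.node (.node (.leaf infB_12) (.leaf infB_44)) (.leaf infB_28)))) (.node (.node (.node (.node (.leaf infB_2) (.leaf infB_34)) (.node (.leaf infB_18) (.leaf infB_50))) (.node (.node (.leaf infB_10) (.leaf infB_42)) (.node (.leaf infB_26) (.leaf infB_58)))) (.node (.node (.node (.leaf infB_6) (.leaf infB_38)) (.node (.leaf infB_22) (.leaf infB_54))) (.node (.node (.leaf infB_14) (.leaf infB_46)) (.leaf infB_30))))) (.node (.node (.node (.node (.node (.leaf infB_1) (.leaf infB_33)) (.node (.leaf infB_17) (.leaf infB_49))) (.node (.node (.leaf infB_9) (.leaf infB_41)) (.node (.leaf infB_25)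 (.leaf infB_57)))) (.node (.node (.node (.leaf infB_5) (.leaf infB_37)) (.node (.leaf infB_21) (.leaf infB_53))) (.node (.node (.leaf infB_13) (.leaf infB_45)) (.leaf infB_29)))) (.node (.node (.node (.node (.leaf infB_3) (.leaf infB_35)) (.node (.leaf infB_19) (.leaf infB_51))) (.node (.node (.leaf infB_11) (.leaf infB_43)) (.node (.leaf infB_27) (.leaf infB_59)))) (.node (.node (.node (.leaf infB_7) (.leaf infB_39)) (.node (.leaf infB_23) (.leaf infB_55))) (.node (.node (.leaf infB_15) (.leaf infB_47)) (.leaf infB_31))))))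

noncomputable def inf (c : ℕ) : ℕ := L0.rowOf infB (nat_lit 11) (nat_lit 2047) (nat_lit 10) (nat_lit 1023) c

noncomputable def UB : L0.BT := (.node (.node (.leaf UB_0) (.leaf UB_2)) (.leaf UB_1))

noncomputable def U (c : ℕ) : ℕ := L0.rowOf UB (nat_lit 11) (nat_lit 2047) (nat_lit 17) (nat_lit 131071) c

noncomputable def THB : L0.BT := (.node (.node (.node (.node (.node (.node (.node (.node (.leaf THB_0) (.leaf THB_128)) (.leaf THB_64)) (.node (.node (.leaf THB_32) (.leaf THB_160)) (.leaf THB_96))) (.node (.node (.node (.leaf THB_16) (.leaf THB_144)) (.leaf THB_80)) (.node (.node (.leaf THB_48) (.leaf THB_176)) (.leaf THB_112)))) (.node (.node (.node (.node (.leaf THB_8) (.leaf THB_136)) (.leaf THB_72)) (.node (.node (.leaf THB_40) (.leaf THB_168)) (.leaf THB_104))) (.node (.node (.node (.leaf THB_24) (.leaf THB_152)) (.leaf THB_88)) (.node (.leaf THB_56) (.leaf THB_120))))) (.node (.node (.node (.node (.node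 (.leaf THB_4) (.leaf THB_132)) (.leaf THB_68)) (.node (.node (.leaf THB_36) (.leaf THB_164)) (.leaf THB_100))) (.node (.node (.node (.leaf THB_20) (.leaf THB_148)) (.leaf THB_84)) (.node (.node (.leaf THB_52) (.leaf THB_180)) (.leaf THB_116)))) (.node (.node (.node (.node (.leaf THB_12) (.leaf THB_140)) (.leaf THB_76)) (.node (.node (.leaf THB_44) (.leaf THB_172)) (.leaf THB_108))) (.node (.node (.node (.leaf THB_28) (.leaf THB_156)) (.leaf THB_92)) (.node (.leaf THB_60) (.leaf THB_124)))))) (.node (.node (.node (.node (.node (.node (.leaf THB_2) (.leaf THB_130)) (.leaf THB_66)) (.node (.node (.leaf THB_34) (.leaf THB_162)) (.leaf THB_98))) (.node (.node (.node (.leaf THB_18) (.leaf THB_146)) (.leaf THB_82)) (.node (.node (.leaf THB_50) (.leaf THB_178)) (.leaf THB_114)))) (.node (.node (.node (.node (.leaf THB_10) (.leaf THB_138)) (.leaf THB_74)) (.node (.node (.leaf THB_42) (.leaf THB_170)) (.leaf THB_106)))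 (.node (.node (.node (.leaf THB_26) (.leaf THB_154)) (.leaf THB_90)) (.node (.leaf THB_58) (.leaf THB_122))))) (.node (.node (.node (.node (.node (.leaf (nat_lit 0)) (.leaf (nat_lit 0))) (.leaf (nat_lit 0))) (.node (.node (.leaf (nat_lit 0)) (.leaf (nat_lit 0))) (.leaf (nat_lit 0)))) (.node (.node (.node (.leaf (nat_lit 0)) (.leaf (nat_lit 0))) (.leaf (nat_lit 0))) (.node (.node (.leaf (nat_lit 0)) (.leaf (nat_lit 0))) (.leaf (nat_lit 0))))) (.node (.node (.node (.node (.leaf (nat_lit 0)) (.leaf (nat_lit 0))) (.leaf (nat_lit 0))) (.node (.node (.leaf (nat_lit 0)) (.leaf (nat_lit 0))) (.leaf (nat_lit 0)))) (.node (.node (.node (.leaf (nat_lit 0)) (.leaf (nat_lit 0))) (.leaf (nat_lit 0))) (.node (.leaf (nat_lit 0)) (.leaf (nat_lit 0)))))))) (.node (.node (.node (.node (.node (.node (.node (.leaf THB_1) (.leaf THB_129)) (.leaf THB_65)) (.node (.node (.leaf THB_33) (.leaf THB_161)) (.leaf THB_97))) (.node (.node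 (.node (.leaf THB_17) (.leaf THB_145)) (.leaf THB_81)) (.node (.node (.leaf THB_49) (.leaf THB_177)) (.leaf THB_113)))) (.node (.node (.node (.node (.leaf THB_9) (.leaf THB_137)) (.leaf THB_73)) (.node (.node (.leaf THB_41) (.leaf THB_169)) (.leaf THB_105))) (.node (.node (.node (.leaf THB_25) (.leaf THB_153)) (.leaf THB_89)) (.node (.leaf THB_57) (.leaf THB_121))))) (.node (.node (.node (.node (.node (.leaf THB_5) (.leaf THB_133)) (.leaf THB_69)) (.node (.node (.leaf THB_37) (.leaf THB_165)) (.leaf THB_101))) (.node (.node (.node (.leaf THB_21) (.leaf THB_149)) (.leaf THB_85)) (.node (.node (.leaf THB_53) (.leaf THB_181)) (.leaf THB_117)))) (.node (.node (.node (.node (.leaf THB_13) (.leaf THB_141)) (.leaf THB_77)) (.node (.node (.leaf THB_45) (.leaf THB_173)) (.leaf THB_109))) (.node (.node (.node (.leaf THB_29) (.leaf THB_157)) (.leaf THB_93)) (.node (.leaf THB_61) (.leaf THB_125)))))) (.node (.node (.node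 (.node (.node (.node (.leaf THB_3) (.leaf THB_131)) (.leaf THB_67)) (.node (.node (.leaf THB_35) (.leaf THB_163)) (.leaf THB_99))) (.node (.node (.node (.leaf THB_19) (.leaf THB_147)) (.leaf THB_83)) (.node (.node (.leaf THB_51) (.leaf THB_179)) (.leaf THB_115)))) (.node (.node (.node (.node (.leaf THB_11) (.leaf THB_139)) (.leaf THB_75)) (.node (.node (.leaf THB_43) (.leaf THB_171)) (.leaf THB_107))) (.node (.node (.node (.leaf THB_27) (.leaf THB_155)) (.leaf THB_91)) (.node (.leaf THB_59) (.leaf THB_123))))) (.node (.node (.node (.node (.node (.leaf (nat_lit 0)) (.leaf (nat_lit 0))) (.leaf (nat_lit 0))) (.node (.node (.leaf (nat_lit 0)) (.leaf (nat_lit 0))) (.leaf (nat_lit 0)))) (.node (.node (.node (.leaf (nat_lit 0)) (.leaf (nat_lit 0))) (.leaf (nat_lit 0))) (.node (.node (.leaf (nat_lit 0)) (.leaf (nat_lit 0))) (.leaf (nat_lit 0))))) (.node (.node (.node (.node (.leaf (nat_lit 0)) (.leaf (nat_lit 0)))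 (.leaf (nat_lit 0))) (.node (.node (.leaf (nat_lit 0)) (.leaf (nat_lit 0))) (.leaf (nat_lit 0)))) (.node (.node (.node (.leaf (nat_lit 0)) (.leaf (nat_lit 0))) (.leaf (nat_lit 0))) (.node (.leaf (nat_lit 0)) (.leaf (nat_lit 0)))))))))

noncomputable def THG (s j : ℕ) : ℕ := L0.BT.get THB (Nat.add (Nat.mul s (nat_lit 8)) j)

noncomputable def TH (c s : ℕ) : ℕ := Nat.rec (motive := fun _ => ℕ) 0 (fun j _ => Nat.land (Nat.shiftRight (THG s j) (Nat.mul (nat_lit 13) (Nat.land c (nat_lit 1023)))) (nat_lit 8191)) (Nat.succ (Nat.shiftRight c (nat_lit 10)))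

def Wh : List (List ℕ) := [[nat_lit 8], [nat_lit 9], [nat_lit 14], [nat_lit 0, nat_lit 3, nat_lit 5, nat_lit 7, nat_lit 4, nat_lit 5, nat_lit 2, nat_lit 4, nat_lit 3, nat_lit 4, nat_lit 3, nat_lit 4, nat_lit 5, nat_lit 4, nat_lit 2, nat_lit 3, nat_lit 4, nat_lit 3, nat_lit 4, nat_lit 9, nat_lit 4, nat_lit 3, nat_lit 4, nat_lit 3, nat_lit 2, nat_lit 4, nat_lit 5, nat_lit 4, nat_lit 3, nat_lit 4, nat_lit 3, nat_lit 4, nat_lit 2, nat_lit 5, nat_lit 4, nat_lit 0, nat_lit 5, nat_lit 3, nat_lit 7]]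

def WH : List (List ℕ) := [[nat_lit 3, nat_lit 3, nat_lit 1], [nat_lit 0, nat_lit 1, nat_lit 4], [nat_lit 0, nat_lit 3, nat_lit 2, nat_lit 5, nat_lit 4, nat_lit 3, nat_lit 0], [nat_lit 0, nat_lit 2, nat_lit 2, nat_lit 0, nat_lit 3, nat_lit 3], [nat_lit 4, nat_lit 3, nat_lit 0, nat_lit 1, nat_lit 4, nat_lit 2, nat_lit 0, nat_lit 0, nat_lit 4, nat_lit 0], [nat_lit 7, nat_lit 8, nat_lit 8, nat_lit 7, nat_lit 7, nat_lit 6], [nat_lit 6, nat_lit 7, nat_lit 8, nat_lit 7, nat_lit 7, nat_lit 7], [nat_lit 8, nat_lit 6, nat_lit 6, nat_lit 7, nat_lit 8, nat_lit 7], [nat_lit 9, nat_lit 11, nat_lit 11, nat_lit 10, nat_lit 9, nat_lit 9], [nat_lit 11, nat_lit 10, nat_lit 11, nat_lit 9, nat_lit 11, nat_lit 9], [nat_lit 3, nat_lit 9, nat_lit 5, nat_lit 3], [nat_lit 3, nat_lit 10, nat_lit 7, nat_lit 1, nat_lit 9, nat_lit 8, nat_lit 11, nat_lit 0], [nat_lit 13, nat_lit 10, nat_lit 12, nat_lit 13, nat_lit 11, nat_lit 9], [nat_lit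 16, nat_lit 15, nat_lit 16, nat_lit 14, nat_lit 15, nat_lit 14, nat_lit 14, nat_lit 14, nat_lit 14], [nat_lit 16, nat_lit 14, nat_lit 14, nat_lit 15, nat_lit 15], [nat_lit 14, nat_lit 14, nat_lit 15, nat_lit 14, nat_lit 14], [nat_lit 15, nat_lit 16, nat_lit 14], [nat_lit 19, nat_lit 18], [nat_lit 17, nat_lit 20]]

noncomputable def ordT (c : ℕ) : ℕ := Nat.land (Nat.shiftRight ordTD (Nat.mul (nat_lit 5) c)) (nat_lit 31)

noncomputable def iv (s : ℕ) : List ℕ := List.replicate (ordT s) s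

noncomputable def La0t (c : ℕ) : ℕ := Nat.land (Nat.shiftRight La0tD (Nat.mul (nat_lit 4) c)) (nat_lit 15)

noncomputable def La0 : SLv := ⟨⟨nat_lit 893, La0t, nat_lit 16383, nat_lit 6, nat_lit 5586, fun i => i⟩, true, [nat_lit 2163, nat_lit 1952, nat_lit 4976, nat_lit 4937, nat_lit 1686, nat_lit 1672, nat_lit 1780, nat_lit 2943, nat_lit 1201, nat_lit 2294, nat_lit 3872, nat_lit 3139, nat_lit 4334, nat_lit 2608, nat_lit 1029, nat_lit 1134, nat_lit 3449, nat_lit 1671, nat_lit 893], [nat_lit 0], nat_lit 18, []⟩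

noncomputable def La1t (c : ℕ) : ℕ := Nat.land (Nat.shiftRight La1tD (Nat.mul (nat_lit 4) c)) (nat_lit 15)

noncomputable def La1p (c : ℕ) : ℕ := Nat.land (Nat.shiftRight La1pD (Nat.mul (nat_lit 13) c)) (nat_lit 8191)

noncomputable def La1 : SLv := ⟨⟨nat_lit 2163, La1t, nat_lit 15296, nat_lit 4, nat_lit 21, La1p⟩, false, [], [], nat_lit 0, []⟩

noncomputable def La2t (c : ℕ) : ℕ := Nat.land (Nat.shiftRight La2tD (Nat.mul (nat_lit 4) c)) (nat_lit 15)

noncomputable def La2p (c : ℕ) : ℕ := Nat.land (Nat.shiftRight La2pD (Nat.mul (nat_lit 13) c)) (nat_lit 8191)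

noncomputable def La2 : SLv := ⟨⟨nat_lit 1952, La2t, nat_lit 11776, nat_lit 3, nat_lit 8, La2p⟩, false, [], [], nat_lit 0, []⟩

noncomputable def La3t (c : ℕ) : ℕ := Nat.land (Nat.shiftRight La3tD (Nat.mul (nat_lit 4) c)) (nat_lit 15)

noncomputable def La3p (c : ℕ) : ℕ := Nat.land (Nat.shiftRight La3pD (Nat.mul (nat_lit 13) c)) (nat_lit 8191)

noncomputable def La3 : SLv := ⟨⟨nat_lit 4976, La3t, nat_lit 12288, nat_lit 3, nat_lit 4, La3p⟩, false, [], [], nat_lit 0, []⟩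

noncomputable def Las : List SLv := [La1, La2, La3]

noncomputable def Lb0t (c : ℕ) : ℕ := Nat.land (Nat.shiftRight Lb0tD (Nat.mul (nat_lit 5) c)) (nat_lit 31)

noncomputable def Lb0 : SLv := ⟨⟨nat_lit 196, Lb0t, nat_lit 8388607, nat_lit 5, nat_lit 5586, fun i => i⟩, true, [nat_lit 4765, nat_lit 3097, nat_lit 2131, nat_lit 4405, nat_lit 1751, nat_lit 196], [nat_lit 1], nat_lit 5, [(nat_lit 1836, [nat_lit 2, nat_lit 2, nat_lit 2])]⟩

noncomputable def Lb1t (c : ℕ) : ℕ := Nat.land (Nat.shiftRight Lb1tD (Nat.mul (nat_lit 5) c)) (nat_lit 31)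

noncomputable def Lb1p (c : ℕ) : ℕ := Nat.land (Nat.shiftRight Lb1pD (Nat.mul (nat_lit 13) c)) (nat_lit 8191)

noncomputable def Lb1 : SLv := ⟨⟨nat_lit 4765, Lb1t, nat_lit 5226496, nat_lit 4, nat_lit 21, Lb1p⟩, false, [], [], nat_lit 0, []⟩

noncomputable def Lb2t (c : ℕ) : ℕ := Nat.land (Nat.shiftRight Lb2tD (Nat.mul (nat_lit 5) c)) (nat_lit 31)

noncomputable def Lb2p (c : ℕ) : ℕ := Nat.land (Nat.shiftRight Lb2pD (Nat.mul (nat_lit 13) c)) (nat_lit 8191)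

noncomputable def Lb2 : SLv := ⟨⟨nat_lit 3097, Lb2t, nat_lit 1966080, nat_lit 4, nat_lit 8, Lb2p⟩, false, [], [], nat_lit 0, []⟩

noncomputable def Lb3t (c : ℕ) : ℕ := Nat.land (Nat.shiftRight Lb3tD (Nat.mul (nat_lit 5) c)) (nat_lit 31)

noncomputable def Lb3p (c : ℕ) : ℕ := Nat.land (Nat.shiftRight Lb3pD (Nat.mul (nat_lit 13) c)) (nat_lit 8191)

noncomputable def Lb3 : SLv := ⟨⟨nat_lit 2131, Lb3t, nat_lit 6291456, nat_lit 3, nat_lit 4, Lb3p⟩, false, [], [], nat_lit 0, []⟩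

noncomputable def Lbs : List SLv := [Lb1, Lb2, Lb3]

def B : List ℕ := [nat_lit 0, nat_lit 18133, nat_lit 44027, nat_lit 39215, nat_lit 109156]

def BH : List ℕ := [nat_lit 893, nat_lit 2163, nat_lit 1952, nat_lit 4976]

def D : OD := ⟨nat_lit 8, nat_lit 9, nat_lit 10, nat_lit 19, nat_lit 8, nat_lit 1, nat_lit 5, [nat_lit 1, nat_lit 2, nat_lit 4],
  [(nat_lit 24789992915993751041282280, []), (nat_lit 25102762177479121327979160, [nat_lit 9]), (nat_lit 5668922091507723621932040, [nat_lit 14]), (nat_lit 17765948690444852807116983, [nat_lit 15]), (nat_lit 10113190726907284507295640, [nat_lit 9, nat_lit 9]), (nat_lit 9992733302769219189000, [nat_lit 14, nat_lit 14]), (nat_lit 13178876172123697461759960, [nat_lit 9, nat_lit 14]), (nat_lit 5220210933127373918985663, [nat_lit 9, nat_lit 15]), (nat_lit 13759170376311337153683183, [nat_lit 14, nat_lit 15]), (nat_lit 23079085669199381370928143, [nat_lit 15, nat_lit 14]),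 (nat_lit 26637740586361911112283394, [nat_lit 15, nat_lit 15]), (nat_lit 7856518808111697640956600, [nat_lit 9, nat_lit 9, nat_lit 9]), (nat_lit 24337355121718861149789840, [nat_lit 9, nat_lit 9, nat_lit 14]), (nat_lit 10107537067887255498007440, [nat_lit 14, nat_lit 14, nat_lit 14]), (nat_lit 4683606576034967172745560, [nat_lit 9, nat_lit 14, nat_lit 14]), (nat_lit 19361545253547576861300063, [nat_lit 9, nat_lit 14, nat_lit 15]), (nat_lit 13490298493878091279371423, [nat_lit 9, nat_lit 15, nat_lit 14]), (nat_lit 8102019096258509716810863, [nat_lit 9, nat_lit 9, nat_lit 15]), (nat_lit 17639977762148303371412103, [nat_lit 14, nat_lit 14, nat_lit 15]), (nat_lit 5800525646110547666047434, [nat_lit 9, nat_lit 15, nat_lit 15]), (nat_lit 19511065242936632660669514, [nat_lit 14, nat_lit 15, nat_lit 15]), (nat_lit 5276694977883744169586994, [nat_lit 15, nat_lit 14, nat_lit 15]), (nat_lit 25886435077582759840142202,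 [nat_lit 15, nat_lit 15, nat_lit 15]), (nat_lit 24961921678778945272366680, [nat_lit 9, nat_lit 14, nat_lit 14, nat_lit 14]), (nat_lit 16162480118780946377127360, [nat_lit 9, nat_lit 9, nat_lit 9, nat_lit 14]), (nat_lit 3711039886169539977256143, [nat_lit 9, nat_lit 14, nat_lit 14, nat_lit 15]), (nat_lit 3599351582256229375972743, [nat_lit 9, nat_lit 9, nat_lit 15, nat_lit 14]), (nat_lit 20438643429552852770433063, [nat_lit 9, nat_lit 9, nat_lit 9, nat_lit 15]), (nat_lit 23204797906158231074866743, [nat_lit 9, nat_lit 9, nat_lit 14, nat_lit 15]), (nat_lit 473741935943630059637552, [nat_lit 15, nat_lit 15, nat_lit 15, nat_lit 15]), (nat_lit 4390044503969447304534594, [nat_lit 14, nat_lit 14, nat_lit 15, nat_lit 15]), (nat_lit 10779514013978177390707914, [nat_lit 9, nat_lit 15, nat_lit 14, nat_lit 15]), (nat_lit 2882540380563390689212914, [nat_lit 9, nat_lit 9, nat_lit 15, nat_lit 15]), (nat_lit 5902169380797905864994474,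 [nat_lit 9, nat_lit 14, nat_lit 15, nat_lit 15]), (nat_lit 620833274270235712407282, [nat_lit 15, nat_lit 14, nat_lit 15, nat_lit 15]), (nat_lit 167227596773940389501562, [nat_lit 14, nat_lit 15, nat_lit 15, nat_lit 15]), (nat_lit 27583841428971030943206522, [nat_lit 9, nat_lit 15, nat_lit 15, nat_lit 15]), (nat_lit 19175208040723753008164074, [nat_lit 15, nat_lit 15, nat_lit 15, nat_lit 15, nat_lit 15]), (nat_lit 24362967908063136240306632, [nat_lit 9, nat_lit 15, nat_lit 15, nat_lit 15, nat_lit 15]), (nat_lit 7664758641145648399659032, [nat_lit 15, nat_lit 14, nat_lit 15, nat_lit 15, nat_lit 15]), (nat_lit 19751526863961485793144752, [nat_lit 14, nat_lit 15, nat_lit 15, nat_lit 15, nat_lit 15]), (nat_lit 7113752549628573559796874, [nat_lit 9, nat_lit 9, nat_lit 9, nat_lit 15, nat_lit 15]), (nat_lit 6517196204912439874186554, [nat_lit 9, nat_lit 14, nat_lit 14, nat_lit 15, nat_lit 15]), (nat_lit 12285235763092727524632474,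 [nat_lit 9, nat_lit 9, nat_lit 14, nat_lit 15, nat_lit 15]), (nat_lit 4846130213754284969347314, [nat_lit 9, nat_lit 9, nat_lit 15, nat_lit 14, nat_lit 15]), (nat_lit 24477034642267460106523362, [nat_lit 9, nat_lit 15, nat_lit 14, nat_lit 15, nat_lit 15]), (nat_lit 21650643853698892575550722, [nat_lit 9, nat_lit 14, nat_lit 15, nat_lit 15, nat_lit 15]), (nat_lit 22846554429703787837626242, [nat_lit 14, nat_lit 14, nat_lit 15, nat_lit 15, nat_lit 15]), (nat_lit 1895374021173056213824122, [nat_lit 9, nat_lit 9, nat_lit 15, nat_lit 15, nat_lit 15]), (nat_lit 305829453235436586256954, [nat_lit 15, nat_lit 14, nat_lit 15, nat_lit 15, nat_lit 15, nat_lit 15]), (nat_lit 6169823437443468662400034, [nat_lit 14, nat_lit 15, nat_lit 15, nat_lit 15, nat_lit 15, nat_lit 15]), (nat_lit 8374133536658845871636434, [nat_lit 9, nat_lit 15, nat_lit 15, nat_lit 15, nat_lit 15, nat_lit 15]), (nat_lit 5995515604265957411037632,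 [nat_lit 14, nat_lit 14, nat_lit 15, nat_lit 15, nat_lit 15, nat_lit 15]), (nat_lit 6530801851574966747628632, [nat_lit 9, nat_lit 15, nat_lit 14, nat_lit 15, nat_lit 15, nat_lit 15]), (nat_lit 23322923373191472690593312, [nat_lit 9, nat_lit 14, nat_lit 15, nat_lit 15, nat_lit 15, nat_lit 15]), (nat_lit 16848685008793096478023592, [nat_lit 9, nat_lit 9, nat_lit 15, nat_lit 15, nat_lit 15, nat_lit 15]), (nat_lit 24730243179234323944768962, [nat_lit 9, nat_lit 9, nat_lit 9, nat_lit 15, nat_lit 15, nat_lit 15]), (nat_lit 24248232523920783766969482, [nat_lit 9, nat_lit 9, nat_lit 15, nat_lit 14, nat_lit 15, nat_lit 15]), (nat_lit 6359297430932336968471482, [nat_lit 9, nat_lit 14, nat_lit 14, nat_lit 15, nat_lit 15, nat_lit 15]), (nat_lit 5399520256978822975173162, [nat_lit 9, nat_lit 9, nat_lit 14, nat_lit 15, nat_lit 15, nat_lit 15]), (nat_lit 10479268569094793382000514, [nat_lit 14, nat_lit 14, nat_lit 15, nat_lit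 15, nat_lit 15, nat_lit 15, nat_lit 15]), (nat_lit 15695964377569658125865074, [nat_lit 9, nat_lit 9, nat_lit 15, nat_lit 15, nat_lit 15, nat_lit 15, nat_lit 15]), (nat_lit 15466951339808573844791914, [nat_lit 9, nat_lit 15, nat_lit 14, nat_lit 15, nat_lit 15, nat_lit 15, nat_lit 15]), (nat_lit 19909566793454009190623554, [nat_lit 9, nat_lit 14, nat_lit 15, nat_lit 15, nat_lit 15, nat_lit 15, nat_lit 15]), (nat_lit 26835209765824300472895752, [nat_lit 9, nat_lit 9, nat_lit 9, nat_lit 15, nat_lit 15, nat_lit 15, nat_lit 15]), (nat_lit 22726888723060325763645152, [nat_lit 9, nat_lit 9, nat_lit 15, nat_lit 14, nat_lit 15, nat_lit 15, nat_lit 15]), (nat_lit 25641747491474220720091472, [nat_lit 9, nat_lit 14, nat_lit 14, nat_lit 15, nat_lit 15, nat_lit 15, nat_lit 15]), (nat_lit 22458031183902094083828992, [nat_lit 9, nat_lit 9, nat_lit 14, nat_lit 15, nat_lit 15, nat_lit 15, nat_lit 15]), (nat_lit 11456151625246940580220834,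 [nat_lit 9, nat_lit 9, nat_lit 9, nat_lit 15, nat_lit 15, nat_lit 15, nat_lit 15, nat_lit 15]), (nat_lit 15333799963656673861516714, [nat_lit 9, nat_lit 14, nat_lit 14, nat_lit 15, nat_lit 15, nat_lit 15, nat_lit 15, nat_lit 15]), (nat_lit 19434469404022825115304274, [nat_lit 9, nat_lit 9, nat_lit 15, nat_lit 14, nat_lit 15, nat_lit 15, nat_lit 15, nat_lit 15]), (nat_lit 13839014478571731972804874, [nat_lit 9, nat_lit 9, nat_lit 14, nat_lit 15, nat_lit 15, nat_lit 15, nat_lit 15, nat_lit 15])],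
  [[nat_lit 2, nat_lit 2, nat_lit 0, nat_lit 2, nat_lit 2, nat_lit 0], [nat_lit 2, nat_lit 0, nat_lit 1, nat_lit 2, nat_lit 0, nat_lit 1, nat_lit 2, nat_lit 0, nat_lit 1, nat_lit 2, nat_lit 0, nat_lit 1, nat_lit 2, nat_lit 0, nat_lit 1, nat_lit 2, nat_lit 0, nat_lit 1, nat_lit 2, nat_lit 0, nat_lit 1, nat_lit 2, nat_lit 0, nat_lit 1, nat_lit 2, nat_lit 0, nat_lit 1, nat_lit 2, nat_lit 0, nat_lit 1], [nat_lit 2, nat_lit 0, nat_lit 0, nat_lit 2, nat_lit 0, nat_lit 0, nat_lit 2, nat_lit 0, nat_lit 0, nat_lit 2, nat_lit 0, nat_lit 0, nat_lit 2, nat_lit 0, nat_lit 0, nat_lit 2, nat_lit 0, nat_lit 0, nat_lit 2, nat_lit 0, nat_lit 0, nat_lit 2, nat_lit 0, nat_lit 0, nat_lit 2, nat_lit 0, nat_lit 0, nat_lit 2, nat_lit 0, nat_lit 0]],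
  [[]], [[]], [nat_lit 8], [nat_lit 9, nat_lit 9, nat_lit 9, nat_lit 10]⟩

def lk : List (ℕ × List ℕ) := [(nat_lit 303, [nat_lit 15, nat_lit 15, nat_lit 15, nat_lit 15, nat_lit 15]), (nat_lit 55714, [nat_lit 15]), (nat_lit 71912, [nat_lit 15, nat_lit 15]), (nat_lit 72234, [nat_lit 15, nat_lit 15, nat_lit 15, nat_lit 15]), (nat_lit 96162, [nat_lit 15, nat_lit 15, nat_lit 15])]

def gl : List (ℕ × List ℕ) := [(nat_lit 11, [nat_lit 8, nat_lit 8, nat_lit 8, nat_lit 8, nat_lit 8, nat_lit 8, nat_lit 8, nat_lit 8, nat_lit 8, nat_lit 8, nat_lit 8, nat_lit 8, nat_lit 8, nat_lit 8, nat_lit 8, nat_lit 8, nat_lit 8, nat_lit 8]), (nat_lit 12, [nat_lit 9, nat_lit 9, nat_lit 9, nat_lit 9, nat_lit 9]), (nat_lit 13, [nat_lit 10, nat_lit 10, nat_lit 10]), (nat_lit 0, [nat_lit 11, nat_lit 12, nat_lit 10, nat_lit 11, nat_lit 12, nat_lit 11, nat_lit 13, nat_lit 8, nat_lit 8, nat_lit 8, nat_lit 13, nat_lit 8, nat_lit 9, nat_lit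 8, nat_lit 13, nat_lit 9, nat_lit 11, nat_lit 11, nat_lit 10, nat_lit 11, nat_lit 9, nat_lit 10, nat_lit 11, nat_lit 11, nat_lit 11, nat_lit 10, nat_lit 11, nat_lit 10, nat_lit 8, nat_lit 8, nat_lit 8, nat_lit 13, nat_lit 8, nat_lit 8, nat_lit 8]), (nat_lit 1, [nat_lit 11, nat_lit 11, nat_lit 10, nat_lit 8, nat_lit 8, nat_lit 9, nat_lit 13, nat_lit 8, nat_lit 13, nat_lit 8, nat_lit 8, nat_lit 8, nat_lit 8, nat_lit 8, nat_lit 8, nat_lit 10, nat_lit 8, nat_lit 13, nat_lit 12, nat_lit 11, nat_lit 11, nat_lit 13, nat_lit 8, nat_lit 8]), (nat_lit 2, [nat_lit 11, nat_lit 11, nat_lit 11, nat_lit 13, nat_lit 8, nat_lit 8, nat_lit 9, nat_lit 13, nat_lit 8, nat_lit 9, nat_lit 10, nat_lit 8, nat_lit 8, nat_lit 8, nat_lit 8, nat_lit 13, nat_lit 12, nat_lit 8, nat_lit 13, nat_lit 12, nat_lit 11, nat_lit 11, nat_lit 10, nat_lit 8, nat_lit 8, nat_lit 8]), (nat_lit 3, [nat_lit 11, nat_lit 11, nat_lit 9, nat_lit 10, nat_lit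 8, nat_lit 10, nat_lit 8, nat_lit 13, nat_lit 11, nat_lit 13, nat_lit 8, nat_lit 8, nat_lit 8, nat_lit 13, nat_lit 11, nat_lit 10, nat_lit 8, nat_lit 8, nat_lit 9, nat_lit 11, nat_lit 13, nat_lit 9, nat_lit 11, nat_lit 12, nat_lit 10, nat_lit 11, nat_lit 13, nat_lit 11, nat_lit 10, nat_lit 12, nat_lit 12, nat_lit 11, nat_lit 11, nat_lit 12]), (nat_lit 4, [nat_lit 9, nat_lit 11, nat_lit 13, nat_lit 8, nat_lit 10, nat_lit 8, nat_lit 13, nat_lit 11, nat_lit 13, nat_lit 8, nat_lit 8, nat_lit 8, nat_lit 13, nat_lit 11, nat_lit 10, nat_lit 8, nat_lit 8, nat_lit 9, nat_lit 11, nat_lit 13, nat_lit 9, nat_lit 11, nat_lit 12, nat_lit 10, nat_lit 11, nat_lit 13, nat_lit 11, nat_lit 10]), (nat_lit 5, [nat_lit 10, nat_lit 9, nat_lit 11, nat_lit 10, nat_lit 8, nat_lit 8, nat_lit 13, nat_lit 11, nat_lit 10, nat_lit 12, nat_lit 8, nat_lit 9, nat_lit 8, nat_lit 10, nat_lit 8, nat_lit 10, nat_lit 11, nat_lit 11, nat_lit 10,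 nat_lit 11, nat_lit 10, nat_lit 9]), (nat_lit 6, [nat_lit 9, nat_lit 11, nat_lit 9, nat_lit 10, nat_lit 11, nat_lit 11, nat_lit 11, nat_lit 13, nat_lit 8, nat_lit 13, nat_lit 8, nat_lit 8, nat_lit 8, nat_lit 8, nat_lit 8, nat_lit 8, nat_lit 10, nat_lit 8, nat_lit 9, nat_lit 10, nat_lit 8, nat_lit 8, nat_lit 13, nat_lit 9, nat_lit 8, nat_lit 12]), (nat_lit 7, [nat_lit 13, nat_lit 8, nat_lit 13, nat_lit 9, nat_lit 8, nat_lit 10, nat_lit 9, nat_lit 8, nat_lit 13, nat_lit 11, nat_lit 11, nat_lit 13, nat_lit 9, nat_lit 8, nat_lit 8, nat_lit 10, nat_lit 8, nat_lit 8, nat_lit 13, nat_lit 9, nat_lit 8, nat_lit 8, nat_lit 10, nat_lit 11, nat_lit 11, nat_lit 11, nat_lit 10, nat_lit 11, nat_lit 10, nat_lit 8, nat_lit 13, nat_lit 12, nat_lit 11, nat_lit 13, nat_lit 11, nat_lit 11, nat_lit 11, nat_lit 13, nat_lit 8, nat_lit 12, nat_lit 8]), (nat_lit 14, [nat_lit 4, nat_lit 5, nat_lit 3, nat_lit 4, nat_lit 5, nat_lit 3,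 nat_lit 4, nat_lit 3, nat_lit 4, nat_lit 2, nat_lit 5, nat_lit 3, nat_lit 4, nat_lit 1, nat_lit 2, nat_lit 3, nat_lit 4, nat_lit 2, nat_lit 3, nat_lit 5, nat_lit 4, nat_lit 3, nat_lit 4, nat_lit 2, nat_lit 5, nat_lit 1, nat_lit 6]), (nat_lit 15, [nat_lit 7, nat_lit 5, nat_lit 7, nat_lit 4, nat_lit 5, nat_lit 4, nat_lit 2, nat_lit 3, nat_lit 7, nat_lit 2, nat_lit 3, nat_lit 4, nat_lit 3, nat_lit 5, nat_lit 4, nat_lit 0, nat_lit 3, nat_lit 2, nat_lit 7, nat_lit 2, nat_lit 4, nat_lit 3, nat_lit 2, nat_lit 5, nat_lit 6, nat_lit 4, nat_lit 3, nat_lit 5, nat_lit 2, nat_lit 1])]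

def dead : List (ℕ × List ℕ × ℕ) := [(nat_lit 87894, [nat_lit 4, nat_lit 3, nat_lit 4, nat_lit 3, nat_lit 2, nat_lit 4, nat_lit 5, nat_lit 4, nat_lit 3, nat_lit 4, nat_lit 3, nat_lit 4, nat_lit 2, nat_lit 5, nat_lit 4, nat_lit 0, nat_lit 5, nat_lit 3, nat_lit 7], nat_lit 3), (nat_lit 103937, [nat_lit 15, nat_lit 15, nat_lit 4, nat_lit 3, nat_lit 4, nat_lit 3, nat_lit 2, nat_lit 4, nat_lit 5, nat_lit 4, nat_lit 3, nat_lit 4, nat_lit 3, nat_lit 4, nat_lit 2, nat_lit 5, nat_lit 4, nat_lit 0, nat_lit 5, nat_lit 3, nat_lit 7], nat_lit 3), (nat_lit 113096, [nat_lit 15, nat_lit 4, nat_lit 3, nat_lit 4, nat_lit 3, nat_lit 2, nat_lit 4, nat_lit 5, nat_lit 4, nat_lit 3, nat_lit 4, nat_lit 3, nat_lit 4, nat_lit 2, nat_lit 5, nat_lit 4, nat_lit 0, nat_lit 5, nat_lit 3, nat_lit 7], nat_lit 3)]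

def ys : List ℕ := [nat_lit 3]

def sig : List (List ℕ) := [[nat_lit 3, nat_lit 4, nat_lit 3, nat_lit 7, nat_lit 5, nat_lit 2, nat_lit 7, nat_lit 3, nat_lit 4, nat_lit 3, nat_lit 5, nat_lit 4, nat_lit 2, nat_lit 3, nat_lit 0, nat_lit 4, nat_lit 0, nat_lit 5, nat_lit 0, nat_lit 3, nat_lit 1, nat_lit 4, nat_lit 3, nat_lit 2, nat_lit 3, nat_lit 4, nat_lit 3, nat_lit 6, nat_lit 5, nat_lit 2, nat_lit 3, nat_lit 4, nat_lit 3, nat_lit 4], [nat_lit 5, nat_lit 2, nat_lit 6, nat_lit 4, nat_lit 3, nat_lit 4, nat_lit 5, nat_lit 7, nat_lit 2, nat_lit 4, nat_lit 5, nat_lit 4, nat_lit 3, nat_lit 4, nat_lit 3, nat_lit 2, nat_lit 3, nat_lit 4, nat_lit 5, nat_lit 0, nat_lit 4, nat_lit 3, nat_lit 5, nat_lit 2, nat_lit 4, nat_lit 6, nat_lit 5, nat_lit 4], [nat_lit 4, nat_lit 6, nat_lit 5, nat_lit 7, nat_lit 3, nat_lit 4, nat_lit 2, nat_lit 3, nat_lit 7, nat_lit 4, nat_lit 5, nat_lit 4, nat_lit 1, nat_lit 2, nat_lit 3, nat_lit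 0, nat_lit 4, nat_lit 0, nat_lit 5, nat_lit 0, nat_lit 2, nat_lit 3, nat_lit 4, nat_lit 2, nat_lit 3, nat_lit 4, nat_lit 2, nat_lit 5], [nat_lit 6, nat_lit 5, nat_lit 4, nat_lit 3, nat_lit 1, nat_lit 2, nat_lit 7, nat_lit 4, nat_lit 7, nat_lit 3, nat_lit 5, nat_lit 4, nat_lit 2, nat_lit 3, nat_lit 4, nat_lit 5, nat_lit 0, nat_lit 2, nat_lit 3, nat_lit 1, nat_lit 2, nat_lit 3, nat_lit 5, nat_lit 4, nat_lit 3, nat_lit 4, nat_lit 5, nat_lit 6], [nat_lit 2, nat_lit 3, nat_lit 4, nat_lit 5, nat_lit 0, nat_lit 3, nat_lit 0, nat_lit 2, nat_lit 4, nat_lit 3, nat_lit 5, nat_lit 4, nat_lit 3, nat_lit 2, nat_lit 0, nat_lit 2, nat_lit 5, nat_lit 4, nat_lit 6, nat_lit 5, nat_lit 4, nat_lit 3, nat_lit 4, nat_lit 3, nat_lit 2, nat_lit 6], [nat_lit 6, nat_lit 5, nat_lit 4, nat_lit 3, nat_lit 4, nat_lit 3, nat_lit 2, nat_lit 0, nat_lit 1, nat_lit 3, nat_lit 2, nat_lit 4, nat_lit 5, nat_lit 0, nat_lit 2, nat_lit 5, nat_lit 3,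 nat_lit 4, nat_lit 3, nat_lit 4, nat_lit 5, nat_lit 4, nat_lit 2, nat_lit 1, nat_lit 3, nat_lit 2, nat_lit 4, nat_lit 3, nat_lit 4, nat_lit 5, nat_lit 6], [nat_lit 6, nat_lit 2, nat_lit 4, nat_lit 3, nat_lit 4, nat_lit 3, nat_lit 5, nat_lit 7, nat_lit 2, nat_lit 7, nat_lit 4, nat_lit 5, nat_lit 3, nat_lit 0, nat_lit 4, nat_lit 3, nat_lit 2, nat_lit 0, nat_lit 5, nat_lit 3, nat_lit 4, nat_lit 2, nat_lit 6, nat_lit 5, nat_lit 3, nat_lit 4, nat_lit 3, nat_lit 2], [nat_lit 2, nat_lit 3, nat_lit 7, nat_lit 5, nat_lit 4, nat_lit 3, nat_lit 1, nat_lit 2, nat_lit 6, nat_lit 5, nat_lit 0, nat_lit 3, nat_lit 5, nat_lit 4, nat_lit 5, nat_lit 3, nat_lit 0, nat_lit 4, nat_lit 3, nat_lit 2, nat_lit 0, nat_lit 5, nat_lit 4, nat_lit 3, nat_lit 1, nat_lit 2, nat_lit 3, nat_lit 4, nat_lit 6, nat_lit 5, nat_lit 3, nat_lit 4, nat_lit 3, nat_lit 2, nat_lit 4]]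

end Cfsg.Agent.H9.OutON
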