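import Cfsg.Agent.H9.OutRuD

/-! The outer automorphism group of Ru. Checks. -/

set_option autoImplicit false
set_option maxRecDepth 100000

namespace Cfsg.Agent.H9.OutRu

open Cfsg.Agent.H9.Ru

theorem gen_0 : genB U0 Y0 (as 0) = true := by decide +kernel

theorem gen_1 : genB U1 Y1 (as 1) = true := by decide +kernel

theorem gen_2 : genB U2 Y2 (as 2) = true := by decide +kernel

theorem slp_0 : allPow (below (nat_lit 4060) (slpB T Ws (nat_lit 3))) 9 (0 * 2 ^ 9) = true := by decide +kernel

theorem slp_1 : allPow (below (nat_lit 4060) (slpB T Ws (nat_lit 3))) 9 (1 * 2 ^ 9) = true := by decide +kernel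

theorem slp_2 : allPow (below (nat_lit 4060) (slpB T Ws (nat_lit 3))) 9 (2 * 2 ^ 9) = true := by decide +kernel

theorem slp_3 : allPow (below (nat_lit 4060) (slpB T Ws (nat_lit 3))) 9 (3 * 2 ^ 9) = true := by decide +kernel

theorem slp_4 : allPow (below (nat_lit 4060) (slpB T Ws (nat_lit 3))) 9 (4 * 2 ^ 9) = true := by decide +kernel

theorem slp_5 : allPow (below (nat_lit 4060) (slpB T Ws (nat_lit 3))) 9 (5 * 2 ^ 9) = true := by decide +kernel

theorem slp_6 : allPow (below (nat_lit 4060) (slpB T Ws (nat_lit 3))) 9 (6 * 2 ^ 9) = true := by decide +kernel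

theorem slp_7 : allPow (below (nat_lit 4060) (slpB T Ws (nat_lit 3))) 9 (7 * 2 ^ 9) = true := by decide +kernel

end Cfsg.Agent.H9.OutRu
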