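import Cfsg.Agent.H9.OutRuD

/-! The outer automorphism group of Ru. Checks. -/

set_option autoImplicit false
set_option maxRecDepth 100000

namespace Cfsg.Agent.H9.OutRu

open Cfsg.Agent.H9.Ru

theorem ptLa_0 : allPow (below (nat_lit 4060) (La0.toLv.ptB T (nat_lit 4060))) 12 (0 * 2 ^ 12) = true := by decide +kernel

theorem scLa_0 : allPow (below (nat_lit 4060) (scanB T iv (tr T [D.ia]) La0 Las [])) 12 (0 * 2 ^ 12) = true := by decide +kernel

theorem ptLb_0 : allPow (below (nat_lit 4060) (Lb0.toLv.ptB T (nat_lit 4060))) 12 (0 * 2 ^ 12) = true := by decide +kernel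

theorem scLb_0 : allPow (below (nat_lit 4060) (scanB T iv (tr T (List.replicate D.i D.ib)) Lb0 Lbs [])) 12 (0 * 2 ^ 12) = true := by decide +kernel

theorem vchk_0 : allPow (below (nat_lit 4060) (lineB V T as (nat_lit 4060) (nat_lit 3))) 9 (0 * 2 ^ 9) = true := by decide +kernel

theorem vchk_1 : allPow (below (nat_lit 4060) (lineB V T as (nat_lit 4060) (nat_lit 3))) 9 (1 * 2 ^ 9) = true := by decide +kernel

theorem vchk_2 : allPow (below (nat_lit 4060) (lineB V T as (nat_lit 4060) (nat_lit 3))) 9 (2 * 2 ^ 9) = true := by decide +kernel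

theorem vchk_3 : allPow (below (nat_lit 4060) (lineB V T as (nat_lit 4060) (nat_lit 3))) 9 (3 * 2 ^ 9) = true := by decide +kernel

theorem vchk_4 : allPow (below (nat_lit 4060) (lineB V T as (nat_lit 4060) (nat_lit 3))) 9 (4 * 2 ^ 9) = true := by decide +kernel

theorem vchk_5 : allPow (below (nat_lit 4060) (lineB V T as (nat_lit 4060) (nat_lit 3))) 9 (5 * 2 ^ 9) = true := by decide +kernel

theorem vchk_6 : allPow (below (nat_lit 4060) (lineB V T as (nat_lit 4060) (nat_lit 3))) 9 (6 * 2 ^ 9) = true := by decide +kernel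

theorem vchk_7 : allPow (below (nat_lit 4060) (lineB V T as (nat_lit 4060) (nat_lit 3))) 9 (7 * 2 ^ 9) = true := by decide +kernel

end Cfsg.Agent.H9.OutRu
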