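import Cfsg.Agent.H9.RuB
import Cfsg.Agent.H9.LeechRA2
import Cfsg.Agent.H9.OutRuC0
import Cfsg.Agent.H9.OutRuC1

/-! The outer automorphism group of Ru. -/

set_option autoImplicit false
set_option maxRecDepth 100000

namespace Cfsg.Agent.H9.OutRu

open Cfsg.Agent.H9.Ru

theorem slp : ∀ i < 4060, (slpB T Ws (nat_lit 3)) i = true :=
  all_of_blocks (d := 9) (m := 8) (by decide) (forall_lt_succ'' (forall_lt_succ'' (forall_lt_succ'' (forall_lt_succ'' (forall_lt_succ'' (forall_lt_succ'' (forall_lt_succ'' (forall_lt_succ'' forall_lt_zero'' slp_0) slp_1) slp_2) slp_3) slp_4) slp_5) slp_6) slp_7)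

theorem ptLa : ∀ i < 4060, (La0.toLv.ptB T (nat_lit 4060)) i = true :=
  all_of_blocks (d := 12) (m := 1) (by decide) (forall_lt_succ'' forall_lt_zero'' ptLa_0)

theorem chLa : ChainChk T 4060 37 ((La0 :: Las).map SLv.toLv) [] :=
  ⟨by decide +kernel, ptLa, chainChk_of (by decide +kernel)⟩

theorem scLa : ∀ i < 4060, (scanB T iv (tr T [D.ia]) La0 Las []) i = true :=
  all_of_blocks (d := 12) (m := 1) (by decide) (forall_lt_succ'' forall_lt_zero'' scLa_0)

theorem ptLb : ∀ i < 4060, (Lb0.toLv.ptB T (nat_lit 4060)) i = true :=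
  all_of_blocks (d := 12) (m := 1) (by decide) (forall_lt_succ'' forall_lt_zero'' ptLb_0)

theorem chLb : ChainChk T 4060 37 ((Lb0 :: Lbs).map SLv.toLv) [] :=
  ⟨by decide +kernel, ptLb, chainChk_of (by decide +kernel)⟩

theorem scLb : ∀ i < 4060, (scanB T iv (tr T (List.replicate D.i D.ib)) Lb0 Lbs []) i = true :=
  all_of_blocks (d := 12) (m := 1) (by decide) (forall_lt_succ'' forall_lt_zero'' scLb_0)

theorem chk : D.chk T 37 145926144000 B = true := by decide +kernel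

theorem ok {G : Type*} [Group G] [Finite G] {A : RA G 4060} {g0 : ℕ → G} (hT : A.Tab g0 3 T)
    (hle : Nat.card G ≤ 145926144000) : ∃ g : ℕ → G, (∀ s < 3, g s = g0 s) ∧ RA.OutOK A g 37 T B D 145926144000 :=
  RA.outOK_of hT (by decide +kernel) slp (by decide +kernel) hle chLa (by decide +kernel) chLb
    (by decide +kernel) (by decide +kernel) (m := 137438691328) (iv := iv) (by decide +kernel) scLa
    (by decide +kernel) scLb (by decide +kernel)

theorem out {G : Type*} [Group G] [Finite G] {A : RA G 4060} {g0 : ℕ → G} (hT : A.Tab g0 3 T)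
    (hle : Nat.card G ≤ 145926144000) : Nat.card (Cfsg.Out G) = 1 := by
  obtain ⟨g, -, h⟩ := ok hT hle
  exact h.out_one (by decide) chk rfl

theorem vchk : ∀ i < 4060, (lineB V T as (nat_lit 4060) (nat_lit 3)) i = true :=
  all_of_blocks (d := 9) (m := 8) (by decide) (forall_lt_succ'' (forall_lt_succ'' (forall_lt_succ'' (forall_lt_succ'' (forall_lt_succ'' (forall_lt_succ'' (forall_lt_succ'' (forall_lt_succ'' forall_lt_zero'' vchk_0) vchk_1) vchk_2) vchk_3) vchk_4) vchk_5) vchk_6) vchk_7)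

instance instFinite : Finite Cfsg.Spor.fourRu := RuB.finite_card.1

theorem card_q : Nat.card Ruq ≤ 145926144000 := card_Ruq_le RuB.finite_card.2

theorem exists_ra : ∃ (A : RA Ruq 4060) (g : ℕ → Cfsg.Spor.fourRu),
    A.Tab (fun s => QuotientGroup.mk (g s)) 3 T ∧ ∀ s < 3, Ru.LRep (as s) (g s) := by
  have key : ∀ s, ∃ f : Cfsg.Spor.fourRu, s < 3 → Ru.LRep (as s) f := by
    intro s
    by_cases hs : s < 3
    · interval_cases s
      · exact (Ru.exists_gen gen_0).imp fun _ h _ => h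
      · exact (Ru.exists_gen gen_1).imp fun _ h _ => h
      · exact (Ru.exists_gen gen_2).imp fun _ h _ => h
    · exact ⟨1, fun h => absurd h hs⟩
  choose g hg using key
  obtain ⟨A, hA⟩ := exists_ra_line hg vchk
    fun K A g0 hT => eq_top_of_card card_q fun h => (ok hT h).choose_spec.2.card
  exact ⟨A, g, hA, hg⟩

theorem center_eq : Subgroup.center Cfsg.Spor.fourRu = Subgroup.zpowers iE := by
  obtain ⟨A, g, hA, -⟩ := exists_ra
  obtain ⟨g', -, h⟩ := ok hA card_q
  exact center_eq_of zpowers_iE_le (h.center_eq_bot (by decide) chk)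

/-- `Ru` is the quotient by the scalars -/
noncomputable def equivRu : Ruq ≃* Cfsg.Spor.Ru :=
  QuotientGroup.quotientMulEquivOfEq center_eq.symm

theorem card_out : Nat.card (Cfsg.Out Cfsg.Spor.Ru) = 1 := by
  obtain ⟨A, g, hA, -⟩ := exists_ra
  rw [← card_out_congr equivRu]
  exact out hA card_q

theorem exists_ra1 : ∃ (A : RA Cfsg.Spor.Ru 4060) (g : ℕ → Cfsg.Spor.fourRu),
    A.Tab (fun s => QuotientGroup.mk (g s)) 3 T ∧ ∀ s < 3, Ru.LRep (as s) (g s) := by
  obtain ⟨A, g, hA, hg⟩ := exists_ra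
  exact ⟨A.comap equivRu.symm.toMonoidHom, g, hA, hg⟩

theorem card_le : Nat.card Cfsg.Spor.Ru ≤ 145926144000 := (Nat.card_congr equivRu.toEquiv).ge.trans card_q

theorem exists_ok : ∃ (A : RA Cfsg.Spor.Ru 4060) (g : ℕ → Cfsg.Spor.Ru) (g0 : ℕ → Cfsg.Spor.fourRu),
    RA.OutOK A g 37 T B D 145926144000 ∧ ∀ s < 3, g s = QuotientGroup.mk (g0 s) ∧ Ru.LRep (as s) (g0 s) := by
  obtain ⟨A, g, hA, hg⟩ := exists_ra1
  obtain ⟨g', h1, h⟩ := ok hA card_le
  exact ⟨A, g', g, h, fun s hs => ⟨h1 s hs, hg s hs⟩⟩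

theorem pub : ∃ (A : L0.RAct Cfsg.Spor.Ru 4060) (g : ℕ → Cfsg.Spor.Ru), A.Tab g 37 T ∧
    A.IsBase B ∧ Nat.card Cfsg.Spor.Ru = 145926144000 ∧
    Subgroup.closure {g D.ia, g D.ib, g D.it} = ⊤ := by
  obtain ⟨A, g, -, h, -⟩ := exists_ok
  exact ⟨_, g, h.pub⟩

end Cfsg.Agent.H9.OutRu
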