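import Cfsg.Agent.H9.Bits

/-! Numbers packed as base `2^w` digit strings; digitwise operations. -/

set_option autoImplicit false

namespace Cfsg.Agent.H9

open Finset

/-- the number with digits `g 0, …, g (N-1)` in base `2^w` -/
def pack (w N : ℕ) (g : ℕ → ℕ) : ℕ := ∑ q ∈ range N, g q * 2 ^ (w * q)

theorem pack_succ (w N : ℕ) (g : ℕ → ℕ) : pack w (N + 1) g = pack w N g + g N * 2 ^ (w * N) := by
  simp [pack, sum_range_succ]

theorem pack_succ' (w N : ℕ) (g : ℕ → ℕ) :
    pack w (N + 1) g = 2 ^ w * pack w N (fun q => g (q + 1)) + g 0 := by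
  unfold pack
  rw [sum_range_succ', mul_sum]
  simp only [mul_zero, pow_zero, mul_one, add_left_inj]
  apply sum_congr rfl
  intro q _
  rw [Nat.mul_succ, pow_add]; ring

theorem pack_congr {w N : ℕ} {g h : ℕ → ℕ} (H : ∀ q < N, g q = h q) : pack w N g = pack w N h :=
  sum_congr rfl fun q hq => by rw [H q (mem_range.mp hq)]

theorem pack_add (w N : ℕ) (g h : ℕ → ℕ) :
    pack w N g + pack w N h = pack w N fun q => g q + h q := by
  simp [pack, ← sum_add_distrib, add_mul]

theorem pack_mul (w N : ℕ) (g : ℕ → ℕ) (c : ℕ) : pack w N g * c = pack w N fun q => g q * c := by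
  simp only [pack, sum_mul]
  apply sum_congr rfl; intro q _; ring

theorem pack_lt {w N : ℕ} {g : ℕ → ℕ} (H : ∀ q < N, g q < 2 ^ w) : pack w N g < 2 ^ (w * N) := by
  induction N with
  | zero => simp [pack]
  | succ N ih =>
    rw [pack_succ, Nat.mul_succ, pow_add]
    have h1 := ih fun q hq => H q (by omega)
    have h2 := H N (by omega)
    nlinarith [Nat.two_pow_pos (w * N)]

theorem testBit_pack {w N : ℕ} {g : ℕ → ℕ} (H : ∀ q < N, g q < 2 ^ w) (q r : ℕ) (hr : r < w) :
    (pack w N g).testBit (w * q + r) = (decide (q < N) && (g q).testBit r) := by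
  induction N generalizing g q with
  | zero => simp [pack]
  | succ N ih =>
    rw [pack_succ', Nat.testBit_two_pow_mul_add _ (H 0 (by omega))]
    cases q with
    | zero => simp [hr]
    | succ q =>
      have h1 : ¬ w * (q + 1) + r < w := by rw [Nat.mul_succ]; omega
      have h2 : w * (q + 1) + r - w = w * q + r := by rw [Nat.mul_succ]; omega
      rw [if_neg h1, h2, ih fun q hq => H (q + 1) (by omega)]
      simp

theorem eq_of_testBit_blocks {w : ℕ} (hw : 0 < w) {a b : ℕ}
    (H : ∀ q r, r < w → a.testBit (w * q + r) = b.testBit (w * q + r)) : a = b := by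
  apply Nat.eq_of_testBit_eq
  intro i
  have := H (i / w) (i % w) (Nat.mod_lt _ hw)
  rwa [Nat.div_add_mod] at this

theorem look_eq (w t i : ℕ) : look w t i = (t >>> (w * i)) % 2 ^ w := rfl

theorem look_lt (w t i : ℕ) : look w t i < 2 ^ w := Nat.mod_lt _ (Nat.two_pow_pos w)

theorem testBit_look (w t i r : ℕ) :
    (look w t i).testBit r = (decide (r < w) && t.testBit (w * i + r)) := by
  rw [look_eq, Nat.testBit_mod_two_pow, Nat.testBit_shiftRight]

theorem look_pack {w N : ℕ} {g : ℕ → ℕ} (H : ∀ q < N, g q < 2 ^ w) {q : ℕ} (hq : q < N) :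
    look w (pack w N g) q = g q := by
  apply Nat.eq_of_testBit_eq
  intro r
  rw [testBit_look]
  by_cases hr : r < w
  · rw [testBit_pack H q r hr]; simp [hr, hq]
  · rw [Nat.testBit_lt_two_pow (lt_of_lt_of_le (H q hq) (Nat.pow_le_pow_right (by norm_num) (by omega)))]
    simp [hr]

theorem pack_look {w N x : ℕ} (hw : 0 < w) (hx : x < 2 ^ (w * N)) : pack w N (look w x) = x := by
  apply eq_of_testBit_blocks hw
  intro q r hr
  rw [testBit_pack (fun q _ => look_lt w x q) q r hr, testBit_look]
  by_cases hq : q < N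
  · simp [hq, hr]
  · rw [Nat.testBit_lt_two_pow (lt_of_lt_of_le hx (Nat.pow_le_pow_right (by norm_num) (by
      have : w * N ≤ w * q := Nat.mul_le_mul_left _ (by omega)
      omega)))]
    simp

/-- all digits equal to `c` -/
noncomputable def repl (w N c : ℕ) : ℕ :=
  Nat.rec (motive := fun _ => ℕ) 0 (fun _ ih => Nat.add (Nat.shiftLeft ih w) c) N

theorem repl_eq (w N c : ℕ) : repl w N c = pack w N fun _ => c := by
  induction N with
  | zero => simp [repl, pack]
  | succ N ih =>
    have : repl w (N + 1) c = (repl w N c) <<< w + c := rfl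
    rw [this, ih, pack_succ', Nat.shiftLeft_eq, mul_comm]

/-- shifting by `s` bits and masking acts digitwise -/
theorem shift_mask_pack {w N s : ℕ} (hw : 0 < w) (hs : s ≤ w) {g : ℕ → ℕ}
    (H : ∀ q < N, g q < 2 ^ w) :
    (pack w N g >>> s) &&& (pack w N fun _ => 2 ^ (w - s) - 1) = pack w N fun q => g q >>> s := by
  apply eq_of_testBit_blocks hw
  intro q r hr
  have hb : ∀ q < N, 2 ^ (w - s) - 1 < 2 ^ w := fun _ _ =>
    lt_of_lt_of_le (Nat.sub_one_lt (Nat.two_pow_pos _).ne') (Nat.pow_le_pow_right (by norm_num) (by omega))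
  have hc : ∀ q < N, g q >>> s < 2 ^ w := fun q hq =>
    lt_of_le_of_lt (Nat.shiftRight_le _ _) (H q hq)
  rw [Nat.testBit_and, testBit_pack hb q r hr, testBit_pack hc q r hr, Nat.testBit_shiftRight,
    Nat.testBit_shiftRight, Nat.testBit_two_pow_sub_one]
  by_cases hq : q < N
  · by_cases h2 : r < w - s
    · have e : s + (w * q + r) = w * q + (s + r) := by ring
      rw [e, testBit_pack H q _ (by omega)]
      simp [hq, h2]
    · rw [Nat.testBit_lt_two_pow (x := g q) (lt_of_lt_of_le (H q hq)
        (Nat.pow_le_pow_right (by norm_num) (by omega)))]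
      simp [h2]
  · simp [hq]

theorem pack_sub {w N : ℕ} {g h : ℕ → ℕ} (H : ∀ q < N, h q ≤ g q) :
    pack w N g - pack w N h = pack w N fun q => g q - h q := by
  have : pack w N g = pack w N (fun q => g q - h q) + pack w N h := by
    rw [pack_add]; apply pack_congr; intro q hq; have := H q hq; omega
  rw [this, Nat.add_sub_cancel]

/-- two-level packing -/
theorem pack_pack (w n m : ℕ) (g : ℕ → ℕ) :
    pack w (n * m) g = pack (w * n) m fun i => pack w n fun j => g (n * i + j) := by
  induction m with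
  | zero => simp [pack]
  | succ m ih =>
    rw [pack_succ, ← ih, Nat.mul_succ]
    unfold pack
    rw [sum_range_add, sum_mul]
    congr 1
    apply sum_congr rfl
    intro j _
    rw [mul_assoc, ← pow_add]
    congr 2
    ring

end Cfsg.Agent.H9
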