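import Cfsg.Agent.H9.ModelRA2

/-! A spanning set of row vectors is a base. -/

set_option autoImplicit false

namespace Cfsg.Agent.H9.PM

variable {P : PM} {R : Type*} [CommRing R] {n : ℕ}

theorem Rep.ent_one {ω : R} {X : ℕ} {A : Matrix (Fin n) (Fin n) R}
    (h : P.Rep (Equiv.refl (Fin n)) ω 1 X A) (i j : Fin n) : A i j = (P.ent X i j : R) := by
  have := h.2 i j 0 one_pos
  simpa [blockVal] using this.symm

/-- the first rows of the codes at the points of `B` form an invertible matrix -/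
noncomputable def rowsB (P : PM) (V : ℕ → ℕ) (N : ℕ) (B : List ℕ) (S C : ℕ) : Bool :=
  P.valid S && P.valid C && Nat.beq (P.mul C S) P.one && ltB N B && Nat.beq B.length P.N &&
  allLt P.N fun i => allLt P.N fun j => Nat.beq (P.ent S i j) (P.ent (V (B.getD i 0)) 0 j)

theorem isBase_rows (h : P.OK) {ω : R} (hN : P.N = 1 * n) (hp : (P.p : R) = 0) {Γ : Type*} [Group Γ]
    (f : Γ →* Matrix (Fin n) (Fin n) R) (hf : Function.Injective f) {N : ℕ} {A : RA Γ N}
    {V : ℕ → ℕ} {v : ℕ → Matrix (Fin n) (Fin n) R}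
    (hv : ∀ c < N, P.Rep (Equiv.refl (Fin n)) ω 1 (V c) (v c))
    (hact : ∀ x : Γ, ∀ c < N, v (A.act c x) = v c * f x) {B : List ℕ} {S C : ℕ}
    (hB : P.rowsB V N B S C = true) : A.IsBase B := by
  simp only [rowsB, Bool.and_eq_true, ltB_iff, allLt_iff, Nat.beq_eq] at hB
  obtain ⟨⟨⟨⟨⟨h1, h2⟩, h3⟩, h4⟩, h5⟩, h6⟩ := hB
  have hp0 : 0 < P.p := by have := h.hp; omega
  have r1 := rep_toMat_one (Equiv.refl (Fin n)) ω (valid_of hp0 h1)
  have r2 := rep_toMat_one (Equiv.refl (Fin n)) ω (valid_of hp0 h2)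
  generalize P.toMat (Equiv.refl (Fin n)) ω 1 S = MS at r1
  generalize P.toMat (Equiv.refl (Fin n)) ω 1 C = MC at r2
  have r3 := Rep.mul h hN hp r2 r1
  rw [h3] at r3
  have e1 : MC * MS = 1 := Rep.unique one_pos r3 (Rep.one h _ ω hN)
  refine ⟨h4, fun x hx => hf ?_⟩
  have e2 : MS * f x = MS := by
    ext i j
    have hi : (i : ℕ) < B.length := by have := i.2; omega
    have hb : B.getD i 0 ∈ B := by rw [List.getD_eq_getElem _ _ hi]; exact List.getElem_mem hi
    have e3 := hact x _ (h4 _ hb)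
    rw [hx _ hb] at e3
    have e4 : ∀ l : Fin n, MS i l = v (B.getD i 0) ⟨0, i.pos⟩ l := fun l => by
      rw [r1.ent_one, (hv _ (h4 _ hb)).ent_one,
        h6 i (by have := i.2; omega) l (by have := l.2; omega)]
    rw [Matrix.mul_apply, e4 j, congrFun (congrFun e3 _) j, Matrix.mul_apply]
    exact Finset.sum_congr rfl fun l _ => by rw [e4 l]
  rw [map_one, ← one_mul (f x), ← e1, mul_assoc, e2]

end Cfsg.Agent.H9.PM
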