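import Cfsg.Agent.H9.RuBD

/-! The order of the automorphism group of the Rudvalis lattice. Checks. -/

set_option autoImplicit false
set_option maxRecDepth 100000

namespace Cfsg.Agent.H9.RuB

open Cfsg.Agent.H9.Ru

theorem sol_13 : allPow (below (nat_lit 952) (fun r => solB (RS r) (H0 r) (FF r) (PV r) (K r))) 6 (13 * 2 ^ 6) = true := by decide +kernel

theorem sol_14 : allPow (below (nat_lit 952) (fun r => solB (RS r) (H0 r) (FF r) (PV r) (K r))) 6 (14 * 2 ^ 6) = true := by decide +kernel

theorem ex_0 : allPow (below (nat_lit 756) (fun r => exB (RE r) (TE r) (GE r))) 7 (0 * 2 ^ 7) = true := by decide +kernel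

theorem ex_1 : allPow (below (nat_lit 756) (fun r => exB (RE r) (TE r) (GE r))) 7 (1 * 2 ^ 7) = true := by decide +kernel

theorem ex_2 : allPow (below (nat_lit 756) (fun r => exB (RE r) (TE r) (GE r))) 7 (2 * 2 ^ 7) = true := by decide +kernel

theorem ex_3 : allPow (below (nat_lit 756) (fun r => exB (RE r) (TE r) (GE r))) 7 (3 * 2 ^ 7) = true := by decide +kernel

theorem ex_4 : allPow (below (nat_lit 756) (fun r => exB (RE r) (TE r) (GE r))) 7 (4 * 2 ^ 7) = true := by decide +kernel

theorem ex_5 : allPow (below (nat_lit 756) (fun r => exB (RE r) (TE r) (GE r))) 7 (5 * 2 ^ 7) = true := by decide +kernel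

theorem z_0 : allSyn synP col 0 3 (Nat.xor 0 (col 0)) = true := by decide +kernel

theorem z_1 : allSyn synP col 1 3 (Nat.xor 0 (col 1)) = true := by decide +kernel

theorem z_2 : allSyn synP col 2 3 (Nat.xor 0 (col 2)) = true := by decide +kernel

theorem z_3 : allSyn synP col 3 3 (Nat.xor 0 (col 3)) = true := by decide +kernel

theorem z_4 : allSyn synP col 4 3 (Nat.xor 0 (col 4)) = true := by decide +kernel

theorem z_5 : allSyn synP col 5 3 (Nat.xor 0 (col 5)) = true := by decide +kernel

theorem z_6 : allSyn synP col 6 3 (Nat.xor 0 (col 6)) = true := by decide +kernel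

theorem z_7 : allSyn synP col 7 3 (Nat.xor 0 (col 7)) = true := by decide +kernel

theorem z_8 : allSyn synP col 8 3 (Nat.xor 0 (col 8)) = true := by decide +kernel

theorem z_9 : allSyn synP col 9 3 (Nat.xor 0 (col 9)) = true := by decide +kernel

theorem z_10 : allSyn synP col 10 3 (Nat.xor 0 (col 10)) = true := by decide +kernel

theorem z_11 : allSyn synP col 11 3 (Nat.xor 0 (col 11)) = true := by decide +kernel

theorem z_12 : allSyn synP col 12 3 (Nat.xor 0 (col 12)) = true := by decide +kernel

theorem z_13 : allSyn synP col 13 3 (Nat.xor 0 (col 13)) = true := by decide +kernel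

theorem z_14 : allSyn synP col 14 3 (Nat.xor 0 (col 14)) = true := by decide +kernel

theorem z_15 : allSyn synP col 15 3 (Nat.xor 0 (col 15)) = true := by decide +kernel

theorem z_16 : allSyn synP col 16 3 (Nat.xor 0 (col 16)) = true := by decide +kernel

theorem z_17 : allSyn synP col 17 3 (Nat.xor 0 (col 17)) = true := by decide +kernel

theorem z_18 : allSyn synP col 18 3 (Nat.xor 0 (col 18)) = true := by decide +kernel

theorem z_19 : allSyn synP col 19 3 (Nat.xor 0 (col 19)) = true := by decide +kernel

theorem z_20 : allSyn synP col 20 3 (Nat.xor 0 (col 20)) = true := by decide +kernel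

theorem z_21 : allSyn synP col 21 3 (Nat.xor 0 (col 21)) = true := by decide +kernel

theorem z_22 : allSyn synP col 22 3 (Nat.xor 0 (col 22)) = true := by decide +kernel

theorem z_23 : allSyn synP col 23 3 (Nat.xor 0 (col 23)) = true := by decide +kernel

theorem z_24 : allSyn synP col 24 3 (Nat.xor 0 (col 24)) = true := by decide +kernel

theorem z_25 : allSyn synP col 25 3 (Nat.xor 0 (col 25)) = true := by decide +kernel

theorem z_26 : allSyn synP col 26 3 (Nat.xor 0 (col 26)) = true := by decide +kernel

theorem z_27 : allSyn synP col 27 3 (Nat.xor 0 (col 27)) = true := by decide +kernel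

theorem z_28 : allSyn synP col 28 3 (Nat.xor 0 (col 28)) = true := by decide +kernel

theorem z_29 : allSyn synP col 29 3 (Nat.xor 0 (col 29)) = true := by decide +kernel

theorem z_30 : allSyn synP col 30 3 (Nat.xor 0 (col 30)) = true := by decide +kernel

theorem z_31 : allSyn synP col 31 3 (Nat.xor 0 (col 31)) = true := by decide +kernel

theorem z_32 : allSyn synP col 32 3 (Nat.xor 0 (col 32)) = true := by decide +kernel

theorem z_33 : allSyn synP col 33 3 (Nat.xor 0 (col 33)) = true := by decide +kernel

theorem z_34 : allSyn synP col 34 3 (Nat.xor 0 (col 34)) = true := by decide +kernel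

theorem z_35 : allSyn synP col 35 3 (Nat.xor 0 (col 35)) = true := by decide +kernel

theorem z_36 : allSyn synP col 36 3 (Nat.xor 0 (col 36)) = true := by decide +kernel

theorem z_37 : allSyn synP col 37 3 (Nat.xor 0 (col 37)) = true := by decide +kernel

theorem z_38 : allSyn synP col 38 3 (Nat.xor 0 (col 38)) = true := by decide +kernel

theorem z_39 : allSyn synP col 39 3 (Nat.xor 0 (col 39)) = true := by decide +kernel

theorem z_40 : allSyn synP col 40 3 (Nat.xor 0 (col 40)) = true := by decide +kernel

theorem z_41 : allSyn synP col 41 3 (Nat.xor 0 (col 41)) = true := by decide +kernel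

theorem z_42 : allSyn synP col 42 3 (Nat.xor 0 (col 42)) = true := by decide +kernel

theorem z_43 : allSyn synP col 43 3 (Nat.xor 0 (col 43)) = true := by decide +kernel

theorem z_44 : allSyn synP col 44 3 (Nat.xor 0 (col 44)) = true := by decide +kernel

theorem z_45 : allSyn synP col 45 3 (Nat.xor 0 (col 45)) = true := by decide +kernel

theorem z_46 : allSyn synP col 46 3 (Nat.xor 0 (col 46)) = true := by decide +kernel

theorem z_47 : allSyn synP col 47 3 (Nat.xor 0 (col 47)) = true := by decide +kernel

theorem z_48 : allSyn synP col 48 3 (Nat.xor 0 (col 48)) = true := by decide +kernel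

theorem z_49 : allSyn synP col 49 3 (Nat.xor 0 (col 49)) = true := by decide +kernel

theorem z_50 : allSyn synP col 50 3 (Nat.xor 0 (col 50)) = true := by decide +kernel

theorem z_51 : allSyn synP col 51 3 (Nat.xor 0 (col 51)) = true := by decide +kernel

theorem z_52 : allSyn synP col 52 3 (Nat.xor 0 (col 52)) = true := by decide +kernel

theorem z_53 : allSyn synP col 53 3 (Nat.xor 0 (col 53)) = true := by decide +kernel

theorem z_54 : allSyn synP col 54 3 (Nat.xor 0 (col 54)) = true := by decide +kernel

theorem z_55 : allSyn synP col 55 3 (Nat.xor 0 (col 55)) = true := by decide +kernel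

theorem c_0 : Nat.ble (cnt RS H0 (fun r => (K r).map Prod.snd) (sigB L0.Y)) L0.n = true := by decide +kernel

theorem c_1 : Nat.ble (cnt RS H0 (fun r => (K r).map Prod.snd) (sigB L1.Y)) L1.n = true := by decide +kernel

theorem c_2 : Nat.ble (cnt RS H0 (fun r => (K r).map Prod.snd) (sigB L2.Y)) L2.n = true := by decide +kernel

theorem c_3 : Nat.ble (cnt RS H0 (fun r => (K r).map Prod.snd) (sigB L3.Y)) L3.n = true := by decide +kernel

theorem c_4 : Nat.ble (cnt RS H0 (fun r => (K r).map Prod.snd) (sigB L4.Y)) L4.n = true := by decide +kernel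

theorem c_5 : Nat.ble (cnt RS H0 (fun r => (K r).map Prod.snd) (sigB L5.Y)) L5.n = true := by decide +kernel

theorem c_6 : Nat.ble (cnt RS H0 (fun r => (K r).map Prod.snd) (sigB L6.Y)) L6.n = true := by decide +kernel

theorem c_7 : Nat.ble (cnt RS H0 (fun r => (K r).map Prod.snd) (sigB L7.Y)) L7.n = true := by decide +kernel

theorem c_8 : Nat.ble (cnt RS H0 (fun r => (K r).map Prod.snd) (sigB L8.Y)) L8.n = true := by decide +kernel

theorem c_9 : Nat.ble (cnt RS H0 (fun r => (K r).map Prod.snd) (sigB L9.Y)) L9.n = true := by decide +kernel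

theorem c_10 : Nat.ble (cnt RS H0 (fun r => (K r).map Prod.snd) (sigB L10.Y)) L10.n = true := by decide +kernel

theorem c_11 : Nat.ble (cnt RS H0 (fun r => (K r).map Prod.snd) (sigB L11.Y)) L11.n = true := by decide +kernel

theorem c_12 : Nat.ble (cnt RS H0 (fun r => (K r).map Prod.snd) (sigB L12.Y)) L12.n = true := by decide +kernel

end Cfsg.Agent.H9.RuB
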