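import Cfsg.Agent.H9.RuBD

/-! The order of the automorphism group of the Rudvalis lattice. Checks. -/

set_option autoImplicit false
set_option maxRecDepth 100000

namespace Cfsg.Agent.H9.RuB

open Cfsg.Agent.H9.Ru

theorem c_13 : Nat.ble (cnt RS H0 (fun r => (K r).map Prod.snd) (sigB L13.Y)) L13.n = true := by decide +kernel

theorem c_14 : Nat.ble (cnt RS H0 (fun r => (K r).map Prod.snd) (sigB L14.Y)) L14.n = true := by decide +kernel

theorem c_15 : Nat.ble (cnt RS H0 (fun r => (K r).map Prod.snd) (sigB L15.Y)) L15.n = true := by decide +kernel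

theorem c_16 : Nat.ble (cnt RS H0 (fun r => (K r).map Prod.snd) (sigB L16.Y)) L16.n = true := by decide +kernel

theorem c_17 : Nat.ble (cnt RS H0 (fun r => (K r).map Prod.snd) (sigB L17.Y)) L17.n = true := by decide +kernel

theorem c_18 : Nat.ble (cnt RS H0 (fun r => (K r).map Prod.snd) (sigB L18.Y)) L18.n = true := by decide +kernel

theorem c_19 : Nat.ble (cnt RS H0 (fun r => (K r).map Prod.snd) (sigB L19.Y)) L19.n = true := by decide +kernel

theorem c_20 : Nat.ble (cnt RS H0 (fun r => (K r).map Prod.snd) (sigB L20.Y)) L20.n = true := by decide +kernel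

theorem c_21 : Nat.ble (cnt RS H0 (fun r => (K r).map Prod.snd) (sigB L21.Y)) L21.n = true := by decide +kernel

theorem c_22 : Nat.ble (cnt RS H0 (fun r => (K r).map Prod.snd) (sigB L22.Y)) L22.n = true := by decide +kernel

theorem c_23 : Nat.ble (cnt RS H0 (fun r => (K r).map Prod.snd) (sigB L23.Y)) L23.n = true := by decide +kernel

theorem c_24 : Nat.ble (cnt RS H0 (fun r => (K r).map Prod.snd) (sigB L24.Y)) L24.n = true := by decide +kernel

theorem c_25 : Nat.ble (cnt RS H0 (fun r => (K r).map Prod.snd) (sigB L25.Y)) L25.n = true := by decide +kernel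

theorem c_26 : Nat.ble (cnt RS H0 (fun r => (K r).map Prod.snd) (sigB L26.Y)) L26.n = true := by decide +kernel

theorem c_27 : Nat.ble (cnt RS H0 (fun r => (K r).map Prod.snd) (sigB L27.Y)) L27.n = true := by decide +kernel

theorem c_28 : Nat.ble (cnt RS H0 (fun r => (K r).map Prod.snd) (sigB L28.Y)) L28.n = true := by decide +kernel

theorem c_29 : Nat.ble (cnt RS H0 (fun r => (K r).map Prod.snd) (sigB L29.Y)) L29.n = true := by decide +kernel

theorem c_30 : Nat.ble (cnt RS H0 (fun r => (K r).map Prod.snd) (sigB L30.Y)) L30.n = true := by decide +kernel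

theorem c_31 : Nat.ble (cnt RS H0 (fun r => (K r).map Prod.snd) (sigB L31.Y)) L31.n = true := by decide +kernel

theorem c_32 : Nat.ble (cnt RS H0 (fun r => (K r).map Prod.snd) (sigB L32.Y)) L32.n = true := by decide +kernel

theorem c_33 : Nat.ble (cnt RS H0 (fun r => (K r).map Prod.snd) (sigB L33.Y)) L33.n = true := by decide +kernel

theorem c_34 : Nat.ble (cnt RS H0 (fun r => (K r).map Prod.snd) (sigB L34.Y)) L34.n = true := by decide +kernel

theorem c_35 : Nat.ble (cnt RS H0 (fun r => (K r).map Prod.snd) (sigB L35.Y)) L35.n = true := by decide +kernel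

end Cfsg.Agent.H9.RuB
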