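import Cfsg.Agent.H9.RuBC0
import Cfsg.Agent.H9.RuBC1
import Cfsg.Agent.H9.RuBC2

/-! The order of the automorphism group of the Rudvalis lattice. -/

set_option autoImplicit false
set_option maxRecDepth 100000

namespace Cfsg.Agent.H9.RuB

open Cfsg.Agent.H9.Ru

theorem B1_eq : B1 = b0 :: b1 :: b2 :: b3 :: Bt := by decide +kernel

theorem span : allSpan (resP RS RE) B1 0 = true := by
  rw [B1_eq]
  exact (allSpan_cons (allSpan_cons (allSpan_cons (allSpan_cons span_0 span_1) (allSpan_cons span_2 span_3)) (allSpan_cons (allSpan_cons span_4 span_5) (allSpan_cons span_6 span_7))) (allSpan_cons (allSpan_cons (allSpan_cons span_8 span_9) (allSpan_cons span_10 span_11)) (allSpan_cons (allSpan_cons span_12 span_13) (allSpan_cons span_14 span_15))))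

theorem sol : ∀ i < 952, (fun r => solB (RS r) (H0 r) (FF r) (PV r) (K r)) i = true :=
  all_of_blocks (d := 6) (m := 15) (by decide) (forall_lt_succ'' (forall_lt_succ'' (forall_lt_succ'' (forall_lt_succ'' (forall_lt_succ'' (forall_lt_succ'' (forall_lt_succ'' (forall_lt_succ'' (forall_lt_succ'' (forall_lt_succ'' (forall_lt_succ'' (forall_lt_succ'' (forall_lt_succ'' (forall_lt_succ'' (forall_lt_succ'' forall_lt_zero'' sol_0) sol_1) sol_2) sol_3) sol_4) sol_5) sol_6) sol_7) sol_8) sol_9) sol_10) sol_11) sol_12) sol_13) sol_14)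

theorem ex : ∀ i < 756, (fun r => exB (RE r) (TE r) (GE r)) i = true :=
  all_of_blocks (d := 7) (m := 6) (by decide) (forall_lt_succ'' (forall_lt_succ'' (forall_lt_succ'' (forall_lt_succ'' (forall_lt_succ'' (forall_lt_succ'' forall_lt_zero'' ex_0) ex_1) ex_2) ex_3) ex_4) ex_5)

theorem za_19 : ∀ j < 20, allSyn synP col j 3 (Nat.xor 0 (col j)) = true :=
  (forall_lt_succ'' (forall_lt_succ'' (forall_lt_succ'' (forall_lt_succ'' (forall_lt_succ'' (forall_lt_succ'' (forall_lt_succ'' (forall_lt_succ'' (forall_lt_succ'' (forall_lt_succ'' (forall_lt_succ'' (forall_lt_succ'' (forall_lt_succ'' (forall_lt_succ'' (forall_lt_succ'' (forall_lt_succ'' (forall_lt_succ'' (forall_lt_succ'' (forall_lt_succ'' (forall_lt_succ'' forall_lt_zero'' z_0) z_1) z_2) z_3) z_4) z_5) z_6) z_7) z_8) z_9) z_10) z_11) z_12) z_13) z_14) z_15) z_16) z_17) z_18) z_19)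

theorem za_39 : ∀ j < 40, allSyn synP col j 3 (Nat.xor 0 (col j)) = true :=
  (forall_lt_succ'' (forall_lt_succ'' (forall_lt_succ'' (forall_lt_succ'' (forall_lt_succ'' (forall_lt_succ'' (forall_lt_succ'' (forall_lt_succ'' (forall_lt_succ'' (forall_lt_succ'' (forall_lt_succ'' (forall_lt_succ'' (forall_lt_succ'' (forall_lt_succ'' (forall_lt_succ'' (forall_lt_succ'' (forall_lt_succ'' (forall_lt_succ'' (forall_lt_succ'' (forall_lt_succ'' za_19 z_20) z_21) z_22) z_23) z_24) z_25) z_26) z_27) z_28) z_29) z_30) z_31) z_32) z_33) z_34) z_35) z_36) z_37) z_38) z_39)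

theorem ex0 : allSyn synP col 56 4 0 = true :=
  allSyn_glue (by decide +kernel) (forall_lt_succ'' (forall_lt_succ'' (forall_lt_succ'' (forall_lt_succ'' (forall_lt_succ'' (forall_lt_succ'' (forall_lt_succ'' (forall_lt_succ'' (forall_lt_succ'' (forall_lt_succ'' (forall_lt_succ'' (forall_lt_succ'' (forall_lt_succ'' (forall_lt_succ'' (forall_lt_succ'' (forall_lt_succ'' za_39 z_40) z_41) z_42) z_43) z_44) z_45) z_46) z_47) z_48) z_49) z_50) z_51) z_52) z_53) z_54) z_55)

theorem shape : Shape RS H0 fun r => (K r).map Prod.snd := shape_of span sol ex (by decide +kernel) ex0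

theorem cnts : ∀ L ∈ Ls, cnt RS H0 (fun r => (K r).map Prod.snd) (sigB L.Y) ≤ L.n := by
  simp only [Ls, List.forall_mem_cons, ← Nat.ble_eq]
  exact ⟨c_0, c_1, c_2, c_3, c_4, c_5, c_6, c_7, c_8, c_9, c_10, c_11, c_12, c_13, c_14, c_15, c_16, c_17, c_18, c_19, c_20, c_21, c_22, c_23, c_24, c_25, c_26, c_27, c_28, c_29, c_30, c_31, c_32, c_33, c_34, c_35, fun _ h => absurd h List.not_mem_nil⟩

theorem finite_card : Finite Cfsg.Spor.fourRu ∧ Nat.card Cfsg.Spor.fourRu ≤ 583704576000 := by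
  have := card_Fx_le shape (Ls := Ls) (l := []) (by decide +kernel) cnts
  rw [Fx_nil] at this
  exact ⟨this.1, this.2.trans (by decide +kernel)⟩

end Cfsg.Agent.H9.RuB
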