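import Cfsg.Agent.H9.RuBD

/-! The order of the automorphism group of the Rudvalis lattice. Checks. -/

set_option autoImplicit false
set_option maxRecDepth 100000

namespace Cfsg.Agent.H9.RuB

open Cfsg.Agent.H9.Ru

theorem span_0 : allSpan (resP RS RE) Bt (0) = true := by decide +kernel

theorem span_1 : allSpan (resP RS RE) Bt (Nat.xor (0) b3) = true := by decide +kernel

theorem span_2 : allSpan (resP RS RE) Bt (Nat.xor (0) b2) = true := by decide +kernel

theorem span_3 : allSpan (resP RS RE) Bt (Nat.xor (Nat.xor (0) b2) b3) = true := by decide +kernel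

theorem span_4 : allSpan (resP RS RE) Bt (Nat.xor (0) b1) = true := by decide +kernel

theorem span_5 : allSpan (resP RS RE) Bt (Nat.xor (Nat.xor (0) b1) b3) = true := by decide +kernel

theorem span_6 : allSpan (resP RS RE) Bt (Nat.xor (Nat.xor (0) b1) b2) = true := by decide +kernel

theorem span_7 : allSpan (resP RS RE) Bt (Nat.xor (Nat.xor (Nat.xor (0) b1) b2) b3) = true := by decide +kernel

theorem span_8 : allSpan (resP RS RE) Bt (Nat.xor (0) b0) = true := by decide +kernel

theorem span_9 : allSpan (resP RS RE) Bt (Nat.xor (Nat.xor (0) b0) b3) = true := by decide +kernel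

theorem span_10 : allSpan (resP RS RE) Bt (Nat.xor (Nat.xor (0) b0) b2) = true := by decide +kernel

theorem span_11 : allSpan (resP RS RE) Bt (Nat.xor (Nat.xor (Nat.xor (0) b0) b2) b3) = true := by decide +kernel

theorem span_12 : allSpan (resP RS RE) Bt (Nat.xor (Nat.xor (0) b0) b1) = true := by decide +kernel

theorem span_13 : allSpan (resP RS RE) Bt (Nat.xor (Nat.xor (Nat.xor (0) b0) b1) b3) = true := by decide +kernel

theorem span_14 : allSpan (resP RS RE) Bt (Nat.xor (Nat.xor (Nat.xor (0) b0) b1) b2) = true := by decide +kernel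

theorem span_15 : allSpan (resP RS RE) Bt (Nat.xor (Nat.xor (Nat.xor (Nat.xor (0) b0) b1) b2) b3) = true := by decide +kernel

theorem sol_0 : allPow (below (nat_lit 952) (fun r => solB (RS r) (H0 r) (FF r) (PV r) (K r))) 6 (0 * 2 ^ 6) = true := by decide +kernel

theorem sol_1 : allPow (below (nat_lit 952) (fun r => solB (RS r) (H0 r) (FF r) (PV r) (K r))) 6 (1 * 2 ^ 6) = true := by decide +kernel

theorem sol_2 : allPow (below (nat_lit 952) (fun r => solB (RS r) (H0 r) (FF r) (PV r) (K r))) 6 (2 * 2 ^ 6) = true := by decide +kernel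

theorem sol_3 : allPow (below (nat_lit 952) (fun r => solB (RS r) (H0 r) (FF r) (PV r) (K r))) 6 (3 * 2 ^ 6) = true := by decide +kernel

theorem sol_4 : allPow (below (nat_lit 952) (fun r => solB (RS r) (H0 r) (FF r) (PV r) (K r))) 6 (4 * 2 ^ 6) = true := by decide +kernel

theorem sol_5 : allPow (below (nat_lit 952) (fun r => solB (RS r) (H0 r) (FF r) (PV r) (K r))) 6 (5 * 2 ^ 6) = true := by decide +kernel

theorem sol_6 : allPow (below (nat_lit 952) (fun r => solB (RS r) (H0 r) (FF r) (PV r) (K r))) 6 (6 * 2 ^ 6) = true := by decide +kernel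

theorem sol_7 : allPow (below (nat_lit 952) (fun r => solB (RS r) (H0 r) (FF r) (PV r) (K r))) 6 (7 * 2 ^ 6) = true := by decide +kernel

theorem sol_8 : allPow (below (nat_lit 952) (fun r => solB (RS r) (H0 r) (FF r) (PV r) (K r))) 6 (8 * 2 ^ 6) = true := by decide +kernel

theorem sol_9 : allPow (below (nat_lit 952) (fun r => solB (RS r) (H0 r) (FF r) (PV r) (K r))) 6 (9 * 2 ^ 6) = true := by decide +kernel

theorem sol_10 : allPow (below (nat_lit 952) (fun r => solB (RS r) (H0 r) (FF r) (PV r) (K r))) 6 (10 * 2 ^ 6) = true := by decide +kernel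

theorem sol_11 : allPow (below (nat_lit 952) (fun r => solB (RS r) (H0 r) (FF r) (PV r) (K r))) 6 (11 * 2 ^ 6) = true := by decide +kernel

theorem sol_12 : allPow (below (nat_lit 952) (fun r => solB (RS r) (H0 r) (FF r) (PV r) (K r))) 6 (12 * 2 ^ 6) = true := by decide +kernel

end Cfsg.Agent.H9.RuB
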