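import Cfsg.Agent.H9.RuMin

/-! An upper bound for the order of the automorphism group of the Rudvalis lattice. -/

set_option autoImplicit false
set_option maxHeartbeats 400000

namespace Cfsg.Agent.H9.Ru

open Cfsg Cfsg.Spor Finset

theorem allSpan_cons {P : ℕ → Bool} {b acc : ℕ} {bs : List ℕ} (h1 : allSpan P bs acc = true)
    (h2 : allSpan P bs (Nat.xor acc b) = true) : allSpan P (b :: bs) acc = true := by
  have e : allSpan P (b :: bs) acc = Bool.rec (motive := fun _ => Bool) false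
    (allSpan P bs (Nat.xor acc b)) (allSpan P bs acc) := rfl
  rw [e, h1]; exact h2

/-- binary search in a decreasing table -/
noncomputable def bsearch (R : ℕ → ℕ) (x d : ℕ) : ℕ → ℕ :=
  Nat.rec (motive := fun _ => ℕ → ℕ) (fun lo => lo)
    (fun e ih lo => Nat.rec (motive := fun _ => ℕ) 0
      (fun m _ => Bool.rec (motive := fun _ => ℕ) (ih m) (ih lo) (Nat.blt (R m) x))
      (Nat.succ (Nat.add lo (Nat.pow 2 e)))) d

/-- `x` is in the table -/
noncomputable def inT (R : ℕ → ℕ) (n x : ℕ) : Bool :=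
  Nat.rec (motive := fun _ => Bool) false (fun r _ => Nat.blt r n && Nat.beq (R r) x)
    (Nat.succ (bsearch R x 10 0))

theorem inT_spec {R : ℕ → ℕ} {n x : ℕ} (h : inT R n x = true) : ∃ r < n, R r = x := by
  have : (Nat.blt (bsearch R x 10 0) n && Nat.beq (R (bsearch R x 10 0)) x) = true := h
  simp only [Bool.and_eq_true, Nat.blt_eq, Nat.beq_eq] at this
  exact ⟨_, this⟩

/-- residues of small weight are listed -/
noncomputable def resP (RS RE : ℕ → ℕ) (x : ℕ) : Bool :=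
  Nat.rec (motive := fun _ => Bool) false (fun ρ _ => Bool.rec (motive := fun _ => Bool)
    (Nat.beq ρ 0 || inT RS 952 ρ || inT RE 756 ρ) true (Nat.blt 16 (wt ρ))) (Nat.succ x)

/-- the shape of the vectors of norm 16 -/
def Shape (RS H0 : ℕ → ℕ) (K : ℕ → List ℕ) : Prop :=
  ∀ x ∈ ruLattice, dot x x = 16 → (∃ j < 56, ∃ b < 2, x = vec 4 (1 <<< (6 * j)) (b <<< (6 * j))) ∨
    ∃ r < 952, ∃ m, InSpan (K r) m ∧ x = vec 1 (RS r) (H0 r ^^^ m)

theorem shape_of {RS RE H0 F PV TE : ℕ → ℕ} {K GE : ℕ → List (ℕ × ℕ)} {e : ℕ → ℕ}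
    (h1 : allSpan (resP RS RE) B1 0 = true)
    (h2 : ∀ r < 952, solB (RS r) (H0 r) (F r) (PV r) (K r) = true)
    (h3 : ∀ r < 756, exB (RE r) (TE r) (GE r) = true) (h4 : colB e = true)
    (h4' : allSyn synP e 56 4 0 = true) :
    Shape RS H0 fun r => (K r).map Prod.snd := by
  intro x hx hn
  obtain ⟨ρ, h5, h6⟩ := res_span hx
  have hr : R4 x ρ (hiOf x) := fun j hj => by
    have := r4_of x j hj; have := h6 j hj; have := sb_le (loOf x) j
    omega
  have h7 : Bool.rec (motive := fun _ => Bool) (Nat.beq ρ 0 || inT RS 952 ρ || inT RE 756 ρ) true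
    (Nat.blt 16 (wt ρ)) = true := allSpan_spec' _ _ h1 h5
  have h8 := weight_le hr hn
  cases h9 : Nat.blt 16 (wt ρ) with
  | true => rw [Nat.blt_eq, wt_eq] at h9; omega
  | false =>
    rw [h9] at h7
    simp only [Bool.or_eq_true, Nat.beq_eq] at h7
    rcases h7 with (rfl | h7) | h7
    · exact Or.inl (zero_spec hx hn hr h4 h4')
    · obtain ⟨r, a, rfl⟩ := inT_spec h7
      exact Or.inr ⟨r, a, solB_spec hx hn hr (h2 r a)⟩
    · obtain ⟨r, a, rfl⟩ := inT_spec h7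
      exact Or.inl (exB_spec hx hn hr (h3 r a))

theorem dot_vec (s ρ h s' ρ' h' : ℕ) : dot (vec s ρ h) (vec s' ρ' h') =
    s * s' * (W (ρ &&& ρ') - 2 * W (ρ &&& ρ' &&& (h ^^^ h'))) := by
  simp only [dot, W]
  push_cast
  rw [mul_sum, ← sum_sub_distrib, mul_sum]
  apply sum_congr rfl
  intro j hj
  rw [co_vec _ _ _ (mem_range.mp hj), co_vec _ _ _ (mem_range.mp hj), sb_and (_ &&& _), sb_and, sb_xor]
  have := sb_le h j; have := sb_le h' j
  generalize sb h j = b at *; generalize sb h' j = d at *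
  interval_cases b <;> interval_cases d <;> push_cast <;> ring

/-- the inner product plus 16 is `t` -/
noncomputable def ipB (s ρ h : ℕ) (y : ℕ × ℕ × ℕ) (t : ℕ) : Bool :=
  Nat.rec (motive := fun _ => Bool) false (fun z _ =>
    Nat.beq (Nat.add (Nat.mul (Nat.mul s y.1) (wt z)) 16)
      (Nat.add t (Nat.mul (Nat.mul s y.1) (Nat.mul 2 (wt (Nat.land z (Nat.xor h y.2.2)))))))
    (Nat.succ (Nat.land ρ y.2.1))

/-- the vector coded by a triple -/
def v3 (y : ℕ × ℕ × ℕ) : RuVec := vec y.1 y.2.1 y.2.2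

theorem ipB_iff {s ρ h : ℕ} {y : ℕ × ℕ × ℕ} {t : ℕ} :
    ipB s ρ h y t = true ↔ dot (vec s ρ h) (v3 y) + 16 = t := by
  have e : ipB s ρ h y t = Nat.beq (s * y.1 * wt (ρ &&& y.2.1) + 16)
    (t + s * y.1 * (2 * wt (ρ &&& y.2.1 &&& (h ^^^ y.2.2)))) := rfl
  rw [e, Nat.beq_eq, wt_eq, wt_eq, v3, dot_vec, ← Int.natCast_inj]
  push_cast
  constructor <;> intro h <;> linarith

/-- all inner products are as listed -/
noncomputable def sigB (Y : List ((ℕ × ℕ × ℕ) × ℕ)) (s ρ h : ℕ) : Bool :=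
  allL Y fun y => ipB s ρ h y.1 y.2

/-- number of vectors of norm 16 satisfying `Q` -/
noncomputable def cnt (RS H0 : ℕ → ℕ) (K : ℕ → List ℕ) (Q : ℕ → ℕ → ℕ → Bool) : ℕ :=
  Nat.add (sumN 56 fun j => sumN 2 fun b => ind (Q 4 (1 <<< (6 * j)) (b <<< (6 * j))))
    (sumN 952 fun r => Nat.rec (motive := fun _ => ℕ) 0
      (fun ρ _ => sumSpan (fun h => Nat.rec (motive := fun _ => ℕ) 0 (fun h' _ => ind (Q 1 ρ h'))
        (Nat.succ h)) (K r) (H0 r)) (Nat.succ (RS r)))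

theorem covers {RS H0 : ℕ → ℕ} {K : ℕ → List ℕ} (hs : Shape RS H0 K) (Q : ℕ → ℕ → ℕ → Bool) :
    Covers (cnt RS H0 K Q) fun x : RuVec =>
      x ∈ ruLattice ∧ dot x x = 16 ∧ ∀ s ρ h, x = vec s ρ h → Q s ρ h = true := by
  refine ((Covers.sumN 56 fun j _ => Covers.sumN 2 fun b _ =>
    Covers.single (Q 4 (1 <<< (6 * j)) (b <<< (6 * j))) (vec 4 (1 <<< (6 * j)) (b <<< (6 * j)))).or
    (Covers.sumN 952 fun r _ => Covers.sumSpan (fun h => Covers.single (Q 1 (RS r) h) (vec 1 (RS r) h))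
      (K r) (H0 r))).mono ?_
  rintro x ⟨h1, h2, h3⟩
  rcases hs x h1 h2 with ⟨j, hj, b, hb, e⟩ | ⟨r, hr, m, hm, e⟩
  · exact Or.inl ⟨j, hj, b, hb, h3 _ _ _ e, e⟩
  · exact Or.inr ⟨r, hr, m, hm, h3 _ _ _ e, e⟩

/-- the triple codes a lattice vector of norm 16 -/
noncomputable def vecB (y : ℕ × ℕ × ℕ) : Bool :=
  Nat.beq (y.1 * y.1 * wt y.2.1) 16 &&
    (Nat.beq y.1 4 || Nat.beq y.1 1 && memB y.2.1 (Nat.land y.2.1 y.2.2))

theorem r4_vec (ρ h : ℕ) : R4 (vec 1 ρ h) ρ (ρ &&& h) := by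
  intro j hj
  rw [co_vec _ _ _ hj, sb_and]
  have := sb_le ρ j; have := sb_le h j
  generalize sb ρ j = a at *; generalize sb h j = b at *
  interval_cases a <;> interval_cases b <;> rfl

theorem vecB_spec {y : ℕ × ℕ × ℕ} (h : vecB y = true) : v3 y ∈ ruLattice ∧ dot (v3 y) (v3 y) = 16 := by
  obtain ⟨s, ρ, t⟩ := y
  simp only [vecB, Bool.and_eq_true, Bool.or_eq_true, Nat.beq_eq, wt_eq] at h
  constructor
  · rcases h.2 with rfl | ⟨rfl, h2⟩
    · have : v3 (4, ρ, t) = 4 • vec 1 ρ t := co_ext fun j hj => by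
        rw [co_four, v3, co_vec _ _ _ hj, co_vec _ _ _ hj]; simp
      rw [this]; exact four_mem _
    · exact (r4_v4 _ _).mem four_mem (r4_vec ρ t) (mem_of_memB h2)
  · have h0 : W 0 = 0 := by simp [W, sb_zero]
    rw [v3, dot_vec, Nat.xor_self, Nat.and_zero, Nat.and_self, h0]
    have := h.1
    simp only [Nat.cast_zero, mul_zero, sub_zero]
    exact_mod_cast this

/-- the second triple is `i` times the first -/
noncomputable def iB (y z : ℕ × ℕ × ℕ) : Bool :=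
  allLt 56 fun j => decide (co (v3 z) j = co (gI • v3 y) j)

theorem iB_spec {y z : ℕ × ℕ × ℕ} (h : iB y z = true) : v3 z = gI • v3 y :=
  co_ext fun j hj => of_decide_eq_true ((allLt_iff _ _).mp h j hj)

/-- the elements fixing the listed vectors -/
def Fx (l : List (ℕ × ℕ × ℕ)) : Subgroup (Equiv.Perm ruLattice) where
  carrier := {f | f ∈ fourRu ∧ ∀ x : ruLattice, (∃ y ∈ l, x.1 = v3 y) → f x = x}
  one_mem' := ⟨one_mem _, fun _ _ => rfl⟩
  mul_mem' := fun {f g} hf hg => ⟨mul_mem hf.1 hg.1, fun x hx => by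
    rw [Equiv.Perm.mul_apply, hg.2 x hx, hf.2 x hx]⟩
  inv_mem' := fun {f} hf => ⟨inv_mem hf.1, fun x hx => by
    rw [Equiv.Perm.inv_eq_iff_eq, hf.2 x hx]⟩

/-- a level of the chain: a vector, `i` times it, the inner products used, the bound -/
structure Lvl where
  b : ℕ × ℕ × ℕ
  ib : ℕ × ℕ × ℕ
  Y : List ((ℕ × ℕ × ℕ) × ℕ)
  n : ℕ

/-- equality of triples -/
def eq3 (y z : ℕ × ℕ × ℕ) : Bool := Nat.beq y.1 z.1 && Nat.beq y.2.1 z.2.1 && Nat.beq y.2.2 z.2.2

theorem eq3_spec {y z : ℕ × ℕ × ℕ} (h : eq3 y z = true) : y = z := by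
  simp only [eq3, Bool.and_eq_true, Nat.beq_eq] at h
  exact Prod.ext h.1.1 (Prod.ext h.1.2 h.2)

/-- the static checks of the chain -/
noncomputable def lvB (Ls : List Lvl) : List (ℕ × ℕ × ℕ) → Bool :=
  List.rec (motive := fun _ => List (ℕ × ℕ × ℕ) → Bool)
    (fun l => allLt 28 fun j => anyL l (eq3 (4, 1 <<< (6 * j), 0)))
    (fun L _ ih l => vecB L.b && iB L.b L.ib && sigB L.Y L.b.1 L.b.2.1 L.b.2.2 &&
      allL L.Y (fun y => vecB y.1 && anyL l (eq3 y.1)) && ih (L.b :: L.ib :: l)) Ls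

theorem e4_eq (p : RuIdx) : e4 p = v3 (4, 1 <<< (6 * ix p), 0) := by
  apply co_ext
  intro j hj
  rw [v3, co_vec _ _ _ hj, sb_one, sb_zero]
  obtain ⟨q, rfl | rfl⟩ := idx_cases hj
  · rw [co_re, e4]
    simp only [ix_inj.eq_iff]
    split_ifs <;> rfl
  · have := ix_lt p
    rw [co_im, e4, if_neg (show ¬ 28 + ix q = ix p by omega)]
    split_ifs <;> rfl

theorem map_zsmul' {f : Equiv.Perm ruLattice} (hf : f ∈ fourRu) (z : GaussianInt) (x : ruLattice) :
    ((f ⟨z • x.1, smul_mem z x.2⟩ : ruLattice) : RuVec) = z • (f x).1 := by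
  have key : ∀ v : RuVec, z • v = z.re • v + z.im • (gI • v) := fun v => by
    funext p
    apply Zsqrtd.ext <;> simp [gI] <;> ring
  have e : (⟨z • x.1, smul_mem z x.2⟩ : ruLattice) = z.re • x + z.im • ruI x := Subtype.ext (key _)
  have h1 := map_zsmul (AddMonoidHom.mk' f hf.1) z.re x
  have h2 := map_zsmul (AddMonoidHom.mk' f hf.1) z.im (ruI x)
  simp only [AddMonoidHom.mk'_apply] at h1 h2
  rw [e, hf.1, h1, h2, hf.2.1, key]; rfl

theorem four_map {f : Equiv.Perm ruLattice} (hf : f ∈ fourRu) (x : ruLattice) :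
    4 • ((f x : ruLattice) : RuVec) = ∑ p, x.1 p • (f ⟨e4 p, e4_mem p⟩).1 := by
  have e : 4 • x = ∑ p, (⟨x.1 p • e4 p, smul_mem _ (e4_mem p)⟩ : ruLattice) := by
    apply Subtype.ext
    rw [AddSubgroup.coe_nsmul, four_eq, AddSubgroup.val_finset_sum]
  have h1 := map_nsmul (AddMonoidHom.mk' f hf.1) 4 x
  rw [e, map_sum] at h1
  simp only [AddMonoidHom.mk'_apply] at h1
  rw [← AddSubgroup.coe_nsmul, ← h1, AddSubgroup.val_finset_sum]
  exact sum_congr rfl fun p _ => map_zsmul' hf _ ⟨e4 p, e4_mem p⟩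

theorem four_cancel {x y : RuVec} (h : 4 • x = 4 • y) : x = y := co_ext fun j _ => by
  have := congrArg (co · j) h
  simp only [co_four] at this
  omega

theorem card_Fx_le {RS H0 : ℕ → ℕ} {K : ℕ → List ℕ} (hs : Shape RS H0 K) {Ls : List Lvl}
    {l : List (ℕ × ℕ × ℕ)} (h1 : lvB Ls l = true) (h2 : ∀ L ∈ Ls, cnt RS H0 K (sigB L.Y) ≤ L.n) :
    Finite (Fx l) ∧ Nat.card (Fx l) ≤ (Ls.map Lvl.n).prod := by
  induction Ls generalizing l with
  | nil =>
    have : Fx l = ⊥ := by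
      rw [eq_bot_iff]
      intro f hf
      refine Equiv.ext fun x => Subtype.ext (four_cancel ?_)
      rw [four_map hf.1, four_eq]
      refine sum_congr rfl fun p _ => ?_
      have h1' : allLt 28 (fun j => anyL l (eq3 (4, 1 <<< (6 * j), 0))) = true := h1
      obtain ⟨y, hy, h3⟩ := (anyL_iff _ _).mp ((allLt_iff _ _).mp h1' _ (ix_lt p))
      rw [hf.2 _ ⟨y, hy, by rw [← eq3_spec h3]; exact e4_eq p⟩]; rfl
    rw [this]
    exact ⟨inferInstance, by simp⟩
  | cons L Ls ih =>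
    have e : lvB (L :: Ls) l = (vecB L.b && iB L.b L.ib && sigB L.Y L.b.1 L.b.2.1 L.b.2.2 &&
      allL L.Y (fun y => vecB y.1 && anyL l (eq3 y.1)) && lvB Ls (L.b :: L.ib :: l)) := rfl
    rw [e] at h1
    simp only [Bool.and_eq_true, allL_iff, anyL_iff, sigB, ipB_iff] at h1
    obtain ⟨⟨⟨⟨a1, a2⟩, a3⟩, a4⟩, a5⟩ := h1
    obtain ⟨b1, b2⟩ := ih a5 fun L' hL' => h2 L' (List.mem_cons_of_mem _ hL')
    obtain ⟨S, s1, s2⟩ := covers hs (sigB L.Y)
    let b : ruLattice := ⟨_, (vecB_spec a1).1⟩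
    have e2 : Fx l ⊓ MulAction.stabilizer _ b = Fx (L.b :: L.ib :: l) := by
      ext f
      constructor
      · rintro ⟨hf, hb⟩
        have hb' : f b = b := hb
        refine ⟨hf.1, ?_⟩
        rintro x ⟨y, hy, hx⟩
        simp only [List.mem_cons] at hy
        rcases hy with rfl | rfl | hy
        · rw [show x = b from Subtype.ext hx, hb']
        · rw [show x = ruI b from Subtype.ext (hx.trans (iB_spec a2)), hf.1.2.1, hb']
        · exact hf.2 x ⟨y, hy, hx⟩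
      · exact fun hf => ⟨⟨hf.1, fun x ⟨y, hy, hx⟩ => hf.2 x ⟨y, by simp [hy], hx⟩⟩,
          hf.2 b ⟨_, List.mem_cons_self, rfl⟩⟩
    rw [← e2] at b1 b2
    classical
    obtain ⟨c1, c2⟩ := card_le_of_orbit (Fx l) b (S.preimage Subtype.val Subtype.val_injective.injOn)
      fun f hf => mem_preimage.mpr (s2 _ ⟨(f b).2, (dot_map hf.1 b b).trans (vecB_spec a1).2,
        fun s ρ h e3 => by
          simp only [sigB, allL_iff, ipB_iff]
          intro y hy
          obtain ⟨d1, z, d2, d3⟩ := a4 y hy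
          have d4 := dot_map hf.1 b ⟨_, (vecB_spec d1).1⟩
          rw [hf.2 ⟨_, (vecB_spec d1).1⟩ ⟨z, d2, by rw [← eq3_spec d3]⟩] at d4
          rw [← e3, ← a3 y hy]
          exact congrArg (· + 16) d4⟩)
    refine ⟨c1, c2.trans (Nat.mul_le_mul ?_ b2)⟩
    refine le_trans ?_ (s1.trans (h2 L List.mem_cons_self))
    rw [card_preimage]
    exact card_filter_le _ _

theorem Fx_nil : Fx [] = fourRu := by
  ext f
  exact ⟨fun h => h.1, fun h => ⟨h, fun _ ⟨_, hy, _⟩ => absurd hy (by simp)⟩⟩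

end Cfsg.Agent.H9.Ru
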