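import Cfsg.Agent.H9.RuBound

/-! Elements of the automorphism group of the Rudvalis lattice, and its action on lines modulo 5. -/

set_option autoImplicit false
set_option maxHeartbeats 400000

namespace Cfsg.Agent.H9.Ru

open Cfsg Cfsg.Spor Finset

theorem eq_zero_of_dot {x : RuVec} (h : dot x x = 0) : x = 0 := co_ext fun j hj => by
  rw [co_zero]
  exact mul_self_eq_zero.mp ((sum_eq_zero_iff_of_nonneg fun i _ => mul_self_nonneg (co x i)).mp h j
    (mem_range.mpr hj))

theorem finite_shell (n : ℤ) : {x : ruLattice | dot (x : RuVec) x = n}.Finite := by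
  apply Set.Finite.of_finite_image (f := fun (x : ruLattice) (j : Fin 56) => co x j)
  · apply (Set.Finite.pi' (fun _ : Fin 56 => Set.finite_Icc (-n) n)).subset
    rintro _ ⟨x, hx, rfl⟩ i
    have h1 : co x i * co x i ≤ dot (x : RuVec) x :=
      single_le_sum (f := fun i => co x i * co x i) (fun i _ => mul_self_nonneg _) (mem_range.mpr i.2)
    rw [show dot (x : RuVec) x = n from hx] at h1
    show co x i ∈ _
    generalize co x i = c at h1
    constructor <;> nlinarith [sq_nonneg (c - 1), sq_nonneg (c + 1)]
  · exact fun x _ y _ h => Subtype.ext (co_ext fun j hj => congrFun h ⟨j, hj⟩)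

theorem exists_of_add (F : ruLattice → ruLattice) (hadd : ∀ x y, F (x + y) = F x + F y)
    (hi : ∀ x, F (ruI x) = ruI (F x)) (hn : ∀ x, dot (F x : RuVec) (F x) = dot (x : RuVec) x) :
    ∃ f ∈ fourRu, ∀ x, f x = F x := by
  have hinj : Function.Injective F := by
    have : Function.Injective (AddMonoidHom.mk' F hadd) := by
      rw [injective_iff_map_eq_zero]
      intro x hx
      have h1 := hn x
      rw [show F x = 0 from hx] at h1
      exact Subtype.ext (eq_zero_of_dot (by rw [← h1]; simp [dot, co_zero]))
    exact this
  have hsurj : Function.Surjective F := by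
    intro y
    have hm : Set.MapsTo F {x : ruLattice | dot (x : RuVec) x = dot (y : RuVec) y}
        {x : ruLattice | dot (x : RuVec) x = dot (y : RuVec) y} := fun x hx => (hn x).trans hx
    obtain ⟨x, -, hx⟩ := (((finite_shell _).injOn_iff_bijOn_of_mapsTo hm).mp hinj.injOn).surjOn
      (show y ∈ _ from rfl)
    exact ⟨x, hx⟩
  exact ⟨Equiv.ofBijective F ⟨hinj, hsurj⟩, ⟨hadd, hi, fun x => by rw [norm_eq, norm_eq]; exact hn x⟩,
    fun x => rfl⟩

theorem dot_sum (a : ℕ → ℤ) (U : ℕ → RuVec) (n : ℕ) (z : RuVec) :
    dot (∑ j ∈ range n, a j • U j) z = ∑ j ∈ range n, a j * dot (U j) z := by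
  have h := fun j => map_zsmul (AddMonoidHom.mk' (fun x => dot x z) fun x y => dot_add x y z) (a j) (U j)
  have h2 := map_sum (AddMonoidHom.mk' (fun x => dot x z) fun x y => dot_add x y z)
    (fun j => a j • U j) (range n)
  simp only [h, AddMonoidHom.mk'_apply, smul_eq_mul] at h2
  exact h2

/-- inner product of two coded vectors -/
def ipZ (y z : ℕ × ℕ × ℕ) : ℤ :=
  Int.mul (Nat.mul y.1 z.1 : ℕ) (Int.subNatNat (wt (Nat.land y.2.1 z.2.1))
    (Nat.mul 2 (wt (Nat.land (Nat.land y.2.1 z.2.1) (Nat.xor y.2.2 z.2.2)))))

theorem ipZ_eq (y z : ℕ × ℕ × ℕ) : ipZ y z = dot (v3 y) (v3 z) := by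
  rw [v3, v3, dot_vec, ipZ, Int.subNatNat_eq_coe, wt_eq, wt_eq]
  show ((y.1 * z.1 : ℕ) : ℤ) * (_ - ((2 * _ : ℕ) : ℤ)) = _
  push_cast; rfl

/-- packed 28 × 28 matrices modulo 5 -/
def P5 : PM := ⟨28, 17, 5, 205, 10, 0x1ffff0000000000000000000000000000000000000000000000000000000000000000000000000000000000000000000000000000000000000000001ffff0000000000000000000000000000000000000000000000000000000000000000000000000000000000000000000000000000000000000000001ffff0000000000000000000000000000000000000000000000000000000000000000000000000000000000000000000000000000000000000000001ffff0000000000000000000000000000000000000000000000000000000000000000000000000000000000000000000000000000000000000000001ffff0000000000000000000000000000000000000000000000000000000000000000000000000000000000000000000000000000000000000000001ffff0000000000000000000000000000000000000000000000000000000000000000000000000000000000000000000000000000000000000000001ffff0000000000000000000000000000000000000000000000000000000000000000000000000000000000000000000000000000000000000000001ffff000000000000000000000000000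0000000000000000000000000000000000000000000000000000000000000000000000000000000000000001ffff0000000000000000000000000000000000000000000000000000000000000000000000000000000000000000000000000000000000000000001ffff0000000000000000000000000000000000000000000000000000000000000000000000000000000000000000000000000000000000000000001ffff0000000000000000000000000000000000000000000000000000000000000000000000000000000000000000000000000000000000000000001ffff0000000000000000000000000000000000000000000000000000000000000000000000000000000000000000000000000000000000000000001ffff0000000000000000000000000000000000000000000000000000000000000000000000000000000000000000000000000000000000000000001ffff0000000000000000000000000000000000000000000000000000000000000000000000000000000000000000000000000000000000000000001ffff0000000000000000000000000000000000000000000000000000000000000000000000000000000000000000000000000000000000000000001ffff0000000000000000000000000000000000000000000000000000000000000000000000000000000000000000000000000000000000000000001ffff00000000000000000000000000000000000000000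00000000000000000000000000000000000000000000000000000000000000000000000001ffff0000000000000000000000000000000000000000000000000000000000000000000000000000000000000000000000000000000000000000001ffff0000000000000000000000000000000000000000000000000000000000000000000000000000000000000000000000000000000000000000001ffff0000000000000000000000000000000000000000000000000000000000000000000000000000000000000000000000000000000000000000001ffff0000000000000000000000000000000000000000000000000000000000000000000000000000000000000000000000000000000000000000001ffff0000000000000000000000000000000000000000000000000000000000000000000000000000000000000000000000000000000000000000001ffff0000000000000000000000000000000000000000000000000000000000000000000000000000000000000000000000000000000000000000001ffff0000000000000000000000000000000000000000000000000000000000000000000000000000000000000000000000000000000000000000001ffff0000000000000000000000000000000000000000000000000000000000000000000000000000000000000000000000000000000000000000001ffff0000000000000000000000000000000000000000000000000000000000000000000000000000000000000000000000000000000000000000001ffff0000000000000000000000000000000000000000000000000000000000000000000000000000000000000000000000000000000000000000001ffff,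 0x3f801fc00fe007f003f801fc00fe007f003f801fc00fe007f003f801fc00fe007f003f801fc00fe007f003f801fc00fe007f003f801fc00fe007f003f801fc00fe007f003f801fc00fe007f003f801fc00fe007f003f801fc00fe007f003f801fc00fe007f003f801fc00fe007f003f801fc00fe007f003f801fc00fe007f003f801fc00fe007f003f801fc00fe007f003f801fc00fe007f003f801fc00fe007f003f801fc00fe007f003f801fc00fe007f003f801fc00fe007f003f801fc00fe007f003f801fc00fe007f003f801fc00fe007f003f801fc00fe007f003f801fc00fe007f003f801fc00fe007f003f801fc00fe007f003f801fc00fe007f003f801fc00fe007f003f801fc00fe007f003f801fc00fe007f003f801fc00fe007f003f801fc00fe007f003f801fc00fe007f003f801fc00fe007f003f801fc00fe007f003f801fc00fe007f003f801fc00fe007f003f801fc00fe007f003f801fc00fe007f003f801fc00fe007f003f801fc00fe007f003f801fc00fe007f003f801fc00fe007f003f801fc00fe007f003f801fc00fe007f003f801fc00fe007f003f801fc00fe007f003f801fc00fe007f003f801fc00fe007f003f801fc00fe007f003f801fc00fe007f003f801fc00fe007f003f801fc00fe007f003f801fc00fe007f003f801fc00fe007f003f801fc00fe007f003f801fc00fe007f003f801fc00fe007f003f801fc00fe007f003f801fc00fe007f003f801fc00fe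007f003f801fc00fe007f003f801fc00fe007f003f801fc00fe007f003f801fc00fe007f003f801fc00fe007f003f801fc00fe007f003f801fc00fe007f003f801fc00fe007f003f801fc00fe007f003f801fc00fe007f003f801fc00fe007f003f801fc00fe007f003f801fc00fe007f003f801fc00fe007f003f801fc00fe007f003f801fc00fe007f003f801fc00fe007f003f801fc00fe007f003f801fc00fe007f003f801fc00fe007f003f801fc00fe007f003f801fc00fe007f003f801fc00fe007f003f801fc00fe007f003f801fc00fe007f003f801fc00fe007f003f801fc00fe007f003f801fc00fe007f003f801fc00fe007f003f801fc00fe007f003f801fc00fe007f003f801fc00fe007f003f801fc00fe007f003f801fc00fe007f003f801fc00fe007f003f801fc00fe007f003f801fc00fe007f003f801fc00fe007f003f801fc00fe007f003f801fc00fe007f003f801fc00fe007f003f801fc00fe007f003f801fc00fe007f003f801fc00fe007f003f801fc00fe007f003f801fc00fe007f003f801fc00fe007f003f801fc00fe007f003f801fc00fe007f003f801fc00fe007f003f801fc00fe007f003f801fc00fe007f003f801fc00fe007f003f801fc00fe007f003f801fc00fe007f003f801fc00fe007f003f801fc00fe007f003f801fc00fe007f003f801fc00fe007f003f801fc00fe007f003f801fc00fe007f003f801fc00fe007f003f801fc00fe007f003f801fc0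0fe007f003f801fc00fe007f003f801fc00fe007f003f801fc00fe007f003f801fc00fe007f003f801fc00fe007f003f801fc00fe007f003f801fc00fe007f003f801fc00fe007f003f801fc00fe007f003f801fc00fe007f003f801fc00fe007f003f801fc00fe007f003f801fc00fe007f003f801fc00fe007f003f801fc00fe007f003f801fc00fe007f003f801fc00fe007f003f801fc00fe007f003f801fc00fe007f003f801fc00fe007f003f801fc00fe007f003f801fc00fe007f003f801fc00fe007f003f801fc00fe007f003f801fc00fe007f003f801fc00fe007f003f801fc00fe007f003f801fc00fe007f003f801fc00fe007f003f801fc00fe007f003f801fc00fe007f003f801fc00fe007f003f801fc00fe007f003f801fc00fe007f003f801fc00fe007f003f801fc00fe007f003f801fc00fe007f003f801fc00fe007f003f801fc00fe007f003f801fc00fe007f003f801fc00fe007f003f801fc00fe007f003f801fc00fe007f003f801fc00fe007f003f801fc00fe007f003f801fc00fe007f003f801fc00fe007f003f801fc00fe007f003f801fc00fe007f003f801fc00fe007f003f801fc00fe007f003f801fc00fe007f003f801fc00fe007f003f801fc00fe007f003f801fc00fe007f003f801fc00fe007f003f801fc00fe007f003f801fc00fe007f003f801fc00fe007f003f801fc00fe007f003f801fc00fe007f003f801fc00fe007f003f801fc00fe007f003f801fc00fe007f003f801fc00fe007f003f801fc00fe007f003f801fc00fe007f003f801fc00fe007f,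 0x80000000000000000000000000000000000000000000000000000000000000000000000000000000000000000000000000000000000000000000000000040000000000000000000000000000000000000000000000000000000000000000000000000000000000000000000000000000000000000000000000000020000000000000000000000000000000000000000000000000000000000000000000000000000000000000000000000000000000000000000000000000010000000000000000000000000000000000000000000000000000000000000000000000000000000000000000000000000000000000000000000000000008000000000000000000000000000000000000000000000000000000000000000000000000000000000000000000000000000000000000000000000000004000000000000000000000000000000000000000000000000000000000000000000000000000000000000000000000000000000000000000000000000002000000000000000000000000000000000000000000000000000000000000000000000000000000000000000000000000000000000000000000000000001000000000000000000000000000000000000000000000000000000000000000000000000000000000000000000000000000000000000000000000000000800000000000000000000000000000000000000000000000000000000000000000000000000000000000000000000000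00000000000000000000000000040000000000000000000000000000000000000000000000000000000000000000000000000000000000000000000000000000000000000000000000000020000000000000000000000000000000000000000000000000000000000000000000000000000000000000000000000000000000000000000000000000010000000000000000000000000000000000000000000000000000000000000000000000000000000000000000000000000000000000000000000000000008000000000000000000000000000000000000000000000000000000000000000000000000000000000000000000000000000000000000000000000000004000000000000000000000000000000000000000000000000000000000000000000000000000000000000000000000000000000000000000000000000002000000000000000000000000000000000000000000000000000000000000000000000000000000000000000000000000000000000000000000000000001000000000000000000000000000000000000000000000000000000000000000000000000000000000000000000000000000000000000000000000000000800000000000000000000000000000000000000000000000000000000000000000000000000000000000000000000000000000000000000000000000000400000000000000000000000000000000000000000000000000000000000000000000000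000000000000000000000000000000000000000000000000000200000000000000000000000000000000000000000000000000000000000000000000000000000000000000000000000000000000000000000000000000100000000000000000000000000000000000000000000000000000000000000000000000000000000000000000000000000000000000000000000000000080000000000000000000000000000000000000000000000000000000000000000000000000000000000000000000000000000000000000000000000000040000000000000000000000000000000000000000000000000000000000000000000000000000000000000000000000000000000000000000000000000020000000000000000000000000000000000000000000000000000000000000000000000000000000000000000000000000000000000000000000000000010000000000000000000000000000000000000000000000000000000000000000000000000000000000000000000000000000000000000000000000000008000000000000000000000000000000000000000000000000000000000000000000000000000000000000000000000000000000000000000000000000004000000000000000000000000000000000000000000000000000000000000000000000000000000000000000000000000000000000000000000000000002000000000000000000000000000000000000000000000000000000000000000000000000000000000000000000000000000000000000000000000000001⟩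

theorem P5_ok : P5.OK := PM.ok_of (by decide +kernel)

/-- reduction modulo a prime above 5 -/
def phi : GaussianInt →+* ZMod 5 := Zsqrtd.lift ⟨2, by decide⟩

theorem phi_eq (z : GaussianInt) : phi z = z.re + 2 * z.im := by
  simp [phi, Zsqrtd.lift, mul_comm]

/-- the code `a` (a matrix modulo 5) describes the element `f` -/
def LRep (a : ℕ) (f : Equiv.Perm ruLattice) : Prop :=
  P5.Valid a ∧ ∀ (x : ruLattice) (q : RuIdx), phi ((f x).1 q) =
    ∑ p, (P5.ent a (ix q) (ix p) : ZMod 5) * phi (x.1 p)

/-- images of the real frame `U`, images of the generators `Y`, matrix modulo 5 -/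
noncomputable def genB (U : ℕ → ℕ × ℕ × ℕ) (Y : List (ℕ × ℕ × ℕ)) (a : ℕ) : Bool :=
  allLt 28 (fun j => vecB (U j) && iB (U j) (U (28 + j))) &&
  allLt 56 (fun i => allLt 56 fun j => decide (ipZ (U i) (U j) = if i = j then 16 else 0)) &&
  allL Wm (fun e => Nat.beq (Nat.land e.1 e.2) e.2 && Nat.beq (wt e.1) 16 && anyL Y fun y =>
    decide (sumI 56 (fun j => Int.mul (co (vec 1 e.1 e.2) j) (ipZ (U j) y)) = 64) && vecB y) &&
  P5.valid a && allLt 28 fun q => allLt 28 fun p =>
    decide (((P5.ent a q p : ℕ) + co (v3 (U p)) q + 2 * co (v3 (U p)) (28 + q)) % 5 = 0)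

theorem exists_gen {U : ℕ → ℕ × ℕ × ℕ} {Y : List (ℕ × ℕ × ℕ)} {a : ℕ} (h : genB U Y a = true) :
    ∃ f : fourRu, LRep a f := by
  simp only [genB, Bool.and_eq_true, allLt_iff, allL_iff, anyL_iff, decide_eq_true_eq, Nat.beq_eq,
    ipZ_eq, sumI_eq, wt_eq] at h
  obtain ⟨⟨⟨⟨h1, h2⟩, h3⟩, h4⟩, h5⟩ := h
  let T : RuVec →ₗ[GaussianInt] RuVec :=
    { toFun := fun x => ∑ p, x p • v3 (U (ix p))
      map_add' := fun x y => by simp only [Pi.add_apply, add_smul, sum_add_distrib]
      map_smul' := fun z x => by simp only [Pi.smul_apply, smul_eq_mul, mul_smul, smul_sum, RingHom.id_apply] }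
  have T1 : ∀ x, T x = ∑ j ∈ range 56, co x j • v3 (U j) := by
    intro x
    rw [show 56 = 28 + 28 from rfl, sum_range_add, ← sum_ix, ← sum_ix, ← sum_add_distrib]
    show ∑ p, x p • v3 (U (ix p)) = _
    refine sum_congr rfl fun p _ => ?_
    rw [co_re, co_im, iB_spec (h1 _ (ix_lt p)).2]
    funext q
    apply Zsqrtd.ext <;> simp [gI] <;> ring
  have T2 : ∀ x, dot (T x) (T x) = 16 * dot x x := by
    intro x
    rw [T1, dot_sum, dot, mul_sum]
    refine sum_congr rfl fun i hi => ?_
    rw [dot_comm, dot_sum, sum_eq_single i]
    · rw [h2 i (mem_range.mp hi) i (mem_range.mp hi), if_pos rfl]; ring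
    · intro j hj hji
      rw [h2 j (mem_range.mp hj) i (mem_range.mp hi), if_neg hji, mul_zero]
    · exact fun h => absurd hi h
  let A : AddSubgroup RuVec :=
    { carrier := {x | ∃ y : ruLattice, 4 • (y : RuVec) = T x}
      zero_mem' := ⟨0, by simp⟩
      add_mem' := by
        rintro a b ⟨y, hy⟩ ⟨z, hz⟩
        exact ⟨y + z, by rw [map_add, ← hy, ← hz, AddSubgroup.coe_add, nsmul_add]⟩
      neg_mem' := by
        rintro a ⟨y, hy⟩
        exact ⟨-y, by rw [map_neg, ← hy, AddSubgroup.coe_neg, smul_neg]⟩ }
  have g4 : ∀ y, 4 • y ∈ A := fun y =>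
    ⟨⟨T y, show ∑ p, y p • v3 (U (ix p)) ∈ ruLattice from
      sum_mem fun p _ => smul_mem _ (vecB_spec (h1 _ (ix_lt p)).1).1⟩, (map_nsmul T 4 y).symm⟩
  have hA : ruLattice ≤ A := by
    refine lat_le g4 fun e he => ?_
    obtain ⟨⟨a1, a2⟩, y, -, a3, a4⟩ := h3 e he
    have a5 := r4_vec e.1 e.2
    rw [show e.1 &&& e.2 = e.2 from a1] at a5
    refine a5.mem g4 (r4_v4 _ _) ⟨⟨_, (vecB_spec a4).1⟩, ?_⟩
    rw [← sub_eq_zero]
    apply eq_zero_of_dot
    have a6 := T2 (vec 1 e.1 e.2)
    have a7 : dot (T (vec 1 e.1 e.2)) (v3 y) = 64 := by rw [T1, dot_sum]; exact a3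
    have a8 := (vecB_spec a4).2
    have h0 : W 0 = 0 := by simp [W, sb_zero]
    rw [dot_vec, Nat.xor_self, Nat.and_zero, Nat.and_self, h0, a2] at a6
    show dot (4 • v3 y - _) (4 • v3 y - _) = 0
    generalize T (vec 1 e.1 e.2) = z at *
    generalize v3 y = w at *
    rw [sub_eq_add_neg, dot_add, dot_neg, dot_four, dot_comm w, dot_comm z, dot_add, dot_add, dot_neg,
      dot_neg, dot_four, dot_four, a6, a7, a8, dot_comm w z, a7]
    norm_num
  choose F hF using fun x : ruLattice => hA x.2
  obtain ⟨f, hf, hfF⟩ := exists_of_add F
    (fun x y => Subtype.ext (four_cancel (by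
      rw [hF, AddSubgroup.coe_add, AddSubgroup.coe_add, nsmul_add, hF, hF, map_add])))
    (fun x => Subtype.ext (four_cancel (by
      rw [hF]
      show T (gI • _) = 4 • gI • _
      rw [map_smul, ← hF, smul_comm])))
    (fun x => by
      have := T2 x
      rw [← hF, dot_four, dot_comm, dot_four] at this
      omega)
  refine ⟨⟨f, hf⟩, PM.valid_of (by decide) h4, fun x q => ?_⟩
  have e := congrArg phi (congrFun (hF x) q)
  have e2 : (T x) q = ∑ p, x.1 p * v3 (U (ix p)) q :=
    Finset.sum_apply q univ fun p => x.1 p • v3 (U (ix p))
  rw [e2, Pi.smul_apply, map_nsmul, map_sum, nsmul_eq_mul, show ((4 : ℕ) : ZMod 5) = -1 from rfl,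
    neg_one_mul, neg_eq_iff_eq_neg, ← sum_neg_distrib] at e
  show phi ((f x).1 q) = _
  rw [hfF, e]
  refine sum_congr rfl fun p _ => ?_
  have e3 := (ZMod.intCast_zmod_eq_zero_iff_dvd _ 5).mpr
    (Int.dvd_of_emod_eq_zero (h5 _ (ix_lt q) _ (ix_lt p)))
  rw [co_re, co_im] at e3
  push_cast at e3
  rw [map_mul, phi_eq (v3 _ q)]
  linear_combination (-phi (x.1 p)) * e3

/-- the rows of a code as functionals on the lattice -/
def sem (V : ℕ) (x : ruLattice) (q : RuIdx) : ZMod 5 :=
  ∑ p, (P5.ent V (ix q) (ix p) : ZMod 5) * phi (x.1 p)

theorem sem_mul {a V : ℕ} {f : Equiv.Perm ruLattice} (hf : LRep a f) (hV : P5.Valid V) :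
    sem (P5.mul V a) = sem V ∘ f := by
  funext x i
  simp only [sem, Function.comp, hf.2, mul_sum]
  rw [sum_comm]
  apply sum_congr rfl
  intro j _
  rw [PM.ent_mul P5_ok hV hf.1 (ix_lt i) (ix_lt j)]
  have e : P5.p = 5 := rfl
  have e' : P5.N = 28 := rfl
  rw [e, e', ZMod.natCast_mod, ← sum_ix]
  push_cast
  rw [sum_mul]
  apply sum_congr rfl
  intro l _; ring

theorem sem_inj {a b : ℕ} (ha : P5.Valid a) (hb : P5.Valid b) (h : sem a = sem b) : a = b := by
  apply PM.eq_of_ent P5_ok ha hb
  intro i hi j hj
  have h1 := congrFun (congrFun h ⟨e4 (pos j), e4_mem _⟩) (pos i)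
  simp only [sem, e4] at h1
  rw [sum_eq_single (pos j) (fun b _ hb => by simp [hb]) (by simp),
    sum_eq_single (pos j) (fun b _ hb => by simp [hb]) (by simp), ix_pos _ hi, ix_pos _ hj] at h1
  have h2 : P5.ent a i j < 5 := ha.2 _
  have h3 : P5.ent b i j < 5 := hb.2 _
  simp only [if_true, map_ofNat] at h1
  generalize P5.ent a i j = u at *
  generalize P5.ent b i j = v at *
  interval_cases u <;> interval_cases v <;> first | rfl | exact absurd h1 (by decide)

theorem valid_zero : P5.Valid 0 := PM.valid_of (by decide) (by decide +kernel)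

theorem valid_sc {c V : ℕ} (hc : c < 5) (hV : P5.Valid V) : P5.Valid (P5.lin 0 c V) :=
  PM.valid_lin P5_ok (by show 4 * (c + 1) ≤ 28 * 4 ^ 2; omega) valid_zero hV

theorem sem_sc {c V : ℕ} (hc : c < 5) (hV : P5.Valid V) :
    sem (P5.lin 0 c V) = (c : ZMod 5) • sem V := by
  funext x i
  simp only [sem, Pi.smul_apply, smul_eq_mul, mul_sum]
  apply sum_congr rfl
  intro j _
  rw [PM.ent_lin P5_ok (by show 4 * (c + 1) ≤ 28 * 4 ^ 2; omega) valid_zero hV (ix_lt i) (ix_lt j)]
  have e : P5.p = 5 := rfl
  have e0 : P5.ent 0 (ix i) (ix j) = 0 := by simp [PM.ent, look_eq]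
  rw [e, ZMod.natCast_mod, e0]
  push_cast
  ring

/-- mask for the first row -/
def m5 : ℕ := 0x38001c000e000700038001c000e000700038001c000e000700038001c000e000700038001c000e000700038001c000e000700038001c000e0007

/-- quick validity test for row vectors -/
def vOK (V : ℕ) : Bool := Nat.beq (Nat.land V m5) V && Nat.beq (P5.red V) V

theorem valid_of_vOK {V : ℕ} (h : vOK V = true) : P5.Valid V := by
  simp only [vOK, Bool.and_eq_true, Nat.beq_eq] at h
  refine PM.valid_of_mask P5_ok (m := m5) (by decide +kernel)
    (PM.look_le_of_lt (n := 28) (by decide +kernel) (by decide +kernel)) h.1 h.2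

/-- multiplication by `i` -/
noncomputable def iE : fourRu := ⟨⟨ruI, fun x => ruI (ruI (ruI x)),
    fun x => Subtype.ext (by simp only [ruI, smul_smul]; exact one_smul _ _),
    fun x => Subtype.ext (by simp only [ruI, smul_smul]; exact one_smul _ _)⟩,
  fun _ _ => Subtype.ext (smul_add _ _ _), fun _ => rfl, fun x => by
    show ruNorm (gI • _) = _
    simp only [ruNorm, Pi.smul_apply, smul_eq_mul, Zsqrtd.norm_mul]
    simp [gI, Zsqrtd.norm]⟩

theorem iE_mem_center : iE ∈ Subgroup.center fourRu :=
  Subgroup.mem_center_iff.mpr fun g => Subtype.ext (Equiv.ext fun x => g.2.2.1 x)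

theorem zpowers_iE_le : Subgroup.zpowers iE ≤ Subgroup.center fourRu :=
  Subgroup.zpowers_le_of_mem iE_mem_center

instance instNormalIE : (Subgroup.zpowers iE).Normal :=
  ⟨fun n hn g => by
    rw [Subgroup.mem_center_iff.mp (zpowers_iE_le hn) g, mul_inv_cancel_right]; exact hn⟩

theorem orderOf_iE : orderOf iE = 2 ^ 2 := by
  haveI := Nat.fact_prime_two
  apply orderOf_eq_prime_pow
  · intro h
    have h1 : ruI (ruI ⟨e4 (0, 0), e4_mem _⟩) = ⟨e4 (0, 0), e4_mem _⟩ :=
      congrArg (fun f : fourRu => f.1 ⟨e4 (0, 0), e4_mem _⟩) h
    have h2 : gI * (gI * 4) = 4 := congrArg (fun x : ruLattice => x.1 (0, 0)) h1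
    exact absurd h2 (by decide)
  · refine Subtype.ext (Equiv.ext fun x => Subtype.ext ?_)
    show gI • gI • gI • gI • x.1 = x.1
    simp only [smul_smul]; exact one_smul _ _

/-- the automorphism group modulo the scalars -/
abbrev Ruq : Type := fourRu ⧸ Subgroup.zpowers iE

theorem card_Ruq_le {n : ℕ} (h : Nat.card fourRu ≤ n * 4) : Nat.card Ruq ≤ n := by
  have h1 := Subgroup.card_eq_card_quotient_mul_card_subgroup (Subgroup.zpowers iE)
  rw [Nat.card_zpowers, orderOf_iE] at h1
  show Nat.card (fourRu ⧸ Subgroup.zpowers iE) ≤ _
  omega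

/-- check of the line `c` -/
noncomputable def lineB (V : ℕ → ℕ) (T : ℕ → ℕ → ℕ) (as : ℕ → ℕ) (N k c : ℕ) : Bool :=
  Nat.rec (motive := fun _ => Bool) false (fun u _ =>
    vOK u && (Nat.beq c 0 || Nat.blt (V (Nat.pred c)) u) &&
    allL [2, 3, 4] (fun l => Nat.blt u (P5.lin 0 l u)) &&
    allLt k fun s => Nat.blt (T c s) N &&
      Nat.rec (motive := fun _ => Bool) false (fun y _ =>
        Nat.rec (motive := fun _ => Bool) false (fun z _ =>
          anyL [1, 2, 3, 4] fun l => Nat.beq y (P5.lin 0 l z)) (Nat.succ (V (T c s))))
        (Nat.succ (P5.mul u (as s)))) (Nat.succ (V c))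

/-- the nonzero multiples -/
def line (φ : ruLattice → RuIdx → ZMod 5) : Set (ruLattice → RuIdx → ZMod 5) :=
  {ψ | ∃ l : ZMod 5, l ≠ 0 ∧ ψ = l • φ}

theorem line_smul {l : ZMod 5} (hl : l ≠ 0) (φ : ruLattice → RuIdx → ZMod 5) : line (l • φ) = line φ := by
  haveI : Fact (Nat.Prime 5) := ⟨by norm_num⟩
  ext ψ
  constructor
  · rintro ⟨m, hm, rfl⟩
    exact ⟨m * l, mul_ne_zero hm hl, smul_smul _ _ _⟩
  · rintro ⟨m, hm, rfl⟩
    exact ⟨m * l⁻¹, mul_ne_zero hm (inv_ne_zero hl), by rw [smul_smul, inv_mul_cancel_right₀ hl]⟩

theorem two_ne : (2 : ZMod 5) ≠ 0 := by decide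

theorem line_comp (φ : ruLattice → RuIdx → ZMod 5) (f : ruLattice → ruLattice) :
    (fun ψ => ψ ∘ f) '' line φ = line (φ ∘ f) := by
  ext ψ
  constructor
  · rintro ⟨_, ⟨m, hm, rfl⟩, rfl⟩
    exact ⟨m, hm, rfl⟩
  · rintro ⟨m, hm, rfl⟩
    exact ⟨_, ⟨m, hm, rfl⟩, rfl⟩

theorem exists_ra_line [Finite fourRu] {N k : ℕ} {V as : ℕ → ℕ} {T : ℕ → ℕ → ℕ} {g : ℕ → fourRu}
    (hg : ∀ s < k, LRep (as s) (g s)) (h : ∀ c < N, lineB V T as N k c = true)
    (hfull : ∀ (K : Subgroup Ruq) (A : RA K N) (g0 : ℕ → K), A.Tab g0 k T → K = ⊤) :
    ∃ A : RA Ruq N, A.Tab (fun s => QuotientGroup.mk (g s)) k T := by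
  have h' : ∀ c < N, ((vOK (V c) = true ∧ (c = 0 ∨ V (c - 1) < V c)) ∧
      ∀ l ∈ [2, 3, 4], V c < P5.lin 0 l (V c)) ∧
      ∀ s < k, T c s < N ∧ ∃ l ∈ [1, 2, 3, 4], P5.mul (V c) (as s) = P5.lin 0 l (V (T c s)) := by
    intro c hc
    have : (vOK (V c) && (Nat.beq c 0 || Nat.blt (V (c - 1)) (V c)) &&
      allL [2, 3, 4] (fun l => Nat.blt (V c) (P5.lin 0 l (V c))) &&
      allLt k fun s => Nat.blt (T c s) N && anyL [1, 2, 3, 4] fun l =>
        Nat.beq (P5.mul (V c) (as s)) (P5.lin 0 l (V (T c s)))) = true := h c hc
    simpa only [Bool.and_eq_true, Bool.or_eq_true, Nat.beq_eq, Nat.blt_eq, allLt_iff, allL_iff,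
      anyL_iff] using this
  have hv : ∀ c < N, P5.Valid (V c) := fun c hc => valid_of_vOK (h' c hc).1.1.1
  have hle : ∀ c < N, ∀ d < N, line (sem (V c)) = line (sem (V d)) → V d ≤ V c := by
    intro c hc d hd e
    obtain ⟨l, h1, h2⟩ : sem (V c) ∈ line (sem (V d)) := e ▸ ⟨1, by decide, (one_smul _ _).symm⟩
    have h3 := (show ∀ l : ZMod 5, l ≠ 0 → l = 1 ∨ ∃ m ∈ [2, 3, 4], m < 5 ∧ l = (m : ℕ) by decide) l h1
    rcases h3 with rfl | ⟨m, h3, h4, rfl⟩
    · rw [one_smul] at h2
      exact (sem_inj (hv c hc) (hv d hd) h2).ge
    · rw [← sem_sc h4 (hv d hd)] at h2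
      rw [sem_inj (hv c hc) (valid_sc h4 (hv d hd)) h2]
      exact ((h' d hd).1.2 m h3).le
  have hi : ∀ W, ∀ n : ℕ, sem W ∘ (iE ^ n).1 = (2 : ZMod 5) ^ n • sem W := by
    intro W n
    induction n with
    | zero => simp
    | succ n ih =>
      rw [pow_succ, Subgroup.coe_mul, Equiv.Perm.coe_mul, ← Function.comp_assoc, ih, pow_succ, mul_smul]
      funext x q
      show 2 ^ n * sem W (ruI x) q = 2 ^ n * (2 * sem W x q)
      simp only [sem, ruI, Pi.smul_apply, smul_eq_mul, map_mul, mul_sum]
      refine sum_congr rfl fun p _ => ?_
      rw [phi_eq gI]; simp [gI]; ring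
  obtain ⟨A, hA, -⟩ := exists_ra_hom (N := N) (k := k) (T := T)
    (fun (S : Set (ruLattice → RuIdx → ZMod 5)) (x : fourRu) => (fun φ => φ ∘ x.1) '' S)
    (fun S => by simp) (fun S a b => by rw [Set.image_image]; rfl)
    (QuotientGroup.mk' (Subgroup.zpowers iE)) (fun c => line (sem (V c)))
    (fun c hc d hd e => inj_of_incr (fun c hc => (h' c hc).1.1.2) c hc d hd
      (le_antisymm (hle d hd c hc e.symm) (hle c hc d hd e)))
    (fun x hx c _ => by
      rw [QuotientGroup.mk'_apply, QuotientGroup.eq_one_iff, ← mem_powers_iff_mem_zpowers] at hx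
      obtain ⟨n, rfl⟩ := hx
      haveI : Fact (Nat.Prime 5) := ⟨by norm_num⟩
      show _ '' _ = _
      rw [line_comp, hi, line_smul (pow_ne_zero _ two_ne)]) g
    (fun s hs c hc => ⟨((h' c hc).2 s hs).1, by
      obtain ⟨l, h1, h2⟩ := ((h' c hc).2 s hs).2
      have h3 := (show ∀ l ∈ [1, 2, 3, 4], l < 5 ∧ ((l : ℕ) : ZMod 5) ≠ 0 by decide) l h1
      show _ '' _ = _
      rw [line_comp, ← sem_mul (hg s hs) (hv c hc), h2, sem_sc h3.1 (hv _ ((h' c hc).2 s hs).1),
        line_smul h3.2]⟩) hfull
  exact ⟨A, hA⟩

end Cfsg.Agent.H9.Ru
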