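import Cfsg.Agent.H9.MinCount
import Cfsg.Prelude.Def_Spor_Ru

/-! The lattice of the Rudvalis group: real coordinates and residues modulo 4. -/

set_option autoImplicit false

namespace Cfsg.Agent.H9.Ru

open Cfsg Cfsg.Spor Finset

/-- the position with number `j` -/
def pos (j : ℕ) : RuIdx := (Fin.ofNat 7 (j / 4), Fin.ofNat 4 j)

/-- the number of a position -/
def ix (p : RuIdx) : ℕ := 4 * p.1.val + p.2.val

theorem ix_lt (p : RuIdx) : ix p < 28 := by revert p; decide
theorem pos_ix (p : RuIdx) : pos (ix p) = p := by revert p; decide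
theorem ix_pos : ∀ j < 28, ix (pos j) = j := by decide
theorem ix_inj : Function.Injective ix := fun a b h => by rw [← pos_ix a, h, pos_ix]

/-- the positions as `Fin 28` -/
def ixE : RuIdx ≃ Fin 28 where
  toFun p := ⟨ix p, ix_lt p⟩
  invFun i := pos i
  left_inv p := pos_ix p
  right_inv i := Fin.ext (ix_pos _ i.2)

theorem sum_ix {A : Type*} [AddCommMonoid A] (f : ℕ → A) :
    ∑ p : RuIdx, f (ix p) = ∑ i ∈ range 28, f i := by
  rw [← Fin.sum_univ_eq_sum_range, ← ixE.sum_comp]; rfl

/-- real coordinates -/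
noncomputable def co (x : RuVec) (j : ℕ) : ℤ :=
  Bool.rec (motive := fun _ => ℤ) (x (pos (j - 28))).im (x (pos j)).re (Nat.blt j 28)

theorem co_re (x : RuVec) (p : RuIdx) : co x (ix p) = (x p).re := by
  unfold co; rw [Nat.blt_eq.mpr (ix_lt p), pos_ix]

theorem co_im (x : RuVec) (p : RuIdx) : co x (28 + ix p) = (x p).im := by
  have : Nat.blt (28 + ix p) 28 = false := by
    cases h : Nat.blt (28 + ix p) 28 with
    | false => rfl
    | true => have := Nat.blt_eq.mp h; omega
  unfold co; rw [this, Nat.add_sub_cancel_left, pos_ix]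

/-- the vector with given real coordinates -/
def mkV (f : ℕ → ℤ) : RuVec := fun p => ⟨f (ix p), f (28 + ix p)⟩

theorem idx_cases {j : ℕ} (hj : j < 56) : ∃ p, j = ix p ∨ j = 28 + ix p := by
  by_cases h : j < 28
  · exact ⟨pos j, Or.inl (ix_pos j h).symm⟩
  · exact ⟨pos (j - 28), Or.inr (by rw [ix_pos _ (by omega)]; omega)⟩

theorem co_mkV (f : ℕ → ℤ) {j : ℕ} (hj : j < 56) : co (mkV f) j = f j := by
  obtain ⟨p, rfl | rfl⟩ := idx_cases hj
  · rw [co_re]; rfl
  · rw [co_im]; rfl

theorem co_ext {x y : RuVec} (h : ∀ j < 56, co x j = co y j) : x = y := by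
  funext p
  have := ix_lt p
  exact Zsqrtd.ext (by rw [← co_re, ← co_re, h _ (by omega)]) (by rw [← co_im, ← co_im, h _ (by omega)])

theorem co_add (x y : RuVec) (j : ℕ) : co (x + y) j = co x j + co y j := by
  unfold co; cases Nat.blt j 28 <;> rfl

theorem co_neg (x : RuVec) (j : ℕ) : co (-x) j = -co x j := by
  unfold co; cases Nat.blt j 28 <;> rfl

theorem co_zero (j : ℕ) : co 0 j = 0 := by
  unfold co; cases Nat.blt j 28 <;> rfl

theorem co_four (x : RuVec) (j : ℕ) : co (4 • x) j = 4 * co x j := by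
  rw [show 4 • x = x + x + x + x by abel, co_add, co_add, co_add]; ring

theorem sum_co (f : ℕ → ℤ) : ∑ j ∈ range 56, f j = ∑ p : RuIdx, (f (ix p) + f (28 + ix p)) := by
  rw [sum_add_distrib, sum_ix, sum_ix fun j => f (28 + j), show 56 = 28 + 28 from rfl, sum_range_add]

/-- the real inner product -/
noncomputable def dot (x y : RuVec) : ℤ := ∑ j ∈ range 56, co x j * co y j

theorem norm_eq (x : RuVec) : ruNorm x = dot x x := by
  rw [dot, sum_co, ruNorm]
  apply sum_congr rfl
  intro p _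
  rw [co_re, co_im, Zsqrtd.norm_def]; ring

theorem dot_comm (x y : RuVec) : dot x y = dot y x := sum_congr rfl fun _ _ => mul_comm _ _

theorem dot_add (x y z : RuVec) : dot (x + y) z = dot x z + dot y z := by
  simp only [dot, co_add, add_mul, sum_add_distrib]

theorem dot_neg (x z : RuVec) : dot (-x) z = -dot x z := by
  simp only [dot, co_neg, neg_mul, sum_neg_distrib]

theorem dot_four (x z : RuVec) : dot (4 • x) z = 4 * dot x z := by
  simp only [dot, co_four, mul_sum, mul_assoc]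

theorem dot_map {f : Equiv.Perm ruLattice} (hf : f ∈ fourRu) (x y : ruLattice) :
    dot (f x : ruLattice) (f y : ruLattice) = dot (x : RuVec) y := by
  have h1 := hf.2.2 (x + y)
  have h2 := hf.2.2 x
  have h3 := hf.2.2 y
  rw [hf.1] at h1
  simp only [norm_eq, AddSubgroup.coe_add, dot_add] at h1 h2 h3
  rw [dot_comm _ (_ + _), dot_comm _ (_ + _), dot_comm (x : RuVec) (_ + _), dot_comm (y : RuVec) (_ + _),
    dot_add, dot_add, dot_add, dot_add, dot_comm (y : RuVec) x,
    dot_comm ((f y : ruLattice) : RuVec) (f x : ruLattice)] at h1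
  omega

/-- the bit that belongs to the coordinate `j` -/
def sb (m j : ℕ) : ℕ := bit m (6 * j)

theorem sb_eq (m j : ℕ) : sb m j = if m.testBit (6 * j) then 1 else 0 := bit_eq _ _

theorem sb_le (m j : ℕ) : sb m j ≤ 1 := by rw [sb_eq]; split_ifs <;> omega

theorem sb_and (a b j : ℕ) : sb (a &&& b) j = sb a j * sb b j := by
  simp only [sb_eq, Nat.testBit_and]
  cases a.testBit (6 * j) <;> cases b.testBit (6 * j) <;> rfl

theorem sb_xor (a b j : ℕ) : sb (a ^^^ b) j = (sb a j + sb b j) % 2 := by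
  simp only [sb_eq, Nat.testBit_xor]
  cases a.testBit (6 * j) <;> cases b.testBit (6 * j) <;> rfl

theorem sb_zero (j : ℕ) : sb 0 j = 0 := by simp [sb_eq]

theorem sb_one (i j : ℕ) : sb (1 <<< (6 * i)) j = if j = i then 1 else 0 := by
  rw [sb_eq, Nat.one_shiftLeft, Nat.testBit_two_pow]
  by_cases h : j = i
  · simp [h]
  · have : ¬ 6 * i = 6 * j := by omega
    simp [h, this]

theorem tb_sb (m j : ℕ) : tb m (6 * j) = true ↔ sb m j = 1 := by
  rw [tb_eq, sb_eq]; cases m.testBit (6 * j) <;> simp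

/-- the weight of a mask -/
def W (m : ℕ) : ℕ := ∑ j ∈ range 56, sb m j

/-- all 56 places -/
def ones : ℕ := 0x41041041041041041041041041041041041041041041041041041041041041041041041041041041041

/-- fast weight -/
def wt (m : ℕ) : ℕ := Nat.mod (Nat.land m ones) 63

theorem pack_mod (n : ℕ) (g : ℕ → ℕ) : pack 6 n g % 63 = (∑ j ∈ range n, g j) % 63 := by
  induction n with
  | zero => simp [pack]
  | succ n ih =>
    have : 2 ^ (6 * n) % 63 = 1 := by rw [pow_mul, Nat.pow_mod]; simp
    rw [pack_succ, sum_range_succ, Nat.add_mod, ih, Nat.mul_mod, this]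
    simp

theorem wt_eq (m : ℕ) : wt m = W m := by
  have h1 : ones = pack 6 56 fun _ => 1 := by rw [← repl_eq]; decide +kernel
  have h2 : m &&& ones = pack 6 56 (sb m) := by
    apply eq_of_testBit_blocks (w := 6) (by norm_num)
    intro q r hr
    rw [Nat.testBit_and, h1, testBit_pack (fun _ _ => by norm_num) q r hr,
      testBit_pack (fun j _ => by have := sb_le m j; omega) q r hr, sb_eq]
    rcases Nat.eq_zero_or_pos r with rfl | h0
    · cases m.testBit (6 * q) <;> simp
    · have : Nat.testBit 1 r = false := Nat.testBit_lt_two_pow (Nat.one_lt_two_pow h0.ne')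
      split_ifs <;> simp [this]
  have h3 : W m ≤ 56 := by
    calc W m ≤ ∑ _j ∈ range 56, 1 := sum_le_sum fun j _ => sb_le m j
      _ = 56 := by simp
  show (m &&& ones) % 63 = _
  rw [h2, pack_mod]
  exact Nat.mod_eq_of_lt (lt_of_le_of_lt h3 (by norm_num))

theorem W_congr {a b : ℕ} (h : ∀ j < 56, sb a j = sb b j) : W a = W b :=
  sum_congr rfl fun j hj => h j (mem_range.mp hj)

theorem W_xor (a b : ℕ) : W (a ^^^ b) % 2 = (W a + W b) % 2 := by
  rw [W, W, W, ← sum_add_distrib, sum_nat_mod, sum_nat_mod _ _ fun j => sb a j + sb b j]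
  simp only [sb_xor, Nat.mod_mod]

/-- `x` is given modulo 4 by two masks -/
def R4 (x : RuVec) (lo hi : ℕ) : Prop := ∀ j < 56, co x j % 4 = sb lo j + 2 * sb hi j

theorem R4.add {x y : RuVec} {a b c d : ℕ} (h : R4 x a b) (h' : R4 y c d) :
    R4 (x + y) (a ^^^ c) (b ^^^ d ^^^ (a &&& c)) := by
  intro j hj
  have h1 := h j hj
  have h2 := h' j hj
  have := sb_le a j; have := sb_le b j; have := sb_le c j; have := sb_le d j
  rw [co_add, sb_xor, sb_xor, sb_xor, sb_and]
  generalize sb a j = a at *; generalize sb b j = b at *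
  generalize sb c j = c at *; generalize sb d j = d at *
  interval_cases a <;> interval_cases c <;> omega

/-- a vector with the given residues -/
def v4 (lo hi : ℕ) : RuVec := mkV fun j => sb lo j + 2 * sb hi j

theorem r4_v4 (lo hi : ℕ) : R4 (v4 lo hi) lo hi := by
  intro j hj
  have := sb_le lo j; have := sb_le hi j
  rw [v4, co_mkV _ hj]; omega

theorem R4.mem {A : AddSubgroup RuVec} (h4 : ∀ y, 4 • y ∈ A) {x y : RuVec} {a b : ℕ} (h : R4 x a b)
    (h' : R4 y a b) (hx : x ∈ A) : y ∈ A := by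
  have : y = x + 4 • mkV fun j => (co y j - co x j) / 4 := by
    apply co_ext
    intro j hj
    have h1 := h j hj
    have h2 := h' j hj
    rw [co_add, co_four, co_mkV _ hj]; omega
  rw [this]; exact A.add_mem hx (h4 _)

theorem R4.dot {x y : RuVec} {a b c d : ℕ} (h : R4 x a b) (h' : R4 y c d) :
    dot x y % 4 = ((W (a &&& c) + 2 * W (a &&& d) + 2 * W (b &&& c) : ℕ) : ℤ) % 4 := by
  simp only [W, mul_sum, ← sum_add_distrib]
  rw [Nat.cast_sum, Ru.dot, sum_int_mod]
  conv_rhs => rw [sum_int_mod]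
  congr 1
  apply sum_congr rfl
  intro j hj
  have h1 := h j (mem_range.mp hj)
  have h2 := h' j (mem_range.mp hj)
  have := sb_le a j; have := sb_le b j; have := sb_le c j; have := sb_le d j
  rw [Int.mul_emod, h1, h2, sb_and, sb_and, sb_and]
  generalize sb a j = a at *; generalize sb b j = b at *
  generalize sb c j = c at *; generalize sb d j = d at *
  interval_cases a <;> interval_cases c <;> interval_cases b <;> interval_cases d <;> rfl

/-- the low mask of a vector -/
noncomputable def loOf (x : RuVec) : ℕ :=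
  sumN 56 fun j => Nat.shiftLeft (Int.toNat (co x j % 2)) (6 * j)

/-- the high mask of a vector -/
noncomputable def hiOf (x : RuVec) : ℕ :=
  sumN 56 fun j => Nat.shiftLeft (Int.toNat (co x j % 4 / 2)) (6 * j)

theorem sb_sumN (g : ℕ → ℕ) (hg : ∀ j, g j ≤ 1) (i r : ℕ) (hr : r < 6) :
    (sumN 56 fun j => Nat.shiftLeft (g j) (6 * j)).testBit (6 * i + r) =
      (decide (i < 56) && (g i).testBit r) := by
  rw [← testBit_pack (fun j _ => by have := hg j; omega) i r hr, sumN_eq, pack]
  exact congrArg (fun z => Nat.testBit z (6 * i + r)) (sum_congr rfl fun j _ => Nat.shiftLeft_eq _ _)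

theorem sb_sumN' (g : ℕ → ℕ) (hg : ∀ j, g j ≤ 1) {i : ℕ} (hi : i < 56) :
    sb (sumN 56 fun j => Nat.shiftLeft (g j) (6 * j)) i = g i := by
  have := sb_sumN g hg i 0 (by norm_num)
  rw [add_zero] at this
  rw [sb_eq, this]
  have := hg i
  generalize g i = z at *
  interval_cases z <;> simp [hi]

theorem r4_of (x : RuVec) : R4 x (loOf x) (hiOf x) := by
  intro j hj
  rw [loOf, hiOf, sb_sumN' _ (fun j => by omega) hj, sb_sumN' _ (fun j => by omega) hj]
  omega

/-- only the places below `n` are used -/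
def Val (n m : ℕ) : Prop := ∀ i, m.testBit i = true → ∃ j < n, i = 6 * j

theorem val_hiOf (x : RuVec) : Val 56 (hiOf x) := by
  intro i hi
  rw [← Nat.div_add_mod i 6, hiOf, sb_sumN _ (fun j => by omega) _ _ (Nat.mod_lt _ (by norm_num))] at hi
  simp only [Bool.and_eq_true, decide_eq_true_eq] at hi
  refine ⟨i / 6, hi.1, ?_⟩
  by_contra hc
  rw [Nat.testBit_lt_two_pow (lt_of_le_of_lt (show _ ≤ 1 by omega)
    (Nat.one_lt_two_pow (by omega)))] at hi
  exact absurd hi.2 (by simp)

/-- add a selection of the listed pairs -/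
noncomputable def selZ (k : ℕ → ℕ → Bool) (l : List (ℕ × ℕ)) : ℕ → ℕ → ℕ → Bool :=
  List.rec (motive := fun _ => ℕ → ℕ → ℕ → Bool) (fun _ lo hi => k lo hi)
    (fun e _ ih c lo hi => Bool.rec (motive := fun _ => Bool) (ih (Nat.shiftRight c 1) lo hi)
      (ih (Nat.shiftRight c 1) (Nat.xor lo e.1) (Nat.xor (Nat.xor hi e.2) (Nat.land lo e.1)))
      (tb c 0)) l

theorem v4_add {A : AddSubgroup RuVec} (h4 : ∀ y, 4 • y ∈ A) {a b c d : ℕ} (h : v4 c d ∈ A) :
    v4 (a ^^^ c) (b ^^^ d ^^^ (a &&& c)) ∈ A ↔ v4 a b ∈ A := by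
  have h1 := (r4_v4 a b).add (r4_v4 c d)
  exact ⟨fun h2 => (A.add_mem_cancel_right h).mp ((r4_v4 _ _).mem h4 h1 h2),
    fun h2 => h1.mem h4 (r4_v4 _ _) (A.add_mem h2 h)⟩

theorem selZ_spec {A : AddSubgroup RuVec} (h4 : ∀ y, 4 • y ∈ A) {k : ℕ → ℕ → Bool}
    {l : List (ℕ × ℕ)} (hl : ∀ e ∈ l, v4 e.1 e.2 ∈ A) {c lo hi : ℕ} (h0 : v4 lo hi ∈ A)
    (h : selZ k l c lo hi = true) : ∃ a b, v4 a b ∈ A ∧ k a b = true := by
  induction l generalizing c lo hi with
  | nil => exact ⟨lo, hi, h0, h⟩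
  | cons e l ih =>
    have e1 : selZ k (e :: l) c lo hi = Bool.rec (motive := fun _ => Bool) (selZ k l (c >>> 1) lo hi)
      (selZ k l (c >>> 1) (lo ^^^ e.1) (hi ^^^ e.2 ^^^ (lo &&& e.1))) (tb c 0) := rfl
    rw [e1] at h
    have hl' := fun e' he' => hl e' (List.mem_cons_of_mem _ he')
    cases h1 : tb c 0 with
    | false => rw [h1] at h; exact ih hl' h0 h
    | true => rw [h1] at h; exact ih hl' ((v4_add h4 (hl e List.mem_cons_self)).mpr h0) h

/-- clear the pivots of the low mask -/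
noncomputable def red1 (k : ℕ → ℕ → Bool) (l : List (ℕ × ℕ × ℕ)) : ℕ → ℕ → Bool :=
  List.rec (motive := fun _ => ℕ → ℕ → Bool) k
    (fun e _ ih lo hi => Bool.rec (motive := fun _ => Bool) (ih lo hi)
      (ih (Nat.xor lo e.2.1) (Nat.xor (Nat.xor hi e.2.2) (Nat.land lo e.2.1))) (tb lo e.1)) l

theorem red1_spec {A : AddSubgroup RuVec} (h4 : ∀ y, 4 • y ∈ A) {k : ℕ → ℕ → Bool}
    (hk : ∀ a b, k a b = true → v4 a b ∈ A) {l : List (ℕ × ℕ × ℕ)} (hl : ∀ e ∈ l, v4 e.2.1 e.2.2 ∈ A)
    {lo hi : ℕ} (h : red1 k l lo hi = true) : v4 lo hi ∈ A := by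
  induction l generalizing lo hi with
  | nil => exact hk _ _ h
  | cons e l ih =>
    have e1 : red1 k (e :: l) lo hi = Bool.rec (motive := fun _ => Bool) (red1 k l lo hi)
      (red1 k l (lo ^^^ e.2.1) (hi ^^^ e.2.2 ^^^ (lo &&& e.2.1))) (tb lo e.1) := rfl
    rw [e1] at h
    have hl' := fun e' he' => hl e' (List.mem_cons_of_mem _ he')
    cases h1 : tb lo e.1 with
    | false => rw [h1] at h; exact ih hl' h
    | true => rw [h1] at h; exact (v4_add h4 (hl e List.mem_cons_self)).mp (ih hl' h)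

theorem v4_zero : v4 0 0 = 0 := co_ext fun j hj => by rw [v4, co_mkV _ hj, co_zero, sb_zero]; rfl

/-- the five maps -/
def mp (s : ℕ) (v : RuVec) : RuVec :=
  match s with
  | 0 => gI • v
  | 1 => ruRj v
  | 2 => ruRk v
  | 3 => ruSign v
  | _ => ruShift v

theorem mp_add (s : ℕ) (x y : RuVec) : mp s (x + y) = mp s x + mp s y := by
  unfold mp
  split
  · exact smul_add _ _ _
  · funext ⟨n, t⟩; fin_cases t <;> simp [ruRj, mul_add, add_comm]
  · funext ⟨n, t⟩; fin_cases t <;> simp [ruRk, mul_add, add_comm]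
  · funext p; simp only [ruSign, Pi.add_apply]; split_ifs <;> ring
  · rfl

theorem mp_mem (s : ℕ) {x : RuVec} (hx : x ∈ ruLattice) : mp s x ∈ ruLattice := by
  rw [ruLattice, AddSubgroup.mem_sInf] at hx ⊢
  intro L hL
  have := hL.2 x (hx L hL)
  unfold mp
  split
  exacts [this.1, this.2.1, this.2.2.1, this.2.2.2.1, this.2.2.2.2]

theorem table_mem {x : RuVec} (hx : x ∈ ruTable) : x ∈ ruLattice := by
  rw [ruLattice, AddSubgroup.mem_sInf]
  exact fun L hL => hL.1 x hx

/-- a word in the maps applied to a vector of the table -/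
def wv (c : ℕ × List ℕ) : RuVec := c.2.foldr mp (ruTable.getD c.1 0)

theorem wv_mem (c : ℕ × List ℕ) : wv c ∈ ruLattice := by
  obtain ⟨i, w⟩ := c
  induction w with
  | nil =>
    show ruTable.getD i 0 ∈ _
    rw [List.getD_eq_getElem?_getD]
    cases h : ruTable[i]? with
    | none => exact zero_mem _
    | some v => exact table_mem (List.mem_of_getElem? h)
  | cons s w ih => exact mp_mem s ih

theorem smul_mem (z : GaussianInt) {x : RuVec} (hx : x ∈ ruLattice) : z • x ∈ ruLattice := by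
  have : z • x = z.re • x + z.im • (gI • x) := by
    funext p
    apply Zsqrtd.ext <;> simp [gI] <;> ring
  rw [this]
  exact add_mem (zsmul_mem hx _) (zsmul_mem (gI_smul_mem_ruLattice hx) _)

/-- the frame vectors -/
def e4 (p : RuIdx) : RuVec := fun q => if q = p then 4 else 0

theorem four_eq (y : RuVec) : 4 • y = ∑ p, y p • e4 p := by
  funext q
  simp [e4, Finset.sum_apply, mul_comm]

end Cfsg.Agent.H9.Ru
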