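import Cfsg.Agent.H9.RuLat2

/-! The lattice of the Rudvalis group: vectors of minimal norm. -/

set_option autoImplicit false
set_option maxHeartbeats 400000

namespace Cfsg.Agent.H9.Ru

open Cfsg Cfsg.Spor Finset

/-- test all masks with at most `t` of the places below `n` -/
noncomputable def allSub (P : ℕ → Bool) (n : ℕ) : ℕ → ℕ → Bool :=
  Nat.rec (motive := fun _ => ℕ → ℕ → Bool) (fun _ acc => P acc)
    (fun n ih t acc => Nat.rec (motive := fun _ => Bool) (P acc)
      (fun t' _ => Bool.rec (motive := fun _ => Bool) false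
        (Nat.rec (motive := fun _ => Bool) false (fun z _ => ih t' z)
          (Nat.succ (Nat.xor acc (Nat.shiftLeft 1 (Nat.mul 6 n))))) (ih t acc)) t) n

theorem Val.eq_zero {n T : ℕ} (h : Val n T) (h0 : ∀ j < n, sb T j = 0) : T = 0 := by
  apply Nat.eq_of_testBit_eq
  intro i
  rw [Nat.zero_testBit]
  by_contra hc
  obtain ⟨j, hj, rfl⟩ := h i (by simpa using hc)
  have := h0 j hj
  rw [sb_eq, if_pos (by simpa using hc)] at this
  omega

theorem allSub_spec {P : ℕ → Bool} {n t acc : ℕ} (h : allSub P n t acc = true) {T : ℕ} (hv : Val n T)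
    (hw : ∑ j ∈ range n, sb T j ≤ t) : P (acc ^^^ T) = true := by
  induction n generalizing t acc T with
  | zero => rw [hv.eq_zero (by simp), Nat.xor_zero]; exact h
  | succ n ih =>
    cases t with
    | zero =>
      rw [hv.eq_zero fun j hj => by
        have : sb T j ≤ ∑ j ∈ range (n + 1), sb T j :=
          single_le_sum (f := fun j => sb T j) (fun _ _ => Nat.zero_le _) (mem_range.mpr hj)
        omega, Nat.xor_zero]
      exact h
    | succ t =>
      have e : allSub P (n + 1) (t + 1) acc = Bool.rec (motive := fun _ => Bool) false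
        (allSub P n t (acc ^^^ 1 <<< (6 * n))) (allSub P n (t + 1) acc) := rfl
      rw [e] at h
      cases h1 : allSub P n (t + 1) acc with
      | false => rw [h1] at h; exact absurd h (by simp)
      | true =>
        rw [h1] at h
        rw [sum_range_succ] at hw
        cases h2 : T.testBit (6 * n) with
        | false =>
          refine ih h1 (fun i hi => ?_) (by omega)
          obtain ⟨j, hj, rfl⟩ := hv i hi
          refine ⟨j, lt_of_le_of_ne (by omega) ?_, rfl⟩
          rintro rfl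
          rw [h2] at hi; exact absurd hi (by simp)
        | true =>
          have h3 := ih h (T := T ^^^ 1 <<< (6 * n)) (fun i hi => ?_) ?_
          · rwa [Nat.xor_assoc, Nat.xor_comm T, ← Nat.xor_assoc (1 <<< _), Nat.xor_self,
              Nat.zero_xor] at h3
          · rw [Nat.testBit_xor, Nat.one_shiftLeft, Nat.testBit_two_pow] at hi
            by_cases h4 : 6 * n = i
            · subst h4; simp [h2] at hi
            · obtain ⟨j, hj, rfl⟩ := hv i (by simpa [h4] using hi)
              exact ⟨j, by omega, rfl⟩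
          · have h5 : sb T n = 1 := by rw [sb_eq, h2]; rfl
            have h6 : ∑ j ∈ range n, sb (T ^^^ 1 <<< (6 * n)) j = ∑ j ∈ range n, sb T j :=
              sum_congr rfl fun j hj => by
                have := sb_le T j
                rw [sb_xor, sb_one, if_neg (mem_range.mp hj).ne]; omega
            omega

/-- the vector with entries `± s` on `ρ`, with signs `h` -/
def vec (s ρ h : ℕ) : RuVec := mkV fun j => Int.mul s (Int.subNatNat (sb ρ j) (2 * sb (ρ &&& h) j))

theorem co_vec (s ρ h : ℕ) {j : ℕ} (hj : j < 56) :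
    co (vec s ρ h) j = s * (sb ρ j * (1 - 2 * sb h j)) := by
  rw [vec, co_mkV _ hj, Int.subNatNat_eq_coe, sb_and]
  show (s : ℤ) * _ = _
  push_cast; ring

theorem norm_lower {x : RuVec} {ρ h : ℕ} (hr : R4 x ρ h) {j : ℕ} (hj : j < 56) :
    (sb ρ j + 4 * sb (h ^^^ (h &&& ρ)) j : ℤ) ≤ co x j * co x j := by
  have h1 := hr j hj
  have := sb_le ρ j; have := sb_le h j
  rw [sb_xor, sb_and]
  generalize sb ρ j = a at *; generalize sb h j = b at *; generalize co x j = c at *
  have h2 : c ≤ -2 ∨ c = -1 ∨ c = 0 ∨ c = 1 ∨ 2 ≤ c := by omega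
  interval_cases a <;> interval_cases b <;> rcases h2 with h2 | h2 | h2 | h2 | h2 <;>
    first | omega | (simp; nlinarith)

theorem weight_le {x : RuVec} {ρ h : ℕ} (hr : R4 x ρ h) (hn : dot x x = 16) :
    W ρ + 4 * W (h ^^^ (h &&& ρ)) ≤ 16 := by
  have := sum_le_sum fun j hj => norm_lower hr (mem_range.mp hj)
  rw [← dot, hn, sum_add_distrib, ← mul_sum] at this
  unfold W
  exact_mod_cast this

theorem sq16 {c : ℤ} (h : c % 4 = 0) (h0 : c * c ≠ 0) : 16 ≤ c * c := by
  have : c ≤ -4 ∨ c = 0 ∨ 4 ≤ c := by omega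
  rcases this with a | a | a
  · nlinarith
  · simp [a] at h0
  · nlinarith

theorem sq16' {c : ℤ} (h : c * c = 16) : ∃ b : ℕ, b < 2 ∧ c = 4 * (1 - 2 * b) := by
  rcases mul_eq_zero.mp (show (c - 4) * (c + 4) = 0 by linarith) with a | a
  · exact ⟨0, by norm_num, by omega⟩
  · exact ⟨1, by norm_num, by omega⟩

theorem sq1 {a b : ℕ} {c : ℤ} (ha : a ≤ 1) (hb : b ≤ 1) (h1 : (a : ℤ) = c * c)
    (h2 : c % 4 = a + 2 * b) : c = a * (1 - 2 * b) ∧ b ≤ a := by
  have a3 : -1 ≤ c ∧ c ≤ 1 := by constructor <;> nlinarith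
  obtain ⟨a3, a4⟩ := a3
  interval_cases a <;> interval_cases b <;> interval_cases c <;> simp_all

theorem bits1 {a b : ℕ} (c : ℕ) (ha : a ≤ 1) (h : b ≤ a) : b * a * c = b * c := by
  interval_cases a <;> simp_all

theorem bits2 {z a b s : ℕ} (ha : a ≤ 1) (hb : b ≤ 1) (h1 : z * b = 0) (h2 : s * ((a + a * b) % 2) = 0) :
    z * a * s = 0 := by
  interval_cases a <;> interval_cases b <;> simp_all

/-- the even part `T` does not fit -/
noncomputable def exP (ρ : ℕ) (Gs : List (ℕ × ℕ)) (T : ℕ) : Bool :=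
  anyL Gs (fun g => !eqB ρ T g.1 g.2) || Nat.beq (Nat.lor ρ T) 0

theorem frame_of {x : RuVec} (hn : dot x x = 16) (hr : R4 x 0 0) :
    ∃ j < 56, ∃ b < 2, x = vec 4 (1 <<< (6 * j)) (b <<< (6 * j)) := by
  have h7 : ∀ j < 56, co x j % 4 = 0 := fun j hj => by rw [hr j hj, sb_zero]; rfl
  obtain ⟨j, hj, h8⟩ : ∃ j ∈ range 56, co x j * co x j ≠ 0 :=
    exists_ne_zero_of_sum_ne_zero (by rw [← dot, hn]; norm_num)
  have h10 := sq16 (h7 j (mem_range.mp hj)) h8
  rw [dot, ← add_sum_erase _ _ hj] at hn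
  have h11 := sum_nonneg (s := (range 56).erase j) fun i _ => mul_self_nonneg (co x i)
  have h12 := (sum_eq_zero_iff_of_nonneg fun i _ => mul_self_nonneg (co x i)).mp
    (show ∑ i ∈ (range 56).erase j, co x i * co x i = 0 by omega)
  obtain ⟨b, hb, h14⟩ := sq16' (c := co x j) (by omega)
  refine ⟨j, mem_range.mp hj, b, hb, co_ext fun i hi => ?_⟩
  rw [co_vec _ _ _ hi, sb_one]
  split_ifs with h15
  · subst h15
    interval_cases b
    · rw [Nat.zero_shiftLeft, sb_zero, h14]; simp
    · rw [sb_one, h14]; simp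
  · simpa using h12 i (mem_erase.mpr ⟨h15, mem_range.mpr hi⟩)

/-- no vector of norm 16 has the residue `ρ`, except in the frame -/
noncomputable def exB (ρ t : ℕ) (Gs : List (ℕ × ℕ)) : Bool :=
  Nat.blt 16 (wt ρ + 4 * (t + 1)) &&
  allL Gs (fun g => memB g.1 g.2 && Nat.beq (Nat.land g.1 ρ) 0) &&
  allSub (exP ρ Gs) 56 t 0

theorem exB_spec {x : RuVec} (hx : x ∈ ruLattice) (hn : dot x x = 16) {ρ t : ℕ} {Gs : List (ℕ × ℕ)}
    (hr : R4 x ρ (hiOf x)) (h : exB ρ t Gs = true) :
    ∃ j < 56, ∃ b < 2, x = vec 4 (1 <<< (6 * j)) (b <<< (6 * j)) := by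
  simp only [exB, Bool.and_eq_true, Nat.blt_eq, allL_iff, Nat.beq_eq, wt_eq] at h
  obtain ⟨⟨h1, h2⟩, h3⟩ := h
  have h4 := weight_le hr hn
  have h5 := allSub_spec h3 (T := hiOf x ^^^ (hiOf x &&& ρ)) (fun i hi => val_hiOf x i (by
    rw [Nat.testBit_xor, Nat.testBit_and] at hi
    revert hi; cases (hiOf x).testBit i <;> simp)) (by show W _ ≤ t; omega)
  simp only [exP, Nat.zero_xor, Bool.or_eq_true, anyL_iff, Bool.not_eq_true', Nat.beq_eq] at h5
  rcases h5 with ⟨g, hg, h5⟩ | h5
  · have h6 := eqB_of hx hr (mem_of_memB (h2 g hg).1)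
    have h7 : g.1 &&& ρ = 0 := (h2 g hg).2
    have h8 : (hiOf x ^^^ (hiOf x &&& ρ)) &&& g.1 = hiOf x &&& g.1 := by
      rw [Nat.and_xor_distrib_right, Nat.and_assoc, Nat.and_comm ρ, h7]; simp
    rw [eqB_iff, ← h8, ← eqB_iff, h5] at h6
    exact absurd h6 (by simp)
  · have h6 : ρ ||| (hiOf x ^^^ (hiOf x &&& ρ)) = 0 := h5
    rw [Nat.or_eq_zero_iff] at h6
    obtain ⟨rfl, h6⟩ := h6
    rw [Nat.and_zero, Nat.xor_zero] at h6
    rw [h6] at hr
    exact frame_of hn hr

/-- test all sums of at most `t` of the columns below `n` -/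
noncomputable def allSyn (P : ℕ → Bool) (e : ℕ → ℕ) (n : ℕ) : ℕ → ℕ → Bool :=
  Nat.rec (motive := fun _ => ℕ → ℕ → Bool) (fun _ acc => P acc)
    (fun n ih t acc => Nat.rec (motive := fun _ => Bool) (P acc)
      (fun t' _ => Bool.rec (motive := fun _ => Bool) false
        (Nat.rec (motive := fun _ => Bool) false (fun z _ => ih t' z)
          (Nat.succ (Nat.xor acc (e n)))) (ih t acc)) t) n

theorem allSyn_glue {P : ℕ → Bool} {e : ℕ → ℕ} {n t acc : ℕ} (h0 : P acc = true)
    (h : ∀ j < n, allSyn P e j t (Nat.xor acc (e j)) = true) : allSyn P e n (t + 1) acc = true := by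
  induction n with
  | zero => exact h0
  | succ n ih =>
    have e1 : allSyn P e (n + 1) (t + 1) acc = Bool.rec (motive := fun _ => Bool) false
      (allSyn P e n t (Nat.xor acc (e n))) (allSyn P e n (t + 1) acc) := rfl
    rw [e1, ih fun j hj => h j (by omega)]
    exact h n (by omega)

theorem allSyn_spec {P : ℕ → Bool} {e : ℕ → ℕ} {n t acc : ℕ} (h : allSyn P e n t acc = true)
    {f : ℕ → ℕ} (hf : ∀ j, f j ≤ 1) (hw : ∑ j ∈ range n, f j ≤ t) :
    ∃ z, P z = true ∧ ∀ k, bit z k = (bit acc k + ∑ j ∈ range n, f j * bit (e j) k) % 2 := by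
  have hb : ∀ z k, bit z k % 2 = bit z k := fun z k => by rw [bit_eq]; split_ifs <;> rfl
  induction n generalizing t acc with
  | zero => exact ⟨acc, h, fun k => by simp [hb]⟩
  | succ n ih =>
    cases t with
    | zero =>
      refine ⟨acc, h, fun k => ?_⟩
      rw [sum_eq_zero fun j hj => by rw [sum_eq_zero_iff.mp (Nat.le_zero.mp hw) j hj, zero_mul]]
      simp [hb]
    | succ t =>
      have e1 : allSyn P e (n + 1) (t + 1) acc = Bool.rec (motive := fun _ => Bool) false
        (allSyn P e n t (acc ^^^ e n)) (allSyn P e n (t + 1) acc) := rfl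
      rw [e1] at h
      obtain ⟨h1, h2⟩ := L0.brec_true h
      rw [sum_range_succ] at hw
      rcases Nat.le_one_iff_eq_zero_or_eq_one.mp (hf n) with h3 | h3
      · obtain ⟨z, a1, a2⟩ := ih h1 (by omega)
        exact ⟨z, a1, fun k => by rw [a2, sum_range_succ, h3, zero_mul, add_zero]⟩
      · obtain ⟨z, a1, a2⟩ := ih h2 (by omega)
        refine ⟨z, a1, fun k => ?_⟩
        have : bit (acc ^^^ e n) k = (bit acc k + bit (e n) k) % 2 := by
          simp only [bit_eq, Nat.testBit_xor]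
          cases acc.testBit k <;> cases (e n).testBit k <;> rfl
        rw [a2, sum_range_succ, h3, one_mul, this]
        omega

/-- nonzero syndrome or empty support -/
noncomputable def synP (z : ℕ) : Bool :=
  Bool.rec (motive := fun _ => Bool) true (Nat.beq z 0) (Nat.beq (Nat.land z 524287) 0)

/-- the columns of the residue code, with a marker -/
noncomputable def colB (e : ℕ → ℕ) : Bool :=
  allLt 56 fun j => allLt 19 (fun k => Nat.beq (bit (e j) k) (sb (E1.getD k (0, 0, 0)).2.1 j)) &&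
    allLt 56 fun i => Nat.beq (bit (e j) (19 + i)) (if j = i then 1 else 0)

theorem zero_spec {x : RuVec} (hx : x ∈ ruLattice) (hn : dot x x = 16) (hr : R4 x 0 (hiOf x))
    {e : ℕ → ℕ} (h1 : colB e = true) (h2 : allSyn synP e 56 4 0 = true) :
    ∃ j < 56, ∃ b < 2, x = vec 4 (1 <<< (6 * j)) (b <<< (6 * j)) := by
  have h3 := weight_le hr hn
  rw [Nat.and_zero, Nat.xor_zero] at h3
  obtain ⟨z, h4, h5⟩ := allSyn_spec h2 (sb_le (hiOf x)) (show W _ ≤ 4 by omega)
  simp only [colB, allLt_iff, Bool.and_eq_true, Nat.beq_eq] at h1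
  have b0 : ∀ k, bit 0 k = 0 := fun k => by simp [bit_eq]
  have h6 : z &&& 524287 = 0 := by
    apply Nat.eq_of_testBit_eq
    intro k
    rw [Nat.testBit_and, show 524287 = 2 ^ 19 - 1 from rfl, Nat.testBit_two_pow_sub_one, Nat.zero_testBit]
    by_cases hk : k < 19
    swap
    · simp [hk]
    have a1 : E1.getD k (0, 0, 0) ∈ E1 := by
      rw [List.getD_eq_getElem _ _ (show k < E1.length from hk)]; exact List.getElem_mem _
    have a2 := eqB_iff.mp (eqB_of hx hr (sel_mem four_mem Wm_mem ((allL_iff _ _).mp E1_ok _ a1)))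
    have a3 := h5 k
    rw [b0, zero_add, sum_congr rfl fun j hj => by rw [(h1 j (mem_range.mp hj)).1 k hk, ← sb_and],
      bit_eq] at a3
    have h0 : W 0 = 0 := by simp [W, sb_zero]
    rw [Nat.zero_and, Nat.zero_and, h0] at a2
    change _ = W _ % 2 at a3
    cases a4 : z.testBit k with
    | false => rfl
    | true => rw [a4, if_pos rfl] at a3; omega
  have h7 : z = 0 := by
    unfold synP at h4
    rw [show Nat.land z 524287 = 0 from h6] at h4
    exact Nat.eq_of_beq_eq_true h4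
  refine frame_of hn fun i hi => ?_
  have a3 := h5 (19 + i)
  rw [h7, b0, zero_add, sum_eq_single i (fun j hj hji => by
    rw [(h1 j (mem_range.mp hj)).2 i hi, if_neg hji, mul_zero]) (by simp [hi]), (h1 i hi).2 i hi,
    if_pos rfl] at a3
  have := sb_le (hiOf x) i
  rw [hr i hi, sb_zero, show sb (hiOf x) i = 0 by omega]

theorem exists_clear {F : ℕ} (K : List (ℕ × ℕ)) (hK : ∀ k ∈ K, k.2 &&& F = 1 <<< (6 * k.1)) (d : ℕ)
    (hd : ∀ j < 56, sb (d &&& F) j = 1 → ∃ k ∈ K, k.1 = j) :
    ∃ m, InSpan (K.map Prod.snd) m ∧ ∀ j < 56, sb ((d ^^^ m) &&& F) j = 0 := by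
  induction K generalizing d with
  | nil =>
    refine ⟨0, rfl, fun j hj => ?_⟩
    have := sb_le (d &&& F) j
    have := mt (hd j hj) (by simp)
    rw [Nat.xor_zero]; omega
  | cons k K ih =>
    have hK' := fun k' hk' => hK k' (List.mem_cons_of_mem _ hk')
    by_cases h : sb (d &&& F) k.1 = 1
    · obtain ⟨m, h1, h2⟩ := ih hK' (d ^^^ k.2) fun j hj0 hj => by
        rw [Nat.and_xor_distrib_right, hK k List.mem_cons_self, sb_xor, sb_one] at hj
        have := sb_le (d &&& F) j
        split_ifs at hj with h3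
        · subst h3; omega
        · obtain ⟨k', h4, h5⟩ := hd j hj0 (by omega)
          rcases List.mem_cons.mp h4 with rfl | h4
          · exact absurd h5.symm h3
          · exact ⟨k', h4, h5⟩
      refine ⟨k.2 ^^^ m, Or.inr ?_, fun j hj => by rw [← Nat.xor_assoc]; exact h2 j hj⟩
      rwa [Nat.xor_comm k.2, Nat.xor_assoc, Nat.xor_self, Nat.xor_zero]
    · obtain ⟨m, h1, h2⟩ := ih hK' d fun j hj0 hj => by
        obtain ⟨k', h4, h5⟩ := hd j hj0 hj
        rcases List.mem_cons.mp h4 with rfl | h4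
        · exact absurd (h5 ▸ hj) h
        · exact ⟨k', h4, h5⟩
      exact ⟨m, Or.inl h1, h2⟩

/-- the sign patterns for the residue `ρ` form the affine space `h0 + K` -/
noncomputable def solB (ρ h0 F pv : ℕ) (K : List (ℕ × ℕ)) : Bool :=
  Nat.beq (wt ρ) 16 && allL E1 (fun e => eqB ρ (Nat.land h0 ρ) e.2.1 e.2.2) &&
  allL K (fun k => Nat.beq (Nat.land k.2 F) (Nat.shiftLeft 1 (6 * k.1)) &&
    allL B1 fun b => Nat.beq (Nat.mod (wt (Nat.land (Nat.land k.2 ρ) b)) 2) 0) &&
  allLt 56 fun j => !tb ρ (6 * j) || Bool.rec (motive := fun _ => Bool)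
    (Nat.beq (Nat.land (selXor B1 (look 19 pv j)) (Nat.xor ρ (Nat.land ρ F))) (Nat.shiftLeft 1 (6 * j)))
    (anyL K fun k => Nat.beq k.1 j) (tb F (6 * j))

theorem solB_spec {x : RuVec} (hx : x ∈ ruLattice) (hn : dot x x = 16) {ρ h0 F pv : ℕ}
    {K : List (ℕ × ℕ)} (hr : R4 x ρ (hiOf x)) (h : solB ρ h0 F pv K = true) :
    ∃ m, InSpan (K.map Prod.snd) m ∧ x = vec 1 ρ (h0 ^^^ m) := by
  simp only [solB, Bool.and_eq_true, allL_iff, allLt_iff, Nat.beq_eq, wt_eq, Bool.or_eq_true,
    Bool.not_eq_true'] at h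
  obtain ⟨⟨⟨h1, h2⟩, h3⟩, h4⟩ := h
  set h := hiOf x
  have hsq : ∀ j ∈ range 56, (sb ρ j : ℤ) = co x j * co x j := by
    rw [← sum_eq_sum_iff_of_le fun j hj => le_trans (by simp) (norm_lower hr (mem_range.mp hj)),
      ← dot, hn]
    unfold W at h1
    exact_mod_cast h1
  have hco : ∀ j < 56, co x j = sb ρ j * (1 - 2 * sb h j) ∧ sb h j ≤ sb ρ j := by
    exact fun j hj => sq1 (sb_le _ _) (sb_le _ _) (hsq j (mem_range.mpr hj)) (hr j hj)
  let Hom : ℕ → Prop := fun d => ∀ b ∈ B1, W (d &&& ρ &&& b) % 2 = 0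
  have hx2 : ∀ a c, Hom a → Hom c → Hom (a ^^^ c) := fun a c ha hc b hb => by
    have := ha b hb; have := hc b hb
    rw [Nat.and_xor_distrib_right, Nat.and_xor_distrib_right, W_xor]; omega
  have hd : Hom ((h ^^^ h0) &&& ρ) := by
    intro b hb
    obtain ⟨e, he, rfl⟩ := List.mem_map.mp hb
    have a1 := (eqB_iff (b := h0 &&& ρ)).mp (h2 e he)
    have a2 := eqB_iff.mp (eqB_of hx hr (sel_mem four_mem Wm_mem ((allL_iff _ _).mp E1_ok e he)))
    have a3 : W (h &&& ρ &&& e.2.1) = W (h &&& e.2.1) := W_congr fun j hj => by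
      rw [sb_and, sb_and, sb_and, bits1 _ (sb_le _ _) (hco j hj).2]
    rw [Nat.and_assoc _ ρ ρ, Nat.and_self, Nat.and_xor_distrib_right, Nat.and_xor_distrib_right, W_xor,
      a3]
    omega
  obtain ⟨m, m1, m2⟩ := exists_clear K (fun k hk => (h3 k hk).1) ((h ^^^ h0) &&& ρ) fun j hj a => by
    rw [sb_and, sb_and] at a
    have a1 := (tb_sb ρ j).mpr (Nat.eq_one_of_mul_eq_one_left (Nat.eq_one_of_mul_eq_one_right a))
    have a2 := (tb_sb F j).mpr (Nat.eq_one_of_mul_eq_one_left a)
    have a3 := (h4 j hj).resolve_left (by simp [a1])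
    rw [a2] at a3
    simpa only [anyL_iff, Nat.beq_eq] using a3
  have hz := hx2 _ _ hd (InSpan.induction (P := Hom) (fun b _ => by simp [W, sb_zero]) (fun k hk => by
    obtain ⟨k', hk', rfl⟩ := List.mem_map.mp hk
    exact (h3 k' hk').2) hx2 m1)
  set z := (h ^^^ h0) &&& ρ ^^^ m with hzd
  have hz' : ∀ b, InSpan B1 b → W (z &&& ρ &&& b) % 2 = 0 := fun b hb =>
    InSpan.induction (P := fun b => W (z &&& ρ &&& b) % 2 = 0) (by simp [W, sb_zero]) hz
      (fun a c ha hc => by rw [Nat.and_xor_distrib_left, W_xor]; omega) hb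
  refine ⟨m, m1, co_ext fun j hj => ?_⟩
  rw [co_vec _ _ _ hj, (hco j hj).1, Nat.cast_one, one_mul]
  by_cases a1 : sb ρ j = 1
  swap
  · have := sb_le ρ j
    rw [show sb ρ j = 0 by omega]; simp
  have a2 : sb z j = 0 := by
    have a3 := (h4 j hj).resolve_left (by simp [(tb_sb ρ j).mpr a1])
    cases a4 : tb F (6 * j) with
    | true =>
      have := m2 j hj
      rwa [sb_and, (tb_sb F j).mp a4, mul_one] at this
    | false =>
      rw [a4] at a3
      have a5 : selXor B1 (look 19 pv j) &&& (ρ ^^^ (ρ &&& F)) = 1 <<< (6 * j) :=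
        Nat.eq_of_beq_eq_true a3
      have a6 := hz' _ (inSpan_selXor B1 (look 19 pv j))
      rw [W, sum_eq_single j] at a6
      · have a7 := congrArg (sb · j) a5
        simp only [sb_and, sb_one, if_true] at a7
        rw [sb_and, sb_and, a1, Nat.eq_one_of_mul_eq_one_right a7] at a6
        have := sb_le z j
        omega
      · intro i hi hij
        have a7 := congrArg (sb · i) a5
        have a8 := m2 i (mem_range.mp hi)
        simp only [sb_and, sb_xor, sb_one, if_neg hij] at a7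
        rw [sb_and] at a8
        rw [sb_and, sb_and]
        exact bits2 (sb_le _ _) (sb_le _ _) a8 a7
      · simp [hj]
  rw [hzd, sb_xor, sb_and, sb_xor, a1] at a2
  have := sb_le h j; have := sb_le h0 j; have := sb_le m j
  rw [show sb h j = sb (h0 ^^^ m) j by rw [sb_xor]; omega]

end Cfsg.Agent.H9.Ru
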