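import Cfsg.Agent.H9.Big2

/-! An upper bound for the order by checking all Schreier generators. -/

set_option autoImplicit false

namespace Cfsg.Agent.H9

open Cfsg.Agent.L0 (ev ev_nil ev_cons ev_append ev_mem nthW nthW_mem nthW_eq map_ev ev_congr)

/-- a level: base point, tree, depth bound, bound for the orbit length, mask of the generators -/
structure SS where
  β : ℕ
  tree : ℕ → ℕ
  fuel : ℕ
  n : ℕ
  gm : ℕ

/-- the letters met on the way up the tree, pushed on `acc` -/
noncomputable def wkR (T : ℕ → ℕ → ℕ) (β : ℕ) (tree : ℕ → ℕ) (fuel : ℕ) : ℕ → List ℕ → List ℕ :=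
  Nat.rec (motive := fun _ => ℕ → List ℕ → List ℕ) (fun _ acc => acc)
    (fun _ ih c acc => Bool.rec (motive := fun _ => List ℕ)
      (Nat.rec (motive := fun _ => List ℕ) acc
        (fun s _ => Nat.rec (motive := fun _ => List ℕ) [] (fun d _ => ih d (s :: acc))
          (Nat.succ (T c s))) (tree c))
      acc (Nat.beq c β)) fuel

theorem wkR_self (T : ℕ → ℕ → ℕ) (β : ℕ) (tree : ℕ → ℕ) (fuel : ℕ) (acc : List ℕ) :
    wkR T β tree fuel β acc = acc := by
  cases fuel with
  | zero => rfl
  | succ n =>
    show Bool.rec (motive := fun _ => List ℕ) _ acc (Nat.beq β β) = acc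
    rw [Nat.beq_refl]

/-- evaluate a list before continuing -/
noncomputable def forceL (l : List ℕ) (k : List ℕ → Bool) : Bool :=
  List.rec (motive := fun _ => Bool) (k []) (fun a t _ => k (a :: t)) l

theorem forceL_eq (l : List ℕ) (k : List ℕ → Bool) : forceL l k = k l := by cases l <;> rfl

namespace SS

/-- membership in the listed orbit -/
noncomputable def mem (L : SS) (c : ℕ) : Bool :=
  Nat.rec (motive := fun _ => Bool) (Nat.beq c L.β) (fun _ _ => true) (L.tree c)

/-- number of members below `N` -/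
noncomputable def cnt (L : SS) (N : ℕ) : ℕ :=
  Nat.rec (motive := fun _ => ℕ) 0
    (fun c ih => Bool.rec (motive := fun _ => ℕ) ih (Nat.succ ih) (L.mem c)) N

theorem cnt_eq (L : SS) (N : ℕ) : L.cnt N = ((Finset.range N).filter fun c => L.mem c = true).card := by
  induction N with
  | zero => rfl
  | succ n ih =>
    have : L.cnt (n + 1) = Bool.rec (motive := fun _ => ℕ) (L.cnt n) (L.cnt n + 1) (L.mem n) := rfl
    rw [this, ih, Finset.range_add_one, Finset.filter_insert]
    cases h : L.mem n <;> simp

end SS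

/-- sift through the lower levels; `X` is the element so far -/
noncomputable def siftR (T : ℕ → ℕ → ℕ) (X : ℕ → ℕ) (k : List ℕ → Bool) (Ls : List SS) :
    List ℕ → Bool :=
  List.rec (motive := fun _ => List ℕ → Bool) k
    (fun L _ ih v => Nat.rec (motive := fun _ => Bool) false
      (fun p _ => forceL (wkR T L.β L.tree L.fuel p v) ih) (Nat.succ (trR T v (X L.β)))) Ls

theorem siftR_spec {T : ℕ → ℕ → ℕ} {X : ℕ → ℕ} {k : List ℕ → Bool} {Ls : List SS} {v : List ℕ}
    (h : siftR T X k Ls v = true) : ∃ v', k v' = true := by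
  induction Ls generalizing v with
  | nil => exact ⟨v, h⟩
  | cons L Ls ih =>
    have h' : forceL (wkR T L.β L.tree L.fuel (trR T v (X L.β)) v) (siftR T X k Ls) = true := h
    rw [forceL_eq] at h'
    exact ih h'

/-- mask of the next level -/
def nextM : List SS → ℕ
  | [] => 0
  | L :: _ => L.gm

/-- the Schreier generators at the point `c` lie in the next group -/
noncomputable def ssB (T : ℕ → ℕ → ℕ) (k : ℕ) (B : List ℕ) (iv : ℕ → List ℕ) (L : SS) (Ls : List SS)
    (c : ℕ) : Bool :=
  Bool.rec (motive := fun _ => Bool) true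
    (forceL (wkR T L.β L.tree L.fuel c []) fun W => ltB k W && allLt k fun s =>
      Bool.rec (motive := fun _ => Bool) true
        (Nat.rec (motive := fun _ => Bool) false (fun d _ => L.mem d &&
          forceL (wkR T L.β L.tree L.fuel d []) fun W' =>
            siftR T (fun b => trR T W' (T (trI T iv W b) s))
              (fun v => (allL v fun y => Nat.blt y k && tb (nextM Ls) y) &&
                RA.agree B (fun b => trR T v (trR T W' (T b s))) (trR T W)) Ls [])
          (Nat.succ (T c s)))
        (tb L.gm s))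
    (L.mem c)

/-- the checks for all levels -/
def SSChk (T : ℕ → ℕ → ℕ) (N k : ℕ) (B : List ℕ) (iv : ℕ → List ℕ) : List SS → Prop
  | [] => True
  | L :: Ls => (L.β < N ∧ L.cnt N ≤ L.n) ∧ (∀ c < N, ssB T k B iv L Ls c = true) ∧
      SSChk T N k B iv Ls

/-- product of the bounds -/
def ssOrd : List SS → ℕ
  | [] => 1
  | L :: Ls => L.n * ssOrd Ls

namespace RA

variable {G : Type*} [Group G] {N : ℕ} {A : RA G N} {g : ℕ → G} {k : ℕ} {T : ℕ → ℕ → ℕ}

/-- the group generated by the letters of a mask -/
def genM (g : ℕ → G) (k m : ℕ) : Subgroup G :=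
  Subgroup.closure {x | ∃ s < k, m.testBit s = true ∧ x = g s}

theorem Tab.trR (hT : A.Tab g k T) {w : List ℕ} (hw : ∀ s ∈ w, s < k) :
    A.Fn (ev g w.reverse) (H9.trR T w) := fun c hc => by
  rw [trR_eq]; exact hT.tr (fun s hs => hw s (List.mem_reverse.mp hs)) c hc

theorem ss_le [Finite G] (hT : A.Tab g k T) {B : List ℕ} (hB : A.IsBase B) {iv : ℕ → List ℕ}
    {Ls : List SS} (h : SSChk T N k B iv Ls) : Nat.card (genM g k (nextM Ls)) ≤ ssOrd Ls := by
  induction Ls with
  | nil =>
    have : genM g k (nextM []) = ⊥ := by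
      rw [genM, Subgroup.closure_eq_bot_iff]
      rintro _ ⟨s, -, h1, -⟩
      simp [nextM] at h1
    rw [this]; simp [ssOrd]
  | cons L Ls ih =>
    obtain ⟨⟨hβ, hn⟩, hc, hr⟩ := h
    have ih' := ih hr
    set W : ℕ → List ℕ := fun c => wkR T L.β L.tree L.fuel c [] with hW
    have spec : ∀ c < N, L.mem c = true → (∀ s ∈ W c, s < k) ∧ ∀ s < k, L.gm.testBit s = true →
        L.mem (T c s) = true ∧ ∃ v : List ℕ, (∀ y ∈ v, y < k ∧ (nextM Ls).testBit y = true) ∧
          agree B (fun b => H9.trR T v (H9.trR T (W (T c s)) (T b s))) (H9.trR T (W c)) = true := by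
      intro c hcN hm
      have h1 := hc c hcN
      unfold ssB at h1
      rw [hm] at h1
      simp only [forceL_eq, Bool.and_eq_true, ltB_iff, allLt_iff] at h1
      refine ⟨h1.1, fun s hs hg => ?_⟩
      have h2 := h1.2 s hs
      rw [tb_eq, hg] at h2
      have h3 : (L.mem (T c s) && siftR T (fun b => H9.trR T (W (T c s)) (T (H9.trI T iv (W c) b) s))
        (fun v => (allL v fun y => Nat.blt y k && tb (nextM Ls) y) &&
          agree B (fun b => H9.trR T v (H9.trR T (W (T c s)) (T b s))) (H9.trR T (W c))) Ls []) = true := h2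
      rw [Bool.and_eq_true] at h3
      obtain ⟨v, hv⟩ := siftR_spec h3.2
      simp only [Bool.and_eq_true, allL_iff, Nat.blt_eq, tb_eq] at hv
      exact ⟨h3.1, v, hv⟩
    have key : ∀ x ∈ genM g k L.gm, L.mem (A.act L.β x) = true ∧
        x * ev g (W (A.act L.β x)).reverse ∈ genM g k (nextM Ls) := by
      apply closure_sub_of_closed (C := {x | L.mem (A.act L.β x) = true ∧
        x * ev g (W (A.act L.β x)).reverse ∈ genM g k (nextM Ls)})
      · rw [Set.mem_setOf_eq, A.one hβ]
        refine ⟨?_, by simp [hW, wkR_self]⟩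
        unfold SS.mem
        cases L.tree L.β with
        | zero => exact Nat.beq_refl _
        | succ _ => rfl
      · rintro _ ⟨s, hs, hg, rfl⟩ x ⟨h1, h2⟩
        have hcN := A.lt hβ x
        obtain ⟨a1, a2⟩ := spec _ hcN h1
        obtain ⟨a3, v, a4, a5⟩ := a2 s hs hg
        have e : A.act L.β (x * g s) = T (A.act L.β x) s := by rw [A.mul hβ, hT s hs _ hcN]
        rw [Set.mem_setOf_eq, e]
        refine ⟨a3, ?_⟩
        have a6 := (spec _ (e ▸ A.lt hβ _) a3).1
        have a7 : A.Fn (g s) fun b => T b s := fun b hb => hT s hs b hb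
        have a8 := hB.eq ((a7.comp (hT.trR a6)).comp (hT.trR fun y hy => (a4 y hy).1)) (hT.trR a1) a5
        have a9 : ev g v.reverse ∈ genM g k (nextM Ls) := ev_mem g _ fun y hy =>
          Subgroup.subset_closure ⟨y, (a4 y (List.mem_reverse.mp hy)).1,
            (a4 y (List.mem_reverse.mp hy)).2, rfl⟩
        rw [← a8] at h2
        simpa [mul_assoc] using mul_mem h2 (inv_mem a9)
    let F : genM g k L.gm → ((Finset.range N).filter fun c => L.mem c = true) × genM g k (nextM Ls) :=
      fun x => (⟨A.act L.β x, Finset.mem_filter.mpr ⟨Finset.mem_range.mpr (A.lt hβ _), (key x x.2).1⟩⟩,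
        ⟨_, (key x x.2).2⟩)
    have hF : Function.Injective F := by
      intro x y hxy
      have h1 : A.act L.β x = A.act L.β y := congrArg (fun p => p.1.1) hxy
      have h2 : (x : G) * ev g (W (A.act L.β x)).reverse = y * ev g (W (A.act L.β y)).reverse :=
        congrArg (fun p => p.2.1) hxy
      rw [h1] at h2
      exact Subtype.ext (mul_right_cancel h2)
    have := Nat.card_le_card_of_injective F hF
    rw [Nat.card_prod, Nat.card_eq_fintype_card (α := (Finset.filter _ _ : Finset ℕ)),
      Fintype.card_coe, ← SS.cnt_eq] at this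
    exact this.trans (Nat.mul_le_mul hn ih')

end RA

end Cfsg.Agent.H9
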