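import Cfsg.Agent.H9.RA

/-! A backtrack certificate for centralisers in a group with a stabiliser chain. -/

set_option autoImplicit false

namespace Cfsg.Agent.H9

open Cfsg.Agent.L0 (ev ev_nil ev_cons ev_append ev_mem)

/-- trace a point through a reversed word -/
noncomputable def trR (T : ℕ → ℕ → ℕ) (w : List ℕ) : ℕ → ℕ :=
  List.rec (motive := fun _ => ℕ → ℕ) (fun c => c)
    (fun s _ ih c => Nat.rec (motive := fun _ => ℕ) 0 (fun d _ => T d s) (Nat.succ (ih c))) w

theorem trR_cons (T : ℕ → ℕ → ℕ) (s : ℕ) (w : List ℕ) (c : ℕ) :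
    trR T (s :: w) c = T (trR T w c) s := rfl

theorem tr_append (T : ℕ → ℕ → ℕ) (w w' : List ℕ) (c : ℕ) :
    tr T (w ++ w') c = tr T w' (tr T w c) := by
  induction w generalizing c with
  | nil => rfl
  | cons i w ih => rw [List.cons_append, tr_cons, tr_cons, ih]

theorem trR_eq (T : ℕ → ℕ → ℕ) (w : List ℕ) (c : ℕ) : trR T w c = tr T w.reverse c := by
  induction w with
  | nil => rfl
  | cons s w ih => rw [trR_cons, List.reverse_cons, tr_append, ih]; rfl

/-- trace a point through the inverses of the letters -/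
noncomputable def trI (T : ℕ → ℕ → ℕ) (iv : ℕ → List ℕ) (w : List ℕ) : ℕ → ℕ :=
  List.rec (motive := fun _ => ℕ → ℕ) (fun c => c)
    (fun s _ ih c => Nat.rec (motive := fun _ => ℕ) 0 (fun d _ => ih d) (Nat.succ (tr T (iv s) c))) w

theorem trI_cons (T : ℕ → ℕ → ℕ) (iv : ℕ → List ℕ) (s : ℕ) (w : List ℕ) (c : ℕ) :
    trI T iv (s :: w) c = trI T iv w (tr T (iv s) c) := rfl

/-- map the second components -/
noncomputable def mapP (f : ℕ → ℕ) (ps : List (ℕ × ℕ)) : List (ℕ × ℕ) :=
  List.rec (motive := fun _ => List (ℕ × ℕ)) []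
    (fun p _ ih => Prod.rec (motive := fun _ => List (ℕ × ℕ)) (fun u v => (u, f v) :: ih) p) ps

theorem mapP_eq (f : ℕ → ℕ) (ps : List (ℕ × ℕ)) : mapP f ps = ps.map fun p => (p.1, f p.2) := by
  induction ps with
  | nil => rfl
  | cons p ps ih => rw [List.map_cons, ← ih]; rfl

/-- pair the points of `xs` with the iterates of `Y` -/
noncomputable def genP (Y : ℕ → ℕ) (tl : List (ℕ × ℕ)) (xs : List ℕ) : ℕ → List (ℕ × ℕ) :=
  List.rec (motive := fun _ => ℕ → List (ℕ × ℕ)) (fun _ => tl)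
    (fun u _ ih c => Nat.rec (motive := fun _ => List (ℕ × ℕ)) []
      (fun d _ => (u, d) :: ih d) (Nat.succ (Y c))) xs

theorem genP_cons (Y : ℕ → ℕ) (tl : List (ℕ × ℕ)) (u : ℕ) (xs : List ℕ) (c : ℕ) :
    genP Y tl (u :: xs) c = (u, Y c) :: genP Y tl xs (Y c) := rfl

/-- `xs` lists the iterates of `X` -/
noncomputable def xsB (X : ℕ → ℕ) (xs : List ℕ) : ℕ → Bool :=
  List.rec (motive := fun _ => ℕ → Bool) (fun _ => true)
    (fun u _ ih c => Nat.beq (X c) u && ih u) xs

/-- some iterate of `Z` is below `δ` -/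
noncomputable def cycLt (Z : ℕ → ℕ) (δ : ℕ) (fuel : ℕ) : ℕ → Bool :=
  Nat.rec (motive := fun _ => ℕ → Bool) (fun _ => false)
    (fun _ ih c => Nat.rec (motive := fun _ => Bool) false
      (fun d _ => Bool.rec (motive := fun _ => Bool) true (ih d) (Nat.ble δ d)) (Nat.succ (Z c))) fuel

/-- some pair has different components -/
noncomputable def difP (ps : List (ℕ × ℕ)) : Bool :=
  List.rec (motive := fun _ => Bool) false
    (fun p _ ih => Prod.rec (motive := fun _ => Bool)
      (fun u v => Bool.rec (motive := fun _ => Bool) true ih (Nat.beq u v)) p) ps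

/-- a level of the search: free or forced, the iterates of the base point, and the links -/
structure SLv extends Lv where
  free : Bool
  xs : List ℕ
  z : List ℕ
  zf : ℕ
  sp : List (ℕ × List ℕ)

/-- treat the candidate `δ` for the image of the base point -/
noncomputable def cand (T : ℕ → ℕ → ℕ) (iv : ℕ → List ℕ) (L : SLv)
    (nx : (ℕ → ℕ) → List (ℕ × ℕ) → Bool) (Y : ℕ → ℕ) (ps : List (ℕ × ℕ)) (δ : ℕ) : Bool :=
  walk T L.β L.tree L.sm true
    (fun acc => nx (fun c => trR T acc (Y (trI T iv acc c))) (mapP (trR T acc) ps)) L.fuel δ []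

/-- no element conjugates `X` to `Y` and respects the pairs -/
noncomputable def emptyB (T : ℕ → ℕ → ℕ) (iv : ℕ → List ℕ) (Ls : List SLv) :
    (ℕ → ℕ) → List (ℕ × ℕ) → Bool :=
  List.rec (motive := fun _ => (ℕ → ℕ) → List (ℕ × ℕ) → Bool) (fun _ ps => difP ps)
    (fun L _ ih Y ps => Bool.rec (motive := fun _ => Bool)
      (List.rec (motive := fun _ => Bool) false
        (fun p rest _ => Prod.rec (motive := fun _ => Bool)
          (fun u v => Bool.rec (motive := fun _ => Bool) false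
            (Nat.rec (motive := fun _ => Bool) false (fun δ _ => cand T iv L ih Y rest δ) (Nat.succ v))
            (Nat.beq u L.β)) p) ps)
      (allLt L.n fun i => Nat.rec (motive := fun _ => Bool) false
        (fun δ _ => cand T iv L ih Y (genP Y ps L.xs δ) δ) (Nat.succ (L.pts i)))
      L.free) Ls

/-- look for a special link -/
noncomputable def spB (T : ℕ → ℕ → ℕ) (sp : List (ℕ × List ℕ)) (δ : ℕ) (els : Bool) : Bool :=
  List.rec (motive := fun _ => Bool) els
    (fun q _ ih => Prod.rec (motive := fun _ => Bool)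
      (fun u w => Bool.rec (motive := fun _ => Bool) ih (Nat.blt (tr T w δ) δ) (Nat.beq u δ)) q) sp

/-- treat the orbit point number `i` of a free level of the centraliser search -/
noncomputable def scanB (T : ℕ → ℕ → ℕ) (iv : ℕ → List ℕ) (X : ℕ → ℕ) (L : SLv) (Ls : List SLv)
    (ps : List (ℕ × ℕ)) (i : ℕ) : Bool :=
  Nat.rec (motive := fun _ => Bool) false
    (fun δ _ => Bool.rec (motive := fun _ => Bool)
      (Bool.rec (motive := fun _ => Bool)
        (spB T L.sp δ (cand T iv L (emptyB T iv Ls) X (genP X ps L.xs δ) δ)) true (Nat.beq δ L.β))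
      true (cycLt (tr T L.z) δ L.zf δ)) (Nat.succ (L.pts i))

/-- the word `w` fixes the points `bs` and commutes with the word `x` -/
noncomputable def linkB (T : ℕ → ℕ → ℕ) (k : ℕ) (B bs x w : List ℕ) : Bool :=
  ltB k w && (allL bs fun b => Nat.beq (tr T w b) b) && RA.agree B (tr T (x ++ w)) (tr T (w ++ x))

/-- static checks of a search level -/
noncomputable def SLv.statS (L : SLv) (T : ℕ → ℕ → ℕ) (k : ℕ) (B bs x : List ℕ) : Bool :=
  xsB (tr T x) L.xs L.β && linkB T k B bs x L.z && allL L.sp fun q => linkB T k B bs x q.2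

/-- all static checks -/
noncomputable def statSB (T : ℕ → ℕ → ℕ) (k : ℕ) (B x : List ℕ) (Ls : List SLv) : List ℕ → Bool :=
  List.rec (motive := fun _ => List ℕ → Bool) (fun _ => true)
    (fun L _ ih bs => L.statS T k B bs x && ih (L.β :: bs)) Ls

/-- the centraliser search below the first level -/
noncomputable def centB (T : ℕ → ℕ → ℕ) (iv : ℕ → List ℕ) (X : ℕ → ℕ) (Ls : List SLv) :
    List (ℕ × ℕ) → Bool :=
  List.rec (motive := fun _ => List (ℕ × ℕ) → Bool) (fun _ => true)
    (fun L Ls ih ps => Bool.rec (motive := fun _ => Bool)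
      (List.rec (motive := fun _ => Bool) false
        (fun p rest _ => Nat.beq p.1 L.β && Nat.beq p.2 L.β && ih rest) ps)
      (allLt L.n (scanB T iv X L Ls ps) && ih (genP X ps L.xs L.β))
      L.free) Ls

/-- inverse words -/
noncomputable def invB (T : ℕ → ℕ → ℕ) (k : ℕ) (B : List ℕ) (iv : ℕ → List ℕ) : Bool :=
  allLt k fun s => ltB k (iv s) && RA.agree B (tr T (s :: iv s)) fun c => c

namespace RA

variable {G : Type*} [Group G] {N : ℕ} {A : RA G N} {g : ℕ → G} {k : ℕ} {T : ℕ → ℕ → ℕ}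

/-- `iv s` is a word for the inverse of the letter `s` -/
def Inv (g : ℕ → G) (k : ℕ) (iv : ℕ → List ℕ) : Prop :=
  ∀ s < k, (∀ y ∈ iv s, y < k) ∧ ev g (iv s) = (g s)⁻¹

theorem inv_of (hT : A.Tab g k T) {B : List ℕ} (hB : A.IsBase B) {iv : ℕ → List ℕ}
    (h : invB T k B iv = true) : Inv g k iv := by
  intro s hs
  have h1 := (allLt_iff _ _).mp h s hs
  rw [Bool.and_eq_true, ltB_iff] at h1
  refine ⟨h1.1, ?_⟩
  have h2 := hB.eq (hT.tr (w := s :: iv s) (by
    intro y hy
    rcases List.mem_cons.mp hy with rfl | hy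
    · exact hs
    · exact h1.1 y hy)) fn_one h1.2
  rw [ev_cons] at h2
  exact eq_inv_of_mul_eq_one_right h2

theorem Tab.trI (hT : A.Tab g k T) {iv : ℕ → List ℕ} (hi : Inv g k iv) {w : List ℕ}
    (hw : ∀ s ∈ w, s < k) : A.Fn (ev g w.reverse)⁻¹ (trI T iv w) := by
  induction w with
  | nil => intro c hc; simp [H9.trI, A.one hc]
  | cons s w ih =>
    intro c hc
    have hs := hi s (hw s List.mem_cons_self)
    rw [trI_cons, List.reverse_cons, ev_append, mul_inv_rev, A.mul hc, hT.tr hs.1 c hc, hs.2]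
    simpa using ih (fun y hy => hw y (List.mem_cons_of_mem _ hy)) _ (A.lt hc _)

/-- the pairs are respected by `h` -/
def Resp (A : RA G N) (h : G) (ps : List (ℕ × ℕ)) : Prop := ∀ p ∈ ps, p.1 < N ∧ A.act p.1 h = p.2

theorem Resp.genP {h x y : G} {X Y : ℕ → ℕ} (hX : A.Fn x X) (hY : A.Fn y Y) (hxy : x * h = h * y)
    {ps : List (ℕ × ℕ)} (hp : A.Resp h ps) {xs : List ℕ} {β δ : ℕ} (hβ : β < N)
    (hδ : A.act β h = δ) (hxs : xsB X xs β = true) : A.Resp h (genP Y ps xs δ) := by
  induction xs generalizing β δ with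
  | nil => exact hp
  | cons u xs ih =>
    have e : xsB X (u :: xs) β = (Nat.beq (X β) u && xsB X xs u) := rfl
    rw [e, Bool.and_eq_true, Nat.beq_eq] at hxs
    have h1 : u < N := hxs.1 ▸ hX.lt hβ
    have h2 : A.act u h = Y δ := by
      rw [← hxs.1, hX β hβ, ← A.mul hβ, hxy, A.mul hβ, hδ, hY δ (hδ ▸ A.lt hβ h)]
    rw [genP_cons]
    intro p hp'
    rcases List.mem_cons.mp hp' with rfl | hp'
    · exact ⟨h1, h2⟩
    · exact ih h1 h2 hxs.2 p hp'

theorem cand_spec (hT : A.Tab g k T) {iv : ℕ → List ℕ} (hi : Inv g k iv) {L : SLv} {bs : List ℕ}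
    (hL : A.LvOK g k T L.toLv bs) (ho : ∀ x ∈ A.Fix bs, ∃ i < L.n, A.act L.β x = L.pts i)
    {nx : (ℕ → ℕ) → List (ℕ × ℕ) → Bool} {x : G}
    (hnx : ∀ y Y ps, A.Fn y Y → nx Y ps = true → ∀ h ∈ A.Fix (L.β :: bs), x * h = h * y →
      A.Resp h ps → False)
    {y : G} {Y : ℕ → ℕ} (hY : A.Fn y Y) {ps : List (ℕ × ℕ)} {δ : ℕ}
    (hc : cand T iv L nx Y ps δ = true) {h : G} (hh : h ∈ A.Fix bs) (hxy : x * h = h * y)
    (hp : A.Resp h ps) (hδ : A.act L.β h = δ) : False := by
  have hδN : δ < N := hδ ▸ A.lt hL.hβ h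
  rcases walk_spec _ _ _ _ _ _ _ _ _ hc with ⟨w, h1, h2, h3⟩ | ⟨-, h1⟩
  · obtain ⟨h4, h5⟩ := hL.word h1
    rw [List.append_nil] at h3
    have hR : A.Fn (ev g w) (trR T w.reverse) := by
      intro c hc
      rw [trR_eq, List.reverse_reverse]; exact hT.tr h4 c hc
    have hI : A.Fn (ev g w)⁻¹ (H9.trI T iv w.reverse) := by
      have := hT.trI hi (w := w.reverse) fun s hs => h4 s (List.mem_reverse.mp hs)
      rwa [List.reverse_reverse] at this
    refine hnx ((ev g w)⁻¹ * y * ev g w) _ _ ((hI.comp hY).comp hR) h3 (h * ev g w) ?_ ?_ ?_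
    · rw [A.mem_Fix_cons hL.hβ]
      exact ⟨mul_mem hh h5, by rw [A.mul hL.hβ, hδ, ← hT.tr h4 _ hδN, h2]⟩
    · rw [← mul_assoc, hxy]; group
    · intro p hp'
      rw [mapP_eq] at hp'
      obtain ⟨q, hq, rfl⟩ := List.mem_map.mp hp'
      obtain ⟨h6, h7⟩ := hp q hq
      exact ⟨h6, by rw [A.mul h6, h7, hR _ (h7 ▸ A.lt h6 h)]⟩
  · obtain ⟨i, hi', e⟩ := ho h hh
    have := hL.wk i hi'
    rw [← e, hδ, h1] at this
    exact absurd this (by simp)

theorem difP_spec {ps : List (ℕ × ℕ)} (h : difP ps = true) : ∃ p ∈ ps, p.1 ≠ p.2 := by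
  induction ps with
  | nil => exact absurd h (by simp [difP])
  | cons p ps ih =>
    have e : difP (p :: ps) = Bool.rec (motive := fun _ => Bool) true (difP ps) (Nat.beq p.1 p.2) := rfl
    rw [e] at h
    cases h1 : Nat.beq p.1 p.2 with
    | false => exact ⟨p, List.mem_cons_self, Nat.ne_of_beq_eq_false h1⟩
    | true =>
      rw [h1] at h
      obtain ⟨q, hq, h2⟩ := ih h
      exact ⟨q, List.mem_cons_of_mem _ hq, h2⟩

theorem emptyB_spec (hT : A.Tab g k T) {iv : ℕ → List ℕ} (hi : Inv g k iv) {x : G} {X : ℕ → ℕ}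
    (hX : A.Fn x X) {Ls : List SLv} {bs : List ℕ} (hG : A.Good g k T (Ls.map SLv.toLv) bs)
    (hxs : ∀ L ∈ Ls, xsB X L.xs L.β = true) :
    ∀ y Y ps, A.Fn y Y → emptyB T iv Ls Y ps = true → ∀ h ∈ A.Fix bs, x * h = h * y →
      A.Resp h ps → False := by
  induction Ls generalizing bs with
  | nil =>
    intro y Y ps _ he h hh _ hp
    have h' : A.Fix bs = ⊥ := hG
    rw [h', Subgroup.mem_bot] at hh
    obtain ⟨p, h1, h2⟩ := difP_spec he
    apply h2
    rw [← (hp p h1).2, hh, A.one (hp p h1).1]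
  | cons L Ls ih =>
    intro y Y ps hY he h hh hxy hp
    have ih' := ih hG.2.2 fun L' hL' => hxs L' (List.mem_cons_of_mem _ hL')
    cases hf : L.free with
    | false =>
      cases ps with
      | nil =>
        have e : emptyB T iv (L :: Ls) Y [] = Bool.rec (motive := fun _ => Bool) false
          (allLt L.n fun i => cand T iv L (emptyB T iv Ls) Y (genP Y [] L.xs (L.pts i)) (L.pts i))
          L.free := rfl
        rw [e, hf] at he
        exact absurd he (by simp)
      | cons p rest =>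
        have e : emptyB T iv (L :: Ls) Y (p :: rest) = Bool.rec (motive := fun _ => Bool)
          (Bool.rec (motive := fun _ => Bool) false (cand T iv L (emptyB T iv Ls) Y rest p.2)
            (Nat.beq p.1 L.β))
          (allLt L.n fun i => cand T iv L (emptyB T iv Ls) Y (genP Y (p :: rest) L.xs (L.pts i))
            (L.pts i)) L.free := rfl
        rw [e, hf] at he
        cases h1 : Nat.beq p.1 L.β with
        | false => rw [h1] at he; exact absurd he (by simp)
        | true =>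
          rw [h1] at he
          refine cand_spec hT hi hG.1 hG.2.1 ih' hY he hh hxy
            (fun q hq => hp q (List.mem_cons_of_mem _ hq)) ?_
          rw [← Nat.eq_of_beq_eq_true h1]
          exact (hp p List.mem_cons_self).2
    | true =>
      have e : emptyB T iv (L :: Ls) Y ps = Bool.rec (motive := fun _ => Bool) _
          (allLt L.n fun i => cand T iv L (emptyB T iv Ls) Y (genP Y ps L.xs (L.pts i))
            (L.pts i)) L.free := rfl
      rw [e, hf] at he
      obtain ⟨i, hi', e'⟩ := hG.2.1 h hh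
      exact cand_spec hT hi hG.1 hG.2.1 ih' hY ((allLt_iff _ _).mp he i hi') hh hxy
        (hp.genP hX hY hxy hG.1.hβ e' (hxs L List.mem_cons_self)) e'

theorem cycLt_spec {z : G} {Z : ℕ → ℕ} (hZ : A.Fn z Z) {δ fuel c : ℕ} (hc : c < N)
    (h : cycLt Z δ fuel c = true) : ∃ m : ℕ, A.act c (z ^ m) < δ := by
  induction fuel generalizing c with
  | zero => exact absurd h (by simp [cycLt])
  | succ fuel ih =>
    have e : cycLt Z δ (fuel + 1) c = Bool.rec (motive := fun _ => Bool) true
      (cycLt Z δ fuel (Z c)) (Nat.ble δ (Z c)) := rfl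
    rw [e] at h
    cases h1 : Nat.ble δ (Z c) with
    | false =>
      refine ⟨1, ?_⟩
      rw [pow_one, ← hZ c hc]
      by_contra h2
      rw [Nat.ble_eq_true_of_le (not_lt.mp h2)] at h1
      exact absurd h1 (by simp)
    | true =>
      rw [h1] at h
      obtain ⟨m, hm⟩ := ih (hZ.lt hc) h
      exact ⟨m + 1, by rw [pow_succ', A.mul hc, ← hZ c hc]; exact hm⟩

theorem spB_spec {sp : List (ℕ × List ℕ)} {δ : ℕ} {els : Bool} (h : spB T sp δ els = true) :
    els = true ∨ ∃ q ∈ sp, H9.tr T q.2 δ < δ := by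
  induction sp with
  | nil => exact Or.inl h
  | cons q sp ih =>
    have e : spB T (q :: sp) δ els = Bool.rec (motive := fun _ => Bool) (spB T sp δ els)
      (Nat.blt (H9.tr T q.2 δ) δ) (Nat.beq q.1 δ) := rfl
    rw [e] at h
    cases h1 : Nat.beq q.1 δ with
    | false =>
      rw [h1] at h
      rcases ih h with h2 | ⟨q', h2, h3⟩
      · exact Or.inl h2
      · exact Or.inr ⟨q', List.mem_cons_of_mem _ h2, h3⟩
    | true =>
      rw [h1] at h
      exact Or.inr ⟨q, List.mem_cons_self, by simpa [Nat.blt_eq] using h⟩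

theorem linkB_spec (hT : A.Tab g k T) {B : List ℕ} (hB : A.IsBase B) {bs x w : List ℕ}
    (hx : ∀ s ∈ x, s < k) (h : linkB T k B bs x w = true) :
    (∀ s ∈ w, s < k) ∧ ev g w ∈ A.Fix bs ∧ ev g x * ev g w = ev g w * ev g x := by
  simp only [linkB, Bool.and_eq_true, ltB_iff, allL_iff, Nat.beq_eq] at h
  refine ⟨h.1.1, fun b hb hN => ?_, ?_⟩
  · rw [← hT.tr h.1.1 b hN]; exact h.1.2 b hb
  · rw [← ev_append, ← ev_append]
    refine hB.eq (hT.tr ?_) (hT.tr ?_) h.2 <;> intro s hs <;>
      rcases List.mem_append.mp hs with h1 | h1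
    exacts [hx s h1, h.1.1 s h1, h.1.1 s h1, hx s h1]

theorem statSB_xs {B x : List ℕ} {Ls : List SLv} {bs : List ℕ} (h : statSB T k B x Ls bs = true) :
    ∀ L ∈ Ls, xsB (H9.tr T x) L.xs L.β = true := by
  induction Ls generalizing bs with
  | nil => simp
  | cons L Ls ih =>
    have e : statSB T k B x (L :: Ls) bs = (L.statS T k B bs x && statSB T k B x Ls (L.β :: bs)) := rfl
    rw [e, Bool.and_eq_true] at h
    intro L' hL'
    rcases List.mem_cons.mp hL' with rfl | h1
    · have := h.1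
      simp only [SLv.statS, Bool.and_eq_true] at this
      exact this.1.1
    · exact ih h.2 L' h1

/-- one free level of the centraliser search -/
theorem scan_spec (hT : A.Tab g k T) {B : List ℕ} (hB : A.IsBase B) {iv : ℕ → List ℕ}
    (hi : Inv g k iv) {x : List ℕ} (hx : ∀ s ∈ x, s < k) {L : SLv} {Ls : List SLv} {bs : List ℕ}
    (hG : A.Good g k T ((L :: Ls).map SLv.toLv) bs) (hs : statSB T k B x (L :: Ls) bs = true)
    {K : Subgroup G} (hK : ev g L.z ∈ K ∧ ∀ q ∈ L.sp, ev g q.2 ∈ K) {ps : List (ℕ × ℕ)}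
    (hps : ∀ h ∈ A.Fix bs, ev g x * h = h * ev g x → A.Resp h ps)
    (hsc : ∀ i < L.n, scanB T iv (H9.tr T x) L Ls ps i = true)
    (hn : ∀ h ∈ A.Fix (L.β :: bs), ev g x * h = h * ev g x → h ∈ K) :
    ∀ h ∈ A.Fix bs, ev g x * h = h * ev g x → h ∈ K := by
  have hxs := statSB_xs hs
  have e : statSB T k B x (L :: Ls) bs = (L.statS T k B bs x && statSB T k B x Ls (L.β :: bs)) := rfl
  rw [e, Bool.and_eq_true] at hs
  have h0 := hs.1
  simp only [SLv.statS, Bool.and_eq_true, allL_iff] at h0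
  have hβ := hG.1.hβ
  have hX := hT.tr hx
  suffices H : ∀ δ, ∀ h ∈ A.Fix bs, ev g x * h = h * ev g x → A.act L.β h = δ → h ∈ K from
    fun h hh hc => H _ h hh hc rfl
  intro δ
  induction δ using Nat.strong_induction_on with
  | _ δ ih =>
    intro h hh hc hδ
    have hδN : δ < N := hδ ▸ A.lt hβ h
    have step : ∀ u ∈ K, u ∈ A.Fix bs → ev g x * u = u * ev g x → A.act δ u < δ → h ∈ K := by
      intro u hu hu1 hu2 hu3
      have := ih _ hu3 (h * u) (mul_mem hh hu1) (by rw [← mul_assoc, hc, mul_assoc, hu2, mul_assoc])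
        (by rw [A.mul hβ, hδ])
      simpa using K.mul_mem this (K.inv_mem hu)
    obtain ⟨i, hi', e'⟩ := hG.2.1 h hh
    have h1 := hsc i hi'
    have e2 : scanB T iv (H9.tr T x) L Ls ps i = Bool.rec (motive := fun _ => Bool)
      (Bool.rec (motive := fun _ => Bool)
        (spB T L.sp (L.pts i) (cand T iv L (emptyB T iv Ls) (H9.tr T x)
          (genP (H9.tr T x) ps L.xs (L.pts i)) (L.pts i))) true (Nat.beq (L.pts i) L.β))
      true (cycLt (H9.tr T L.z) (L.pts i) L.zf (L.pts i)) := rfl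
    have e3 : L.pts i = δ := e'.symm.trans hδ
    rw [e2, e3] at h1
    cases h2 : cycLt (H9.tr T L.z) δ L.zf δ with
    | true =>
      obtain ⟨a1, a2, a3⟩ := linkB_spec hT hB hx h0.1.2
      obtain ⟨m, hm⟩ := cycLt_spec (hT.tr a1) hδN h2
      exact step _ (K.pow_mem hK.1 m) (Subgroup.pow_mem _ a2 m) (Commute.pow_right a3 m) hm
    | false =>
      rw [h2] at h1
      cases h3 : Nat.beq δ L.β with
      | true =>
        exact hn h ((A.mem_Fix_cons hβ).mpr ⟨hh, hδ.trans (Nat.eq_of_beq_eq_true h3)⟩) hc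
      | false =>
        rw [h3] at h1
        rcases spB_spec h1 with h4 | ⟨q, h4, h5⟩
        · exact (cand_spec hT hi hG.1 hG.2.1 (emptyB_spec hT hi hX hG.2.2
            fun L' hL' => hxs L' (List.mem_cons_of_mem _ hL')) hX h4 hh hc
            ((hps h hh hc).genP hX hX hc hβ hδ h0.1.1) hδ).elim
        · obtain ⟨a1, a2, a3⟩ := linkB_spec hT hB hx (h0.2 q h4)
          exact step _ (hK.2 q h4) a2 a3 (by rw [← hT.tr a1 δ hδN]; exact h5)

theorem centB_spec (hT : A.Tab g k T) {B : List ℕ} (hB : A.IsBase B) {iv : ℕ → List ℕ}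
    (hi : Inv g k iv) {x : List ℕ} (hx : ∀ s ∈ x, s < k) {K : Subgroup G} {Ls : List SLv}
    {bs : List ℕ} (hG : A.Good g k T (Ls.map SLv.toLv) bs) (hs : statSB T k B x Ls bs = true)
    (hK : ∀ L ∈ Ls, ev g L.z ∈ K ∧ ∀ q ∈ L.sp, ev g q.2 ∈ K) {ps : List (ℕ × ℕ)}
    (hps : ∀ h ∈ A.Fix bs, ev g x * h = h * ev g x → A.Resp h ps)
    (hc : centB T iv (H9.tr T x) Ls ps = true) :
    ∀ h ∈ A.Fix bs, ev g x * h = h * ev g x → h ∈ K := by
  induction Ls generalizing bs ps with
  | nil =>
    intro h hh _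
    have h' : A.Fix bs = ⊥ := hG
    rw [h', Subgroup.mem_bot] at hh
    rw [hh]; exact one_mem _
  | cons L Ls ih =>
    have hβ := hG.1.hβ
    have e : statSB T k B x (L :: Ls) bs = (L.statS T k B bs x && statSB T k B x Ls (L.β :: bs)) := rfl
    have hs' := hs
    rw [e, Bool.and_eq_true] at hs'
    have hK' := fun L' hL' => hK L' (List.mem_cons_of_mem _ hL')
    cases hf : L.free with
    | false =>
      cases ps with
      | nil =>
        have e : centB T iv (H9.tr T x) (L :: Ls) [] = Bool.rec (motive := fun _ => Bool) false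
          _ L.free := rfl
        rw [e, hf] at hc
        exact absurd hc (by simp)
      | cons p rest =>
        have e : centB T iv (H9.tr T x) (L :: Ls) (p :: rest) = Bool.rec (motive := fun _ => Bool)
          (Nat.beq p.1 L.β && Nat.beq p.2 L.β && centB T iv (H9.tr T x) Ls rest) _ L.free := rfl
        rw [e, hf] at hc
        simp only [Bool.and_eq_true, Nat.beq_eq] at hc
        intro h hh hcm
        refine ih hG.2.2 hs'.2 hK' (fun u hu hu' q hq => hps u ((A.mem_Fix_cons hβ).mp hu).1 hu' q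
          (List.mem_cons_of_mem _ hq)) hc.2 h ((A.mem_Fix_cons hβ).mpr ⟨hh, ?_⟩) hcm
        have := (hps h hh hcm p List.mem_cons_self).2
        rwa [hc.1.1, hc.1.2] at this
    | true =>
      have e : centB T iv (H9.tr T x) (L :: Ls) ps = Bool.rec (motive := fun _ => Bool) _
          (allLt L.n (scanB T iv (H9.tr T x) L Ls ps) &&
            centB T iv (H9.tr T x) Ls (genP (H9.tr T x) ps L.xs L.β)) L.free := rfl
      rw [e, hf] at hc
      simp only [Bool.and_eq_true, allLt_iff] at hc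
      refine scan_spec hT hB hi hx hG hs (hK L List.mem_cons_self) hps hc.1 ?_
      refine ih hG.2.2 hs'.2 hK' (fun u hu hu' => ?_) hc.2
      have hu2 := (A.mem_Fix_cons hβ).mp hu
      exact (hps u hu2.1 hu').genP (hT.tr hx) (hT.tr hx) hu' hβ hu2.2
        (statSB_xs hs L List.mem_cons_self)

/-- the centraliser theorem, the first level being checked separately -/
theorem cent_le (hT : A.Tab g k T) {B : List ℕ} (hB : A.IsBase B) {iv : ℕ → List ℕ}
    (hi : Inv g k iv) {x : List ℕ} (hx : ltB k x = true) {K : Subgroup G} {L : SLv} {Ls : List SLv}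
    (hG : A.Good g k T ((L :: Ls).map SLv.toLv) []) (hs : statSB T k B x (L :: Ls) [] = true)
    (hK : ∀ L' ∈ L :: Ls, ev g L'.z ∈ K ∧ ∀ q ∈ L'.sp, ev g q.2 ∈ K)
    (h0 : ∀ i < L.n, scanB T iv (H9.tr T x) L Ls [] i = true)
    (h1 : centB T iv (H9.tr T x) Ls (genP (H9.tr T x) [] L.xs L.β) = true) :
    ∀ h, ev g x * h = h * ev g x → h ∈ K := by
  rw [ltB_iff] at hx
  have e : statSB T k B x (L :: Ls) [] = (L.statS T k B [] x && statSB T k B x Ls [L.β]) := rfl
  have hs' := hs
  rw [e, Bool.and_eq_true] at hs'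
  intro h hc
  refine scan_spec hT hB hi hx hG hs (hK L List.mem_cons_self) (fun _ _ _ p hp => by simp at hp) h0
    ?_ h (by rw [Fix_nil]; trivial) hc
  refine centB_spec hT hB hi hx hG.2.2 hs'.2 (fun L' hL' => hK L' (List.mem_cons_of_mem _ hL'))
    (fun u hu hu' => ?_) h1
  exact Resp.genP (hT.tr hx) (hT.tr hx) hu' (fun p hp => by simp at hp) hG.1.hβ
    ((A.mem_Fix_cons hG.1.hβ).mp hu).2 (statSB_xs hs L List.mem_cons_self)

end RA

end Cfsg.Agent.H9
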