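import Cfsg.Agent.H9.PMat
import Cfsg.Agent.H9.RA
import Cfsg.Agent.L0.DceG

/-! Tracing blocks of vectors through words of matrices given by lists of packed rows. -/

set_option autoImplicit false

namespace Cfsg.Agent.H9

open Finset Matrix
open Cfsg.Agent.L0 (ev ev_nil ev_cons ev_append ev_mem map_ev ev_congr IsPres)

theorem pack_ext {w m n : ℕ} (h : m ≤ n) (g : ℕ → ℕ) :
    pack w m g = pack w n fun q => if q < m then g q else 0 := by
  unfold pack
  rw [← sum_subset (range_subset_range.mpr h) (f := fun q => (if q < m then g q else 0) * 2 ^ (w * q))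
    fun q _ hq => by rw [if_neg (by simpa using hq), zero_mul]]
  exact sum_congr rfl fun q hq => by rw [if_pos (mem_range.mp hq)]

theorem pack_shift (w k m : ℕ) (g : ℕ → ℕ) :
    2 ^ (w * k) * pack w m g = pack w (k + m) fun t => if k ≤ t then g (t - k) else 0 := by
  unfold pack
  rw [sum_range_add, sum_eq_zero (s := range k) fun t ht => by
    simp only []; rw [if_neg (by simpa using ht), zero_mul], zero_add, mul_sum]
  refine sum_congr rfl fun q _ => ?_
  simp only []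
  rw [if_pos (Nat.le_add_right _ _), Nat.add_sub_cancel_left, mul_add, pow_add]; ring

theorem pack_conv (w n m : ℕ) (f g : ℕ → ℕ) : pack w n f * pack w m g =
    pack w (n + m) fun t => ∑ k ∈ range n, f k * if k ≤ t ∧ t - k < m then g (t - k) else 0 := by
  have key : ∀ k < n, f k * 2 ^ (w * k) * pack w m g =
      pack w (n + m) fun t => f k * if k ≤ t ∧ t - k < m then g (t - k) else 0 := by
    intro k hk
    rw [mul_assoc, pack_shift, pack_ext (n := n + m) (by omega), mul_comm, pack_mul]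
    refine pack_congr fun t _ => ?_
    rw [mul_comm]
    congr 1
    by_cases h1 : k ≤ t
    · by_cases h2 : t - k < m
      · rw [if_pos (by omega), if_pos h1, if_pos ⟨h1, h2⟩]
      · rw [if_neg (by omega), if_neg (by omega)]
    · rw [if_pos (by omega), if_neg h1, if_neg (by omega)]
  rw [pack, sum_mul, sum_congr rfl fun k hk => key k (mem_range.mp hk)]
  simp only [pack, sum_mul]
  exact sum_comm

theorem pack_mod {w n : ℕ} (hn : 2 ≤ n) {u : ℕ → ℕ} (hu : ∀ j < n, u j + 2 ≤ 2 ^ w) :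
    pack (w * n) n u % (2 ^ (w * n) - 2 ^ w) = pack w n u := by
  have h1 : 2 ^ w ≤ 2 ^ (w * n) := Nat.pow_le_pow_right (by norm_num) (Nat.le_mul_of_pos_right _ (by omega))
  have h2 : 2 ^ (w * n) ≡ 2 ^ w [MOD 2 ^ (w * n) - 2 ^ w] := ((Nat.modEq_iff_dvd' h1).mpr dvd_rfl).symm
  have h3 : ∀ m, pack (w * n) m u ≡ pack w m u [MOD 2 ^ (w * n) - 2 ^ w] := by
    intro m
    induction m with
    | zero => rfl
    | succ m ih =>
      rw [pack_succ, pack_succ, pow_mul _ (w * n), pow_mul _ w m]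
      exact ih.add ((h2.pow m).mul_left _)
  rw [h3 n]
  apply Nat.mod_eq_of_lt
  obtain ⟨m, rfl⟩ : ∃ m, n = m + 1 := ⟨n - 1, by omega⟩
  have h4 := pack_lt (w := w) (N := m) (g := u) fun q hq => by have := hu q (by omega); omega
  have h5 : 2 ^ w ≤ 2 ^ (w * m) := Nat.pow_le_pow_right (by norm_num) (Nat.le_mul_of_pos_right _ (by omega))
  have h6 := Nat.mul_le_mul_right (2 ^ (w * m)) (hu m (by omega))
  rw [pack_succ, Nat.mul_succ, pow_add, mul_comm (2 ^ (w * m))]
  rw [add_mul] at h6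
  omega

namespace PM

variable (P : PM)

/-- product of one row with a transposed and reflected matrix -/
def vm (v Q : ℕ) : ℕ :=
  P.red (Nat.mod (Nat.land (Nat.shiftRight (Nat.mul v Q) (Nat.mul P.w (Nat.pred P.N))) P.colMask)
    (Nat.sub (Nat.pow 2 (Nat.mul P.w P.N)) (Nat.pow 2 P.w)))

/-- product of a block of rows -/
noncomputable def mulF (Q f : ℕ) : ℕ → ℕ :=
  Nat.rec (motive := fun _ => ℕ → ℕ) (fun _ => 0)
    (fun _ ih X => Bool.rec (motive := fun _ => ℕ)
      (Nat.add (Nat.shiftLeft (Nat.rec (motive := fun _ => ℕ) 0 (fun Y _ => ih Y)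
          (Nat.succ (Nat.shiftRight X (Nat.mul P.w P.N)))) (Nat.mul P.w P.N))
        (P.vm (Nat.mod X (Nat.pow 2 (Nat.mul P.w P.N))) Q)) 0 (Nat.beq X 0)) f

/-- product of a block of rows -/
noncomputable def mulL (X Q : ℕ) : ℕ := P.mulF Q P.N X

/-- trace a block of vectors through a word -/
noncomputable def vtr (Mt : ℕ → ℕ) (w : List ℕ) : ℕ → ℕ :=
  List.rec (motive := fun _ => ℕ → ℕ) (fun X => X)
    (fun s _ ih X => Nat.rec (motive := fun _ => ℕ) 0 (fun Y _ => ih Y) (Nat.succ (P.mulL X (Mt s)))) w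

/-- row `i` as a vector -/
def rv (X i : ℕ) : Fin P.N → ZMod P.p := fun j => (P.ent X i j : ZMod P.p)

/-- the matrix of a transposed and reflected code -/
def matL (Q : ℕ) : Matrix (Fin P.N) (Fin P.N) (ZMod P.p) :=
  Matrix.of fun k j => (P.ent Q j (P.N - 1 - k) : ZMod P.p)

/-- fast test for reduced blocks -/
noncomputable def okV (c : ℕ) : Bool :=
  Nat.beq (Nat.land c P.redMask) c && Nat.beq (P.red c) c

/-- the parameters are consistent -/
noncomputable def ok1 : Bool :=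
  Nat.blt 0 P.w && Nat.blt 1 P.p && Nat.ble P.bs P.w && Nat.blt 0 P.bm &&
  Nat.blt (P.N * (P.p - 1) ^ 2 * P.bm) (2 ^ P.w) &&
  allLt (P.N * (P.p - 1) ^ 2 + 1) (fun z => Nat.beq ((z * P.bm) >>> P.bs) (z / P.p)) &&
  Nat.beq P.colMask (repl (P.w * P.N) P.N (2 ^ P.w - 1)) &&
  Nat.beq P.redMask (repl (P.w * P.N) P.N (repl P.w P.N (2 ^ (P.w - P.bs) - 1))) &&
  Nat.blt P.one (2 ^ (P.w * (P.N * P.N))) &&
  allLt P.N fun i => Nat.beq (look (P.w * P.N) P.one i) (2 ^ (P.w * i))

/-- the bounds needed for the fast operations -/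
noncomputable def ok2 : Bool :=
  P.ok1 && Nat.ble (2 ^ (P.w - P.bs) - 1) (P.N * (P.p - 1) ^ 2) && Nat.ble P.p (2 ^ (P.w - P.bs)) &&
    Nat.ble 2 P.N && Nat.ble (P.N * (P.p - 1) ^ 2 + 2) (2 ^ P.w)

variable {P}

theorem ent_eq_look (X : ℕ) {i j : ℕ} (hj : j < P.N) :
    P.ent X i j = look P.w (look (P.w * P.N) X i) j := by
  apply Nat.eq_of_testBit_eq
  intro r
  rw [ent, testBit_look, testBit_look, testBit_look]
  by_cases hr : r < P.w
  · have : P.w * j + r < P.w * P.N := by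
      have : P.w * (j + 1) ≤ P.w * P.N := Nat.mul_le_mul_left _ hj
      rw [Nat.mul_succ] at this; omega
    have e : P.w * P.N * i + (P.w * j + r) = P.w * (P.N * i + j) + r := by ring
    simp [this, e]
  · simp [hr]

theorem ok_of1 (h : P.ok1 = true) : P.OK := by
  simp only [ok1, Bool.and_eq_true, Nat.blt_eq, Nat.ble_eq, allLt_iff, Nat.beq_eq, repl_eq] at h
  obtain ⟨⟨⟨⟨⟨⟨⟨⟨⟨h1, h2⟩, h3⟩, h3'⟩, h4⟩, h5⟩, h6⟩, h7⟩, h8⟩, h9⟩ := h
  have key : ∀ i < P.N, ∀ j < P.N, P.ent P.one i j = if i = j then 1 else 0 := by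
    intro i hi j hj
    have e : 2 ^ (P.w * i) = pack P.w P.N fun q => if i = q then 1 else 0 := by
      simp [pack, hi]
    rw [ent_eq_look _ hj, h9 i hi, e, look_pack (fun q _ => by
      have := Nat.one_lt_two_pow (n := P.w) (by omega)
      split_ifs <;> omega) hj]
  refine ⟨h1, h2, h3, h3', h4, fun z hz => h5 z (by omega), h6, by rw [h7, pack_pack], ⟨h8, fun q => ?_⟩,
    key⟩
  by_cases hq : q < P.N * P.N
  · have hN : 0 < P.N := by
      rcases Nat.eq_zero_or_pos P.N with h0 | h0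
      · rw [h0] at hq; omega
      · exact h0
    have := key _ (Nat.div_lt_of_lt_mul hq) _ (Nat.mod_lt q hN)
    rw [ent, Nat.div_add_mod] at this
    rw [this]
    split_ifs <;> omega
  · have : look P.w P.one q = 0 := by
      rw [look_eq, Nat.shiftRight_eq_div_pow, Nat.div_eq_of_lt, Nat.zero_mod]
      exact lt_of_lt_of_le h8 (Nat.pow_le_pow_right (by norm_num) (Nat.mul_le_mul_left _ (by omega)))
    omega

theorem ok_of2 (h : P.ok2 = true) : P.OK := by
  simp only [ok2, Bool.and_eq_true] at h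
  exact ok_of1 h.1.1.1.1

theorem vtr_cons (Mt : ℕ → ℕ) (s : ℕ) (w : List ℕ) (X : ℕ) :
    P.vtr Mt (s :: w) X = P.vtr Mt w (P.mulL X (Mt s)) := rfl

theorem vm_eq (h0 : P.ok2 = true) {Q : ℕ} (hQ : P.Valid Q) {v : ℕ} (h1 : v < 2 ^ (P.w * P.N))
    (h2 : ∀ k, look P.w v k < P.p) : P.vm v Q = pack P.w P.N fun j =>
      (∑ k ∈ range P.N, look P.w v k * P.ent Q j (P.N - 1 - k)) % P.p := by
  have h := ok_of2 h0
  simp only [ok2, Bool.and_eq_true, Nat.ble_eq] at h0
  obtain ⟨⟨-, h3⟩, h4⟩ := h0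
  have hb : ∀ F : ℕ → ℕ, (∀ k, F k < P.p) →
      ∑ k ∈ range P.N, look P.w v k * F k ≤ P.N * (P.p - 1) ^ 2 := fun F hF => by
    calc _ ≤ ∑ _l ∈ range P.N, (P.p - 1) ^ 2 := by
          apply sum_le_sum
          intro l _
          rw [sq]
          exact Nat.mul_le_mul (Nat.le_sub_one_of_lt (h2 _)) (Nat.le_sub_one_of_lt (hF _))
      _ = _ := by simp
  have hp := h.hp
  have e : P.vm v Q = P.red ((((v * Q) >>> (P.w * (P.N - 1))) &&& P.colMask) %
    (2 ^ (P.w * P.N) - 2 ^ P.w)) := rfl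
  have e1 : ∀ j < P.N, P.ent (v * Q) j (P.N - 1) =
      ∑ k ∈ range P.N, look P.w v k * P.ent Q j (P.N - 1 - k) := by
    intro j hj
    have hq : P.N * j + P.N ≤ P.N * P.N := by rw [← Nat.mul_succ]; exact Nat.mul_le_mul_left _ hj
    conv_lhs => rw [← pack_look h.hw h1, ← pack_look h.hw hQ.1, pack_conv]
    rw [ent, look_pack (fun t _ => lt_of_le_of_lt (hb _ fun k => by
      split_ifs
      · exact hQ.2 _
      · omega) (by omega)) (by omega)]
    refine sum_congr rfl fun k hk => ?_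
    have := mem_range.mp hk
    rw [if_pos (by omega), ent, show P.N * j + (P.N - 1) - k = P.N * j + (P.N - 1 - k) by omega]
  have hb2 : ∀ j, ∑ k ∈ range P.N, look P.w v k * P.ent Q j (P.N - 1 - k) ≤ P.N * (P.p - 1) ^ 2 :=
    fun j => hb _ fun k => hQ.2 _
  have hN : P.N ≤ P.N * P.N := Nat.le_mul_self _
  rw [e, col_eq h _ (by omega), pack_congr e1, pack_mod h3 fun j _ => by have := hb2 j; omega,
    pack_ext hN, red_pack h _ fun q => by
      split_ifs
      · exact hb2 q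
      · omega, pack_ext hN]
  refine pack_congr fun q _ => ?_
  split_ifs
  · rfl
  · exact Nat.zero_mod _

theorem mulF_eq (Q f X : ℕ) : P.mulF Q f X =
    pack (P.w * P.N) f fun i => P.vm (look (P.w * P.N) X i) Q := by
  induction f generalizing X with
  | zero => rfl
  | succ f ih =>
    have e : P.mulF Q (f + 1) X = Bool.rec (motive := fun _ => ℕ)
      (P.mulF Q f (X >>> (P.w * P.N)) <<< (P.w * P.N) + P.vm (X % 2 ^ (P.w * P.N)) Q) 0
      (Nat.beq X 0) := rfl
    rw [e]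
    cases hX : Nat.beq X 0 with
    | true =>
      have h0 : P.vm 0 Q = 0 := by
        have e0 : ∀ m, Nat.mod 0 m = 0 := Nat.zero_mod
        simp [vm, red, e0]
      rw [Nat.eq_of_beq_eq_true hX]
      simp [pack, look_eq, h0]
    | false =>
      rw [pack_succ', ih, Nat.shiftLeft_eq, mul_comm]
      simp only [look_eq, mul_zero, Nat.shiftRight_zero, ← Nat.shiftRight_add, Nat.mul_succ,
        add_comm (P.w * P.N)]

theorem rv_mulL (h0 : P.ok2 = true) {Q : ℕ} (hQ : P.Valid Q) {X : ℕ} (hX : P.Valid X) :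
    P.Valid (P.mulL X Q) ∧ ∀ i < P.N, P.rv (P.mulL X Q) i = P.rv X i ᵥ* P.matL Q := by
  have h := ok_of2 h0
  have hp := h.hp
  have e : P.mulL X Q = pack P.w (P.N * P.N) fun q =>
      (∑ k ∈ range P.N, P.ent X (q / P.N) k * P.ent Q (q % P.N) (P.N - 1 - k)) % P.p := by
    rw [mulL, mulF_eq, pack_pack]
    refine pack_congr fun i hi => ?_
    have hd : ∀ k, look P.w (look (P.w * P.N) X i) k < P.p := fun k => by
      by_cases hk : k < P.N
      · rw [← ent_eq_look X hk]; exact hX.2 _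
      · rw [look_eq, Nat.shiftRight_eq_div_pow, Nat.div_eq_of_lt, Nat.zero_mod]
        · omega
        · exact lt_of_lt_of_le (look_lt _ _ _)
            (Nat.pow_le_pow_right (by norm_num) (Nat.mul_le_mul_left _ (by omega)))
    rw [vm_eq h0 hQ (look_lt _ _ _) hd]
    refine pack_congr fun j hj => ?_
    rw [Nat.mul_add_div (by omega), Nat.div_eq_of_lt hj, Nat.mul_add_mod, Nat.mod_eq_of_lt hj, add_zero]
    congr 1
    exact sum_congr rfl fun k hk => by rw [ent_eq_look X (mem_range.mp hk)]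
  rw [e]
  refine ⟨valid_pack h _ fun q => Nat.mod_lt _ (by omega), fun i hi => ?_⟩
  funext j
  have hj := j.2
  have hq : P.N * i + P.N ≤ P.N * P.N := by rw [← Nat.mul_succ]; exact Nat.mul_le_mul_left _ hi
  rw [rv, ent, look_pack (fun q _ => lt_of_lt_of_le (Nat.mod_lt _ (by omega)) (p_le h (by omega)))
    (by omega), Nat.mul_add_div (by omega), Nat.div_eq_of_lt hj, Nat.mul_add_mod, Nat.mod_eq_of_lt hj,
    add_zero, ZMod.natCast_mod, Nat.cast_sum, Matrix.vecMul, dotProduct,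
    ← Fin.sum_univ_eq_sum_range (fun l => ((P.ent X i l * P.ent Q j (P.N - 1 - l) : ℕ) : ZMod P.p))]
  refine sum_congr rfl fun l _ => ?_
  rw [Nat.cast_mul]; rfl

theorem rv_vtr (h : P.ok2 = true) {Mt : ℕ → ℕ} {w : List ℕ} (hw : ∀ s ∈ w, P.Valid (Mt s)) {X : ℕ}
    (hX : P.Valid X) : P.Valid (P.vtr Mt w X) ∧
      ∀ i < P.N, P.rv (P.vtr Mt w X) i = P.rv X i ᵥ* ev (fun s => P.matL (Mt s)) w := by
  induction w generalizing X with
  | nil => exact ⟨hX, fun i _ => by rw [ev_nil, vecMul_one]; rfl⟩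
  | cons s w ih =>
    obtain ⟨h1, h2⟩ := rv_mulL h (hw s List.mem_cons_self) hX
    obtain ⟨h3, h4⟩ := ih (fun y hy => hw y (List.mem_cons_of_mem _ hy)) h1
    exact ⟨h3, fun i hi => by rw [vtr_cons, h4 i hi, h2 i hi, ev_cons, vecMul_vecMul]⟩

theorem eq_of_rv (h : P.OK) {X Y : ℕ} (hX : P.Valid X) (hY : P.Valid Y)
    (H : ∀ i < P.N, P.rv X i = P.rv Y i) : X = Y := by
  refine eq_of_ent h hX hY fun i hi j hj => ?_
  have := congrFun (H i hi) ⟨j, hj⟩
  exact Nat.ModEq.eq_of_lt_of_lt ((ZMod.natCast_eq_natCast_iff _ _ _).mp this) (hX.2 _) (hY.2 _)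

theorem rv_one (h : P.OK) (i : Fin P.N) : P.rv P.one i = Pi.single i 1 := by
  funext j
  rw [rv, h.h1 i i.2 j j.2, Pi.single_apply]
  by_cases e : j = i
  · simp [e]
  · have : (i : ℕ) ≠ j := fun e' => e (Fin.ext e'.symm)
    simp [e, this]

/-- the value of a word read off the trace of the identity -/
theorem ev_eq_of_vtr (h : P.ok2 = true) {Mt : ℕ → ℕ} {w : List ℕ} (hw : ∀ s ∈ w, P.Valid (Mt s)) :
    ev (fun s => P.matL (Mt s)) w = Matrix.of fun i : Fin P.N => P.rv (P.vtr Mt w P.one) i := by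
  ext i j
  rw [Matrix.of_apply, (rv_vtr h hw (ok_of2 h).hv).2 i i.2, rv_one (ok_of2 h), single_one_vecMul]; rfl

/-- the word has value one -/
noncomputable def relB (P : PM) (Mt : ℕ → ℕ) (w : List ℕ) : Bool :=
  Nat.beq (P.vtr Mt w P.one) P.one

theorem relB_spec (h : P.ok2 = true) {Mt : ℕ → ℕ} {w : List ℕ} (hw : ∀ s ∈ w, P.Valid (Mt s))
    (e : P.relB Mt w = true) : ev (fun s => P.matL (Mt s)) w = 1 := by
  rw [ev_eq_of_vtr h hw, Nat.eq_of_beq_eq_true e]
  ext i j
  rw [Matrix.of_apply, rv_one (ok_of2 h), Matrix.one_apply, Pi.single_apply]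
  simp [eq_comm]

theorem land_pack {w n t : ℕ} (hw : 0 < w) (ht : t ≤ w) (c : ℕ) :
    c &&& pack w n (fun _ => 2 ^ t - 1) = pack w n fun q => look w c q % 2 ^ t := by
  have hp : 2 ^ t ≤ 2 ^ w := Nat.pow_le_pow_right (by norm_num) ht
  apply eq_of_testBit_blocks hw
  intro q r hr
  rw [Nat.testBit_and, testBit_pack (fun _ _ => lt_of_lt_of_le
      (Nat.sub_one_lt (Nat.two_pow_pos _).ne') hp) q r hr,
    testBit_pack (g := fun q => look w c q % 2 ^ t) (fun _ _ => lt_of_lt_of_le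
      (Nat.mod_lt _ (Nat.two_pow_pos _)) hp) q r hr, Nat.testBit_mod_two_pow, testBit_look,
    Nat.testBit_two_pow_sub_one]
  cases decide (q < n) <;> cases decide (r < t) <;> simp [hr]

theorem okV_iff (h0 : P.ok2 = true) (c : ℕ) : P.okV c = true ↔ P.Valid c := by
  have h := ok_of2 h0
  simp only [ok2, Bool.and_eq_true, Nat.ble_eq] at h0
  obtain ⟨⟨⟨⟨-, h1⟩, h2⟩, -⟩, -⟩ := h0
  have hp := h.hp
  have e0 : Nat.land c P.redMask = pack P.w (P.N * P.N) fun q => look P.w c q % 2 ^ (P.w - P.bs) := by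
    rw [← land_pack h.hw (Nat.sub_le _ _), ← h.hr]; rfl
  have hb : ∀ q, look P.w c q % 2 ^ (P.w - P.bs) ≤ P.N * (P.p - 1) ^ 2 := fun q =>
    le_trans (Nat.le_sub_one_of_lt (Nat.mod_lt _ (Nat.two_pow_pos _))) h1
  simp only [okV, Bool.and_eq_true, Nat.beq_eq]
  constructor
  · rintro ⟨e1, e2⟩
    rw [e0] at e1
    have e3 := red_pack h _ hb
    rw [e1, e2] at e3
    rw [e3]
    exact valid_pack h _ fun q => Nat.mod_lt _ (by omega)
  · intro hv
    have e1 : (pack P.w (P.N * P.N) fun q => look P.w c q % 2 ^ (P.w - P.bs)) = c := by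
      conv_rhs => rw [← pack_look h.hw hv.1]
      exact pack_congr fun q _ => Nat.mod_eq_of_lt (lt_of_lt_of_le (hv.2 q) h2)
    refine ⟨e0.trans e1, ?_⟩
    have e3 := red_pack h _ hb
    rw [e1] at e3
    rw [e3]
    conv_rhs => rw [← pack_look h.hw hv.1]
    exact pack_congr fun q _ => by
      rw [Nat.mod_eq_of_lt (lt_of_lt_of_le (hv.2 q) h2), Nat.mod_eq_of_lt (hv.2 q)]

/-- the matrix of a code -/
def mat (P : PM) (X : ℕ) : Matrix (Fin P.N) (Fin P.N) (ZMod P.p) := Matrix.of fun i => P.rv X i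

/-- the code of a matrix -/
def code (P : PM) (A : Matrix (Fin P.N) (Fin P.N) (ZMod P.p)) : ℕ :=
  pack P.w (P.N * P.N) fun q =>
    if h : q / P.N < P.N ∧ q % P.N < P.N then (A ⟨_, h.1⟩ ⟨_, h.2⟩).val else 0

theorem code_lt (h : P.OK) (A : Matrix (Fin P.N) (Fin P.N) (ZMod P.p)) (q : ℕ) :
    (if h : q / P.N < P.N ∧ q % P.N < P.N then (A ⟨_, h.1⟩ ⟨_, h.2⟩).val else 0) < P.p := by
  have hp := h.hp
  haveI : NeZero P.p := ⟨by omega⟩
  split_ifs
  · exact ZMod.val_lt _
  · omega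

theorem valid_code (h : P.OK) (A : Matrix (Fin P.N) (Fin P.N) (ZMod P.p)) : P.Valid (P.code A) :=
  valid_pack h _ (code_lt h A)

theorem mat_code (h : P.OK) (A : Matrix (Fin P.N) (Fin P.N) (ZMod P.p)) : P.mat (P.code A) = A := by
  have hp := h.hp
  haveI : NeZero P.p := ⟨by omega⟩
  ext i j
  have hN : 0 < P.N := lt_of_le_of_lt (Nat.zero_le _) i.2
  have hq : P.N * i + j < P.N * P.N := by
    have : P.N * (i + 1) ≤ P.N * P.N := Nat.mul_le_mul_left _ i.2
    have := j.2
    rw [Nat.mul_succ] at *; omega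
  have e1 : (P.N * i + j) / P.N = i := by rw [Nat.mul_add_div hN, Nat.div_eq_of_lt j.2, add_zero]
  have e2 : (P.N * i + j) % P.N = j := by rw [Nat.mul_add_mod, Nat.mod_eq_of_lt j.2]
  rw [mat, Matrix.of_apply, rv, ent, code, look_pack (fun q _ => lt_of_lt_of_le (code_lt h A q)
    (p_le h hN)) hq, dif_pos ⟨e1.symm ▸ i.2, e2.symm ▸ j.2⟩, ZMod.natCast_zmod_val]
  congr 1 <;> exact Fin.ext (by assumption)

theorem eq_of_mat (h : P.OK) {X Y : ℕ} (hX : P.Valid X) (hY : P.Valid Y) (H : P.mat X = P.mat Y) :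
    X = Y := eq_of_rv h hX hY fun i hi => congrFun H ⟨i, hi⟩

theorem mat_one (h : P.OK) : P.mat P.one = 1 := by
  ext i j
  rw [mat, Matrix.of_apply, rv_one h, Matrix.one_apply, Pi.single_apply]
  simp [eq_comm]

open Classical in
/-- the action on blocks of vectors -/
noncomputable def vra (h : P.OK) {G : Type*} [Group G]
    (ψ : G →* Matrix (Fin P.N) (Fin P.N) (ZMod P.p)) : RA G (2 ^ (P.w * (P.N * P.N))) where
  act c x := if P.Valid c then P.code (P.mat c * ψ x) else c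
  lt := fun {c} hc x => by
    split_ifs
    · exact (valid_code h _).1
    · exact hc
  one := fun {c} _ => by
    split_ifs with hv
    · exact eq_of_mat h (valid_code h _) hv (by rw [mat_code h, map_one, mul_one])
    · rfl
  mul := fun {c} _ x y => by
    by_cases hv : P.Valid c
    · rw [if_pos hv, if_pos hv, if_pos (valid_code h _), mat_code h, map_mul, mul_assoc]
    · rw [if_neg hv, if_neg hv, if_neg hv]

variable {G : Type*} [Group G] {ψ : G →* Matrix (Fin P.N) (Fin P.N) (ZMod P.p)}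

theorem vra_spec (h : P.OK) {c : ℕ} (hc : P.Valid c) (x : G) :
    P.Valid ((vra h ψ).act c x) ∧ P.mat ((vra h ψ).act c x) = P.mat c * ψ x := by
  have e : (vra h ψ).act c x = P.code (P.mat c * ψ x) := if_pos hc
  rw [e]; exact ⟨valid_code h _, mat_code h _⟩

/-- one step with a stored matrix -/
noncomputable def stp (P : PM) (rows : ℕ) (c : ℕ) : ℕ :=
  Bool.rec (motive := fun _ => ℕ) c (P.mulL c rows) (P.okV c)

theorem stp_eq (h0 : P.ok2 = true) {rows : ℕ} (hr : P.Valid rows) {x : G}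
    (hx : ψ x = P.matL rows) (c : ℕ) : P.stp rows c = (vra (ok_of2 h0) ψ).act c x := by
  have h := ok_of2 h0
  by_cases hv : P.Valid c
  · have e : P.stp rows c = P.mulL c rows := by rw [stp, (okV_iff h0 c).mpr hv]
    obtain ⟨h1, h2⟩ := rv_mulL h0 hr hv
    obtain ⟨h3, h4⟩ := vra_spec (ψ := ψ) h hv x
    rw [e]
    refine eq_of_mat h h1 h3 ?_
    rw [h4, hx]
    ext i j
    rw [mat, Matrix.of_apply, h2 i i.2]; rfl
  · have e : P.okV c = false := by
      rw [Bool.eq_false_iff]; exact fun h1 => hv ((okV_iff h0 c).mp h1)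
    rw [stp, e]
    exact (if_neg hv).symm

/-- the table: stored matrices, and words for the other letters -/
noncomputable def tabF (P : PM) (Mt : ℕ → ℕ) (Df : ℕ → List ℕ) (f : ℕ) : ℕ → ℕ → ℕ :=
  Nat.rec (motive := fun _ => ℕ → ℕ → ℕ) (fun c _ => c)
    (fun _ ih c s => Bool.rec (motive := fun _ => ℕ) (P.stp (Mt s) c) (tr ih (Df s) c)
      (Nat.beq (Mt s) 0)) f

/-- the stored matrix of the letter is the value of its word -/
noncomputable def defB (P : PM) (Mt : ℕ → ℕ) (Df : ℕ → List ℕ) (f s : ℕ) : Bool :=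
  Nat.beq (Mt s) 0 || (P.okV (Mt s) &&
    Nat.beq (tr (P.tabF Mt Df f) (Df s) P.one) (P.mulL P.one (Mt s)))

theorem tr_eq {A : RA G (2 ^ (P.w * (P.N * P.N)))} {γ : ℕ → G} {U : ℕ → ℕ → ℕ} {w : List ℕ}
    (hw : ∀ s ∈ w, A.Fn (γ s) fun c => U c s) : A.Fn (ev γ w) (tr U w) := by
  induction w with
  | nil => intro c hc; simp [A.one hc]
  | cons s w ih =>
    intro c hc
    rw [tr_cons, ev_cons, A.mul hc, ← hw s List.mem_cons_self c hc]
    exact ih (fun y hy => hw y (List.mem_cons_of_mem _ hy)) _ ((hw s List.mem_cons_self).lt hc)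

/-- the table is right -/
theorem tab_tabF (h0 : P.ok2 = true) {γ : ℕ → G} {K : ℕ} {Mt : ℕ → ℕ} {Df : ℕ → List ℕ}
    (hl : ∀ s < K, (Mt s ≠ 0 ∧ P.Valid (Mt s) ∧ ψ (γ s) = P.matL (Mt s)) ∨
      ((∀ y ∈ Df s, y < s) ∧ γ s = ev γ (Df s) ∧ P.defB Mt Df K s = true)) :
    (vra (ok_of2 h0) ψ).Tab γ K (P.tabF Mt Df K) := by
  have h := ok_of2 h0
  have key : ∀ s < K, ∀ f, s < f → (vra h ψ).Fn (γ s) fun c => P.tabF Mt Df f c s := by
    intro s
    induction s using Nat.strong_induction_on with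
    | _ s ih =>
      intro hs f hf c hc
      obtain ⟨f, rfl⟩ : ∃ f', f = f' + 1 := ⟨f - 1, by omega⟩
      have e : P.tabF Mt Df (f + 1) c s = Bool.rec (motive := fun _ => ℕ) (P.stp (Mt s) c)
        (tr (P.tabF Mt Df f) (Df s) c) (Nat.beq (Mt s) 0) := rfl
      have st : Mt s ≠ 0 → P.Valid (Mt s) → ψ (γ s) = P.matL (Mt s) →
          P.tabF Mt Df (f + 1) c s = (vra h ψ).act c (γ s) := by
        intro h1 h2 h3
        have : Nat.beq (Mt s) 0 = false := by
          rw [Bool.eq_false_iff]; exact fun h4 => h1 (Nat.eq_of_beq_eq_true h4)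
        rw [← stp_eq h0 h2 h3 c, e, this]
      rcases hl s hs with ⟨h1, h2, h3⟩ | ⟨h1, h2, h3⟩
      · exact st h1 h2 h3
      · by_cases hm : Mt s = 0
        · show P.tabF Mt Df (f + 1) c s = _
          rw [e, hm, h2]
          exact tr_eq (fun y hy => ih y (h1 y hy) ((h1 y hy).trans hs) f
            (by have := h1 y hy; omega)) c hc
        · simp only [defB, Bool.or_eq_true, Bool.and_eq_true, Nat.beq_eq, hm, false_or,
            okV_iff h0] at h3
          have h5 := tr_eq (A := vra h ψ) (fun y hy => ih y (h1 y hy) ((h1 y hy).trans hs) K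
            ((h1 y hy).trans hs)) P.one h.hv.1
          obtain ⟨-, h7⟩ := vra_spec (ψ := ψ) h h.hv (ev γ (Df s))
          refine st hm h3.1 ?_
          rw [mat_one h, one_mul, ← h5, ← h2] at h7
          rw [← h7]
          ext i j
          have h8 : (tr (P.tabF Mt Df K) (Df s) P.one) = P.mulL P.one (Mt s) := h3.2
          rw [h8, mat, Matrix.of_apply, (rv_mulL h0 h3.1 h.hv).2 i i.2, rv_one h, single_one_vecMul]
          rfl
  exact fun s hs c hc => key s hs K hs c hc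

/-- the first `m` rows vanish in the columns from `m` on -/
noncomputable def inW (P : PM) (m c : ℕ) : Bool :=
  allLt m fun i => Nat.beq (Nat.shiftRight (look (Nat.mul P.w P.N) c i) (Nat.mul P.w m)) 0

/-- the first `m` rows are those of the identity -/
noncomputable def topB (P : PM) (m E : ℕ) : Bool :=
  Nat.ble m P.N && P.okV E &&
    allLt m fun i => Nat.beq (look (Nat.mul P.w P.N) E i) (look (Nat.mul P.w P.N) P.one i)

theorem inW_iff (h : P.OK) {m : ℕ} (hm : m ≤ P.N) {c : ℕ} (hc : P.Valid c) :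
    P.inW m c = true ↔ ∀ i j : Fin P.N, i.1 < m → m ≤ j.1 → P.mat c i j = 0 := by
  have hp := h.hp
  have key : ∀ i j : Fin P.N, P.mat c i j = 0 ↔ look P.w (look (P.w * P.N) c i) j = 0 := by
    intro i j
    rw [mat, Matrix.of_apply, rv, ZMod.natCast_eq_zero_iff, ← ent_eq_look c j.2]
    exact ⟨fun hd => Nat.eq_zero_of_dvd_of_lt hd (hc.2 _), fun e => e ▸ dvd_zero _⟩
  have key2 : ∀ r, r >>> (P.w * m) = 0 ↔ r < 2 ^ (P.w * m) := fun r => by
    rw [Nat.shiftRight_eq_div_pow, Nat.div_eq_zero_iff]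
    exact ⟨fun h => h.resolve_left (Nat.two_pow_pos _).ne', Or.inr⟩
  simp only [inW, allLt_iff, Nat.beq_eq, key]
  constructor
  · intro H i j hi hj
    have h1 := (key2 _).mp (H i hi)
    rw [look_eq, Nat.shiftRight_eq_div_pow, Nat.div_eq_of_lt, Nat.zero_mod]
    exact lt_of_lt_of_le h1 (Nat.pow_le_pow_right (by norm_num) (Nat.mul_le_mul_left _ hj))
  · intro H i hi
    refine (key2 _).mpr ?_
    have e : look (P.w * P.N) c i = pack P.w m (look P.w (look (P.w * P.N) c i)) := by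
      conv_lhs => rw [← pack_look h.hw (look_lt (P.w * P.N) c i)]
      refine (sum_subset (range_subset_range.mpr hm) fun q hq hq' => ?_).symm
      rw [H ⟨i, by omega⟩ ⟨q, mem_range.mp hq⟩ hi (by simpa using hq'), zero_mul]
    have := pack_lt (w := P.w) (N := m) (g := look P.w (look (P.w * P.N) c i)) fun q _ => look_lt _ _ _
    rwa [← e] at this

/-- the stabiliser of the span of the first `m` coordinates -/
theorem exists_sub [Finite G] (h0 : P.ok2 = true) (ψ : G →* Matrix (Fin P.N) (Fin P.N) (ZMod P.p))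
    {m E : ℕ} (hE : P.topB m E = true) : E < 2 ^ (P.w * (P.N * P.N)) ∧
    ∃ S : Subgroup G, ∀ x, P.inW m ((vra (ok_of2 h0) ψ).act E x) = true ↔ x ∈ S := by
  have h := ok_of2 h0
  simp only [topB, Bool.and_eq_true, Nat.ble_eq, okV_iff h0, allLt_iff, Nat.beq_eq] at hE
  obtain ⟨⟨h1, h2⟩, h3⟩ := hE
  have hrow : ∀ (x : G) (i j : Fin P.N), i.1 < m → (P.mat E * ψ x) i j = ψ x i j := by
    intro x i j hi
    have : P.mat E i = P.mat P.one i := by
      funext l
      have h4 : look (P.w * P.N) E i = look (P.w * P.N) P.one i := h3 i hi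
      simp only [mat, Matrix.of_apply, rv, ent_eq_look _ l.2, h4]
    conv_rhs => rw [← one_mul (ψ x), ← mat_one h]
    simp only [Matrix.mul_apply, this]
  let C : Set G := {x | ∀ i j : Fin P.N, i.1 < m → m ≤ j.1 → ψ x i j = 0}
  have hmul : ∀ {x y}, x ∈ C → y ∈ C → x * y ∈ C := by
    intro x y hx hy i j hi hj
    rw [map_mul, Matrix.mul_apply]
    refine sum_eq_zero fun l _ => ?_
    by_cases hl : l.1 < m
    · rw [hy l j hl hj, mul_zero]
    · rw [hx i l hi (not_lt.mp hl), zero_mul]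
  have hone : (1 : G) ∈ C := fun i j hi hj => by
    rw [map_one, Matrix.one_apply, if_neg]
    rintro rfl; omega
  have hpow : ∀ x ∈ C, ∀ n : ℕ, x ^ n ∈ C := fun x hx n => by
    induction n with
    | zero => rw [pow_zero]; exact hone
    | succ n ih => rw [pow_succ]; exact hmul ih hx
  refine ⟨h2.1, ⟨⟨⟨C, hmul⟩, hone⟩, fun {x} hx => ?_⟩, fun x => ?_⟩
  · have h3 : x⁻¹ = x ^ (orderOf x - 1) := by
      rw [eq_comm, ← mul_eq_one_iff_eq_inv, ← pow_succ,
        Nat.sub_add_cancel (orderOf_pos x), pow_orderOf_eq_one]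
    rw [h3]; exact hpow x hx _
  · obtain ⟨h4, h5⟩ := vra_spec (ψ := ψ) h h2 x
    rw [inW_iff h h1 h4, h5]
    exact forall_congr' fun i => forall_congr' fun j => forall_congr' fun hi => by rw [hrow x i j hi]

/-- a representation from a presentation -/
theorem exists_rep {x : ℕ → G} {n : ℕ} {R : List (List ℕ)} (hp : IsPres x n R) {γ : ℕ → G} {k : ℕ}
    {iv : ℕ → ℕ} {s t : ℕ → List ℕ} (hx : ∀ i < n, x i = ev γ (s i))
    (hiv : ∀ a < k, γ (iv a) = (γ a)⁻¹) (h : P.ok2 = true) {Mt : ℕ → ℕ}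
    (hr : ∀ j < k, P.Valid (Mt j)) {K K' : List (List ℕ)} (hK : ∀ r ∈ K, P.relB Mt r = true)
    (hK' : ∀ r ∈ K', ev γ r = 1)
    (e : (L0.lettersLt k K && (R.all fun r => L0.consB k iv K (r.flatMap s)) &&
      (List.range k).all fun j => decide (iv j < k) && K.contains [j, iv j] &&
        (t j).all (fun a => decide (a < n)) && (L0.consB k iv K (iv j :: (t j).flatMap s) &&
          L0.consB k iv K' (iv j :: (t j).flatMap s))) = true) :
    ∃ ψ : G →* Matrix (Fin P.N) (Fin P.N) (ZMod P.p), ∀ j < k, ψ (γ j) = P.matL (Mt j) := by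
  simp only [Bool.and_eq_true, List.all_eq_true, List.mem_range, decide_eq_true_eq,
    L0.lettersLt_iff, List.contains_iff_mem] at e
  obtain ⟨⟨e1, e2⟩, e3⟩ := e
  have h1 : ∀ r ∈ K, ev (fun s => P.matL (Mt s)) r = 1 := fun r hr' =>
    relB_spec h (fun a ha => hr a (e1 r hr' a ha)) (hK r hr')
  have h2 : ∀ j < k, P.matL (Mt j) * P.matL (Mt (iv j)) = 1 := fun j hj => by
    simpa using h1 _ (e3 j hj).1.1.2
  let u : ℕ → (Matrix (Fin P.N) (Fin P.N) (ZMod P.p))ˣ := fun j =>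
    if hj : j < k then ⟨P.matL (Mt j), P.matL (Mt (iv j)), h2 j hj, mul_eq_one_comm.mp (h2 j hj)⟩ else 1
  have hu : ∀ j < k, (u j).val = P.matL (Mt j) := fun j hj => by simp only [u, dif_pos hj]
  have hui : ∀ a < k, u (iv a) = (u a)⁻¹ := fun a ha => by
    apply eq_inv_of_mul_eq_one_right
    apply Units.ext
    rw [Units.val_mul, hu a ha, hu _ (e3 a ha).1.1.1, h2 a ha, Units.val_one]
  have h3 : ∀ r ∈ K, ev u r = 1 := fun r hr' => by
    apply Units.ext
    rw [← Units.coeHom_apply, map_ev, Units.val_one, ← h1 r hr']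
    exact ev_congr fun a ha => hu a (e1 r hr' a ha)
  obtain ⟨f, hf⟩ := hp.exists_hom (fun i => ev u (s i)) fun r hr' => by
    rw [← L0.ev_flatMap]
    exact L0.consB_spec hui h3 (e2 r hr')
  refine ⟨(Units.coeHom _).comp f, fun j hj => ?_⟩
  have h4 := L0.consB_spec hui h3 (e3 j hj).2.1
  have h5 := L0.consB_spec hiv hK' (e3 j hj).2.2
  rw [ev_cons, hui j hj, inv_mul_eq_one, L0.ev_flatMap] at h4
  rw [ev_cons, hiv j hj, inv_mul_eq_one, L0.ev_flatMap,
    ← ev_congr fun a ha => hx a ((e3 j hj).1.2 a ha)] at h5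
  rw [MonoidHom.comp_apply, h5, map_ev, ev_congr fun a ha => hf a ((e3 j hj).1.2 a ha), ← h4,
    Units.coeHom_apply, hu j hj]

end PM

end Cfsg.Agent.H9
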